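import Groth.Agent.H79.KoszulCone
import Mathlib.RingTheory.Length
import Groth.Agent.H15.LenDefect

set_option autoImplicit false
universe u
open CategoryTheory CochainComplex HomComplex Limits Groth.Agent.H12.KoszulReg
open Groth.Agent.H79.KoszulCone

namespace Groth.Agent.H79.ConeLength

variable {A : Type u} [CommRing A]

section Hc

variable (K : CochainComplex (ModuleCat.{u} A) ℤ)

/-- concrete cohomology at `b`, using the differentials `a → b → c` -/
abbrev Hc (a b c : ℤ) : Type u :=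
  ↥(LinearMap.ker (K.d b c).hom) ⧸
    Submodule.comap (LinearMap.ker (K.d b c).hom).subtype (LinearMap.range (K.d a b).hom)

variable {K}

/-- class of a cocycle -/
def Hc.mk {a b c : ℤ} (z : K.X b) (hz : (K.d b c).hom z = 0) : Hc K a b c :=
  Submodule.Quotient.mk ⟨z, LinearMap.mem_ker.mpr hz⟩

theorem Hc.mk_surjective {a b c : ℤ} (h : Hc K a b c) :
    ∃ (z : K.X b) (hz : (K.d b c).hom z = 0), Hc.mk z hz = h := by
  obtain ⟨⟨z, hz⟩, rfl⟩ := Submodule.Quotient.mk_surjective _ h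
  exact ⟨z, LinearMap.mem_ker.mp hz, rfl⟩

theorem Hc.mk_eq_zero {a b c : ℤ} (z : K.X b) (hz : (K.d b c).hom z = 0) :
    (Hc.mk z hz : Hc K a b c) = 0 ↔ ∃ w, (K.d a b).hom w = z := by
  unfold Hc.mk
  rw [Submodule.Quotient.mk_eq_zero]
  rfl

theorem Hc.smul_mk {a b c : ℤ} (r : A) (z : K.X b) (hz : (K.d b c).hom z = 0) :
    r • (Hc.mk z hz : Hc K a b c) = Hc.mk (r • z) (by rw [map_smul, hz, smul_zero]) := rfl

variable {L : CochainComplex (ModuleCat.{u} A) ℤ}

/-- induced map on concrete cohomology -/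
def Hc.map {a b c a' b' c' : ℤ} (g : K.X b →ₗ[A] L.X b')
    (hZ : ∀ z, (K.d b c).hom z = 0 → (L.d b' c').hom (g z) = 0)
    (hB : ∀ w, ∃ w', (L.d a' b').hom w' = g ((K.d a b).hom w)) :
    Hc K a b c →ₗ[A] Hc L a' b' c' :=
  Submodule.mapQ _ _ (g.restrict (p := LinearMap.ker (K.d b c).hom)
    (q := LinearMap.ker (L.d b' c').hom)
    (fun z hz => LinearMap.mem_ker.mpr (hZ z (LinearMap.mem_ker.mp hz)))) (by
      rintro ⟨z, hz⟩ ⟨w, hw⟩
      obtain ⟨w', hw'⟩ := hB w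
      refine ⟨w', ?_⟩
      rw [hw']
      exact congrArg g hw)

theorem Hc.map_mk {a b c a' b' c' : ℤ} (g : K.X b →ₗ[A] L.X b')
    (hZ : ∀ z, (K.d b c).hom z = 0 → (L.d b' c').hom (g z) = 0)
    (hB : ∀ w, ∃ w', (L.d a' b').hom w' = g ((K.d a b).hom w))
    (z : K.X b) (hz : (K.d b c).hom z = 0) :
    Hc.map (a := a) (a' := a') g hZ hB (Hc.mk z hz) = Hc.mk (g z) (hZ z hz) := rfl

end Hc

section ConeLES

variable (K : CochainComplex (ModuleCat.{u} A) ℤ) (f : A)

theorem d_d_apply (a b c : ℤ) (w : K.X a) : (K.d b c).hom ((K.d a b).hom w) = 0 := by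
  have := K.d_comp_d a b c
  exact congr($(this).hom w)

/-- `inr` is a chain map, on elements -/
theorem d_inrL {F G : CochainComplex (ModuleCat.{u} A) ℤ} (φ : F ⟶ G) (i j : ℤ) (x : G.X i) :
    ((mappingCone φ).d i j).hom (inrL φ i x) = inrL φ j ((G.d i j).hom x) := by
  have h := (mappingCone.inr φ).comm i j
  exact congr($(h).hom x)

/-- the map `H^b(K) → H^b(cone)` induced by `inr` -/
noncomputable def alpha (a b c : ℤ) :
    Hc K a b c →ₗ[A] Hc (mappingCone (f • 𝟙 K)) a b c :=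
  Hc.map (inrL (f • 𝟙 K) b)
    (fun z hz => by rw [d_inrL, hz, map_zero])
    (fun w => ⟨inrL (f • 𝟙 K) a w, d_inrL _ a b w⟩)

/-- the map `H^b(cone) → H^c(K)` induced by `fst` -/
noncomputable def beta (a b c d : ℤ) (hab : a + 1 = b) (hbc : b + 1 = c) (hcd : c + 1 = d) :
    Hc (mappingCone (f • 𝟙 K)) a b c →ₗ[A] Hc K b c d :=
  Hc.map (fstL (f • 𝟙 K) b c hbc)
    (fun z hz => by
      have := fstL_d (f • 𝟙 K) b c d hbc hcd z
      rw [hz, map_zero] at this
      exact neg_eq_zero.mp this.symm)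
    (fun w => ⟨-fstL (f • 𝟙 K) a b hab w, by rw [map_neg, fstL_d (f • 𝟙 K) a b c hab hbc w]⟩)

theorem alpha_mk (a b c : ℤ) (q : K.X b) (hq : (K.d b c).hom q = 0) :
    alpha K f a b c (Hc.mk q hq) =
      Hc.mk (inrL (f • 𝟙 K) b q) (by rw [d_inrL, hq, map_zero]) := rfl

theorem beta_mk (a b c d : ℤ) (hab : a + 1 = b) (hbc : b + 1 = c) (hcd : c + 1 = d)
    (z : (mappingCone (f • 𝟙 K)).X b) (hz : ((mappingCone (f • 𝟙 K)).d b c).hom z = 0) :
    beta K f a b c d hab hbc hcd (Hc.mk z hz) =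
      Hc.mk (fstL (f • 𝟙 K) b c hbc z) (by
        have := fstL_d (f • 𝟙 K) b c d hbc hcd z
        rw [hz, map_zero] at this
        exact neg_eq_zero.mp this.symm) := rfl

variable {K f}

theorem range_beta (a b c d : ℤ) (hab : a + 1 = b) (hbc : b + 1 = c) (hcd : c + 1 = d) :
    LinearMap.range (beta K f a b c d hab hbc hcd) =
      LinearMap.ker (f • (LinearMap.id : Hc K b c d →ₗ[A] Hc K b c d)) := by
  ext h
  simp only [LinearMap.mem_range, LinearMap.mem_ker, LinearMap.smul_apply, LinearMap.id_apply]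
  constructor
  · rintro ⟨y, rfl⟩
    obtain ⟨z, hz, rfl⟩ := Hc.mk_surjective y
    rw [beta_mk, Hc.smul_mk, Hc.mk_eq_zero]
    refine ⟨-sndL (f • 𝟙 K) b z, ?_⟩
    have h2 := sndL_d (f • 𝟙 K) b c hbc z
    rw [hz, map_zero, smul_id_f_apply] at h2
    rw [map_neg, neg_eq_iff_eq_neg, ← add_eq_zero_iff_eq_neg']
    exact h2.symm
  · intro hh
    obtain ⟨p, hp, rfl⟩ := Hc.mk_surjective h
    rw [Hc.smul_mk, Hc.mk_eq_zero] at hh
    obtain ⟨q, hq⟩ := hh
    let z := inlL (f • 𝟙 K) b c hbc p + inrL (f • 𝟙 K) b (-q)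
    have hz1 : fstL (f • 𝟙 K) b c hbc z = p := by
      simp only [z, map_add, fstL_inlL, fstL_inrL, add_zero]
    have hz2 : sndL (f • 𝟙 K) b z = -q := by
      simp only [z, map_add, sndL_inlL, sndL_inrL, zero_add]
    have hz : ((mappingCone (f • 𝟙 K)).d b c).hom z = 0 := by
      apply ext' (f • 𝟙 K) c d hcd
      · rw [fstL_d (f • 𝟙 K) b c d hbc hcd, hz1, hp, neg_zero, map_zero]
      · rw [sndL_d (f • 𝟙 K) b c hbc, hz1, hz2, smul_id_f_apply, map_neg, hq, add_neg_cancel,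
          map_zero]
    refine ⟨Hc.mk z hz, ?_⟩
    rw [beta_mk]
    congr 1

theorem ker_beta (a b c d : ℤ) (hab : a + 1 = b) (hbc : b + 1 = c) (hcd : c + 1 = d) :
    LinearMap.ker (beta K f a b c d hab hbc hcd) = LinearMap.range (alpha K f a b c) := by
  ext h
  simp only [LinearMap.mem_range, LinearMap.mem_ker]
  constructor
  · intro hh
    obtain ⟨z, hz, rfl⟩ := Hc.mk_surjective h
    rw [beta_mk, Hc.mk_eq_zero] at hh
    obtain ⟨p', hp'⟩ := hh
    -- modify z by the coboundary of (p', 0)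
    let w := inlL (f • 𝟙 K) a b hab p'
    let q := sndL (f • 𝟙 K) b z + f • p'
    have hDw1 : fstL (f • 𝟙 K) b c hbc (((mappingCone (f • 𝟙 K)).d a b).hom w) =
        -fstL (f • 𝟙 K) b c hbc z := by
      rw [fstL_d (f • 𝟙 K) a b c hab hbc, fstL_inlL, hp']
    have hDw2 : sndL (f • 𝟙 K) b (((mappingCone (f • 𝟙 K)).d a b).hom w) = f • p' := by
      rw [sndL_d (f • 𝟙 K) a b hab, fstL_inlL, sndL_inlL, map_zero, add_zero, smul_id_f_apply]
    have hzq : z + ((mappingCone (f • 𝟙 K)).d a b).hom w = inrL (f • 𝟙 K) b q := by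
      apply ext' (f • 𝟙 K) b c hbc
      · rw [map_add, hDw1, add_neg_cancel, fstL_inrL]
      · rw [map_add, hDw2, sndL_inrL]
    have hq : (K.d b c).hom q = 0 := by
      have h1 : ((mappingCone (f • 𝟙 K)).d b c).hom (inrL (f • 𝟙 K) b q) = 0 := by
        rw [← hzq, map_add, hz, d_d_apply, add_zero]
      rw [d_inrL] at h1
      have := congrArg (sndL (f • 𝟙 K) c) h1
      rwa [sndL_inrL, map_zero] at this
    refine ⟨Hc.mk q hq, ?_⟩
    rw [alpha_mk]
    unfold Hc.mk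
    rw [Submodule.Quotient.eq]
    refine ⟨w, ?_⟩
    change _ = inrL (f • 𝟙 K) b q - z
    rw [← hzq]
    abel
  · rintro ⟨y, rfl⟩
    obtain ⟨q, hq, rfl⟩ := Hc.mk_surjective y
    rw [alpha_mk, beta_mk, Hc.mk_eq_zero]
    exact ⟨0, by rw [map_zero, fstL_inrL]⟩

theorem ker_alpha (a b c : ℤ) (hab : a + 1 = b) (hbc : b + 1 = c) :
    LinearMap.ker (alpha K f a b c) =
      LinearMap.range (f • (LinearMap.id : Hc K a b c →ₗ[A] Hc K a b c)) := by
  ext h
  simp only [LinearMap.mem_range, LinearMap.mem_ker, LinearMap.smul_apply, LinearMap.id_apply]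
  constructor
  · intro hh
    obtain ⟨q, hq, rfl⟩ := Hc.mk_surjective h
    rw [alpha_mk, Hc.mk_eq_zero] at hh
    obtain ⟨w, hw⟩ := hh
    have h1 := fstL_d (f • 𝟙 K) a b c hab hbc w
    rw [hw, fstL_inrL] at h1
    have hp : (K.d b c).hom (fstL (f • 𝟙 K) a b hab w) = 0 := neg_eq_zero.mp h1.symm
    have h2 := sndL_d (f • 𝟙 K) a b hab w
    rw [hw, sndL_inrL, smul_id_f_apply] at h2
    refine ⟨Hc.mk (fstL (f • 𝟙 K) a b hab w) hp, ?_⟩
    rw [Hc.smul_mk]
    unfold Hc.mk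
    rw [Submodule.Quotient.eq]
    refine ⟨-sndL (f • 𝟙 K) a w, ?_⟩
    change _ = f • fstL (f • 𝟙 K) a b hab w - q
    rw [h2, map_neg]
    abel
  · rintro ⟨y, rfl⟩
    obtain ⟨p, hp, rfl⟩ := Hc.mk_surjective y
    rw [Hc.smul_mk, alpha_mk, Hc.mk_eq_zero]
    refine ⟨inlL (f • 𝟙 K) a b hab p, ?_⟩
    apply ext' (f • 𝟙 K) b c hbc
    · rw [fstL_d (f • 𝟙 K) a b c hab hbc, fstL_inlL, hp, neg_zero, fstL_inrL]
    · rw [sndL_d (f • 𝟙 K) a b hab, fstL_inlL, sndL_inlL, map_zero, add_zero, smul_id_f_apply,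
        sndL_inrL]

/-- lengths in the long exact sequence of the cone of `f • 𝟙 K` -/
theorem length_Hc_cone (a b c d : ℤ) (hab : a + 1 = b) (hbc : b + 1 = c) (hcd : c + 1 = d) :
    Module.length A (Hc (mappingCone (f • 𝟙 K)) a b c) =
      Module.length A (QuotSMulTop f (Hc K a b c)) +
        Module.length A (LinearMap.ker (f • (LinearMap.id : Hc K b c d →ₗ[A] Hc K b c d))) := by
  rw [Groth.Agent.H15.Len.length_eq_ker_add_range (beta K f a b c d hab hbc hcd),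
    range_beta, ker_beta]
  congr 1
  rw [← (LinearMap.quotKerEquivRange (alpha K f a b c)).length_eq, ker_alpha a b c hab hbc,
    Groth.Agent.H15.Len.length_quotSMulTop]

end ConeLES

end Groth.Agent.H79.ConeLength
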