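import Groth.Agent.H79.KoszulCone
import Groth.Agent.H72.KoszulHomotopy
import Groth.Agent.H64.FinLenAss

set_option autoImplicit false
universe u
open CategoryTheory CochainComplex HomComplex Limits Groth.Agent.H12.KoszulReg
open Groth.Agent.H79.KoszulCone

namespace Groth.Agent.H79.KoszulFinLen

variable {A : Type u} [CommRing A]

/-- finite length modules are supported at maximal ideals -/
theorem isMaximal_of_mem_support {N : Type*} [AddCommGroup N] [Module A N]
    (h : IsFiniteLength A N) : ∀ q ∈ Module.support A N, q.asIdeal.IsMaximal := by
  induction h with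
  | of_subsingleton =>
    intro q hq
    rw [Module.support_eq_empty] at hq
    exact absurd hq (Set.notMem_empty _)
  | @of_simple_quotient M _ _ S _ _ ih =>
    intro q hq
    rw [Module.support_of_exact (LinearMap.exact_subtype_mkQ S) (Submodule.subtype_injective _)
      (Submodule.mkQ_surjective _)] at hq
    rcases hq with hq | hq
    · exact ih q hq
    · obtain ⟨I, hI, ⟨e⟩⟩ := isSimpleModule_iff_quot_maximal.1
        (inferInstance : IsSimpleModule A (M ⧸ S))
      rw [e.support_eq, Module.mem_support_iff_of_finite, Ideal.annihilator_quotient] at hq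
      have : I = q.asIdeal := hI.eq_of_le q.isPrime.ne_top hq
      rw [← this]
      exact hI

theorem support_prod_subset {M N : Type*} [AddCommGroup M] [Module A M] [AddCommGroup N]
    [Module A N] : Module.support A (M × N) = Module.support A M ∪ Module.support A N := by
  have hex : Function.Exact (LinearMap.inl A M N) (LinearMap.snd A M N) := by
    intro p
    constructor
    · intro hp
      exact ⟨p.1, Prod.ext rfl (by simpa using hp.symm)⟩
    · rintro ⟨m, rfl⟩
      rfl
  exact Module.support_of_exact hex LinearMap.inl_injective LinearMap.snd_surjective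

section terms

variable (M : Type u) [AddCommGroup M] [Module A M]

theorem finite_X [Module.Finite A M] : ∀ (l : List A) (i : ℤ),
    Module.Finite A ((CohIII.koszulCx (ModuleCat.of A M) l).X i) := by
  intro l
  induction l with
  | nil =>
    intro i
    by_cases hi : i = 0
    · subst hi
      have e : (CohIII.koszulCx (ModuleCat.of A M) []).X 0 ≅ ModuleCat.of A M :=
        HomologicalComplex.singleObjXSelf (ComplexShape.up ℤ) 0 (ModuleCat.of A M)
      exact Module.Finite.equiv e.toLinearEquiv.symm
    · have hz : IsZero ((CohIII.koszulCx (ModuleCat.of A M) []).X i) :=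
        HomologicalComplex.isZero_single_obj_X (ComplexShape.up ℤ) 0 _ i hi
      have hsub : Subsingleton ((CohIII.koszulCx (ModuleCat.of A M) []).X i) :=
        ModuleCat.subsingleton_of_isZero hz
      infer_instance
  | cons f fs ih =>
    intro i
    change Module.Finite A ((mappingCone (f • 𝟙 (CohIII.koszulCx (ModuleCat.of A M) fs))).X i)
    have := ih (i + 1)
    have := ih i
    exact Module.Finite.equiv (coneEquiv _ i (i + 1) rfl).symm

theorem support_X : ∀ (l : List A) (i : ℤ),
    Module.support A ((CohIII.koszulCx (ModuleCat.of A M) l).X i) ⊆ Module.support A M := by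
  intro l
  induction l with
  | nil =>
    intro i
    by_cases hi : i = 0
    · subst hi
      have e : (CohIII.koszulCx (ModuleCat.of A M) []).X 0 ≅ ModuleCat.of A M :=
        HomologicalComplex.singleObjXSelf (ComplexShape.up ℤ) 0 (ModuleCat.of A M)
      rw [e.toLinearEquiv.support_eq]
    · have hz : IsZero ((CohIII.koszulCx (ModuleCat.of A M) []).X i) :=
        HomologicalComplex.isZero_single_obj_X (ComplexShape.up ℤ) 0 _ i hi
      have hsub : Subsingleton ((CohIII.koszulCx (ModuleCat.of A M) []).X i) :=
        ModuleCat.subsingleton_of_isZero hz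
      rw [Module.support_eq_empty]
      exact Set.empty_subset _
  | cons f fs ih =>
    intro i
    change Module.support A
      ((mappingCone (f • 𝟙 (CohIII.koszulCx (ModuleCat.of A M) fs))).X i) ⊆ _
    rw [(coneEquiv _ i (i + 1) rfl).support_eq, support_prod_subset]
    exact Set.union_subset (ih (i + 1)) (ih i)

end terms

/-- elements of the ideal of the sequence kill Koszul cohomology -/
theorem smul_homology_eq_zero (M : ModuleCat.{u} A) (l : List A) (y : A)
    (hy : y ∈ Ideal.ofList l) (n : ℤ) (h : (CohIII.koszulCx M l).homology n) : y • h = 0 := by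
  obtain ⟨H⟩ := Groth.Agent.H72.KoszulHomotopy.nonempty_homotopy M l y hy
  have h2 : HomologicalComplex.homologyMap (y • 𝟙 (CohIII.koszulCx M l)) n = 0 := by
    rw [H.homologyMap_eq n, HomologicalComplex.homologyMap_zero]
  have h3 : HomologicalComplex.homologyMap (y • 𝟙 (CohIII.koszulCx M l)) n =
      y • 𝟙 ((CohIII.koszulCx M l).homology n) := by
    have e1 : (HomologicalComplex.shortComplexFunctor (ModuleCat.{u} A) (ComplexShape.up ℤ) n).map
        (y • 𝟙 (CohIII.koszulCx M l)) = y • 𝟙 _ := by
      ext <;> rfl
    change ShortComplex.homologyMap ((HomologicalComplex.shortComplexFunctor (ModuleCat.{u} A)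
      (ComplexShape.up ℤ) n).map (y • 𝟙 (CohIII.koszulCx M l))) = _
    rw [e1, ShortComplex.homologyMap_smul, ShortComplex.homologyMap_id]
    rfl
  rw [h3] at h2
  have := congr($(h2).hom h)
  rw [ModuleCat.hom_smul, ModuleCat.hom_id, ModuleCat.hom_zero] at this
  exact this

theorem isFiniteLength_homology [IsNoetherianRing A] (M : Type u) [AddCommGroup M] [Module A M]
    [Module.Finite A M] (l : List A)
    (hs : ∀ p ∈ Module.support A M, Ideal.ofList l ≤ p.asIdeal → p.asIdeal.IsMaximal) (n : ℤ) :
    IsFiniteLength A ((CohIII.koszulCx (ModuleCat.of A M) l).homology n) := by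
  let K := CohIII.koszulCx (ModuleCat.of A M) l
  have hfin : Module.Finite A (K.X n) := finite_X M l n
  have hnoeth : IsNoetherian A (K.X n) := isNoetherian_of_isNoetherianRing_of_finite A _
  let e := (homologyIsoKerQuot K n).toLinearEquiv
  have hfinN : Module.Finite A (K.homology n) := Module.Finite.equiv e.symm
  apply Groth.Agent.H64.isFiniteLength_of_support_subset_maximal
  intro p hp
  apply hs p
  · apply support_X M l n
    apply Module.support_subset_of_injective (LinearMap.ker (K.d n (n + 1)).hom).subtype
      (Submodule.subtype_injective _)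
    apply Module.support_subset_of_surjective
      (Submodule.comap (LinearMap.ker (K.d n (n + 1)).hom).subtype
        (LinearMap.range (K.d (n - 1) n).hom)).mkQ (Submodule.mkQ_surjective _)
    rw [← e.support_eq]
    exact hp
  · rw [Module.mem_support_iff_of_finite] at hp
    refine le_trans ?_ hp
    intro y hy
    rw [Module.mem_annihilator]
    intro h
    exact smul_homology_eq_zero (ModuleCat.of A M) l y hy n h

/-- the support hypothesis from finite length of `M/(l)M` -/
theorem support_hyp_of_isFiniteLength (M : Type u) [AddCommGroup M] [Module A M]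
    [Module.Finite A M] (I : Ideal A)
    (hfl : IsFiniteLength A (M ⧸ (I • (⊤ : Submodule A M)))) :
    ∀ p ∈ Module.support A M, I ≤ p.asIdeal → p.asIdeal.IsMaximal := by
  intro p hp hI
  apply isMaximal_of_mem_support hfl p
  rw [Module.support_quotient]
  exact ⟨hp, hI⟩

end Groth.Agent.H79.KoszulFinLen
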