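import Groth.Agent.H79.KoszulCone

set_option autoImplicit false
universe u
open CategoryTheory CochainComplex HomComplex Limits Groth.Agent.H12.KoszulReg
open Groth.Agent.H79.KoszulCone

namespace Groth.Agent.H79.KoszulTop

variable {A : Type u} [CommRing A]

theorem isZero_X_of_pos (M : ModuleCat.{u} A) (l : List A) (i : ℤ) (hi : 0 < i) :
    IsZero ((CohIII.koszulCx M l).X i) := by
  induction l generalizing i with
  | nil => exact HomologicalComplex.isZero_single_obj_X (ComplexShape.up ℤ) 0 _ i (by omega)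
  | cons f fs ih =>
    change IsZero ((mappingCone (f • 𝟙 (CohIII.koszulCx M fs))).X i)
    rw [mappingCone.isZero_X_iff]
    exact ⟨ih (i + 1) (by omega), ih i hi⟩

/-- The top term of the Koszul complex of `M` is `M`, and the top coboundaries are `(l) M`. -/
theorem exists_top_equiv (M : ModuleCat.{u} A) : ∀ (l : List A),
    ∃ ε : (CohIII.koszulCx M l).X 0 ≃ₗ[A] M, ∀ (b : ℤ) (_ : b + 1 = 0)
      (k : (CohIII.koszulCx M l).X 0),
      (∃ k', ((CohIII.koszulCx M l).d b 0).hom k' = k) ↔
        ε k ∈ Ideal.ofList l • (⊤ : Submodule A M) := by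
  intro l
  induction l with
  | nil =>
    have e : (CohIII.koszulCx M []).X 0 ≅ M :=
      HomologicalComplex.singleObjXSelf (ComplexShape.up ℤ) 0 M
    refine ⟨e.toLinearEquiv, ?_⟩
    intro b hb k
    have hd : (CohIII.koszulCx M []).d b 0 = 0 := by
      apply (HomologicalComplex.isZero_single_obj_X (ComplexShape.up ℤ) 0 M
        b (by omega)).eq_of_src
    rw [hd, Ideal.ofList_nil, Submodule.bot_smul]
    simp only [ModuleCat.hom_zero, LinearMap.zero_apply, exists_const, Submodule.mem_bot]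
    constructor
    · intro h
      rw [← h, map_zero]
    · intro h
      exact (e.toLinearEquiv.map_eq_zero_iff.mp h).symm
  | cons f fs ih =>
    obtain ⟨ε, hε⟩ := ih
    let K := CohIII.koszulCx M fs
    let φ : K ⟶ K := f • 𝟙 K
    have hsub : Subsingleton (K.X 1) :=
      ModuleCat.subsingleton_of_isZero (isZero_X_of_pos M fs 1 one_pos)
    have hinj : Function.Injective (sndL φ 0) := by
      intro a b hab
      exact ext' φ 0 1 (by norm_num) a b (Subsingleton.elim _ _) hab
    have hsurj : Function.Surjective (sndL φ 0) := fun p => ⟨inrL φ 0 p, sndL_inrL φ 0 p⟩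
    let ε' : (mappingCone φ).X 0 ≃ₗ[A] M :=
      (LinearEquiv.ofBijective (sndL φ 0) ⟨hinj, hsurj⟩).trans ε
    have hε' : ∀ k, ε' k = ε (sndL φ 0 k) := fun k => rfl
    have key : ∀ (b : ℤ) (_ : b + 1 = 0) (k : (mappingCone φ).X 0),
        (∃ k', ((mappingCone φ).d b 0).hom k' = k) ↔
          ε' k ∈ Ideal.ofList (f :: fs) • (⊤ : Submodule A M) := by
      intro b hb k
      rw [Ideal.ofList_cons_smul, hε', Submodule.mem_sup]
      constructor
      · rintro ⟨k', rfl⟩
        rw [sndL_d φ b 0 hb, map_add]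
        refine ⟨_, ?_, _, (hε b hb _).mp ⟨sndL φ b k', rfl⟩, rfl⟩
        rw [smul_id_f_apply, map_smul]
        exact Submodule.smul_mem_pointwise_smul _ f ⊤ Submodule.mem_top
      · rintro ⟨y, hy, z, hz, hyz⟩
        obtain ⟨a, -, rfl⟩ := (Submodule.mem_smul_pointwise_iff_exists _ _ _).mp hy
        obtain ⟨w, hw⟩ := (hε b hb (ε.symm z)).mpr (by rwa [ε.apply_symm_apply])
        refine ⟨inlL φ b 0 hb (ε.symm a) + inrL φ b w, ?_⟩
        apply hinj
        have h1 : fstL φ b 0 hb (inlL φ b 0 hb (ε.symm a) + inrL φ b w) = ε.symm a := by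
          rw [map_add, fstL_inlL, fstL_inrL, add_zero]
        have h2 : sndL φ b (inlL φ b 0 hb (ε.symm a) + inrL φ b w) = w := by
          rw [map_add, sndL_inlL, sndL_inrL, zero_add]
        rw [sndL_d φ b 0 hb, h1, h2, hw]
        apply ε.injective
        rw [map_add, ε.apply_symm_apply, ← hyz]
        congr 1
        rw [smul_id_f_apply, map_smul, ε.apply_symm_apply]
    exact ⟨ε', key⟩

theorem homology_zero_equiv (M : ModuleCat.{u} A) (l : List A) :
    Nonempty (↑((CohIII.koszulCx M l).homology 0) ≃ₗ[A]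
      (M ⧸ (Ideal.ofList l • (⊤ : Submodule A M)))) := by
  obtain ⟨ε, hε⟩ := exists_top_equiv M l
  let K := CohIII.koszulCx M l
  have hsub : Subsingleton (K.X (0 + 1)) :=
    ModuleCat.subsingleton_of_isZero (isZero_X_of_pos M l (0 + 1) (by norm_num))
  let g : ↥(LinearMap.ker (K.d 0 (0 + 1)).hom) →ₗ[A] (M ⧸ (Ideal.ofList l • (⊤ : Submodule A M))) :=
    (Ideal.ofList l • (⊤ : Submodule A M)).mkQ ∘ₗ ε.toLinearMap ∘ₗ
      (LinearMap.ker (K.d 0 (0 + 1)).hom).subtype
  have hg : ∀ y, g y = (Ideal.ofList l • (⊤ : Submodule A M)).mkQ (ε y.1) := fun y => rfl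
  have hsurj : Function.Surjective g := by
    intro z
    obtain ⟨a, rfl⟩ := (Ideal.ofList l • (⊤ : Submodule A M)).mkQ_surjective z
    refine ⟨⟨ε.symm a, ?_⟩, ?_⟩
    · rw [LinearMap.mem_ker]
      exact Subsingleton.elim _ _
    · rw [hg, ε.apply_symm_apply]
  have hker : LinearMap.ker g = Submodule.comap (LinearMap.ker (K.d 0 (0 + 1)).hom).subtype
      (LinearMap.range (K.d (0 - 1) 0).hom) := by
    ext y
    rw [LinearMap.mem_ker, hg, Submodule.mkQ_apply, Submodule.Quotient.mk_eq_zero,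
      ← hε (0 - 1) (by norm_num) y.1]
    rfl
  exact ⟨(homologyIsoKerQuot K 0).toLinearEquiv.trans
    ((Submodule.quotEquivOfEq _ _ hker.symm).trans
      (LinearMap.quotKerEquivOfSurjective g hsurj))⟩

end Groth.Agent.H79.KoszulTop
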