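import Groth.Agent.H15.LenDefect

set_option autoImplicit false
open Function

namespace Groth.Agent.H79.LenComp

variable {A : Type*} [CommRing A] (N : Type*) [AddCommGroup N] [Module A N] (x y : A)

/-- kernel of multiplication by `t` -/
abbrev kerSMul (t : A) : Submodule A N := LinearMap.ker (t • (LinearMap.id : N →ₗ[A] N))

theorem mem_kerSMul (t : A) (n : N) : n ∈ kerSMul N t ↔ t • n = 0 := by
  rw [LinearMap.mem_ker, LinearMap.smul_apply, LinearMap.id_apply]

/-- the middle vertical map `(a, b) ↦ (xy a, b)` -/
def mid : (N × N) →ₗ[A] (N × N) :=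
  LinearMap.prodMap ((x * y) • (LinearMap.id : N →ₗ[A] N)) LinearMap.id

theorem mid_apply (p : N × N) : mid N x y p = ((x * y) • p.1, p.2) := rfl

theorem length_ker_mid :
    Module.length A (LinearMap.ker (mid N x y)) = Module.length A (kerSMul N (x * y)) := by
  let e : LinearMap.ker (mid N x y) ≃ₗ[A] kerSMul N (x * y) :=
    { toFun := fun p => ⟨p.1.1, by
        have := p.2
        rw [LinearMap.mem_ker, mid_apply] at this
        rw [mem_kerSMul]
        exact congrArg Prod.fst this⟩
      map_add' := fun p q => rfl
      map_smul' := fun r p => rfl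
      invFun := fun a => ⟨(a.1, 0), by
        rw [LinearMap.mem_ker, mid_apply]
        have := (mem_kerSMul N (x * y) a.1).mp a.2
        simp [this]⟩
      left_inv := fun p => by
        have := p.2
        rw [LinearMap.mem_ker, mid_apply] at this
        have h2 : p.1.2 = 0 := congrArg Prod.snd this
        apply Subtype.ext
        apply Prod.ext
        · rfl
        · exact h2.symm
      right_inv := fun a => rfl }
  exact e.length_eq

theorem length_coker_mid :
    Module.length A ((N × N) ⧸ LinearMap.range (mid N x y)) =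
      Module.length A (QuotSMulTop (x * y) N) := by
  let g : (N × N) →ₗ[A] QuotSMulTop (x * y) N :=
    (Submodule.mkQ _).comp (LinearMap.fst A N N)
  have hg : Surjective g := fun z => by
    obtain ⟨n, rfl⟩ := Submodule.mkQ_surjective _ z
    exact ⟨(n, 0), rfl⟩
  have hker : LinearMap.ker g = LinearMap.range (mid N x y) := by
    ext p
    rw [LinearMap.mem_ker, LinearMap.mem_range]
    change Submodule.Quotient.mk p.1 = 0 ↔ _
    rw [Submodule.Quotient.mk_eq_zero, Submodule.mem_smul_pointwise_iff_exists]
    constructor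
    · rintro ⟨n, -, hn⟩
      exact ⟨(n, p.2), by rw [mid_apply]; exact Prod.ext hn rfl⟩
    · rintro ⟨q, rfl⟩
      exact ⟨q.1, Submodule.mem_top, rfl⟩
  rw [← (LinearMap.quotKerEquivOfSurjective g hg).length_eq]
  exact (Submodule.quotEquivOfEq _ _ hker.symm).length_eq

/-- Additivity of the kernel/cokernel lengths for a product of two scalars (in `ℕ∞`). -/
theorem length_mul :
    Module.length A (kerSMul N y) + Module.length A (kerSMul N x) +
        Module.length A (QuotSMulTop (x * y) N) =
      Module.length A (kerSMul N (x * y)) + Module.length A (QuotSMulTop y N) +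
        Module.length A (QuotSMulTop x N) := by
  let f₁ : N →ₗ[A] (N × N) := LinearMap.prod LinearMap.id (y • LinearMap.id)
  let f₂ : (N × N) →ₗ[A] N := (y • LinearMap.fst A N N) - LinearMap.snd A N N
  let g₁ : N →ₗ[A] (N × N) := LinearMap.prod (x • LinearMap.id) LinearMap.id
  let g₂ : (N × N) →ₗ[A] N := LinearMap.fst A N N - x • LinearMap.snd A N N
  have hf : Exact f₁ f₂ := by
    intro p
    constructor
    · intro hp
      have hp' : y • p.1 - p.2 = 0 := hp
      exact ⟨p.1, Prod.ext rfl (sub_eq_zero.mp hp')⟩
    · rintro ⟨a, rfl⟩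
      change y • a - y • a = 0
      exact sub_self _
  have hg : Exact g₁ g₂ := by
    intro p
    constructor
    · intro hp
      have hp' : p.1 - x • p.2 = 0 := hp
      exact ⟨p.2, Prod.ext (sub_eq_zero.mp hp').symm rfl⟩
    · rintro ⟨a, rfl⟩
      change x • a - x • a = 0
      exact sub_self _
  have h₁ : g₁.comp (y • LinearMap.id) = (mid N x y).comp f₁ := by
    ext a
    · change x • y • a = (x * y) • a
      rw [mul_smul]
    · rfl
  have h₂ : g₂.comp (mid N x y) = (x • LinearMap.id).comp f₂ := by
    ext p
    · change (x * y) • p - x • (0 : N) = x • (y • p - 0)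
      rw [smul_zero, sub_zero, sub_zero, mul_smul]
    · change (x * y) • (0 : N) - x • p = x • (y • (0 : N) - p)
      rw [smul_zero, smul_zero, zero_sub, zero_sub, smul_neg]
  have hf₁ : Injective f₁ := fun a b hab => congrArg Prod.fst hab
  have hf₂ : Surjective f₂ := fun b => ⟨(0, -b), by
    change y • (0 : N) - -b = b
    rw [smul_zero, zero_sub, neg_neg]⟩
  have hg₁ : Injective g₁ := fun a b hab => congrArg Prod.snd hab
  have hg₂ : Surjective g₂ := fun a => ⟨(a, 0), by
    change a - x • (0 : N) = a
    rw [smul_zero, sub_zero]⟩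
  have key := Groth.Agent.H15.Len.snake_length (y • (LinearMap.id : N →ₗ[A] N)) (mid N x y)
    (x • (LinearMap.id : N →ₗ[A] N)) f₁ f₂ hf g₁ g₂ hg h₁ h₂ hf₁ hf₂ hg₁ hg₂
  rw [length_ker_mid, length_coker_mid, ← Groth.Agent.H15.Len.length_quotSMulTop,
    ← Groth.Agent.H15.Len.length_quotSMulTop] at key
  exact key

end Groth.Agent.H79.LenComp
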