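import Groth.Prelude.Def_DRing2
import Groth.Agent.H79.ConeLength
import Groth.Agent.H79.LenComp
import Groth.Agent.H79.KoszulFinLen
import Groth.Agent.H79.KoszulTop

set_option autoImplicit false
universe u
open CategoryTheory CochainComplex HomComplex Limits MonoidalCategory Groth.Agent.H12.KoszulReg
open Groth.Agent.H79.KoszulCone Groth.Agent.H79.ConeLength Groth.Agent.H79.LenComp

namespace Groth.Agent.H79.KoszulEuler

variable {A : Type u} [CommRing A]

section bridge

theorem map_smul_id (M : ModuleCat.{u} A) (f : A) (K : CochainComplex (ModuleCat.{u} A) ℤ) :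
    ((tensorRight M).mapHomologicalComplex (ComplexShape.up ℤ)).map (f • 𝟙 K) =
      f • 𝟙 (((tensorRight M).mapHomologicalComplex (ComplexShape.up ℤ)).obj K) := by
  ext n : 1
  simp only [Functor.mapHomologicalComplex_map_f, HomologicalComplex.smul_f_apply,
    HomologicalComplex.id_f, Functor.map_smul]
  rw [(tensorRight M).map_id]
  rfl

/-- The bridge between the termwise tensor product of the ring-level Koszul complex and the
module-level Koszul complex. -/
theorem nonempty_tensorCx_iso (M : ModuleCat.{u} A) : ∀ (l : List A),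
    Nonempty (DRing.tensorCx (Koszul.koszul A l) M ≅ CohIII.koszulCx M l) := by
  intro l
  induction l with
  | nil =>
    have e1 := (HomologicalComplex.singleMapHomologicalComplex (tensorRight M)
      (ComplexShape.up ℤ) 0).app (ModuleCat.of A A)
    have e2 : (tensorRight M).obj (ModuleCat.of A A) ≅ M := λ_ M
    exact ⟨e1 ≪≫ (HomologicalComplex.single (ModuleCat.{u} A) (ComplexShape.up ℤ) 0).mapIso e2⟩
  | cons f fs ih =>
    obtain ⟨e⟩ := ih
    have e1 := mappingCone.mapHomologicalComplexIso (f • 𝟙 (Koszul.koszul A fs)) (tensorRight M)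
    have e2 : mappingCone (((tensorRight M).mapHomologicalComplex (ComplexShape.up ℤ)).map
        (f • 𝟙 (Koszul.koszul A fs))) ≅
        mappingCone (f • 𝟙 (((tensorRight M).mapHomologicalComplex (ComplexShape.up ℤ)).obj
          (Koszul.koszul A fs))) := eqToIso (by rw [map_smul_id])
    exact ⟨e1 ≪≫ e2 ≪≫ (coneFunctor f).mapIso e⟩

end bridge

variable (M : Type u) [AddCommGroup M] [Module A M]

/-- lengths of Koszul cohomology of `M` -/
noncomputable def hlen (l : List A) (i : ℤ) : ℕ∞ :=
  Module.length A ((CohIII.koszulCx (ModuleCat.of A M) l).homology i)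

theorem length_tensorCx_homology (l : List A) (i : ℤ) :
    Module.length A ((DRing.tensorCx (Koszul.koszul A l) (ModuleCat.of A M)).homology i) =
      hlen M l i := by
  obtain ⟨e⟩ := nonempty_tensorCx_iso (ModuleCat.of A M) l
  exact ((HomologicalComplex.homologyFunctor (ModuleCat.{u} A) (ComplexShape.up ℤ) i).mapIso
    e).toLinearEquiv.length_eq

/-- the concrete cohomology module of the Koszul complex of `M` in degree `i` -/
abbrev Nmod (l : List A) (i : ℤ) : Type u :=
  Hc (CohIII.koszulCx (ModuleCat.of A M) l) (i - 1) i (i + 1)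

/-- length of the cokernel of `f` on cohomology -/
noncomputable def cK (l : List A) (f : A) (i : ℤ) : ℕ∞ :=
  Module.length A (QuotSMulTop f (Nmod M l i))

/-- length of the kernel of `f` on cohomology -/
noncomputable def kK (l : List A) (f : A) (i : ℤ) : ℕ∞ :=
  Module.length A (kerSMul (Nmod M l i) f)

theorem hlen_eq (l : List A) (i : ℤ) : hlen M l i = Module.length A (Nmod M l i) :=
  (homologyIsoKerQuot (CohIII.koszulCx (ModuleCat.of A M) l) i).toLinearEquiv.length_eq

/-- (F1) -/
theorem hlen_cons (l : List A) (f : A) (i : ℤ) :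
    hlen M (f :: l) i = cK M l f i + kK M l f (i + 1) := by
  rw [hlen_eq]
  change Module.length A (Hc (mappingCone (f • 𝟙 (CohIII.koszulCx (ModuleCat.of A M) l)))
    (i - 1) i (i + 1)) = _
  rw [length_Hc_cone (i - 1) i (i + 1) (i + 1 + 1) (by omega) rfl rfl]
  unfold cK kK Nmod
  have h : i + 1 - 1 = i := by omega
  rw [h]

/-- (F2) -/
theorem cK_kK_mul (l : List A) (x y : A) (i : ℤ) :
    kK M l y i + kK M l x i + cK M l (x * y) i =
      kK M l (x * y) i + cK M l y i + cK M l x i :=
  length_mul (Nmod M l i) x y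

section vanish

theorem isZero_X_of_lt (N : ModuleCat.{u} A) : ∀ (l : List A) (i : ℤ), i + l.length < 0 →
    IsZero ((CohIII.koszulCx N l).X i) := by
  intro l
  induction l with
  | nil =>
    intro i hi
    exact HomologicalComplex.isZero_single_obj_X (ComplexShape.up ℤ) 0 N i
      (by simp at hi; omega)
  | cons f fs ih =>
    intro i hi
    change IsZero ((mappingCone (f • 𝟙 (CohIII.koszulCx N fs))).X i)
    rw [mappingCone.isZero_X_iff]
    simp only [List.length_cons, Nat.cast_add, Nat.cast_one] at hi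
    exact ⟨ih (i + 1) (by omega), ih i (by omega)⟩

theorem subsingleton_Nmod (l : List A) (i : ℤ) (hi : 0 < i ∨ i + l.length < 0) :
    Subsingleton (Nmod M l i) := by
  have hz : IsZero ((CohIII.koszulCx (ModuleCat.of A M) l).X i) := by
    rcases hi with hi | hi
    · exact Groth.Agent.H79.KoszulTop.isZero_X_of_pos _ l i hi
    · exact isZero_X_of_lt _ l i hi
  have hsub : Subsingleton ((CohIII.koszulCx (ModuleCat.of A M) l).X i) :=
    ModuleCat.subsingleton_of_isZero hz
  have h2 : Subsingleton ↥(LinearMap.ker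
      ((CohIII.koszulCx (ModuleCat.of A M) l).d i (i + 1)).hom) :=
    ⟨fun a b => Subtype.ext (Subsingleton.elim _ _)⟩
  exact ⟨fun a b => by
    obtain ⟨a, rfl⟩ := Submodule.Quotient.mk_surjective _ a
    obtain ⟨b, rfl⟩ := Submodule.Quotient.mk_surjective _ b
    rw [Subsingleton.elim a b]⟩

theorem cK_eq_zero (l : List A) (f : A) (i : ℤ) (hi : 0 < i ∨ i + l.length < 0) :
    cK M l f i = 0 := by
  have := subsingleton_Nmod M l i hi
  unfold cK
  rw [Module.length_eq_zero_iff]
  exact ⟨fun a b => by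
    obtain ⟨a, rfl⟩ := Submodule.Quotient.mk_surjective _ a
    obtain ⟨b, rfl⟩ := Submodule.Quotient.mk_surjective _ b
    rw [Subsingleton.elim a b]⟩

theorem kK_eq_zero (l : List A) (f : A) (i : ℤ) (hi : 0 < i ∨ i + l.length < 0) :
    kK M l f i = 0 := by
  have := subsingleton_Nmod M l i hi
  unfold kK
  rw [Module.length_eq_zero_iff]
  exact ⟨fun a b => Subtype.ext (Subsingleton.elim _ _)⟩

theorem finite_support_of_vanish (l : List A) (g : ℤ → ℤ)
    (hg : ∀ i : ℤ, (0 < i ∨ i + l.length < 0) → g i = 0) : (Function.support g).Finite := by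
  apply (Set.finite_Icc (-(l.length : ℤ)) 0).subset
  intro i hi
  rw [Function.mem_support] at hi
  rw [Set.mem_Icc]
  by_contra hcon
  apply hi
  apply hg
  omega

end vanish

/-- the Euler characteristic of the Koszul complex of `M` -/
noncomputable def chi (l : List A) : ℤ :=
  ∑ᶠ i : ℤ, ((i.negOnePow : ℤˣ) : ℤ) * ((hlen M l i).toNat : ℤ)

/-- the Euler characteristic of multiplication by `f` on the Koszul cohomology -/
noncomputable def echi (l : List A) (f : A) : ℤ :=
  ∑ᶠ i : ℤ, ((i.negOnePow : ℤˣ) : ℤ) * (((cK M l f i).toNat : ℤ) - ((kK M l f i).toNat : ℤ))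

theorem cK_ne_top (l : List A) (f : A) (hfin : ∀ i, hlen M (f :: l) i ≠ ⊤) (i : ℤ) :
    cK M l f i ≠ ⊤ := by
  have h := hfin i
  rw [hlen_cons] at h
  exact (WithTop.add_ne_top.mp h).1

theorem kK_ne_top (l : List A) (f : A) (hfin : ∀ i, hlen M (f :: l) i ≠ ⊤) (i : ℤ) :
    kK M l f i ≠ ⊤ := by
  have h := hfin (i - 1)
  rw [hlen_cons] at h
  have h2 := (WithTop.add_ne_top.mp h).2
  have : i - 1 + 1 = i := by omega
  rwa [this] at h2

theorem chi_cons (l : List A) (f : A) (hfin : ∀ i, hlen M (f :: l) i ≠ ⊤) :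
    chi M (f :: l) = echi M l f := by
  unfold chi echi
  have h1 : ∀ i : ℤ, ((i.negOnePow : ℤˣ) : ℤ) * ((hlen M (f :: l) i).toNat : ℤ) =
      ((i.negOnePow : ℤˣ) : ℤ) * ((cK M l f i).toNat : ℤ) +
        -((((i + 1).negOnePow : ℤˣ) : ℤ) * ((kK M l f (i + 1)).toNat : ℤ)) := by
    intro i
    rw [hlen_cons, ENat.toNat_add (cK_ne_top M l f hfin i) (kK_ne_top M l f hfin (i + 1)),
      Int.negOnePow_succ]
    push_cast
    ring
  have hc : (Function.support fun i : ℤ =>
      ((i.negOnePow : ℤˣ) : ℤ) * ((cK M l f i).toNat : ℤ)).Finite :=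
    finite_support_of_vanish l _ (fun i hi => by rw [cK_eq_zero M l f i hi]; simp)
  have hk : (Function.support fun i : ℤ =>
      ((i.negOnePow : ℤˣ) : ℤ) * ((kK M l f i).toNat : ℤ)).Finite :=
    finite_support_of_vanish l _ (fun i hi => by rw [kK_eq_zero M l f i hi]; simp)
  have hk' : (Function.support fun i : ℤ =>
      -((((i + 1).negOnePow : ℤˣ) : ℤ) * ((kK M l f (i + 1)).toNat : ℤ))).Finite := by
    have : (fun i : ℤ => -((((i + 1).negOnePow : ℤˣ) : ℤ) * ((kK M l f (i + 1)).toNat : ℤ))) =
        (fun j : ℤ => -(((j.negOnePow : ℤˣ) : ℤ) * ((kK M l f j).toNat : ℤ))) ∘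
          (Equiv.addRight (1 : ℤ)) := rfl
    rw [this]
    apply Set.Finite.subset (hk.preimage (Equiv.injective _).injOn)
    intro i hi
    simp only [Function.mem_support, Function.comp_apply, ne_eq, neg_eq_zero,
      Set.mem_preimage] at hi ⊢
    exact hi
  rw [finsum_congr h1, finsum_add_distrib hc hk']
  have h2 : (∑ᶠ i : ℤ, -((((i + 1).negOnePow : ℤˣ) : ℤ) * ((kK M l f (i + 1)).toNat : ℤ))) =
      -∑ᶠ j : ℤ, ((j.negOnePow : ℤˣ) : ℤ) * ((kK M l f j).toNat : ℤ) := by
    rw [finsum_neg_distrib]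
    congr 1
    exact finsum_comp_equiv (Equiv.addRight (1 : ℤ))
      (f := fun j : ℤ => ((j.negOnePow : ℤˣ) : ℤ) * ((kK M l f j).toNat : ℤ))
  rw [h2, ← sub_eq_add_neg, ← finsum_sub_distrib hc hk]
  apply finsum_congr
  intro i
  ring

theorem echi_support (l : List A) (f : A) : (Function.support fun i : ℤ =>
    ((i.negOnePow : ℤˣ) : ℤ) * (((cK M l f i).toNat : ℤ) - ((kK M l f i).toNat : ℤ))).Finite :=
  finite_support_of_vanish l _ (fun i hi => by
    rw [cK_eq_zero M l f i hi, kK_eq_zero M l f i hi]; simp)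

/-- Multiplicativity of the Koszul Euler characteristic in the first element. -/
theorem chi_mul (l : List A) (x y : A) (hx : ∀ i, hlen M (x :: l) i ≠ ⊤)
    (hy : ∀ i, hlen M (y :: l) i ≠ ⊤) (hxy : ∀ i, hlen M ((x * y) :: l) i ≠ ⊤) :
    chi M ((x * y) :: l) = chi M (x :: l) + chi M (y :: l) := by
  rw [chi_cons M l _ hx, chi_cons M l _ hy, chi_cons M l _ hxy]
  unfold echi
  rw [← finsum_add_distrib (echi_support M l x) (echi_support M l y)]
  apply finsum_congr
  intro i
  have h := cK_kK_mul M l x y i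
  have e1 := ENat.natCast_toNat (cK_ne_top M l x hx i)
  have e2 := ENat.natCast_toNat (kK_ne_top M l x hx i)
  have e3 := ENat.natCast_toNat (cK_ne_top M l y hy i)
  have e4 := ENat.natCast_toNat (kK_ne_top M l y hy i)
  have e5 := ENat.natCast_toNat (cK_ne_top M l (x * y) hxy i)
  have e6 := ENat.natCast_toNat (kK_ne_top M l (x * y) hxy i)
  rw [← e1, ← e2, ← e3, ← e4, ← e5, ← e6] at h
  have h' : (kK M l y i).toNat + (kK M l x i).toNat + (cK M l (x * y) i).toNat =
      (kK M l (x * y) i).toNat + (cK M l y i).toNat + (cK M l x i).toNat := by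
    exact_mod_cast h
  have h'' : ((kK M l y i).toNat : ℤ) + (kK M l x i).toNat + (cK M l (x * y) i).toNat =
      (kK M l (x * y) i).toNat + (cK M l y i).toNat + (cK M l x i).toNat := by
    exact_mod_cast h'
  have : (((cK M l (x * y) i).toNat : ℤ) - ((kK M l (x * y) i).toNat : ℤ)) =
      (((cK M l x i).toNat : ℤ) - ((kK M l x i).toNat : ℤ)) +
        (((cK M l y i).toNat : ℤ) - ((kK M l y i).toNat : ℤ)) := by linarith
  rw [this]
  ring

section noeth

variable [IsNoetherianRing A] [Module.Finite A M]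

/-- the support condition guaranteeing finite length of the Koszul cohomology -/
def SuppCond (l : List A) : Prop :=
  ∀ p ∈ Module.support A M, Ideal.ofList l ≤ p.asIdeal → p.asIdeal.IsMaximal

theorem hlen_ne_top (l : List A) (hs : SuppCond M l) (i : ℤ) : hlen M l i ≠ ⊤ := by
  unfold hlen
  rw [Module.length_ne_top_iff]
  exact Groth.Agent.H79.KoszulFinLen.isFiniteLength_homology M l hs i

omit [IsNoetherianRing A] in
theorem suppCond_of_isFiniteLength (l : List A)
    (hfl : IsFiniteLength A (M ⧸ (Ideal.ofList l • (⊤ : Submodule A M)))) : SuppCond M l :=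
  Groth.Agent.H79.KoszulFinLen.support_hyp_of_isFiniteLength M _ hfl

omit [IsNoetherianRing A] [Module.Finite A M] in
theorem suppCond_mul (l : List A) (x y : A) (hx : SuppCond M (x :: l)) (hy : SuppCond M (y :: l)) :
    SuppCond M ((x * y) :: l) := by
  intro p hp hle
  have hxy : x * y ∈ p.asIdeal := hle (Ideal.subset_span (by simp))
  have hl : ∀ a ∈ l, a ∈ p.asIdeal := fun a ha =>
    hle (Ideal.subset_span (List.mem_cons_of_mem _ ha))
  rcases p.2.mem_or_mem hxy with h | h
  · apply hx p hp
    rw [Ideal.span_le]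
    intro a ha
    rcases List.mem_cons.mp ha with rfl | ha
    · exact h
    · exact hl a ha
  · apply hy p hp
    rw [Ideal.span_le]
    intro a ha
    rcases List.mem_cons.mp ha with rfl | ha
    · exact h
    · exact hl a ha

theorem chi_mul_of_suppCond (l : List A) (x y : A) (hx : SuppCond M (x :: l))
    (hy : SuppCond M (y :: l)) :
    chi M ((x * y) :: l) = chi M (x :: l) + chi M (y :: l) :=
  chi_mul M l x y (hlen_ne_top M _ hx) (hlen_ne_top M _ hy)
    (hlen_ne_top M _ (suppCond_mul M l x y hx hy))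

end noeth

/-- the Euler characteristic in the form used in the statements -/
theorem chi_eq_tensorCx (l : List A) :
    (∑ᶠ i : ℤ, ((i.negOnePow : ℤˣ) : ℤ) * ((Module.length A ((DRing.tensorCx
      (Koszul.koszul A l) (ModuleCat.of A M)).homology i)).toNat : ℤ)) = chi M l := by
  unfold chi
  apply finsum_congr
  intro i
  rw [length_tensorCx_homology]

end Groth.Agent.H79.KoszulEuler
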