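import Groth.Agent.H79.KoszulTopNat
import Groth.Agent.H79.KoszulEuler

/-!
# Naturality, change of rings and flat coefficients for the (cone model) Koszul complex (helper79)
-/

set_option autoImplicit false
universe u
open CategoryTheory CochainComplex HomComplex Limits MonoidalCategory Groth.Agent.H12.KoszulReg
open Groth.Agent.H79.KoszulCone Groth.Agent.H79.KoszulTopNat

namespace Groth.Agent.H79.KoszulNat

section kmap

variable {A : Type u} [CommRing A]

/-- functoriality of the Koszul complex in the module (recursive definition) -/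
noncomputable def kmap {M M' : ModuleCat.{u} A} (g : M ⟶ M') :
    ∀ l : List A, CohIII.koszulCx M l ⟶ CohIII.koszulCx M' l
  | [] => (HomologicalComplex.single (ModuleCat.{u} A) (ComplexShape.up ℤ) 0).map g
  | f :: fs => (coneFunctor f).map (kmap g fs)

theorem kmap_comp {M M' M'' : ModuleCat.{u} A} (g : M ⟶ M') (g' : M' ⟶ M'') (l : List A) :
    kmap (g ≫ g') l = kmap g l ≫ kmap g' l := by
  induction l with
  | nil => exact CategoryTheory.Functor.map_comp _ _ _
  | cons f fs ih =>
    show (coneFunctor f).map (kmap (g ≫ g') fs) = (coneFunctor f).map (kmap g fs) ≫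
      (coneFunctor f).map (kmap g' fs)
    rw [ih, CategoryTheory.Functor.map_comp]

theorem kmap_zero {M M' : ModuleCat.{u} A} (l : List A) : kmap (0 : M ⟶ M') l = 0 := by
  induction l with
  | nil => exact CategoryTheory.Functor.map_zero _ _ _
  | cons f fs ih =>
    show (coneFunctor f).map (kmap (0 : M ⟶ M') fs) = 0
    rw [ih, CategoryTheory.Functor.map_zero]

theorem kmap_id (M : ModuleCat.{u} A) (l : List A) : kmap (𝟙 M) l = 𝟙 _ := by
  induction l with
  | nil => exact CategoryTheory.Functor.map_id _ _
  | cons f fs ih =>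
    show (coneFunctor f).map (kmap (𝟙 M) fs) = 𝟙 _
    rw [ih, CategoryTheory.Functor.map_id]

/-- the short complex of Koszul complexes attached to a short complex of modules -/
noncomputable def kmapSC (S : ShortComplex (ModuleCat.{u} A)) (l : List A) :
    ShortComplex (CochainComplex (ModuleCat.{u} A) ℤ) :=
  ShortComplex.mk (kmap S.f l) (kmap S.g l) (by rw [← kmap_comp, S.zero, kmap_zero])

theorem kmapSC_shortExact (S : ShortComplex (ModuleCat.{u} A)) (hS : S.ShortExact) (l : List A) :
    (kmapSC S l).ShortExact := by
  induction l with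
  | nil =>
    exact hS.map_of_exact (HomologicalComplex.single (ModuleCat.{u} A) (ComplexShape.up ℤ) 0)
  | cons f fs ih =>
    exact coneFunctor_shortExact f (kmapSC S fs) ih

/-- isomorphic modules have isomorphic Koszul complexes -/
noncomputable def kiso {M M' : ModuleCat.{u} A} (e : M ≅ M') (l : List A) :
    CohIII.koszulCx M l ≅ CohIII.koszulCx M' l where
  hom := kmap e.hom l
  inv := kmap e.inv l
  hom_inv_id := by rw [← kmap_comp, e.hom_inv_id, kmap_id]
  inv_hom_id := by rw [← kmap_comp, e.inv_hom_id, kmap_id]

theorem topIso_kmap {M M' : ModuleCat.{u} A} (g : M ⟶ M') : ∀ (l : List A)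
    (k : (CohIII.koszulCx M l).X 0),
    topIso M' l (((kmap g l).f 0).hom k) = g.hom (topIso M l k) := by
  intro l
  induction l with
  | nil =>
    intro k
    show (HomologicalComplex.singleObjXSelf (ComplexShape.up ℤ) 0 M').hom.hom
      ((((HomologicalComplex.single (ModuleCat.{u} A) (ComplexShape.up ℤ) 0).map g).f 0).hom k) =
      g.hom ((HomologicalComplex.singleObjXSelf (ComplexShape.up ℤ) 0 M).hom.hom k)
    rw [HomologicalComplex.single_map_f_self]
    simp only [ModuleCat.hom_comp, LinearMap.coe_comp, Function.comp_apply]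
    exact congr($((HomologicalComplex.singleObjXSelf (ComplexShape.up ℤ) 0 M').inv_hom_id).hom
      (g.hom ((HomologicalComplex.singleObjXSelf (ComplexShape.up ℤ) 0 M).hom.hom k)))
  | cons f fs ih =>
    intro k
    rw [topIso_cons, topIso_cons, ← ih]
    congr 1
    exact (coneFunctor_map_f_hom f (kmap g fs) 0 k).2

theorem topMap_kmap {M M' : ModuleCat.{u} A} (g : M ⟶ M') (l : List A) (p : M) :
    (HomologicalComplex.homologyMap (kmap g l) 0).hom (topMap M l p) = topMap M' l (g.hom p) := by
  unfold topMap
  rw [LinearMap.comp_apply, LinearMap.comp_apply,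
    ← piTop_naturality _ _ 0 (kmap g l) (d_zero_one M _) (d_zero_one M' _)]
  congr 1
  apply (topIso M' l).injective
  rw [LinearEquiv.coe_coe, LinearEquiv.coe_coe, (topIso M' l).apply_symm_apply, topIso_kmap,
    (topIso M l).apply_symm_apply]

end kmap

section ringChange

variable {B S : Type u} [CommRing B] [CommRing S] (φ : B →+* S)

theorem restrict_map_smul_id (f : B) (K : CochainComplex (ModuleCat.{u} S) ℤ) :
    ((ModuleCat.restrictScalars φ).mapHomologicalComplex (ComplexShape.up ℤ)).map (φ f • 𝟙 K) =
      f • 𝟙 (((ModuleCat.restrictScalars φ).mapHomologicalComplex (ComplexShape.up ℤ)).obj K) := by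
  ext n x
  rfl

/-- restriction of scalars of a Koszul complex is the Koszul complex of the restricted module -/
theorem nonempty_restrict_iso (P : ModuleCat.{u} S) : ∀ l : List B,
    Nonempty (((ModuleCat.restrictScalars φ).mapHomologicalComplex (ComplexShape.up ℤ)).obj
      (CohIII.koszulCx P (l.map φ)) ≅ CohIII.koszulCx ((ModuleCat.restrictScalars φ).obj P) l) := by
  intro l
  induction l with
  | nil =>
    exact ⟨(HomologicalComplex.singleMapHomologicalComplex (ModuleCat.restrictScalars φ)
      (ComplexShape.up ℤ) 0).app P⟩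
  | cons f fs ih =>
    obtain ⟨e⟩ := ih
    have e1 := mappingCone.mapHomologicalComplexIso (φ f • 𝟙 (CohIII.koszulCx P (fs.map φ)))
      (ModuleCat.restrictScalars φ)
    have e2 : mappingCone (((ModuleCat.restrictScalars φ).mapHomologicalComplex
        (ComplexShape.up ℤ)).map (φ f • 𝟙 (CohIII.koszulCx P (fs.map φ)))) ≅
        mappingCone (f • 𝟙 (((ModuleCat.restrictScalars φ).mapHomologicalComplex
          (ComplexShape.up ℤ)).obj (CohIII.koszulCx P (fs.map φ)))) :=
      eqToIso (by rw [restrict_map_smul_id])
    exact ⟨e1 ≪≫ e2 ≪≫ (coneFunctor f).mapIso e⟩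

instance : (ModuleCat.restrictScalars.{u} φ).PreservesHomology := by
  apply Functor.preservesHomology_of_map_exact
  intro X hX
  rw [ShortComplex.ShortExact.moduleCat_exact_iff_function_exact] at hX ⊢
  exact hX

theorem isZero_homology_restrict_iff (P : ModuleCat.{u} S) (l : List B) (i : ℤ) :
    IsZero ((CohIII.koszulCx ((ModuleCat.restrictScalars φ).obj P) l).homology i) ↔
      IsZero ((CohIII.koszulCx P (l.map φ)).homology i) := by
  obtain ⟨e⟩ := nonempty_restrict_iso φ P l
  have e1 := (HomologicalComplex.homologyFunctor (ModuleCat.{u} B) (ComplexShape.up ℤ) i).mapIso e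
  have e2 := ((CohIII.koszulCx P (l.map φ)).sc i).mapHomologyIso (ModuleCat.restrictScalars φ)
  have e3 : (CohIII.koszulCx ((ModuleCat.restrictScalars φ).obj P) l).homology i ≅
      (ModuleCat.restrictScalars φ).obj ((CohIII.koszulCx P (l.map φ)).homology i) :=
    e1.symm ≪≫ e2
  rw [e3.isZero_iff, ModuleCat.isZero_iff_subsingleton, ModuleCat.isZero_iff_subsingleton]
  rfl

end ringChange

section flatCoeff

variable {A : Type u} [CommRing A]

theorem preservesHomology_tensorRight (P : ModuleCat.{u} A) [Module.Flat A P] :
    (tensorRight P).PreservesHomology := by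
  apply Functor.preservesHomology_of_map_exact
  intro X hX
  exact (Module.Flat.iff_rTensor_preserves_shortComplex_exact (M := P)).mp inferInstance X hX

/-- flat coefficients preserve acyclicity of Koszul complexes -/
theorem isZero_homology_of_flat (l : List A) (i : ℤ)
    (h : IsZero ((Koszul.koszul A l).homology i)) (P : ModuleCat.{u} A) [Module.Flat A P] :
    IsZero ((CohIII.koszulCx P l).homology i) := by
  obtain ⟨e⟩ := Groth.Agent.H79.KoszulEuler.nonempty_tensorCx_iso P l
  have e1 := (HomologicalComplex.homologyFunctor (ModuleCat.{u} A) (ComplexShape.up ℤ) i).mapIso e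
  have := preservesHomology_tensorRight P
  have e2 := ((Koszul.koszul A l).sc i).mapHomologyIso (tensorRight P)
  have e3 : (CohIII.koszulCx P l).homology i ≅
      (tensorRight P).obj ((Koszul.koszul A l).homology i) := e1.symm ≪≫ e2
  rw [e3.isZero_iff]
  exact Functor.map_isZero (tensorRight P) h

end flatCoeff

end Groth.Agent.H79.KoszulNat
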