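import Groth.Prelude.Def_Koszul
import Groth.Prelude.Def_ega3
import Groth.Agent.H12.KoszulReg

set_option autoImplicit false
universe u
open CategoryTheory CochainComplex HomComplex Limits Groth.Agent.H12.KoszulReg

namespace Groth.Agent.H79.KoszulCone

variable {A : Type u} [CommRing A]

theorem koszul_eq (l : List A) :
    Koszul.koszul A l = CohIII.koszulCx (ModuleCat.of A A) l := by
  induction l with
  | nil => rfl
  | cons f fs ih =>
    show mappingCone (f • 𝟙 (Koszul.koszul A fs)) = mappingCone (f • 𝟙 (CohIII.koszulCx _ fs))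
    rw [ih]

/-- Concrete description of the cohomology of a cochain complex of modules. -/
noncomputable def homologyIsoKerQuot (K : CochainComplex (ModuleCat.{u} A) ℤ) (q : ℤ) :
    K.homology q ≅ ModuleCat.of A (↥(LinearMap.ker (K.d q (q + 1)).hom) ⧸
      Submodule.comap (LinearMap.ker (K.d q (q + 1)).hom).subtype
        (LinearMap.range (K.d (q - 1) q).hom)) := by
  have e1 : K.homology q ≅ (K.sc' (q - 1) q (q + 1)).homology :=
    ShortComplex.homologyMapIso (K.isoSc' (q - 1) q (q + 1) (by simp) (by simp))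
  have e2 := ShortComplex.moduleCatHomologyIso (K.sc' (q - 1) q (q + 1))
  refine e1 ≪≫ e2 ≪≫ ?_
  refine LinearEquiv.toModuleIso ?_
  refine Submodule.quotEquivOfEq _ _ ?_
  ext ⟨z, hz⟩
  simp only [LinearMap.mem_range]
  constructor
  · rintro ⟨y, hy⟩
    exact ⟨y, congrArg Subtype.val hy⟩
  · rintro ⟨y, hy⟩
    exact ⟨y, Subtype.ext hy⟩

section Cone

variable {F G : CochainComplex (ModuleCat.{u} A) ℤ} (φ : F ⟶ G)

/-- first component, general indices -/
noncomputable def fstL (p q : ℤ) (h : p + 1 = q) : (mappingCone φ).X p →ₗ[A] F.X q :=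
  ((mappingCone.fst φ).1.v p q h).hom

/-- second component -/
noncomputable def sndL (p : ℤ) : (mappingCone φ).X p →ₗ[A] G.X p :=
  ((mappingCone.snd φ).v p p (add_zero p)).hom

/-- inclusion of first component, general indices -/
noncomputable def inlL (p q : ℤ) (h : p + 1 = q) : F.X q →ₗ[A] (mappingCone φ).X p :=
  ((mappingCone.inl φ).v q p (by omega)).hom

/-- inclusion of second component -/
noncomputable def inrL (p : ℤ) : G.X p →ₗ[A] (mappingCone φ).X p :=
  ((mappingCone.inr φ).f p).hom

theorem fstL_inlL (p q : ℤ) (h : p + 1 = q) (x : F.X q) : fstL φ p q h (inlL φ p q h x) = x := by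
  subst h; exact cfst_cinl φ p x

theorem sndL_inlL (p q : ℤ) (h : p + 1 = q) (x : F.X q) : sndL φ p (inlL φ p q h x) = 0 := by
  subst h; exact csnd_cinl φ p x

theorem fstL_inrL (p q : ℤ) (h : p + 1 = q) (y : G.X p) : fstL φ p q h (inrL φ p y) = 0 := by
  subst h; exact cfst_cinr φ p y

theorem sndL_inrL (p : ℤ) (y : G.X p) : sndL φ p (inrL φ p y) = y := csnd_cinr φ p y

theorem decomp (p q : ℤ) (h : p + 1 = q) (x : (mappingCone φ).X p) :
    x = inlL φ p q h (fstL φ p q h x) + inrL φ p (sndL φ p x) := by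
  subst h; exact cdecomp φ p x

theorem ext' (p q : ℤ) (h : p + 1 = q) (x y : (mappingCone φ).X p)
    (h1 : fstL φ p q h x = fstL φ p q h y) (h2 : sndL φ p x = sndL φ p y) : x = y := by
  rw [decomp φ p q h x, decomp φ p q h y, h1, h2]

/-- the terms of the cone as a product -/
noncomputable def coneEquiv (p q : ℤ) (h : p + 1 = q) :
    (mappingCone φ).X p ≃ₗ[A] (F.X q × G.X p) where
  toFun x := (fstL φ p q h x, sndL φ p x)
  map_add' x y := by simp
  map_smul' a x := by simp
  invFun z := inlL φ p q h z.1 + inrL φ p z.2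
  left_inv x := (decomp φ p q h x).symm
  right_inv z := by
    ext
    · simp [fstL_inlL, fstL_inrL]
    · simp [sndL_inlL, sndL_inrL]

theorem fstL_d (i j k : ℤ) (hij : i + 1 = j) (hjk : j + 1 = k) (x : (mappingCone φ).X i) :
    fstL φ j k hjk (((mappingCone φ).d i j).hom x) = -(F.d j k).hom (fstL φ i j hij x) := by
  have h := mappingCone.d_fst_v φ i j k hij hjk
  have := congr($(h).hom x)
  rw [ModuleCat.hom_comp, ModuleCat.hom_neg, ModuleCat.hom_comp] at this
  exact this

theorem sndL_d (i j : ℤ) (hij : i + 1 = j) (x : (mappingCone φ).X i) :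
    sndL φ j (((mappingCone φ).d i j).hom x) =
      (φ.f j).hom (fstL φ i j hij x) + (G.d i j).hom (sndL φ i x) := by
  have h := mappingCone.d_snd_v φ i j hij
  have := congr($(h).hom x)
  rw [ModuleCat.hom_comp, ModuleCat.hom_add, ModuleCat.hom_comp, ModuleCat.hom_comp] at this
  exact this

end Cone

theorem isSMulRegular_of_injective {M N : Type*} [AddCommGroup M] [Module A M] [AddCommGroup N]
    [Module A N] (f : M →ₗ[A] N) (hf : Function.Injective f) (x : A) (hx : IsSMulRegular N x) :
    IsSMulRegular M x := by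
  intro a b hab
  apply hf
  apply hx
  change x • f a = x • f b
  rw [← map_smul, ← map_smul]
  exact congrArg f hab

theorem isSMulRegular_X (x : A) (hx : x ∈ nonZeroDivisors A) :
    ∀ (l : List A) (n : ℤ), IsSMulRegular ((Koszul.koszul A l).X n) x := by
  intro l
  induction l with
  | nil =>
    intro n
    by_cases hn : n = 0
    · subst hn
      have e : (Koszul.koszul A []).X 0 ≅ ModuleCat.of A A :=
        HomologicalComplex.singleObjXSelf (ComplexShape.up ℤ) 0 (ModuleCat.of A A)
      apply isSMulRegular_of_injective e.toLinearEquiv.toLinearMap e.toLinearEquiv.injective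
      intro a b hab
      exact (mem_nonZeroDivisors_iff_right.mp hx) _ (by
        have : x * (a - b) = 0 := by rw [mul_sub]; exact sub_eq_zero.mpr hab
        rwa [mul_comm] at this) |> sub_eq_zero.mp
    · have hz : IsZero ((Koszul.koszul A []).X n) :=
        HomologicalComplex.isZero_single_obj_X (ComplexShape.up ℤ) 0 _ n hn
      have hsub : Subsingleton ((Koszul.koszul A []).X n) := ModuleCat.subsingleton_of_isZero hz
      intro a b _
      exact Subsingleton.elim _ _
  | cons f fs ih =>
    intro n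
    change IsSMulRegular ((mappingCone (f • 𝟙 (Koszul.koszul A fs))).X n) x
    apply isSMulRegular_of_injective (coneEquiv _ n (n + 1) rfl).toLinearMap
      (coneEquiv _ n (n + 1) rfl).injective
    intro a b hab
    have h1 := congrArg Prod.fst hab
    have h2 := congrArg Prod.snd hab
    exact Prod.ext (ih (n + 1) h1) (ih n h2)

theorem cone_scale {K' K : CochainComplex (ModuleCat.{u} A) ℤ} (x f : A)
    (e : ∀ n : ℤ, K'.X n ≃ₗ[A] K.X n)
    (he : ∀ (n : ℤ) (k : K'.X n), e (n + 1) ((K'.d n (n + 1)).hom k) =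
      x • (K.d n (n + 1)).hom (e n k)) :
    ∃ E : ∀ n : ℤ, (mappingCone ((x * f) • 𝟙 K')).X n ≃ₗ[A] (mappingCone (f • 𝟙 K)).X n,
      ∀ (n : ℤ) (k : (mappingCone ((x * f) • 𝟙 K')).X n),
        E (n + 1) (((mappingCone ((x * f) • 𝟙 K')).d n (n + 1)).hom k) =
          x • ((mappingCone (f • 𝟙 K)).d n (n + 1)).hom (E n k) := by
  let φ' : K' ⟶ K' := (x * f) • 𝟙 K'
  let φ : K ⟶ K := f • 𝟙 K
  let E : ∀ n : ℤ, (mappingCone φ').X n ≃ₗ[A] (mappingCone φ).X n := fun n =>
    (coneEquiv φ' n (n + 1) rfl).trans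
      (((e (n + 1)).prodCongr (e n)).trans (coneEquiv φ n (n + 1) rfl).symm)
  have hE1 : ∀ n (k : (mappingCone φ').X n), fstL φ n (n + 1) rfl (E n k) =
      e (n + 1) (fstL φ' n (n + 1) rfl k) := by
    intro n k
    simp only [E, LinearEquiv.trans_apply]
    have := (coneEquiv φ n (n + 1) rfl).apply_symm_apply
      (((e (n + 1)).prodCongr (e n)) ((coneEquiv φ' n (n + 1) rfl) k))
    exact congrArg Prod.fst this
  have hE2 : ∀ n (k : (mappingCone φ').X n), sndL φ n (E n k) = e n (sndL φ' n k) := by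
    intro n k
    simp only [E, LinearEquiv.trans_apply]
    have := (coneEquiv φ n (n + 1) rfl).apply_symm_apply
      (((e (n + 1)).prodCongr (e n)) ((coneEquiv φ' n (n + 1) rfl) k))
    exact congrArg Prod.snd this
  refine ⟨E, ?_⟩
  intro n k
  apply ext' φ (n + 1) (n + 1 + 1) rfl
  · rw [hE1, fstL_d φ' n (n + 1) (n + 1 + 1) rfl rfl, map_neg, he, map_smul,
      fstL_d φ n (n + 1) (n + 1 + 1) rfl rfl, hE1, smul_neg]
  · rw [hE2, sndL_d φ' n (n + 1) rfl, map_add, he, map_smul, sndL_d φ n (n + 1) rfl, hE1, hE2,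
      smul_add]
    congr 1
    simp only [φ', φ, HomologicalComplex.smul_f_apply, HomologicalComplex.id_f,
      ModuleCat.hom_smul, ModuleCat.hom_id, LinearMap.smul_apply, LinearMap.id_coe, id_eq,
      map_smul, mul_smul]

theorem exists_scale_equiv (x : A) : ∀ (l : List A),
    ∃ e : ∀ n : ℤ, (Koszul.koszul A (l.map (fun f => x * f))).X n ≃ₗ[A] (Koszul.koszul A l).X n,
      ∀ (n : ℤ) (k : (Koszul.koszul A (l.map (fun f => x * f))).X n),
        e (n + 1) (((Koszul.koszul A (l.map (fun f => x * f))).d n (n + 1)).hom k) =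
          x • ((Koszul.koszul A l).d n (n + 1)).hom (e n k) := by
  intro l
  induction l with
  | nil =>
    refine ⟨fun n => LinearEquiv.refl A _, ?_⟩
    intro n k
    have hd : (Koszul.koszul A []).d n (n + 1) = 0 := by
      by_cases hn : n = 0
      · apply (HomologicalComplex.isZero_single_obj_X (ComplexShape.up ℤ) 0 (ModuleCat.of A A)
          (n + 1) (by omega)).eq_of_tgt
      · apply (HomologicalComplex.isZero_single_obj_X (ComplexShape.up ℤ) 0 (ModuleCat.of A A)
          n hn).eq_of_src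
    change ((Koszul.koszul A []).d n (n + 1)).hom k = x • ((Koszul.koszul A []).d n (n + 1)).hom k
    rw [hd]
    simp
  | cons f fs ih =>
    obtain ⟨e, he⟩ := ih
    exact cone_scale x f e he

theorem scaled_quot_equiv {K' K : CochainComplex (ModuleCat.{u} A) ℤ} (x : A)
    (hreg : ∀ n, IsSMulRegular (K.X n) x)
    (e : ∀ n : ℤ, K'.X n ≃ₗ[A] K.X n)
    (he : ∀ (n : ℤ) (k : K'.X n), e (n + 1) ((K'.d n (n + 1)).hom k) =
      x • (K.d n (n + 1)).hom (e n k)) (q : ℤ) :
    Nonempty ((↥(LinearMap.ker (K'.d q (q + 1)).hom) ⧸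
        Submodule.comap (LinearMap.ker (K'.d q (q + 1)).hom).subtype
          (LinearMap.range (K'.d (q - 1) q).hom)) ≃ₗ[A]
      (↥(LinearMap.ker (K.d q (q + 1)).hom) ⧸
        Submodule.comap (LinearMap.ker (K.d q (q + 1)).hom).subtype
          (Ideal.span {x} • LinearMap.range (K.d (q - 1) q).hom))) := by
  have he' : ∀ (i j : ℤ) (hij : i + 1 = j) (k : K'.X i), e j ((K'.d i j).hom k) =
      x • (K.d i j).hom (e i k) := by
    intro i j hij k
    subst hij
    exact he i k
  have hmap : (LinearMap.ker (K'.d q (q + 1)).hom).map (e q).toLinearMap =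
      LinearMap.ker (K.d q (q + 1)).hom := by
    ext z
    simp only [Submodule.mem_map, LinearMap.mem_ker, LinearEquiv.coe_coe]
    constructor
    · rintro ⟨y, hy, rfl⟩
      have h1 := he q y
      rw [hy, map_zero] at h1
      apply hreg (q + 1)
      change x • _ = x • (0 : K.X (q + 1))
      rw [smul_zero, ← h1]
    · intro hz
      refine ⟨(e q).symm z, ?_, (e q).apply_symm_apply z⟩
      apply (e (q + 1)).injective
      rw [he q, (e q).apply_symm_apply, hz, smul_zero, map_zero]
  let f : ↥(LinearMap.ker (K'.d q (q + 1)).hom) ≃ₗ[A] ↥(LinearMap.ker (K.d q (q + 1)).hom) :=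
    LinearEquiv.ofSubmodules (e q) _ _ hmap
  have hf : ∀ y, ((f y : ↥(LinearMap.ker (K.d q (q + 1)).hom)) : K.X q) = e q y.1 := fun y => rfl
  refine ⟨Submodule.Quotient.equiv _ _ f ?_⟩
  ext ⟨z, hz⟩
  simp only [Submodule.mem_map, Submodule.mem_comap, Submodule.subtype_apply,
    Submodule.ideal_span_singleton_smul, Submodule.mem_smul_pointwise_iff_exists,
    LinearMap.mem_range]
  constructor
  · rintro ⟨y, ⟨w, hw⟩, hy⟩
    refine ⟨(K.d (q - 1) q).hom (e (q - 1) w), ⟨_, rfl⟩, ?_⟩
    rw [← he' (q - 1) q (by omega) w, hw, ← hf y]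
    exact congrArg Subtype.val hy
  · rintro ⟨v, ⟨w, rfl⟩, hv⟩
    have hker : (K'.d (q - 1) q).hom ((e (q - 1)).symm w) ∈ LinearMap.ker (K'.d q (q + 1)).hom := by
      rw [LinearMap.mem_ker]
      have := K'.d_comp_d (q - 1) q (q + 1)
      have := congr($(this).hom ((e (q - 1)).symm w))
      exact this
    refine ⟨⟨_, hker⟩, ⟨(e (q - 1)).symm w, rfl⟩, ?_⟩
    apply Subtype.ext
    change e q ((K'.d (q - 1) q).hom ((e (q - 1)).symm w)) = z
    rw [he' (q - 1) q (by omega), (e (q - 1)).apply_symm_apply, hv]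

theorem homology_scale (l : List A) (x : A) (hx : x ∈ nonZeroDivisors A) (q : ℤ) :
    Nonempty ((Koszul.koszul A (l.map (fun f => x * f))).homology q ≅
      ModuleCat.of A (↥(LinearMap.ker ((Koszul.koszul A l).d q (q + 1)).hom) ⧸
        Submodule.comap (LinearMap.ker ((Koszul.koszul A l).d q (q + 1)).hom).subtype
          (Ideal.span {x} • LinearMap.range ((Koszul.koszul A l).d (q - 1) q).hom))) := by
  obtain ⟨e, he⟩ := exists_scale_equiv x l
  obtain ⟨E⟩ := scaled_quot_equiv x (isSMulRegular_X x hx l) e he q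
  exact ⟨homologyIsoKerQuot _ q ≪≫ E.toModuleIso⟩

theorem smul_id_f_apply (f : A) (K : CochainComplex (ModuleCat.{u} A) ℤ) (j : ℤ) (y : K.X j) :
    ((f • 𝟙 K : K ⟶ K).f j).hom y = f • y := by
  simp

theorem isZero_X_of_pos (l : List A) (i : ℤ) (hi : 0 < i) : IsZero ((Koszul.koszul A l).X i) := by
  induction l generalizing i with
  | nil => exact HomologicalComplex.isZero_single_obj_X (ComplexShape.up ℤ) 0 _ i (by omega)
  | cons f fs ih =>
    change IsZero ((mappingCone (f • 𝟙 (Koszul.koszul A fs))).X i)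
    rw [mappingCone.isZero_X_iff]
    exact ⟨ih (i + 1) (by omega), ih i hi⟩

/-- The top term of the Koszul complex is `A`, and the top coboundaries are the ideal generated by
the sequence. -/
theorem exists_top_equiv : ∀ (l : List A),
    ∃ ε : (Koszul.koszul A l).X 0 ≃ₗ[A] A, ∀ (b : ℤ) (_ : b + 1 = 0) (k : (Koszul.koszul A l).X 0),
      (∃ k', ((Koszul.koszul A l).d b 0).hom k' = k) ↔ ε k ∈ Ideal.ofList l := by
  intro l
  induction l with
  | nil =>
    have e : (Koszul.koszul A []).X 0 ≅ ModuleCat.of A A :=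
      HomologicalComplex.singleObjXSelf (ComplexShape.up ℤ) 0 (ModuleCat.of A A)
    refine ⟨e.toLinearEquiv, ?_⟩
    intro b hb k
    have hd : (Koszul.koszul A []).d b 0 = 0 := by
      apply (HomologicalComplex.isZero_single_obj_X (ComplexShape.up ℤ) 0 (ModuleCat.of A A)
        b (by omega)).eq_of_src
    rw [hd, Ideal.ofList_nil]
    simp only [ModuleCat.hom_zero, LinearMap.zero_apply, exists_const, Submodule.mem_bot]
    constructor
    · intro h
      rw [← h, map_zero]
    · intro h
      exact (e.toLinearEquiv.map_eq_zero_iff.mp h).symm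
  | cons f fs ih =>
    obtain ⟨ε, hε⟩ := ih
    let K := Koszul.koszul A fs
    let φ : K ⟶ K := f • 𝟙 K
    have hsub : Subsingleton (K.X 1) := ModuleCat.subsingleton_of_isZero (isZero_X_of_pos fs 1 one_pos)
    have hinj : Function.Injective (sndL φ 0) := by
      intro a b hab
      exact ext' φ 0 1 (by norm_num) a b (Subsingleton.elim _ _) hab
    have hsurj : Function.Surjective (sndL φ 0) := fun p => ⟨inrL φ 0 p, sndL_inrL φ 0 p⟩
    let ε' : (mappingCone φ).X 0 ≃ₗ[A] A := (LinearEquiv.ofBijective (sndL φ 0) ⟨hinj, hsurj⟩).trans ε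
    have hε' : ∀ k, ε' k = ε (sndL φ 0 k) := fun k => rfl
    have key : ∀ (b : ℤ) (_ : b + 1 = 0) (k : (mappingCone φ).X 0),
        (∃ k', ((mappingCone φ).d b 0).hom k' = k) ↔ ε' k ∈ Ideal.ofList (f :: fs) := by
      intro b hb k
      rw [Ideal.ofList_cons, hε', Submodule.mem_sup]
      constructor
      · rintro ⟨k', rfl⟩
        rw [sndL_d φ b 0 hb, map_add]
        refine ⟨_, ?_, _, (hε b hb _).mp ⟨sndL φ b k', rfl⟩, rfl⟩
        rw [Ideal.mem_span_singleton']
        refine ⟨ε (fstL φ b 0 hb k'), ?_⟩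
        rw [smul_id_f_apply, map_smul, smul_eq_mul, mul_comm]
      · rintro ⟨y, hy, z, hz, hyz⟩
        rw [Ideal.mem_span_singleton'] at hy
        obtain ⟨a, rfl⟩ := hy
        obtain ⟨w, hw⟩ := (hε b hb (ε.symm z)).mpr (by rwa [ε.apply_symm_apply])
        refine ⟨inlL φ b 0 hb (ε.symm a) + inrL φ b w, ?_⟩
        apply hinj
        have h1 : fstL φ b 0 hb (inlL φ b 0 hb (ε.symm a) + inrL φ b w) = ε.symm a := by
          rw [map_add, fstL_inlL, fstL_inrL, add_zero]
        have h2 : sndL φ b (inlL φ b 0 hb (ε.symm a) + inrL φ b w) = w := by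
          rw [map_add, sndL_inlL, sndL_inrL, zero_add]
        rw [sndL_d φ b 0 hb, h1, h2, hw]
        apply ε.injective
        rw [map_add, ε.apply_symm_apply, ← hyz]
        congr 1
        rw [smul_id_f_apply, map_smul, ε.apply_symm_apply, smul_eq_mul, mul_comm]
    exact ⟨ε', key⟩

theorem homology_zero_iso (l : List A) :
    Nonempty ((Koszul.koszul A l).homology 0 ≅ ModuleCat.of A (A ⧸ Ideal.ofList l)) := by
  obtain ⟨ε, hε⟩ := exists_top_equiv l
  let K := Koszul.koszul A l
  have hsub : Subsingleton (K.X (0 + 1)) :=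
    ModuleCat.subsingleton_of_isZero (isZero_X_of_pos l (0 + 1) (by norm_num))
  let g : ↥(LinearMap.ker (K.d 0 (0 + 1)).hom) →ₗ[A] (A ⧸ Ideal.ofList l) :=
    (Ideal.ofList l).mkQ ∘ₗ ε.toLinearMap ∘ₗ (LinearMap.ker (K.d 0 (0 + 1)).hom).subtype
  have hg : ∀ y, g y = (Ideal.ofList l).mkQ (ε y.1) := fun y => rfl
  have hsurj : Function.Surjective g := by
    intro z
    obtain ⟨a, rfl⟩ := (Ideal.ofList l).mkQ_surjective z
    refine ⟨⟨ε.symm a, ?_⟩, ?_⟩
    · rw [LinearMap.mem_ker]
      exact Subsingleton.elim _ _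
    · rw [hg, ε.apply_symm_apply]
  have hker : LinearMap.ker g = Submodule.comap (LinearMap.ker (K.d 0 (0 + 1)).hom).subtype
      (LinearMap.range (K.d (0 - 1) 0).hom) := by
    ext y
    rw [LinearMap.mem_ker, hg, Submodule.mkQ_apply, Submodule.Quotient.mk_eq_zero,
      ← hε (0 - 1) (by norm_num) y.1]
    rfl
  exact ⟨homologyIsoKerQuot K 0 ≪≫
    ((Submodule.quotEquivOfEq _ _ hker.symm).trans
      (LinearMap.quotKerEquivOfSurjective g hsurj)).toModuleIso⟩

theorem isZero_homology_of_isWeaklyRegular (l : List A)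
    (hl : RingTheory.Sequence.IsWeaklyRegular A l) (i : ℤ) (hi : i ≠ 0) :
    IsZero ((Koszul.koszul A l).homology i) := by
  rw [koszul_eq]
  exact isZero_koszulH_of_isWeaklyRegular l A hl i hi

theorem range_eq_ker_of_isZero_homology (K : CochainComplex (ModuleCat.{u} A) ℤ) (q : ℤ)
    (h : IsZero (K.homology q)) :
    LinearMap.range (K.d (q - 1) q).hom = LinearMap.ker (K.d q (q + 1)).hom := by
  rw [← K.exactAt_iff_isZero_homology, K.exactAt_iff' (q - 1) q (q + 1) (by simp) (by simp),
    ShortComplex.moduleCat_exact_iff_range_eq_ker] at h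
  exact h

theorem comap_subtype_smul {M : Type*} [AddCommGroup M] [Module A M] (I : Ideal A)
    (Z : Submodule A M) : Submodule.comap Z.subtype (I • Z) = I • (⊤ : Submodule A Z) := by
  apply Submodule.map_injective_of_injective Z.injective_subtype
  rw [Submodule.map_comap_subtype, Submodule.map_smul'', Submodule.map_subtype_top]
  exact inf_eq_right.mpr Submodule.smul_le_right

open TensorProduct in
theorem homology_scale_of_weaklyRegular (l : List A)
    (hl : RingTheory.Sequence.IsWeaklyRegular A l) (x : A) (hx : x ∈ nonZeroDivisors A) (q : ℤ)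
    (hq : q < 0) :
    Nonempty ((Koszul.koszul A (l.map (fun f => x * f))).homology q ≅
      ModuleCat.of A (↥(LinearMap.ker ((Koszul.koszul A l).d q (q + 1)).hom) ⊗[A]
        (A ⧸ Ideal.span {x}))) := by
  obtain ⟨i⟩ := homology_scale l x hx q
  have h1 := range_eq_ker_of_isZero_homology _ q
    (isZero_homology_of_isWeaklyRegular l hl q (by omega))
  have h2 : Submodule.comap (LinearMap.ker ((Koszul.koszul A l).d q (q + 1)).hom).subtype
      (Ideal.span {x} • LinearMap.range ((Koszul.koszul A l).d (q - 1) q).hom) =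
      Ideal.span {x} • (⊤ : Submodule A ↥(LinearMap.ker ((Koszul.koszul A l).d q (q + 1)).hom)) := by
    rw [h1, comap_subtype_smul]
  exact ⟨i ≪≫ ((Submodule.quotEquivOfEq _ _ h2).trans
    (TensorProduct.tensorQuotEquivQuotSMul _ (Ideal.span {x})).symm).toModuleIso⟩

end Groth.Agent.H79.KoszulCone
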