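import Mathlib
import Groth.Prelude.Def_Coh
import Groth.Agent.H8.QCohStalk
import Groth.Agent.H64.FinLenAss
import Groth.Agent.H9.IrredComp
import Groth.Agent.H13.QuasiFlat
import Groth.Agent.H29.DimL2

/-!
# Generic points of the support of a coherent module (helper79)

* `mem_support_stalk_iff`: for `F` quasi-coherent, a prime `q` of `O_{X,x}` lies in the support of
  the stalk `F_x` iff the generization of `x` corresponding to `q` lies in the support of `F`.
* `isFiniteLength_stalk_of_generic`, `eq_of_isFiniteLength_stalk`: `F_x` has finite length iff `x`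
  has no proper generization in the support (for `F` coherent on a locally Noetherian scheme).
* `locallyFinite_irreducibleComponents_subset`: irreducible components of any subset of a locally
  Noetherian scheme form a locally finite family.
-/

set_option autoImplicit false
universe u
open CategoryTheory AlgebraicGeometry TopologicalSpace Opposite

namespace Groth.Agent.H79.SuppGeneric

open Groth.Agent.H8

variable {X : Scheme.{u}}

/-- If the prime `q` of `O_{X,x}` is not in the support of the stalk `F_x`, the stalk of the
quasi-coherent module `F` at the corresponding generization of `x` is zero. -/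
theorem subsingleton_stalk_of_notMem_support (F : X.Modules) [F.IsQuasicoherent] (x : X)
    (q : PrimeSpectrum (X.presheaf.stalk x))
    (hq : q ∉ Module.support (X.presheaf.stalk x) (F.presheaf.stalk x)) :
    Subsingleton (F.presheaf.stalk (X.fromSpecStalk x q)) := by
  rw [Module.notMem_support_iff'] at hq
  set y := X.fromSpecStalk x q with hy
  have hyx : y ⤳ x := fromSpecStalk_specializes x q
  obtain ⟨_, ⟨V, hV, rfl⟩, hxV, -⟩ :=
    X.isBasis_affineOpens.exists_subset_of_mem_open (Set.mem_univ x) isOpen_univ
  have hyV : y ∈ V := hyx.mem_open V.2 hxV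
  -- germs at `y` of sections over `V` vanish
  have key : ∀ s : Γ(F, V), F.presheaf.germ V y hyV s = 0 := by
    intro s
    obtain ⟨r, hrq, hr⟩ := hq (F.presheaf.germ V x hxV s)
    let _ : Algebra Γ(X, V) (X.presheaf.stalk x) :=
      TopCat.Presheaf.algebra_section_stalk X.presheaf ⟨x, hxV⟩
    have hloc : IsLocalization.AtPrime (X.presheaf.stalk x) (hV.primeIdealOf ⟨x, hxV⟩).asIdeal :=
      hV.isLocalization_stalk ⟨x, hxV⟩
    obtain ⟨⟨b, c⟩, hbc⟩ := IsLocalization.surj (hV.primeIdealOf ⟨x, hxV⟩).asIdeal.primeCompl r
    have hbc' : r * X.presheaf.germ V x hxV c.1 = X.presheaf.germ V x hxV b := hbc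
    -- `germ b` is not in `q`
    have hcu : IsUnit (X.presheaf.germ V x hxV c.1) := by
      by_contra h
      exact c.2 ((mem_primeIdealOf_iff hV hxV c.1).mpr h)
    have hbq : X.presheaf.germ V x hxV b ∉ q.asIdeal := by
      rw [← hbc']
      intro h
      rcases q.2.mem_or_mem h with h | h
      · exact hrq h
      · exact q.2.ne_top (Ideal.eq_top_of_isUnit_mem _ h hcu)
    -- `b • s` has zero germ at `x`
    have hbs : F.presheaf.germ V x hxV (b • s) = 0 := by
      rw [germ_smul, ← hbc', mul_comm, mul_smul, hr, smul_zero]
    let _ := stalkModule F hxV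
    have hlm := isLocalizedModule_germₗ F hV hxV
    have hbs' : germₗ F hxV (b • s) = germₗ F hxV 0 := by
      rw [germₗ_apply, germₗ_apply, hbs, map_zero]
    obtain ⟨c', hc'⟩ := IsLocalizedModule.exists_of_eq
      (S := (hV.primeIdealOf ⟨x, hxV⟩).asIdeal.primeCompl) hbs'
    rw [smul_zero] at hc'
    -- `y ∈ D(c' b)`
    have hyb : y ∈ X.basicOpen b := (fromSpecStalk_mem_basicOpen_iff hxV b q).mpr hbq
    have hxc : x ∈ X.basicOpen c'.1 := (notMem_primeIdealOf_iff hV hxV c'.1).mp c'.2
    have hyc : y ∈ X.basicOpen c'.1 := hyx.mem_open (X.basicOpen c'.1).2 hxc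
    have hub : IsUnit (X.presheaf.germ V y hyV b) := (X.mem_basicOpen b y hyV).mp hyb
    have huc : IsUnit (X.presheaf.germ V y hyV c'.1) := (X.mem_basicOpen c'.1 y hyV).mp hyc
    have h0 : X.presheaf.germ V y hyV c'.1 • X.presheaf.germ V y hyV b •
        F.presheaf.germ V y hyV s = 0 := by
      rw [← germ_smul, ← germ_smul]
      have : c'.1 • b • s = 0 := hc'
      rw [this, map_zero]
    obtain ⟨u1, hu1⟩ := huc
    obtain ⟨u2, hu2⟩ := hub
    rw [← hu1, ← hu2] at h0
    have := congrArg (fun z => (↑u2⁻¹ : X.presheaf.stalk y) • (↑u1⁻¹ : X.presheaf.stalk y) • z) h0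
    simpa [smul_smul] using this
  -- every element of the stalk at `y` is a unit multiple of such a germ
  let _ := stalkModule F hyV
  have hlm := isLocalizedModule_germₗ F hV hyV
  refine ⟨fun a b => ?_⟩
  have hz : ∀ z : F.presheaf.stalk y, z = 0 := by
    intro z
    obtain ⟨⟨s, t⟩, hst⟩ := IsLocalizedModule.surj
      (hV.primeIdealOf ⟨y, hyV⟩).asIdeal.primeCompl (germₗ F hyV) z
    rw [germₗ_apply, key s] at hst
    have hinj := ((Module.End.isUnit_iff _).mp
      (IsLocalizedModule.map_units (germₗ F hyV) t)).1
    apply hinj
    rw [map_zero]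
    exact hst
  rw [hz a, hz b]

/-- For `F` quasi-coherent, a prime `q` of `O_{X,x}` lies in the support of the stalk `F_x` iff
the generization of `x` corresponding to `q` lies in the support of `F`. -/
theorem mem_support_stalk_iff (F : X.Modules) [F.IsQuasicoherent] (x : X)
    (q : PrimeSpectrum (X.presheaf.stalk x)) :
    q ∈ Module.support (X.presheaf.stalk x) (F.presheaf.stalk x) ↔
      Nontrivial (F.presheaf.stalk (X.fromSpecStalk x q)) := by
  constructor
  · intro hq
    rw [Module.mem_support_iff_exists_annihilator] at hq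
    obtain ⟨m, hm⟩ := hq
    rw [← not_subsingleton_iff_nontrivial]
    refine not_subsingleton_stalk_of_annihilator_le F x m q (fun a ha => hm ?_)
    rw [Submodule.mem_annihilator_span_singleton]
    exact ha
  · intro h
    by_contra hq
    have := subsingleton_stalk_of_notMem_support F x q hq
    exact not_subsingleton _ this


/-- A prime `q` of `O_{X,x}` whose generization is `x` itself is the closed point. -/
theorem eq_closedPoint_of_fromSpecStalk_eq (x : X) (q : PrimeSpectrum (X.presheaf.stalk x))
    (h : X.fromSpecStalk x q = x) : q = IsLocalRing.closedPoint (X.presheaf.stalk x) := by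
  apply (X.fromSpecStalk x).isEmbedding.injective
  rw [h, Scheme.fromSpecStalk_closedPoint]

/-- If `x` has no proper generization in the support of the coherent module `F` on a locally
Noetherian scheme, the stalk `F_x` has finite length over `O_{X,x}`. -/
theorem isFiniteLength_stalk_of_generic [IsLocallyNoetherian X] (F : X.Modules)
    (hF : Coh.IsCoh F) (x : X)
    (hgen : ∀ y : X, Nontrivial (F.presheaf.stalk y) → y ⤳ x → y = x) :
    IsFiniteLength (X.presheaf.stalk x) (F.presheaf.stalk x) := by
  have : F.IsQuasicoherent := hF.1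
  have : Module.Finite (X.presheaf.stalk x) (F.presheaf.stalk x) :=
    Groth.Agent.H13.finite_stalk_of_isCoh F hF x
  apply Groth.Agent.H64.isFiniteLength_of_support_subset_maximal
  intro p hp
  have h1 := (mem_support_stalk_iff F x p).mp hp
  have h2 := hgen _ h1 (fromSpecStalk_specializes x p)
  rw [eq_closedPoint_of_fromSpecStalk_eq x p h2]
  exact IsLocalRing.maximalIdeal.isMaximal _

/-- If the stalk `F_x` of the coherent module `F` on a locally Noetherian scheme has finite length,
then `x` has no proper generization in the support of `F`. -/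
theorem eq_of_isFiniteLength_stalk [IsLocallyNoetherian X] (F : X.Modules)
    (hF : Coh.IsCoh F) (x : X)
    (hfl : IsFiniteLength (X.presheaf.stalk x) (F.presheaf.stalk x))
    (y : X) (hy : Nontrivial (F.presheaf.stalk y)) (hyx : y ⤳ x) : y = x := by
  have : F.IsQuasicoherent := hF.1
  have : Module.Finite (X.presheaf.stalk x) (F.presheaf.stalk x) :=
    Groth.Agent.H13.finite_stalk_of_isCoh F hF x
  have hy' : y ∈ Set.range (X.fromSpecStalk x) := by
    rw [Scheme.range_fromSpecStalk]
    exact hyx
  obtain ⟨q, rfl⟩ := hy'
  have hq : (q : PrimeSpectrum (X.presheaf.stalk x)) ∈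
      Module.support (X.presheaf.stalk x) (F.presheaf.stalk x) :=
    (mem_support_stalk_iff F x q).mpr hy
  have hmax := Groth.Agent.H29.DimL.isMaximal_of_mem_support_of_isFiniteLength _ hfl q hq
  have hq' : (q : PrimeSpectrum (X.presheaf.stalk x)) =
      IsLocalRing.closedPoint (X.presheaf.stalk x) := by
    apply PrimeSpectrum.ext
    exact IsLocalRing.eq_maximalIdeal hmax
  have : X.fromSpecStalk x q = X.fromSpecStalk x (IsLocalRing.closedPoint (X.presheaf.stalk x)) :=
    congrArg (X.fromSpecStalk x) hq'
  rw [this, Scheme.fromSpecStalk_closedPoint]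

/-- The irreducible components of any subset of a locally Noetherian scheme form a locally finite
family of subsets. -/
theorem locallyFinite_irreducibleComponents_subset [IsLocallyNoetherian X] (S : Set X) :
    LocallyFinite (fun Z : irreducibleComponents S => ((↑) '' (Z : Set S) : Set X)) := by
  intro x
  obtain ⟨_, ⟨U, hU, rfl⟩, hxU, -⟩ :=
    X.isBasis_affineOpens.exists_subset_of_mem_open (Set.mem_univ x) isOpen_univ
  have hN : NoetherianSpace ((U : Set X) : Type u) := by
    have : IsNoetherianRing Γ(X, U) := IsLocallyNoetherian.component_noetherian ⟨U, hU⟩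
    exact noetherianSpace_of_isAffineOpen U hU
  refine ⟨(U : Set X), U.isOpen.mem_nhds hxU, ?_⟩
  let O : Set S := (Subtype.val : S → X) ⁻¹' (U : Set X)
  have hO : IsOpen O := U.isOpen.preimage continuous_subtype_val
  let i : O → (U : Set X) := fun z => ⟨z.1.1, z.2⟩
  have hi : Topology.IsInducing i := by
    have hc : Continuous i := by
      apply Continuous.subtype_mk
      exact continuous_subtype_val.comp continuous_subtype_val
    have h2 : Topology.IsInducing ((Subtype.val : S → X) ∘ (Subtype.val : O → S)) :=
      Topology.IsInducing.subtypeVal.comp Topology.IsInducing.subtypeVal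
    exact Topology.IsInducing.of_comp hc continuous_subtype_val h2
  have : NoetherianSpace O := hi.noetherianSpace
  refine (Groth.Agent.H9.finite_irreducibleComponents_meeting O hO).subset ?_
  rintro Z ⟨a, ⟨z, hzZ, rfl⟩, haU⟩
  exact ⟨z, hzZ, haU⟩

end Groth.Agent.H79.SuppGeneric
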