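import Mathlib
import Groth.Prelude.Def_FDesc
import Groth.Agent.H79.SuppGeneric
import Groth.Agent.H8.AssPoints

/-!
# Maximal associated points are the generic points of the support (helper79)
-/

set_option autoImplicit false
universe u
open CategoryTheory AlgebraicGeometry TopologicalSpace Opposite

namespace Groth.Agent.H79.SuppGeneric

open Groth.Agent.H8

variable {X : Scheme.{u}}

/-- An associated point lies in the support. -/
theorem nontrivial_stalk_of_isAssPoint (F : X.Modules) (x : X) (hx : Curv2.IsAssPoint F x) :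
    Nontrivial (F.presheaf.stalk x) := by
  rw [isAssPoint_iff_isWeakAssPoint] at hx
  obtain ⟨m, hm⟩ := hx
  rw [← not_subsingleton_iff_nontrivial]
  intro hsub
  have hker : LinearMap.ker (LinearMap.toSpanSingleton (X.presheaf.stalk x)
      (F.presheaf.stalk x) m) = ⊤ := by
    rw [eq_top_iff]
    intro a _
    rw [LinearMap.mem_ker]
    exact Subsingleton.elim _ _
  rw [hker, Ideal.radical_top] at hm
  exact (IsLocalRing.maximalIdeal.isMaximal (X.presheaf.stalk x)).ne_top hm.symm

/-- A point of the support with no proper generization in the support is associated. -/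
theorem isAssPoint_of_generic (F : X.Modules) [F.IsQuasicoherent] (x : X)
    (hx : Nontrivial (F.presheaf.stalk x))
    (hgen : ∀ y : X, Nontrivial (F.presheaf.stalk y) → y ⤳ x → y = x) :
    Curv2.IsAssPoint F x := by
  rw [isAssPoint_iff_isWeakAssPoint]
  refine isWeakAssPoint_of_maximal_in_support F x (not_subsingleton_iff_nontrivial.mpr hx) ?_
  intro y hy hyx
  exact hgen y (not_subsingleton_iff_nontrivial.mp hy) hyx

/-- Every point of the support of a coherent module on a locally Noetherian scheme is a
specialization of a point of the support which has no proper generization in the support. -/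
theorem exists_generic_specializes (F : X.Modules) (hF : Coh.IsCoh F) (y : X)
    (hy : Nontrivial (F.presheaf.stalk y)) :
    ∃ y' : X, Nontrivial (F.presheaf.stalk y') ∧ y' ⤳ y ∧
      ∀ z : X, Nontrivial (F.presheaf.stalk z) → z ⤳ y' → z = y' := by
  have : F.IsQuasicoherent := hF.1
  have : Module.Finite (X.presheaf.stalk y) (F.presheaf.stalk y) :=
    Groth.Agent.H13.finite_stalk_of_isCoh F hF y
  have hne : Module.annihilator (X.presheaf.stalk y) (F.presheaf.stalk y) ≠ ⊤ := by
    intro h
    rw [Module.annihilator_eq_top_iff] at h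
    exact not_subsingleton _ h
  obtain ⟨m, hm, hle⟩ := Ideal.exists_le_maximal _ hne
  obtain ⟨q, hq, -⟩ := Ideal.exists_minimalPrimes_le hle
  have hqp : q.IsPrime := hq.1.1
  let Q : PrimeSpectrum (X.presheaf.stalk y) := ⟨q, hqp⟩
  have hQ : Q ∈ Module.support (X.presheaf.stalk y) (F.presheaf.stalk y) := by
    rw [Module.mem_support_iff_of_finite]
    exact hq.1.2
  refine ⟨X.fromSpecStalk y Q, (mem_support_stalk_iff F y Q).mp hQ,
    fromSpecStalk_specializes y Q, ?_⟩
  have key : ∀ q'' : PrimeSpectrum (X.presheaf.stalk y),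
      Nontrivial (F.presheaf.stalk (X.fromSpecStalk y q'')) →
      X.fromSpecStalk y q'' ⤳ X.fromSpecStalk y Q →
      X.fromSpecStalk y q'' = X.fromSpecStalk y Q := by
    intro q'' hz hzy'
    have hq'' : q'' ∈ Module.support (X.presheaf.stalk y) (F.presheaf.stalk y) :=
      (mem_support_stalk_iff F y q'').mpr hz
    rw [Module.mem_support_iff_of_finite] at hq''
    have hsp : q'' ⤳ Q :=
      ((X.fromSpecStalk y).isEmbedding.isInducing.specializes_iff).mp hzy'
    have hle' : q''.asIdeal ≤ q := (PrimeSpectrum.le_iff_specializes _ Q).mpr hsp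
    have hge : q ≤ q''.asIdeal := hq.2 ⟨q''.2, hq''⟩ hle'
    have : q'' = Q := PrimeSpectrum.ext (le_antisymm hle' hge)
    rw [this]
  intro z hz hzy'
  have hzy : z ⤳ y := hzy'.trans (fromSpecStalk_specializes y Q)
  have hz' : z ∈ Set.range (X.fromSpecStalk y) := by
    rw [Scheme.range_fromSpecStalk]
    exact hzy
  obtain ⟨q0, rfl⟩ := hz'
  exact key q0 hz hzy'

/-- **Maximal associated points are the generic points of the support** (coherent modules on
locally Noetherian schemes). -/
theorem maximal_ass_iff_generic [IsLocallyNoetherian X] (F : X.Modules) (hF : Coh.IsCoh F)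
    (x : X) :
    (x ∈ AssSch.Ass F ∧ ∀ y ∈ AssSch.Ass F, y ⤳ x → y = x) ↔
      (Nontrivial (F.presheaf.stalk x) ∧
        ∀ y : X, Nontrivial (F.presheaf.stalk y) → y ⤳ x → y = x) := by
  have : F.IsQuasicoherent := hF.1
  constructor
  · rintro ⟨hx, hmax⟩
    refine ⟨nontrivial_stalk_of_isAssPoint F x hx, ?_⟩
    intro y hy hyx
    obtain ⟨y', hy'1, hy'2, hy'3⟩ := exists_generic_specializes F hF y hy
    have hass : y' ∈ AssSch.Ass F := isAssPoint_of_generic F y' hy'1 hy'3
    have h1 : y' = x := hmax y' hass (hy'2.trans hyx)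
    rw [h1] at hy'2
    exact (hyx.antisymm hy'2).eq
  · rintro ⟨hx, hgen⟩
    refine ⟨isAssPoint_of_generic F x hx hgen, ?_⟩
    intro y hy hyx
    exact hgen y (nontrivial_stalk_of_isAssPoint F y hy) hyx

end Groth.Agent.H79.SuppGeneric
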