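import Groth.Prelude.Def_CartDual2
import Mathlib

namespace Groth.Agent.H79

universe u v w

section
variable (R : Type u) [CommRing R] (A : Type v) [Ring A] [Bialgebra R A]
  [Module.Finite R A] [Module.Projective R A]

theorem dual_separates {a a' : A} (h : ∀ x : CartDual.D R A, x a = x a') : a = a' := by
  apply (Module.evalEquiv R A).injective
  apply LinearMap.ext
  intro y
  exact h (WithConv.toConv y)

theorem cartEval_bijective : Function.Bijective (CartDual.eval R A) := by
  constructor
  · intro a a' h
    apply dual_separates R A
    intro x
    have := congrArg (fun ξ : CartDual.D R (CartDual.D R A) => ξ x) h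
    simpa using this
  · intro ξ
    let η : Module.Dual R (Module.Dual R A) :=
      ξ.ofConv ∘ₗ (CartDual.toDual R A).symm.toLinearMap
    obtain ⟨b, hb⟩ := (Module.evalEquiv R A).surjective η
    refine ⟨b, ?_⟩
    apply WithConv.ext
    apply LinearMap.ext
    intro x
    change CartDual.eval R A b x = ξ x
    rw [CartDual.eval_apply]
    have := LinearMap.congr_fun hb (CartDual.toDual R A x)
    simp only [Module.evalEquiv_apply, Module.Dual.eval_apply] at this
    rw [CartDual.coe_apply]
    change (CartDual.toDual R A x) b = _
    rw [this]
    simp [η]

/-- The evaluation map as a bialgebra equivalence. -/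
noncomputable def cartEvalEquiv :=
  BialgEquiv.ofBijective (R := R) (A := A) (B := CartDual.D R (CartDual.D R A))
    (CartDual.eval R A) (cartEval_bijective R A)

theorem cartEvalEquiv_apply (a : A) (x : CartDual.D R A) : cartEvalEquiv R A a x = x a := rfl

end

end Groth.Agent.H79

namespace Groth.Agent.H79

universe u v w

section
variable (R : Type u) [CommRing R] (A : Type v) (B : Type w)
  [CommRing A] [HopfAlgebra R A] [Module.Finite R A] [Module.Projective R A]
  [CommRing B] [HopfAlgebra R B] [Module.Finite R B] [Module.Projective R B]

theorem transpose_injective :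
    Function.Injective (fun f : A →ₐc[R] B => CartDual.transpose R f) := by
  intro f g h
  apply DFunLike.ext
  intro a
  apply dual_separates R B
  intro x
  have h1 := congrArg (fun F : CartDual.D R B →ₐc[R] CartDual.D R A => F x a) h
  simpa using h1

/-- The preimage of a bialgebra map between duals. -/
noncomputable def untranspose (h : CartDual.D R B →ₐc[R] CartDual.D R A) : A →ₐc[R] B :=
  (((cartEvalEquiv R B).symm : CartDual.D R (CartDual.D R B) →ₐc[R] B).comp
    (CartDual.transpose R h)).comp (CartDual.eval R A)

theorem untranspose_spec (h : CartDual.D R B →ₐc[R] CartDual.D R A) (a : A) (x : CartDual.D R B) :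
    x (untranspose R A B h a) = h x a := by
  have h1 : cartEvalEquiv R B (untranspose R A B h a) =
      CartDual.transpose R h (CartDual.eval R A a) := by
    change cartEvalEquiv R B ((cartEvalEquiv R B).symm _) = _
    rw [BialgEquiv.apply_symm_apply]
    rfl
  have h2 := congrArg (fun ξ : CartDual.D R (CartDual.D R B) => ξ x) h1
  simp only [cartEvalEquiv_apply, CartDual.transpose_apply, CartDual.eval_apply] at h2
  exact h2

theorem transpose_surjective :
    Function.Surjective (fun f : A →ₐc[R] B => CartDual.transpose R f) := by
  intro h
  refine ⟨untranspose R A B h, ?_⟩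
  apply DFunLike.ext
  intro x
  apply WithConv.ext
  apply LinearMap.ext
  intro a
  change CartDual.transpose R (untranspose R A B h) x a = h x a
  rw [CartDual.transpose_apply, untranspose_spec]

end

end Groth.Agent.H79
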