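import Mathlib
import Groth.Prelude.Def_Cyc
import Groth.Agent.H5.Stalk.PullbackStalk
import Groth.Agent.H13.LengthFlat

/-!
# Lengths of stalks of pullbacks along flat morphisms (helper79)

* `pullbackStalkEquiv f x F : (f^*F)_x ≃ₗ O_{X,x} ⊗_{O_{Y,f x}} F_{f x}`.
* `length_pullback_stalk`: for `f` flat and `F_{f x}` of finite length,
  `length (f^*F)_x = length F_{f x} * length (O_{X,x} / 𝔪_{f x} O_{X,x})`.
-/

set_option autoImplicit false
universe u
open CategoryTheory AlgebraicGeometry TopologicalSpace Opposite TensorProduct

namespace Groth.Agent.H79.PullStalkLength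

open Groth.Agent.H5.Stalk

variable {X Y : Scheme.{u}} (f : X ⟶ Y) (x : X)

set_option backward.isDefEq.respectTransparency false in
/-- The stalk of a pullback as a tensor product. -/
noncomputable def pullbackStalkEquiv (F : Y.Modules) :
    letI := (f.stalkMap x).hom.toAlgebra
    ((Scheme.Modules.pullback f).obj F).presheaf.stalk x ≃ₗ[X.presheaf.stalk x]
      (X.presheaf.stalk x ⊗[Y.presheaf.stalk (f x)] F.presheaf.stalk (f x)) :=
  letI := (f.stalkMap x).hom.toAlgebra
  ((pullbackStalkIso f x).app F).toLinearEquiv

/-- If the stalk `F_{f x}` vanishes then so does `(f^* F)_x`. -/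
theorem subsingleton_pullback_stalk (F : Y.Modules)
    (h : Subsingleton (F.presheaf.stalk (f x))) :
    Subsingleton (((Scheme.Modules.pullback f).obj F).presheaf.stalk x) := by
  let _ := (f.stalkMap x).hom.toAlgebra
  have : Subsingleton (X.presheaf.stalk x ⊗[Y.presheaf.stalk (f x)] F.presheaf.stalk (f x)) := by
    refine ⟨fun a b => ?_⟩
    suffices hz : ∀ c : X.presheaf.stalk x ⊗[Y.presheaf.stalk (f x)] F.presheaf.stalk (f x),
        c = 0 by rw [hz a, hz b]
    intro c
    induction c using TensorProduct.induction_on with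
    | zero => rfl
    | tmul b m => rw [Subsingleton.elim m 0, TensorProduct.tmul_zero]
    | add a b ha hb => rw [ha, hb, add_zero]
  exact (pullbackStalkEquiv f x F).toEquiv.subsingleton

/-- For `f` flat and `F_{f x}` of finite length, the length of `(f^* F)_x` is the length of
`F_{f x}` times the length of the local ring of the fibre at `x`. -/
theorem length_pullback_stalk [Flat f] (F : Y.Modules)
    (hfl : IsFiniteLength (Y.presheaf.stalk (f x)) (F.presheaf.stalk (f x))) :
    Module.length (X.presheaf.stalk x)
        (((Scheme.Modules.pullback f).obj F).presheaf.stalk x) =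
      Module.length (Y.presheaf.stalk (f x)) (F.presheaf.stalk (f x)) *
        Module.length (X.presheaf.stalk x)
          (X.presheaf.stalk x ⧸ Ideal.map (f.stalkMap x).hom
            (IsLocalRing.maximalIdeal (Y.presheaf.stalk (f x)))) := by
  let _ := (f.stalkMap x).hom.toAlgebra
  have hflat : Module.Flat (Y.presheaf.stalk (f x)) (X.presheaf.stalk x) := Flat.stalkMap f x
  rw [(pullbackStalkEquiv f x F).length_eq,
    Groth.Agent.H13.length_lTensor_of_isFiniteLength (X.presheaf.stalk x)
      (F.presheaf.stalk (f x)) hfl]
  congr 1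
  have h : ((IsLocalRing.maximalIdeal (Y.presheaf.stalk (f x))).map
      (algebraMap (Y.presheaf.stalk (f x)) (X.presheaf.stalk x)) •
        (⊤ : Submodule (X.presheaf.stalk x) (X.presheaf.stalk x))) =
      Ideal.map (f.stalkMap x).hom (IsLocalRing.maximalIdeal (Y.presheaf.stalk (f x))) := by
    rw [smul_eq_mul, Ideal.mul_top]
    rfl
  exact (Submodule.quotEquivOfEq _ _ h).length_eq

end Groth.Agent.H79.PullStalkLength
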