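import Mathlib
import Groth.Prelude.Def_CurvBase
import Groth.Agent.H11.FtDim

/-!
# Affine charts of schemes locally of finite type over a field (helper79)

For `X` over `Spec k`, an affine open `U`, `R = Γ(X, U)` and a point `x ∈ U` with prime `p`:
`R` is a finite type `k`-algebra, `κ(x) ≃ₐ[k] κ(p)`, and specialization in `X` is the order on
primes.
-/

set_option autoImplicit false
universe u
open CategoryTheory AlgebraicGeometry TopologicalSpace

namespace Groth.Agent.H79.SchChart

attribute [local instance] Curv2.stalkAlgebra Curv2.resAlgebra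

variable (k : Type u) [Field k] (X : Scheme.{u}) [X.Over (Spec (CommRingCat.of k))]

/-- the structure map `k → Γ(X, U)` -/
noncomputable def toSec (U : X.Opens) : k →+* Γ(X, U) :=
  (X.presheaf.map (homOfLE (le_top : U ≤ ⊤)).op).hom.comp
    (Coh.toGlobal (X ↘ Spec (CommRingCat.of k)))

/-- the `k`-algebra structure on sections -/
noncomputable abbrev secAlgebra (U : X.Opens) : Algebra k Γ(X, U) := (toSec k X U).toAlgebra

attribute [local instance] secAlgebra

theorem toSec_eq (U : X.Opens) :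
    toSec k X U = ((X ↘ Spec (CommRingCat.of k)).appLE ⊤ U le_top).hom.comp
      (Scheme.ΓSpecIso (CommRingCat.of k)).inv.hom := by
  unfold toSec Coh.toGlobal
  rw [← RingHom.comp_assoc]
  congr 1

variable {X}

theorem finiteType_sec [LocallyOfFiniteType (X ↘ Spec (CommRingCat.of k))] {U : X.Opens}
    (hU : IsAffineOpen U) : Algebra.FiniteType k Γ(X, U) := by
  have h1 : ((X ↘ Spec (CommRingCat.of k)).appLE ⊤ U le_top).hom.FiniteType :=
    (X ↘ Spec (CommRingCat.of k)).finiteType_appLE (isAffineOpen_top _) hU le_top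
  have h2 : (Scheme.ΓSpecIso (CommRingCat.of k)).inv.hom.FiniteType := by
    apply RingHom.FiniteType.of_surjective
    exact (ConcreteCategory.bijective_of_isIso (Scheme.ΓSpecIso (CommRingCat.of k)).inv).2
  have h3 : (toSec k X U).FiniteType := by
    rw [toSec_eq]
    exact h1.comp h2
  exact h3

section point

variable {k}
variable {U : X.Opens} (hU : IsAffineOpen U) (x : X) (hx : x ∈ U)

/-- the stalk as the localization of the chart ring -/
noncomputable def stalkRingEquiv :
    Localization.AtPrime (hU.primeIdealOf ⟨x, hx⟩).asIdeal ≃+* X.presheaf.stalk x :=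
  letI := X.presheaf.algebra_section_stalk ⟨x, hx⟩
  haveI := hU.isLocalization_stalk ⟨x, hx⟩
  (IsLocalization.algEquiv (hU.primeIdealOf ⟨x, hx⟩).asIdeal.primeCompl
    (Localization.AtPrime (hU.primeIdealOf ⟨x, hx⟩).asIdeal) (X.presheaf.stalk x)).toRingEquiv

theorem stalkRingEquiv_algebraMap (r : Γ(X, U)) :
    stalkRingEquiv hU x hx (algebraMap Γ(X, U)
      (Localization.AtPrime (hU.primeIdealOf ⟨x, hx⟩).asIdeal) r) =
      (X.presheaf.germ U x hx).hom r := by
  let _ := X.presheaf.algebra_section_stalk ⟨x, hx⟩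
  have := hU.isLocalization_stalk ⟨x, hx⟩
  exact (IsLocalization.algEquiv (hU.primeIdealOf ⟨x, hx⟩).asIdeal.primeCompl
    (Localization.AtPrime (hU.primeIdealOf ⟨x, hx⟩).asIdeal) (X.presheaf.stalk x)).commutes r

/-- the residue field of the chart prime is the residue field of the point -/
noncomputable def resRingEquiv :
    (hU.primeIdealOf ⟨x, hx⟩).asIdeal.ResidueField ≃+* X.residueField x :=
  IsLocalRing.ResidueField.mapEquiv (stalkRingEquiv hU x hx)

theorem resRingEquiv_residue
    (y : Localization.AtPrime (hU.primeIdealOf ⟨x, hx⟩).asIdeal) :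
    resRingEquiv hU x hx (IsLocalRing.residue _ y) =
      (X.residue x).hom (stalkRingEquiv hU x hx y) := rfl

theorem resRingEquiv_algebraMap (c : k) :
    resRingEquiv hU x hx (algebraMap k (hU.primeIdealOf ⟨x, hx⟩).asIdeal.ResidueField c) =
      algebraMap k (X.residueField x) c := by
  have h1 : algebraMap k (hU.primeIdealOf ⟨x, hx⟩).asIdeal.ResidueField c =
      IsLocalRing.residue _ (algebraMap Γ(X, U)
        (Localization.AtPrime (hU.primeIdealOf ⟨x, hx⟩).asIdeal) (toSec k X U c)) := rfl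
  rw [h1, resRingEquiv_residue, stalkRingEquiv_algebraMap]
  exact congrArg (X.residue x).hom
    (congr($(X.presheaf.germ_res (homOfLE (le_top : U ≤ ⊤)) x hx).hom
      (Coh.toGlobal (X ↘ Spec (CommRingCat.of k)) c)))

/-- `κ(p) ≃ₐ[k] κ(x)` -/
noncomputable def resAlgEquiv :
    (hU.primeIdealOf ⟨x, hx⟩).asIdeal.ResidueField ≃ₐ[k] X.residueField x :=
  AlgEquiv.ofRingEquiv (f := resRingEquiv hU x hx) (resRingEquiv_algebraMap hU x hx)

theorem trdeg_eq :
    Algebra.trdeg k (hU.primeIdealOf ⟨x, hx⟩).asIdeal.ResidueField =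
      Algebra.trdeg k (X.residueField x) :=
  (resAlgEquiv (k := k) hU x hx).trdeg_eq

end point

section order

variable {k}
variable {U : X.Opens} (hU : IsAffineOpen U)

theorem specializes_iff {x y : X} (hx : x ∈ U) (hy : y ∈ U) :
    x ⤳ y ↔ hU.primeIdealOf ⟨x, hx⟩ ≤ hU.primeIdealOf ⟨y, hy⟩ := by
  rw [PrimeSpectrum.le_iff_specializes]
  have h := hU.fromSpec.isOpenEmbedding.isInducing.specializes_iff
    (x := hU.primeIdealOf ⟨x, hx⟩) (y := hU.primeIdealOf ⟨y, hy⟩)
  rw [hU.fromSpec_primeIdealOf, hU.fromSpec_primeIdealOf] at h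
  exact h

theorem mem_of_specializes {x y : X} (h : x ⤳ y) (hy : y ∈ U) : x ∈ U :=
  h.mem_open U.2 hy

theorem coheight_pt [LocallyOfFiniteType (X ↘ Spec (CommRingCat.of k))] (x : X) (hx : x ∈ U)
    (n : ℕ) (hn : Algebra.trdeg k (X.residueField x) = n) :
    Order.coheight (hU.primeIdealOf ⟨x, hx⟩) = (n : ℕ∞) := by
  have := finiteType_sec k hU
  have h := Groth.Agent.H11.FtDim.coheight_eq_trdeg (k := k)
    (hU.primeIdealOf ⟨x, hx⟩).asIdeal n (by rw [trdeg_eq hU x hx, hn])
  exact h

/-- the transcendence degree of a residue field is finite -/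
theorem exists_trdeg_eq [LocallyOfFiniteType (X ↘ Spec (CommRingCat.of k))] (x : X) :
    ∃ n : ℕ, Algebra.trdeg k (X.residueField x) = n := by
  obtain ⟨_, ⟨U, hU, rfl⟩, hxU, -⟩ :=
    X.isBasis_affineOpens.exists_subset_of_mem_open (Set.mem_univ x) isOpen_univ
  have hU' : IsAffineOpen U := hU
  have hx : x ∈ U := hxU
  have := finiteType_sec k hU'
  obtain ⟨n, hn1, -, -⟩ := Groth.Agent.H14.ringKrullDim_eq_trdeg_of_finiteType_domain k
    (Γ(X, U) ⧸ (hU'.primeIdealOf ⟨x, hx⟩).asIdeal)
  refine ⟨n, ?_⟩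
  rw [← trdeg_eq hU' x hx, ← hn1]
  exact ((FractionRing.algEquiv (Γ(X, U) ⧸ (hU'.primeIdealOf ⟨x, hx⟩).asIdeal)
    (hU'.primeIdealOf ⟨x, hx⟩).asIdeal.ResidueField).restrictScalars k).trdeg_eq.symm

end order

end Groth.Agent.H79.SchChart
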