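import Mathlib
import Groth.Agent.H79.SchChart

/-!
# Dimension theory of schemes locally of finite type over a field (helper79)
-/

set_option autoImplicit false
universe u
open CategoryTheory AlgebraicGeometry TopologicalSpace

namespace Groth.Agent.H79.SchDim

open Groth.Agent.H79.SchChart

attribute [local instance] Curv2.stalkAlgebra Curv2.resAlgebra Groth.Agent.H79.SchChart.secAlgebra

section top

/-- the dimension of the closure of a point is its height in the specialization preorder -/
theorem topologicalKrullDim_closure_eq_height (X : Scheme.{u}) (x : X) :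
    topologicalKrullDim ↥(closure ({x} : Set X)) = ((Order.height x : ℕ∞) : WithBot ℕ∞) := by
  have hqs : QuasiSober ↥(closure ({x} : Set X)) :=
    isClosed_closure.isClosedEmbedding_subtypeVal.quasiSober
  have h1 : topologicalKrullDim ↥(closure ({x} : Set X)) =
      @Order.krullDim ↥(closure ({x} : Set X)) (specializationPreorder _) :=
    @Order.krullDim_eq_of_orderIso _ _ _ (specializationPreorder _)
      (irreducibleSetEquivPoints (α := ↥(closure ({x} : Set X))))
  rw [h1, Order.height_eq_krullDim_Iic]
  let e : @OrderIso ↥(closure ({x} : Set X)) ↥(Set.Iic x)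
      (specializationPreorder _).toLE _ :=
    { toFun := fun z => ⟨z.1, (specializes_iff_mem_closure.mpr z.2 : x ⤳ z.1)⟩
      invFun := fun z => ⟨z.1, specializes_iff_mem_closure.mp (z.2 : x ⤳ z.1)⟩
      left_inv := fun z => rfl
      right_inv := fun z => rfl
      map_rel_iff' := by
        intro a b
        exact (subtype_specializes_iff b a).symm }
  exact @Order.krullDim_eq_of_orderIso _ _ (specializationPreorder _) _ e

end top

section chart

variable {X : Scheme.{u}} {U : X.Opens} (hU : IsAffineOpen U)

/-- the chart as an order isomorphism: the specialization preorder on the points of `U` is the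
reversed inclusion order on primes -/
noncomputable def chartOrderIso : {z : X // z ∈ U} ≃o (PrimeSpectrum Γ(X, U))ᵒᵈ where
  toFun z := OrderDual.toDual (hU.primeIdealOf ⟨z.1, z.2⟩)
  invFun q := ⟨hU.fromSpec (OrderDual.ofDual q), Groth.Agent.H24.fromSpec_mem hU _⟩
  left_inv z := Subtype.ext (hU.fromSpec_primeIdealOf ⟨z.1, z.2⟩)
  right_inv q := congrArg OrderDual.toDual
    (Groth.Agent.H24.primeIdealOf_fromSpec hU (OrderDual.ofDual q))
  map_rel_iff' := by
    intro a b
    exact (specializes_iff hU b.2 a.2).symm

theorem height_subtype (z : X) (hz : z ∈ U) :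
    Order.height (⟨z, hz⟩ : {z : X // z ∈ U}) = Order.coheight (hU.primeIdealOf ⟨z, hz⟩) := by
  rw [← Order.height_orderIso (chartOrderIso hU) ⟨z, hz⟩]
  rfl

end chart

section ring

open Groth.Agent.H11.FtDim

variable (k : Type u) [Field k] {S : Type u} [CommRing S] [Algebra k S] [Algebra.FiniteType k S]

include k in
/-- in a finite type algebra over a field, the coheight drops by exactly one along a covering
pair of primes -/
theorem coheight_eq_add_one_of_covBy (p p' : PrimeSpectrum S) (hlt : p < p')
    (hcov : ∀ q : PrimeSpectrum S, p ≤ q → q ≤ p' → q = p ∨ q = p') :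
    Order.coheight p = Order.coheight p' + 1 := by
  have : p.asIdeal.IsPrime := p.2
  have hpp' : p.asIdeal ≤ p'.asIdeal := hlt.le
  set P : PrimeSpectrum (S ⧸ p.asIdeal) := mapMk p.asIdeal p' hpp' with hP
  have hbotP : (⟨⊥, Ideal.isPrime_bot⟩ : PrimeSpectrum (S ⧸ p.asIdeal)) < P := by
    have h0 : mapMk p.asIdeal p le_rfl = (⟨⊥, Ideal.isPrime_bot⟩ : PrimeSpectrum (S ⧸ p.asIdeal)) := by
      apply PrimeSpectrum.ext
      show p.asIdeal.map (Ideal.Quotient.mk p.asIdeal) = ⊥
      exact Ideal.map_quotient_self p.asIdeal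
    rw [← h0]
    exact mapMk_lt_mapMk p.asIdeal le_rfl hpp' hlt
  have hle : Order.height P ≤ ((1 : ℕ) : ℕ∞) := by
    rw [Order.height_le_coe_iff]
    intro Q hQ
    have hq1 : p ≤ PrimeSpectrum.comap (Ideal.Quotient.mk p.asIdeal) Q := le_comap_mk p.asIdeal Q
    have hq2 : PrimeSpectrum.comap (Ideal.Quotient.mk p.asIdeal) Q < p' := by
      have := (Groth.Agent.H24.strictMono_comap_mk p.asIdeal) hQ
      rwa [hP, comap_mapMk] at this
    have hq : PrimeSpectrum.comap (Ideal.Quotient.mk p.asIdeal) Q = p := by
      rcases hcov _ hq1 hq2.le with h | h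
      · exact h
      · exact absurd h hq2.ne
    have hQbot : Q = (⟨⊥, Ideal.isPrime_bot⟩ : PrimeSpectrum (S ⧸ p.asIdeal)) := by
      rw [← mapMk_comap p.asIdeal Q]
      apply PrimeSpectrum.ext
      show (PrimeSpectrum.comap (Ideal.Quotient.mk p.asIdeal) Q).asIdeal.map
        (Ideal.Quotient.mk p.asIdeal) = ⊥
      rw [hq]
      exact Ideal.map_quotient_self p.asIdeal
    have hmin : IsMin Q := by
      rw [hQbot]
      intro Q' _
      exact bot_le (a := Q'.asIdeal)
    rw [Order.height_eq_zero.mpr hmin]
    norm_num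
  have hge : ((1 : ℕ) : ℕ∞) ≤ Order.height P := by
    by_contra hcon
    have h0 : Order.height P = 0 := by
      have : Order.height P < 1 := by simpa using hcon
      exact Order.lt_one_iff.mp this
    exact (Order.height_eq_zero.mp h0).not_lt hbotP
  have hh : Order.height P = 1 := le_antisymm (by simpa using hle) (by simpa using hge)
  have hdim := height_add_coheight_eq k (S ⧸ p.asIdeal) P
  rw [hh, hP, coheight_mapMk, ← Groth.Agent.H24.coheight_eq_ringKrullDim_quotient p] at hdim
  have := WithBot.coe_injective hdim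
  rw [← this, add_comm]

end ring

section field

variable (k : Type u) [Field k] {X : Scheme.{u}} [X.Over (Spec (CommRingCat.of k))]
  [LocallyOfFiniteType (X ↘ Spec (CommRingCat.of k))]

/-- the height of a point in the specialization preorder is the transcendence degree of its
residue field -/
theorem height_eq (x : X) (n : ℕ) (hn : Algebra.trdeg k (X.residueField x) = n) :
    Order.height x = (n : ℕ∞) := by
  apply le_antisymm
  · rw [Order.height_le_iff']
    intro p hlast
    obtain ⟨_, ⟨V, hV, rfl⟩, hzV, -⟩ :=
      X.isBasis_affineOpens.exists_subset_of_mem_open (Set.mem_univ p.head) isOpen_univ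
    have hV' : IsAffineOpen V := hV
    have hmem : ∀ i, p i ∈ V := fun i =>
      mem_of_specializes (U := V) (Scheme.le_iff_specializes.mp (p.head_le i)) hzV
    let q : LTSeries {z : X // z ∈ V} :=
      LTSeries.mk p.length (fun i => ⟨p i, hmem i⟩) (fun i j hij => p.strictMono hij)
    have hql : q.last = ⟨x, hlast ▸ hmem (Fin.last _)⟩ := Subtype.ext hlast
    have h1 : (q.length : ℕ∞) ≤ Order.height q.last := Order.length_le_height_last
    rw [hql, height_subtype hV', coheight_pt hV' x _ n hn] at h1
    exact h1
  · obtain ⟨_, ⟨U, hU, rfl⟩, hxU, -⟩ :=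
      X.isBasis_affineOpens.exists_subset_of_mem_open (Set.mem_univ x) isOpen_univ
    have hU' : IsAffineOpen U := hU
    have hx : x ∈ U := hxU
    rw [← coheight_pt hU' x hx n hn, ← height_subtype hU' x hx]
    exact Order.height_le_height_apply_of_strictMono Subtype.val (fun a b h => h) ⟨x, hx⟩

/-- the dimension of the closure of a point is the transcendence degree of its residue field -/
theorem topologicalKrullDim_closure_eq (x : X) (n : ℕ)
    (hn : Algebra.trdeg k (X.residueField x) = n) :
    topologicalKrullDim ↥(closure ({x} : Set X)) = (n : WithBot ℕ∞) := by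
  rw [topologicalKrullDim_closure_eq_height, height_eq k x n hn]
  rfl

end field

section opens

variable (k : Type u) [Field k] {X : Scheme.{u}} [X.Over (Spec (CommRingCat.of k))]
  [LocallyOfFiniteType (X ↘ Spec (CommRingCat.of k))]

/-- the dimension of an open subspace is the Krull dimension of its points for the
specialization preorder of `X` -/
theorem topologicalKrullDim_opens_eq (X : Scheme.{u}) (U : X.Opens) :
    topologicalKrullDim ↥U = Order.krullDim {z : X // z ∈ U} := by
  have hqs : QuasiSober ↥U := U.isOpenEmbedding'.quasiSober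
  have h1 : topologicalKrullDim ↥U = @Order.krullDim ↥U (specializationPreorder _) :=
    @Order.krullDim_eq_of_orderIso _ _ _ (specializationPreorder _)
      (irreducibleSetEquivPoints (α := ↥U))
  rw [h1]
  let e : @OrderIso ↥U {z : X // z ∈ U} (specializationPreorder _).toLE _ :=
    { toFun := fun z => ⟨z.1, z.2⟩
      invFun := fun z => ⟨z.1, z.2⟩
      left_inv := fun z => rfl
      right_inv := fun z => rfl
      map_rel_iff' := by
        intro a b
        exact (subtype_specializes_iff b a).symm }
  exact @Order.krullDim_eq_of_orderIso _ _ (specializationPreorder _) _ e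

/-- a point of transcendence degree `n` lying in an open `U` forces `n ≤ dim U` -/
theorem le_topologicalKrullDim_opens (U : X.Opens) (x : X) (hx : x ∈ U) (n : ℕ)
    (hn : Algebra.trdeg k (X.residueField x) = n) :
    (n : WithBot ℕ∞) ≤ topologicalKrullDim ↥U := by
  obtain ⟨_, ⟨W, hW, rfl⟩, hxW, hWU⟩ :=
    X.isBasis_affineOpens.exists_subset_of_mem_open hx U.2
  have hW' : IsAffineOpen W := hW
  have hxW' : x ∈ W := hxW
  have h1 : Order.height (⟨x, hxW'⟩ : {z : X // z ∈ W}) = (n : ℕ∞) := by
    rw [height_subtype hW', coheight_pt hW' x hxW' n hn]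
  have h2 : Order.height (⟨x, hxW'⟩ : {z : X // z ∈ W}) ≤
      Order.height (⟨x, hx⟩ : {z : X // z ∈ U}) :=
    Order.height_le_height_apply_of_strictMono
      (fun z : {z : X // z ∈ W} => (⟨z.1, hWU z.2⟩ : {z : X // z ∈ U})) (fun a b h => h)
      ⟨x, hxW'⟩
  rw [topologicalKrullDim_opens_eq]
  refine le_trans ?_ (Order.height_le_krullDim (⟨x, hx⟩ : {z : X // z ∈ U}))
  rw [h1] at h2
  exact_mod_cast h2

end opens

section covby

variable (k : Type u) [Field k] {X : Scheme.{u}} [X.Over (Spec (CommRingCat.of k))]
  [LocallyOfFiniteType (X ↘ Spec (CommRingCat.of k))]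

theorem primeIdealOf_congr {U : X.Opens} (hU : IsAffineOpen U) {y z : X} (h : y = z) (hy : y ∈ U)
    (hz : z ∈ U) : hU.primeIdealOf ⟨y, hy⟩ = hU.primeIdealOf ⟨z, hz⟩ := by
  subst h
  rfl

/-- the transcendence degree of the residue field drops by exactly one along an immediate
specialization -/
theorem trdeg_eq_add_one_of_covBy (x x' : X) (hne : x ≠ x') (hsp : x ⤳ x')
    (himm : ∀ y : X, x ⤳ y → y ⤳ x' → y = x ∨ y = x')
    (n : ℕ) (hn : Algebra.trdeg k (X.residueField x') = n) :
    Algebra.trdeg k (X.residueField x) = (n + 1 : ℕ) := by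
  obtain ⟨m, hm⟩ := exists_trdeg_eq (k := k) x
  obtain ⟨_, ⟨U, hU, rfl⟩, hx'U, -⟩ :=
    X.isBasis_affineOpens.exists_subset_of_mem_open (Set.mem_univ x') isOpen_univ
  have hU' : IsAffineOpen U := hU
  have hx' : x' ∈ U := hx'U
  have hx : x ∈ U := mem_of_specializes hsp hx'
  have := finiteType_sec k hU'
  have hlt : hU'.primeIdealOf ⟨x, hx⟩ < hU'.primeIdealOf ⟨x', hx'⟩ := by
    refine lt_of_le_of_ne ((specializes_iff hU' hx hx').mp hsp) ?_
    intro h
    exact hne (Groth.Agent.H24.primeIdealOf_injective hU' hx hx' h)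
  have hcov : ∀ q : PrimeSpectrum Γ(X, U), hU'.primeIdealOf ⟨x, hx⟩ ≤ q →
      q ≤ hU'.primeIdealOf ⟨x', hx'⟩ →
      q = hU'.primeIdealOf ⟨x, hx⟩ ∨ q = hU'.primeIdealOf ⟨x', hx'⟩ := by
    intro q h1 h2
    have hy : hU'.fromSpec q ∈ U := Groth.Agent.H24.fromSpec_mem hU' q
    have hq : hU'.primeIdealOf ⟨hU'.fromSpec q, hy⟩ = q :=
      Groth.Agent.H24.primeIdealOf_fromSpec hU' q
    have hs1 : x ⤳ hU'.fromSpec q := by
      rw [specializes_iff hU' hx hy, hq]
      exact h1
    have hs2 : hU'.fromSpec q ⤳ x' := by
      rw [specializes_iff hU' hy hx', hq]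
      exact h2
    rcases himm _ hs1 hs2 with h | h
    · left
      rw [← hq]
      exact primeIdealOf_congr hU' h hy hx
    · right
      rw [← hq]
      exact primeIdealOf_congr hU' h hy hx'
  have h := coheight_eq_add_one_of_covBy k _ _ hlt hcov
  rw [coheight_pt hU' x hx m hm, coheight_pt hU' x' hx' n hn] at h
  have hmn : m = n + 1 := by exact_mod_cast h
  rw [hm, hmn]

end covby

end Groth.Agent.H79.SchDim
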