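import Groth.Prelude.Def_BMCoh3
import Groth.Agent.H79.SchDim

set_option autoImplicit false
universe u
open CategoryTheory AlgebraicGeometry Opposite CategoryTheory.Limits

namespace Groth.Agent.H79.BMCohDim

open BMCoh

section order

/-- the dimension of a scheme is the Krull dimension of its specialization preorder -/
theorem tkd_eq (X : Scheme.{u}) : topologicalKrullDim ↥X = Order.krullDim ↥X :=
  Order.krullDim_eq_of_orderIso (irreducibleSetEquivPoints (α := ↥X))

theorem natDim_mono {a b : WithBot ℕ∞} (h : a ≤ b) (hb : b < ⊤) :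
    ((a.unbotD 0).toNat) ≤ ((b.unbotD 0).toNat) := by
  induction a with
  | bot => simp
  | coe a =>
    induction b with
    | bot => simp at h
    | coe b =>
      simp only [WithBot.unbotD_coe]
      have hb' : b ≠ ⊤ := by
        rintro rfl
        exact (lt_irrefl _ hb)
      exact ENat.toNat_le_toNat (WithBot.coe_le_coe.mp h) hb'

theorem height_eq_pdim (X : Scheme.{u}) (x : X) : WeilCoh.pdim X x = (Order.height x).toNat := by
  unfold WeilCoh.pdim WeilCoh.natDim
  rw [Groth.Agent.H79.SchDim.topologicalKrullDim_closure_eq_height]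
  simp

theorem height_lt_top (X : Scheme.{u}) (hfin : topologicalKrullDim ↥X < ⊤) (x : X) :
    Order.height x < ⊤ := by
  have h1 := Order.height_le_krullDim x
  rw [← tkd_eq] at h1
  have h2 := lt_of_le_of_lt h1 hfin
  by_contra hcon
  rw [not_lt, top_le_iff] at hcon
  rw [hcon] at h2
  exact lt_irrefl _ h2

theorem height_eq_cast (X : Scheme.{u}) (hfin : topologicalKrullDim ↥X < ⊤) (x : X) :
    Order.height x = (WeilCoh.pdim X x : ℕ∞) := by
  rw [height_eq_pdim, ENat.natCast_toNat (height_lt_top X hfin x).ne]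

theorem krullDim_eq_cast (X : Scheme.{u}) (hfin : topologicalKrullDim ↥X < ⊤) [Nonempty ↥X] :
    Order.krullDim ↥X = ((WeilCoh.dim X : ℕ) : WithBot ℕ∞) := by
  unfold WeilCoh.dim WeilCoh.natDim
  rw [tkd_eq] at hfin ⊢
  have hne : Order.krullDim ↥X ≠ ⊥ := Order.krullDim_ne_bot_iff.mpr inferInstance
  induction h : Order.krullDim ↥X with
  | bot => exact absurd h hne
  | coe a =>
    rw [h] at hfin
    simp only [WithBot.unbotD_coe]
    have ha : a ≠ ⊤ := by
      rintro rfl
      exact lt_irrefl _ hfin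
    rw [← ENat.natCast_toNat ha]
    rfl

theorem pdim_le_dim (X : Scheme.{u}) (hfin : topologicalKrullDim ↥X < ⊤) (x : X) :
    WeilCoh.pdim X x ≤ WeilCoh.dim X := by
  have : Nonempty ↥X := ⟨x⟩
  have h1 := Order.height_le_krullDim x
  rw [height_eq_cast X hfin x, krullDim_eq_cast X hfin] at h1
  exact_mod_cast h1

theorem pdim_lt_of_lt (X : Scheme.{u}) (hfin : topologicalKrullDim ↥X < ⊤) {x y : X} (h : y < x) :
    WeilCoh.pdim X y < WeilCoh.pdim X x := by
  have h1 := Order.height_strictMono h (height_lt_top X hfin y)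
  rw [height_eq_cast X hfin x, height_eq_cast X hfin y] at h1
  exact_mod_cast h1

end order

section objs

variable {V : ObjectProperty Scheme.{u}} [IsConstructible V]

theorem finDim (X : Obj V) : topologicalKrullDim ↥X.scheme < ⊤ := IsConstructible.finiteDim X.mem

theorem range_ptSubι (X : Obj V) (x : X.scheme) :
    Set.range (X.ptSubι x) = closure ({x} : Set X.scheme) := by
  rw [Scheme.IdealSheafData.range_subschemeι, Scheme.IdealSheafData.coe_support_vanishingIdeal]
  rfl

/-- the reduced closure of a point, as a space, is the closure of the point -/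
noncomputable def ptSubHomeo (X : Obj V) (x : X.scheme) :
    ↥(X.ptSub x).scheme ≃ₜ ↥(closure ({x} : Set X.scheme)) :=
  ((X.ptSubι x).isClosedEmbedding.isEmbedding.toHomeomorph).trans
    (Homeomorph.setCongr (range_ptSubι X x))

theorem ptSubHomeo_apply (X : Obj V) (x : X.scheme) (z : ↥(X.ptSub x).scheme) :
    ((ptSubHomeo X x z : ↥(closure ({x} : Set X.scheme))) : X.scheme) = X.ptSubι x z := rfl

theorem dim_ptSub (X : Obj V) (x : X.scheme) :
    WeilCoh.dim (X.ptSub x).scheme = WeilCoh.pdim X.scheme x := by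
  unfold WeilCoh.dim WeilCoh.pdim WeilCoh.natDim
  rw [IsHomeomorph.topologicalKrullDim_eq _ (ptSubHomeo X x).isHomeomorph]

instance irreducibleSpace_ptSub (X : Obj V) (x : X.scheme) :
    IrreducibleSpace ↥(X.ptSub x).scheme := by
  have h1 : IrreducibleSpace ↥(closure ({x} : Set X.scheme)) :=
    Subtype.irreducibleSpace (isIrreducible_singleton.closure)
  exact Function.Surjective.irreducibleSpace (ptSubHomeo X x).symm.continuous
    (ptSubHomeo X x).symm.surjective

theorem dim_opens (X : Scheme.{u}) (U : X.Opens) :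
    WeilCoh.dim (U : Scheme.{u}) = ((Order.krullDim {z : X // z ∈ U}).unbotD 0).toNat := by
  unfold WeilCoh.dim WeilCoh.natDim
  rw [← Groth.Agent.H79.SchDim.topologicalKrullDim_opens_eq X U]
  rfl

theorem ptSubι_le_iff (X : Obj V) (x : X.scheme) (a b : ↥(X.ptSub x).scheme) :
    X.ptSubι x a ≤ X.ptSubι x b ↔ a ≤ b := by
  rw [Scheme.le_iff_specializes, Scheme.le_iff_specializes]
  exact (X.ptSubι x).isClosedEmbedding.isEmbedding.isInducing.specializes_iff

theorem krullDim_opens_lt_top (X : Obj V) (U : X.scheme.Opens) :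
    Order.krullDim {z : X.scheme // z ∈ U} < ⊤ := by
  refine lt_of_le_of_lt (Order.krullDim_le_of_strictMono (fun z => z.1) (fun a b h => h)) ?_
  rw [← tkd_eq]
  exact finDim X

theorem dim_opens_le (X : Obj V) (U : X.scheme.Opens) :
    WeilCoh.dim (U : Scheme.{u}) ≤ WeilCoh.dim X.scheme := by
  rw [dim_opens]
  unfold WeilCoh.dim WeilCoh.natDim
  refine natDim_mono ?_ (finDim X)
  rw [tkd_eq]
  exact Order.krullDim_le_of_strictMono (fun z => z.1) (fun a b h => h)

/-- an open containing the points of codimension `0` has the dimension of the whole object -/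
theorem dim_eq_of_containsF0 (X : Obj V) (U : X.scheme.Opens)
    (hU : ∀ y : X.scheme, WeilCoh.codim X.scheme y = 0 → y ∈ U) :
    WeilCoh.dim (U : Scheme.{u}) = WeilCoh.dim X.scheme := by
  rcases isEmpty_or_nonempty ↥X.scheme with hE | hN
  · rw [dim_opens]
    unfold WeilCoh.dim WeilCoh.natDim
    rw [tkd_eq]
    have h1 : Order.krullDim {z : X.scheme // z ∈ U} = ⊥ := Order.krullDim_eq_bot
    have h2 : Order.krullDim ↥X.scheme = ⊥ := Order.krullDim_eq_bot
    rw [h1, h2]
  · apply le_antisymm (dim_opens_le X U)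
    have hk := krullDim_eq_cast X.scheme (finDim X)
    obtain ⟨l, hl⟩ := Order.le_krullDim_iff.mp (le_of_eq hk.symm)
    have h1 : (l.length : ℕ∞) ≤ Order.height l.last := Order.length_le_height_last
    rw [hl, height_eq_cast X.scheme (finDim X)] at h1
    have h2 : WeilCoh.dim X.scheme ≤ WeilCoh.pdim X.scheme l.last := by exact_mod_cast h1
    have h3 : WeilCoh.codim X.scheme l.last = 0 := by
      unfold WeilCoh.codim
      omega
    have ht : l.last ∈ U := hU _ h3
    set t := l.last with htdef
    have hmem : t ∈ Set.range (X.ptSubι t) := by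
      rw [range_ptSubι]
      exact subset_closure rfl
    obtain ⟨z, hz⟩ := hmem
    let W : (X.ptSub t).scheme.Opens := (X.ptSubι t) ⁻¹ᵁ U
    have hzW : z ∈ W := by
      change X.ptSubι t z ∈ U
      rw [hz]
      exact ht
    have h4 := IsConstructible.dim_open (X.ptSub t).mem inferInstance W ⟨z, hzW⟩
    rw [dim_ptSub] at h4
    have h5 : WeilCoh.dim (W : Scheme.{u}) ≤ WeilCoh.dim (U : Scheme.{u}) := by
      rw [dim_opens, dim_opens]
      refine natDim_mono ?_ (krullDim_opens_lt_top X U)
      refine Order.krullDim_le_of_strictMono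
        (fun z : {z : (X.ptSub t).scheme // z ∈ W} => (⟨X.ptSubι t z.1, z.2⟩ :
          {y : X.scheme // y ∈ U})) ?_
      apply strictMono_of_le_iff_le
      intro a b
      exact (ptSubι_le_iff X t a.1 b.1).symm
    omega

end objs

section pushWitness

variable {V : ObjectProperty Scheme.{u}} [IsConstructible V]

/-- the generic point of the reduced closure of `x` -/
theorem exists_generic (X : Obj V) (x : X.scheme) :
    ∃ z₀ : ↥(X.ptSub x).scheme, X.ptSubι x z₀ = x ∧ ∀ w : ↥(X.ptSub x).scheme, z₀ ⤳ w := by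
  have hmem : x ∈ Set.range (X.ptSubι x) := by
    rw [range_ptSubι]
    exact subset_closure rfl
  obtain ⟨z₀, hz₀⟩ := hmem
  refine ⟨z₀, hz₀, fun w => ?_⟩
  rw [← (X.ptSubι x).isClosedEmbedding.isEmbedding.isInducing.specializes_iff, hz₀,
    specializes_iff_mem_closure, ← range_ptSubι]
  exact ⟨w, rfl⟩

theorem generic_mem_of_nonempty (X : Obj V) (x : X.scheme) (W : (X.ptSub x).scheme.Opens)
    (hW : (W : Set (X.ptSub x).scheme).Nonempty) (z₀ : ↥(X.ptSub x).scheme)
    (hz₀ : ∀ w : ↥(X.ptSub x).scheme, z₀ ⤳ w) : z₀ ∈ W := by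
  obtain ⟨w, hw⟩ := hW
  exact (hz₀ w).mem_open W.isOpen hw

/-- a point of the closure of `x` other than `x` has larger codimension -/
theorem codim_lt_of_mem_closure (X : Obj V) (x y : X.scheme)
    (hy : y ∈ closure ({x} : Set X.scheme)) (hne : y ≠ x) :
    WeilCoh.codim X.scheme x < WeilCoh.codim X.scheme y := by
  have hsp : x ⤳ y := specializes_iff_mem_closure.mpr hy
  have hlt : y < x := by
    apply lt_of_le_not_ge
    · exact (Scheme.le_iff_specializes).mpr hsp
    · intro h
      have h' : y ⤳ x := (Scheme.le_iff_specializes).mp h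
      exact hne (h'.antisymm hsp).eq
  have h1 := pdim_lt_of_lt X.scheme (finDim X) hlt
  have h2 := pdim_le_dim X.scheme (finDim X) x
  unfold WeilCoh.codim
  omega

/-- the open complement of the part of the closure of `x` outside `W` -/
def complOpen (X : Obj V) (x : X.scheme) (W : (X.ptSub x).scheme.Opens) : X.scheme.Opens :=
  ⟨((X.ptSubι x) '' ((W : Set (X.ptSub x).scheme)ᶜ))ᶜ,
    ((X.ptSubι x).isClosedEmbedding.isClosedMap _ W.isOpen.isClosed_compl).isOpen_compl⟩

theorem mem_complOpen_iff (X : Obj V) (x : X.scheme) (W : (X.ptSub x).scheme.Opens)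
    (y : X.scheme) : y ∈ complOpen X x W ↔ ∀ z : ↥(X.ptSub x).scheme, X.ptSubι x z = y → z ∈ W := by
  change y ∈ ((X.ptSubι x) '' ((W : Set (X.ptSub x).scheme)ᶜ))ᶜ ↔ _
  rw [Set.mem_compl_iff, Set.mem_image]
  constructor
  · intro h z hz
    by_contra hzW
    exact h ⟨z, hzW, hz⟩
  · rintro h ⟨z, hzW, hz⟩
    exact hzW (h z hz)

theorem preimage_complOpen (X : Obj V) (x : X.scheme) (W : (X.ptSub x).scheme.Opens) :
    W = (X.ptSubι x) ⁻¹ᵁ (complOpen X x W) := by
  ext z
  change z ∈ W ↔ X.ptSubι x z ∈ complOpen X x W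
  rw [mem_complOpen_iff]
  constructor
  · intro hz z' hz'
    have := (X.ptSubι x).isClosedEmbedding.isEmbedding.injective hz'
    rw [this]
    exact hz
  · intro h
    exact h z rfl

theorem complOpen_containsFj (X : Obj V) (x : X.scheme)
    (W : (X.ptSub x).scheme.Opens) (hW : (W : Set (X.ptSub x).scheme).Nonempty)
    (y : X.scheme) (hy : WeilCoh.codim X.scheme y ≤ WeilCoh.codim X.scheme x) :
    y ∈ complOpen X x W := by
  rw [mem_complOpen_iff]
  intro z hz
  by_contra hzW
  obtain ⟨z₀, hz₀, hgen⟩ := exists_generic X x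
  have hz₀W := generic_mem_of_nonempty X x W hW z₀ hgen
  have hne : y ≠ x := by
    intro hyx
    have hzz : X.ptSubι x z = X.ptSubι x z₀ := by rw [hz, hz₀, hyx]
    have := (X.ptSubι x).isClosedEmbedding.isEmbedding.injective hzz
    rw [this] at hzW
    exact hzW hz₀W
  have hycl : y ∈ closure ({x} : Set X.scheme) := by
    rw [← range_ptSubι]
    exact ⟨z, hz⟩
  have := codim_lt_of_mem_closure X x y hycl hne
  omega

theorem dim_complOpen (X : Obj V) (x : X.scheme)
    (W : (X.ptSub x).scheme.Opens) (hW : (W : Set (X.ptSub x).scheme).Nonempty) :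
    WeilCoh.dim (complOpen X x W : Scheme.{u}) = WeilCoh.dim X.scheme := by
  apply dim_eq_of_containsF0
  intro y hy
  exact complOpen_containsFj X x W hW y (by omega)

theorem relCodim_eq (X : Obj V) (j : ℕ) (x : X.cdPt j) (W : ptIdx X x.1)
    (U : X.scheme.Opens) (hU : WeilCoh.dim (U : Scheme.{u}) = WeilCoh.dim X.scheme) :
    relCodim ((X.ptSub x.1).res W.1).scheme (X.res U).scheme = (j : ℤ) := by
  unfold relCodim
  have h1 : WeilCoh.dim ((X.ptSub x.1).res W.1).scheme = WeilCoh.pdim X.scheme x.1 := by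
    rw [← dim_ptSub]
    exact W.2.2
  have h2 : WeilCoh.dim (X.res U).scheme = WeilCoh.dim X.scheme := hU
  have h3 := pdim_le_dim X.scheme (finDim X) x.1
  have h4 : WeilCoh.dim X.scheme - WeilCoh.pdim X.scheme x.1 = j := x.2
  rw [h1, h2]
  omega

/-- every member of the index family of a point of codimension `j` is closed in a member of the
index family of `F_j` -/
theorem exists_push_witness (X : Obj V) (j : ℕ) (x : X.cdPt j) (W : ptIdx X x.1) :
    ∃ (U : Idx X (ContainsFj X j))
      (f : ((X.ptSub x.1).res W.1).scheme ⟶ (X.res U.1).scheme),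
      IsProper f ∧ f ≫ U.1.ι = W.1.ι ≫ X.ptSubι x.1 ∧
      relCodim ((X.ptSub x.1).res W.1).scheme (X.res U.1).scheme = (j : ℤ) := by
  have hdim := dim_complOpen X x.1 W.1 W.2.1
  have hcont : ContainsFj X j (complOpen X x.1 W.1) := by
    intro y hy
    apply complOpen_containsFj X x.1 W.1 W.2.1 y
    have : WeilCoh.codim X.scheme x.1 = j := x.2
    omega
  refine ⟨⟨complOpen X x.1 W.1, hcont, hdim⟩,
    ((X.ptSub x.1).scheme.isoOfEq (preimage_complOpen X x.1 W.1)).hom ≫
      (X.ptSubι x.1 ∣_ complOpen X x.1 W.1), ?_, ?_, ?_⟩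
  · infer_instance
  · rw [Category.assoc, morphismRestrict_ι, ← Category.assoc, Scheme.isoOfEq_hom_ι]
  · exact relCodim_eq X j x W _ hdim

end pushWitness

section colim

variable {V : ObjectProperty Scheme.{u}} [IsConstructible V] {R : Type u} [CommRing R]
  {A : Coefs R} (T : PreTheory V R A)

/-- the canonical maps into an open-system colimit are jointly epimorphic, one coefficient
module at a time -/
theorem ocolim_hom_ext (X : Obj V) (P : X.scheme.Opens → Prop) (i n : ℤ) (M : A.Cat)
    {N : ModuleCat.{u} R} (a b : (T.ocolim X P i n).obj M ⟶ N)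
    (h : ∀ U : Idx X P, (T.ocolimι X P i n U).app M ≫ a = (T.ocolimι X P i n U).app M ≫ b) :
    a = b := by
  have hc := isColimitOfPreserves ((evaluation A.Cat (ModuleCat.{u} R)).obj M)
    (colimit.isColimit ((idxDiag X P).op ⋙ T.H i n))
  exact hc.hom_ext (fun U => h U.unop)

/-- the canonical maps are compatible with restriction to a smaller member of the family -/
theorem ocolimι_le (X : Obj V) (P : X.scheme.Opens → Prop) (i n : ℤ) (M : A.Cat)
    (U U' : Idx X P) (h : U ≤ U') :
    (T.ocolimι X P i n U').app M =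
      T.pull ((idxDiag X P).map (homOfLE h)) M i n ≫ (T.ocolimι X P i n U).app M := by
  have := colimit.w ((idxDiag X P).op ⋙ T.H i n) (homOfLE h).op
  have h2 := congrArg (fun φ => φ.app M) this
  simp only [NatTrans.comp_app] at h2
  exact h2.symm

end colim

end Groth.Agent.H79.BMCohDim
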