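import Mathlib
import Groth.Prelude.Def_Coh
import Groth.Agent.H5.Stalk.PushClosed

/-!
# The stalk of the structure module, and stalks of pushforwards along closed immersions (helper79)

* `structStalkEquiv X x : O_{X,x} ≃ₗ[O_{X,x}] (structureModule X)_x`.
* `length_push_stalk`: for a closed immersion `i : Z ⟶ X`, the length over `O_{X,i z}` of the stalk
  `(i_* G)_{i z}` is the length over `O_{Z,z}` of `G_z`.
-/

set_option autoImplicit false
universe u
open CategoryTheory AlgebraicGeometry TopologicalSpace Opposite

namespace Groth.Agent.H79.StructStalk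

open Groth.Agent.H5.Stalk

/-- The unit section of the structure module over an open. -/
noncomputable def oneSec (X : Scheme.{u}) (U : X.Opens) : Γ(Coh.structureModule X, U) :=
  (1 : Γ(X, U))

theorem toSpan_germ (X : Scheme.{u}) (x : X) (U : X.Opens) (hx : x ∈ U) (r : Γ(X, U)) :
    X.presheaf.germ U x hx r •
      (Coh.structureModule X).presheaf.germ ⊤ x trivial (oneSec X ⊤) =
    (Coh.structureModule X).presheaf.germ U x hx (show Γ(Coh.structureModule X, U) from r) := by
  have h1 : (Coh.structureModule X).presheaf.germ ⊤ x trivial (oneSec X ⊤) =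
      (Coh.structureModule X).presheaf.germ U x hx (oneSec X U) := by
    rw [← TopCat.Presheaf.germ_res_apply (Coh.structureModule X).presheaf (homOfLE le_top) x hx
      (oneSec X ⊤)]
    congr 1
    exact map_one (X.presheaf.map (homOfLE (le_top : U ≤ ⊤)).op).hom
  rw [h1, ← germ_smul]
  congr 1
  exact mul_one r

/-- The stalk of the structure module at `x` is the local ring `O_{X,x}`. -/
noncomputable def structStalkEquiv (X : Scheme.{u}) (x : X) :
    X.presheaf.stalk x ≃ₗ[X.presheaf.stalk x] (Coh.structureModule X).presheaf.stalk x :=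
  LinearEquiv.ofBijective
    (LinearMap.toSpanSingleton (X.presheaf.stalk x) _
      ((Coh.structureModule X).presheaf.germ ⊤ x trivial (oneSec X ⊤))) (by
    constructor
    · rw [← LinearMap.ker_eq_bot, LinearMap.ker_eq_bot']
      intro a ha
      obtain ⟨U, hx, r, rfl⟩ := X.presheaf.exists_germ_eq a
      rw [LinearMap.toSpanSingleton_apply, toSpan_germ] at ha
      have ha' : (Coh.structureModule X).presheaf.germ U x hx
          (show Γ(Coh.structureModule X, U) from r) =
          (Coh.structureModule X).presheaf.germ U x hx 0 := by rw [ha, map_zero]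
      obtain ⟨W, hxW, j, j', hW⟩ :=
        TopCat.Presheaf.germ_eq (Coh.structureModule X).presheaf x hx hx _ _ ha'
      rw [map_zero] at hW
      have hW' : X.presheaf.map j.op r = 0 := hW
      rw [← TopCat.Presheaf.germ_res_apply X.presheaf j x hxW r, hW', map_zero]
    · intro m
      obtain ⟨U, hx, s, rfl⟩ := TopCat.Presheaf.exists_germ_eq (Coh.structureModule X).presheaf m
      refine ⟨X.presheaf.germ U x hx (show Γ(X, U) from s), ?_⟩
      rw [LinearMap.toSpanSingleton_apply, toSpan_germ])

theorem length_structStalk (X : Scheme.{u}) (x : X) :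
    Module.length (X.presheaf.stalk x) ((Coh.structureModule X).presheaf.stalk x) =
      Module.length (X.presheaf.stalk x) (X.presheaf.stalk x) :=
  (structStalkEquiv X x).symm.length_eq

/-- For a closed immersion `i : Z ⟶ X`, the stalk `(i_* G)_{i z}` has the same length over
`O_{X, i z}` as `G_z` over `O_{Z,z}`. -/
theorem length_push_stalk {Z X : Scheme.{u}} (i : Z ⟶ X) [IsClosedImmersion i] (G : Z.Modules)
    (z : Z) :
    Module.length (X.presheaf.stalk (i z))
        (((Scheme.Modules.pushforward i).obj G).presheaf.stalk (i z)) =
      Module.length (Z.presheaf.stalk z) (G.presheaf.stalk z) := by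
  have e := (asIso (pushStalkMap i z G)).toLinearEquiv
  have h1 : Module.length (X.presheaf.stalk (i z))
      (((Scheme.Modules.pushforward i).obj G).presheaf.stalk (i z)) =
      Module.length (X.presheaf.stalk (i z))
        ((resStalk i z).obj ((stalkFunctor z).obj G)) := e.length_eq
  rw [h1]
  let _ : Algebra (X.presheaf.stalk (i z)) (Z.presheaf.stalk z) := (i.stalkMap z).hom.toAlgebra
  have hs : Function.Surjective (algebraMap (X.presheaf.stalk (i z)) (Z.presheaf.stalk z)) :=
    i.stalkMap_surjective z
  let _ : Module (X.presheaf.stalk (i z)) (G.presheaf.stalk z) :=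
    Module.compHom _ (i.stalkMap z).hom
  have : IsScalarTower (X.presheaf.stalk (i z)) (Z.presheaf.stalk z) (G.presheaf.stalk z) :=
    ⟨fun a b m => by
      change ((i.stalkMap z).hom a * b) • m = (i.stalkMap z).hom a • (b • m)
      rw [mul_smul]⟩
  exact Module.length_eq_of_surjective (S := X.presheaf.stalk (i z)) (R := Z.presheaf.stalk z)
    (M := G.presheaf.stalk z) hs

end Groth.Agent.H79.StructStalk
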