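import Groth.Agent.H79.KoszulSplit
import Groth.Agent.H79.KoszulTop
import Groth.Prelude.Def_LCI2

set_option autoImplicit false
universe u
open CategoryTheory CochainComplex HomComplex Limits Groth.Agent.H12.KoszulReg
open Groth.Agent.H79.KoszulCone Groth.Agent.H79.KoszulSplit

namespace Groth.Agent.H79.KoszulMinGen

variable {A : Type u} [CommRing A]

/-- the Koszul complexes of `a ++ b` and of `b ++ a` are isomorphic -/
theorem nonempty_iso_append_comm (N : ModuleCat.{u} A) (a : List A) : ∀ b : List A,
    Nonempty (CohIII.koszulCx N (a ++ b) ≅ CohIII.koszulCx N (b ++ a)) := by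
  intro b
  induction b with
  | nil =>
    rw [List.append_nil, List.nil_append]
    exact ⟨Iso.refl _⟩
  | cons y b ih =>
    obtain ⟨e⟩ := ih
    obtain ⟨e0⟩ := Groth.Agent.H79.KoszulEulerPow.nonempty_iso_middle N y b a
    have e1 : CohIII.koszulCx N (y :: (a ++ b)) ≅ CohIII.koszulCx N (y :: (b ++ a)) :=
      (coneFunctor y).mapIso e
    exact ⟨e0 ≪≫ e1⟩

theorem isZero_homology_of_pos (N : ModuleCat.{u} A) (l : List A) (i : ℤ) (hi : 0 < i) :
    IsZero ((CohIII.koszulCx N l).homology i) :=
  (HomologicalComplex.ExactAt.of_isZero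
    (Groth.Agent.H79.KoszulTop.isZero_X_of_pos N l i hi)).isZero_homology

theorem isZero_homology_of_lt (N : ModuleCat.{u} A) (l : List A) (i : ℤ)
    (hi : i + l.length < 0) :
    IsZero ((CohIII.koszulCx N l).homology i) :=
  (HomologicalComplex.ExactAt.of_isZero
    (Groth.Agent.H79.KoszulEuler.isZero_X_of_lt N l i hi)).isZero_homology

/-- `H^0` of the Koszul complex of generators of a proper ideal is nonzero -/
theorem not_subsingleton_homology_zero (l : List A) (hl : Ideal.ofList l ≠ ⊤) :
    ¬ Subsingleton ((CohIII.koszulCx (ModuleCat.of A A) l).homology 0) := by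
  intro hsub
  obtain ⟨e⟩ := Groth.Agent.H79.KoszulTop.homology_zero_equiv (ModuleCat.of A A) l
  have h2 : Subsingleton
      (↑(ModuleCat.of A A) ⧸ (Ideal.ofList l • (⊤ : Submodule A ↑(ModuleCat.of A A)))) :=
    e.symm.injective.subsingleton
  rw [Submodule.Quotient.subsingleton_iff] at h2
  apply hl
  have h3 : (Ideal.ofList l • (⊤ : Submodule A A)) = ⊤ := h2
  rw [Ideal.smul_top_eq_map] at h3
  simpa using h3

section Main

variable (a b : List A)

/-- the two decompositions of the cohomology of `K(a ++ b)` -/
theorem subsingleton_of_regular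
    (ha : ∀ i : ℤ, i ≠ 0 → Subsingleton ((CohIII.koszulCx (ModuleCat.of A A) a).homology i))
    (hba : ∀ y ∈ b, y ∈ Ideal.span {x | x ∈ a}) (hab : ∀ y ∈ a, y ∈ Ideal.span {x | x ∈ b})
    (j : ℕ) (hj : j ≤ a.length) :
    Subsingleton ((CohIII.koszulCx (ModuleCat.of A A) b).homology (-(b.length : ℤ) - 1 + j)) := by
  set m : ℤ := -(b.length : ℤ) - 1 with hm
  obtain ⟨E⟩ := nonempty_equiv_pi (ModuleCat.of A A) a b hba m
  obtain ⟨F⟩ := nonempty_equiv_pi (ModuleCat.of A A) b a hab m
  obtain ⟨s⟩ := nonempty_iso_append_comm (ModuleCat.of A A) a b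
  have S : (CohIII.koszulCx (ModuleCat.of A A) (a ++ b)).homology m ≃ₗ[A]
      (CohIII.koszulCx (ModuleCat.of A A) (b ++ a)).homology m :=
    ((HomologicalComplex.homologyFunctor (ModuleCat.{u} A) (ComplexShape.up ℤ)
      m).mapIso s).toLinearEquiv
  -- the left side vanishes
  have h1 : Subsingleton ((CohIII.koszulCx (ModuleCat.of A A) (a ++ b)).homology m) := by
    have : ∀ (j : Fin (b.length + 1)),
        Subsingleton ((CohIII.koszulCx (ModuleCat.of A A) a).homology (m + j)) := by
      intro j
      apply ha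
      have := j.2
      omega
    exact E.injective.subsingleton
  have h2 : Subsingleton ((j : Fin (a.length + 1)) → Fin (a.length.choose j) →
      (CohIII.koszulCx (ModuleCat.of A A) b).homology (m + j)) :=
    (S.trans F).symm.injective.subsingleton
  -- extract the factor
  let j0 : Fin (a.length + 1) := ⟨j, by omega⟩
  have hpos : 0 < a.length.choose j0 := Nat.choose_pos hj
  refine ⟨fun x y => ?_⟩
  have h3 := Subsingleton.elim
    (Pi.single (M := fun j : Fin (a.length + 1) => Fin (a.length.choose j) →
      (CohIII.koszulCx (ModuleCat.of A A) b).homology (m + j)) j0 (fun _ => x))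
    (Pi.single j0 (fun _ => y))
  have h4 := congrFun (congrFun h3 j0) ⟨0, hpos⟩
  rwa [Pi.single_eq_same, Pi.single_eq_same] at h4

end Main


section Final

variable (a b : List A)

theorem subsingleton_of_koszulRegular (ha : LCI.IsKoszulRegularSeq A a) (i : ℤ) (hi : i ≠ 0) :
    Subsingleton ((CohIII.koszulCx (ModuleCat.of A A) a).homology i) := by
  have : IsZero ((Koszul.koszul A a).homology i) := ha i hi
  rw [koszul_eq] at this
  exact ModuleCat.subsingleton_of_isZero this

theorem mem_span_of_ofList_eq (hab : Ideal.ofList a = Ideal.ofList b) :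
    ∀ y ∈ b, y ∈ Ideal.span {x | x ∈ a} := by
  intro y hy
  have h1 : y ∈ Ideal.ofList b := Ideal.subset_span hy
  rw [← hab] at h1
  exact h1

theorem length_le (ha : LCI.IsKoszulRegularSeq A a) (hab : Ideal.ofList a = Ideal.ofList b)
    (hI : Ideal.ofList a ≠ ⊤) : a.length ≤ b.length := by
  by_contra hcon
  have h1 := subsingleton_of_regular a b (subsingleton_of_koszulRegular a ha)
    (mem_span_of_ofList_eq a b hab) (mem_span_of_ofList_eq b a hab.symm) (b.length + 1)
    (by omega)
  have h2 : -(b.length : ℤ) - 1 + ((b.length + 1 : ℕ) : ℤ) = 0 := by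
    push_cast
    ring
  rw [h2] at h1
  exact not_subsingleton_homology_zero b (hab ▸ hI) h1

theorem regular_of_length_eq (ha : LCI.IsKoszulRegularSeq A a)
    (hab : Ideal.ofList a = Ideal.ofList b) (hlen : a.length = b.length) :
    LCI.IsKoszulRegularSeq A b := by
  intro i hi
  show IsZero ((Koszul.koszul A b).homology i)
  rw [koszul_eq]
  rcases lt_or_gt_of_ne hi with hneg | hpos
  · by_cases hlt : i + b.length < 0
    · exact isZero_homology_of_lt _ b i hlt
    · have h1 := subsingleton_of_regular a b (subsingleton_of_koszulRegular a ha)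
        (mem_span_of_ofList_eq a b hab) (mem_span_of_ofList_eq b a hab.symm)
        (i + b.length + 1).toNat (by omega)
      have h2 : -(b.length : ℤ) - 1 + (((i + b.length + 1).toNat : ℕ) : ℤ) = i := by
        rw [Int.toNat_of_nonneg (by omega)]
        ring
      rw [h2] at h1
      exact ModuleCat.isZero_of_subsingleton _
  · exact isZero_homology_of_pos _ b i hpos

end Final

end Groth.Agent.H79.KoszulMinGen
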