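import Groth.Agent.H79.KoszulTop
import Groth.Agent.H79.KoszulEuler
import Groth.Agent.H18.TorBalance

set_option autoImplicit false
universe u
open CategoryTheory CochainComplex HomComplex Limits MonoidalCategory Groth.Agent.H12.KoszulReg
open Groth.Agent.H79.KoszulCone Groth.Agent.H79.ConeLength

namespace Groth.Agent.H79.KoszulTor

variable {A : Type u} [CommRing A]

section ToChain

/-- the chain complex attached to a cochain complex (degree `n ↦ -n`) -/
noncomputable def toChain (K : CochainComplex (ModuleCat.{u} A) ℤ) :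
    ChainComplex (ModuleCat.{u} A) ℕ where
  X n := K.X (-(n : ℤ))
  d i j := K.d (-(i : ℤ)) (-(j : ℤ))
  shape i j h := K.shape _ _ (by
    simp only [ComplexShape.down_Rel, ComplexShape.up_Rel] at h ⊢
    omega)
  d_comp_d' i j k _ _ := K.d_comp_d _ _ _

@[simp] theorem toChain_X (K : CochainComplex (ModuleCat.{u} A) ℤ) (n : ℕ) :
    (toChain K).X n = K.X (-(n : ℤ)) := rfl

@[simp] theorem toChain_d (K : CochainComplex (ModuleCat.{u} A) ℤ) (i j : ℕ) :
    (toChain K).d i j = K.d (-(i : ℤ)) (-(j : ℤ)) := rfl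

end ToChain


section Concrete

variable {ι : Type} {c : ComplexShape ι}

/-- concrete description of the homology of a complex of modules, any shape -/
noncomputable def homologyIsoKerQuot' (K : HomologicalComplex (ModuleCat.{u} A) c) (i j k : ι)
    (hi : c.prev j = i) (hk : c.next j = k) :
    K.homology j ≅ ModuleCat.of A (↥(LinearMap.ker (K.d j k).hom) ⧸
      Submodule.comap (LinearMap.ker (K.d j k).hom).subtype
        (LinearMap.range (K.d i j).hom)) := by
  have e1 : K.homology j ≅ (K.sc' i j k).homology :=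
    ShortComplex.homologyMapIso (K.isoSc' i j k hi hk)
  have e2 := ShortComplex.moduleCatHomologyIso (K.sc' i j k)
  refine e1 ≪≫ e2 ≪≫ ?_
  refine LinearEquiv.toModuleIso ?_
  refine Submodule.quotEquivOfEq _ _ ?_
  ext ⟨z, hz⟩
  simp only [LinearMap.mem_range]
  constructor
  · rintro ⟨y, hy⟩
    exact ⟨y, congrArg Subtype.val hy⟩
  · rintro ⟨y, hy⟩
    exact ⟨y, Subtype.ext hy⟩

end Concrete

section Compare

variable (L : CochainComplex (ModuleCat.{u} A) ℤ)

theorem nonempty_homology_toChain_succ (m : ℕ) :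
    Nonempty ((toChain L).homology (m + 1) ≃ₗ[A] L.homology (-((m + 1 : ℕ) : ℤ))) := by
  have e1 := homologyIsoKerQuot' (toChain L) (m + 2) (m + 1) m (by simp) (by simp)
  have e2 := homologyIsoKerQuot' L (-((m + 2 : ℕ) : ℤ)) (-((m + 1 : ℕ) : ℤ)) (-(m : ℤ))
    (by simp; omega) (by simp)
  exact ⟨e1.toLinearEquiv.trans e2.toLinearEquiv.symm⟩

theorem nonempty_homology_toChain_zero (hL : IsZero (L.X 1)) :
    Nonempty ((toChain L).homology 0 ≃ₗ[A] L.homology (-((0 : ℕ) : ℤ))) := by
  have e1 := homologyIsoKerQuot' (toChain L) 1 0 0 (by simp) (by simp)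
  have e2 := homologyIsoKerQuot' L (-((1 : ℕ) : ℤ)) (-((0 : ℕ) : ℤ)) 1
    (by simp) (by simp)
  have hsub : Subsingleton (L.X 1) := ModuleCat.subsingleton_of_isZero hL
  have h1 : LinearMap.ker ((toChain L).d 0 0).hom = ⊤ := by
    have : (toChain L).d 0 0 = 0 := (toChain L).shape 0 0 (by simp)
    rw [this, ModuleCat.hom_zero, LinearMap.ker_zero]
  have h2 : LinearMap.ker (L.d (-((0 : ℕ) : ℤ)) 1).hom = ⊤ := by
    ext z
    simp only [LinearMap.mem_ker, Submodule.mem_top, iff_true]
    exact Subsingleton.elim _ _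
  have h12 : LinearMap.ker ((toChain L).d 0 0).hom = LinearMap.ker (L.d (-((0 : ℕ) : ℤ)) 1).hom :=
    h1.trans h2.symm
  have e3 : (↥(LinearMap.ker ((toChain L).d 0 0).hom) ⧸
      Submodule.comap (LinearMap.ker ((toChain L).d 0 0).hom).subtype
        (LinearMap.range ((toChain L).d 1 0).hom)) ≃ₗ[A]
      (↥(LinearMap.ker (L.d (-((0 : ℕ) : ℤ)) 1).hom) ⧸
      Submodule.comap (LinearMap.ker (L.d (-((0 : ℕ) : ℤ)) 1).hom).subtype
        (LinearMap.range (L.d (-((1 : ℕ) : ℤ)) (-((0 : ℕ) : ℤ))).hom)) :=
    Submodule.Quotient.equiv _ _ (LinearEquiv.ofEq _ _ h12) (by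
      ext ⟨z, hz⟩
      simp only [Submodule.mem_map, Submodule.mem_comap, Submodule.subtype_apply]
      constructor
      · rintro ⟨⟨y, hy⟩, hy1, hy2⟩
        have : y = z := congrArg Subtype.val hy2
        subst this
        exact hy1
      · intro hz1
        exact ⟨⟨z, h12 ▸ hz⟩, hz1, rfl⟩)
  exact ⟨e1.toLinearEquiv.trans (e3.trans e2.toLinearEquiv.symm)⟩

theorem nonempty_homology_toChain (hL : IsZero (L.X 1)) (n : ℕ) :
    Nonempty ((toChain L).homology n ≃ₗ[A] L.homology (-(n : ℤ))) := by
  rcases n with _ | m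
  · exact nonempty_homology_toChain_zero L hL
  · exact nonempty_homology_toChain_succ L m

end Compare


section Resolution

theorem projective_X : ∀ (l : List A) (i : ℤ),
    Module.Projective A ((CohIII.koszulCx (ModuleCat.of A A) l).X i) := by
  intro l
  induction l with
  | nil =>
    intro i
    by_cases hi : i = 0
    · subst hi
      have e : (CohIII.koszulCx (ModuleCat.of A A) []).X 0 ≅ ModuleCat.of A A :=
        HomologicalComplex.singleObjXSelf (ComplexShape.up ℤ) 0 (ModuleCat.of A A)
      exact Module.Projective.of_equiv e.toLinearEquiv.symm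
    · have hz : IsZero ((CohIII.koszulCx (ModuleCat.of A A) []).X i) :=
        HomologicalComplex.isZero_single_obj_X (ComplexShape.up ℤ) 0 _ i hi
      have := ModuleCat.subsingleton_of_isZero hz
      infer_instance
  | cons f fs ih =>
    intro i
    let K := CohIII.koszulCx (ModuleCat.of A A) fs
    have e := coneEquiv (f • 𝟙 K) i (i + 1) rfl
    have h1 := ih (i + 1)
    have h2 := ih i
    change Module.Projective A ((mappingCone (f • 𝟙 K)).X i)
    exact Module.Projective.of_equiv e.symm

variable (l : List A) (I : Ideal A) (hI : Ideal.ofList l = I)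

/-- the augmentation `K^0 → A/I` -/
noncomputable def augLin :
    (CohIII.koszulCx (ModuleCat.of A A) l).X 0 →ₗ[A] (A ⧸ I) :=
  (Submodule.mkQ I) ∘ₗ (Classical.choose
    (Groth.Agent.H79.KoszulTop.exists_top_equiv (ModuleCat.of A A) l)).toLinearMap

theorem augLin_surjective : Function.Surjective (augLin l I) := by
  unfold augLin
  rw [LinearMap.coe_comp]
  exact (Submodule.mkQ_surjective I).comp (LinearEquiv.surjective _)

include hI in
theorem ker_augLin (b : ℤ) (hb : b + 1 = 0) :
    LinearMap.ker (augLin l I) =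
      LinearMap.range ((CohIII.koszulCx (ModuleCat.of A A) l).d b 0).hom := by
  have hε := Classical.choose_spec
    (Groth.Agent.H79.KoszulTop.exists_top_equiv (ModuleCat.of A A) l)
  ext k
  rw [LinearMap.mem_range, hε b hb k, LinearMap.mem_ker]
  unfold augLin
  rw [LinearMap.comp_apply, Submodule.mkQ_apply, Submodule.Quotient.mk_eq_zero, ← hI]
  have : (Ideal.ofList l • (⊤ : Submodule A A)) = Ideal.ofList l := by
    rw [Ideal.smul_top_eq_map]
    simp
  have key : ∀ x : A, x ∈ Ideal.ofList l ↔ x ∈ (Ideal.ofList l • (⊤ : Submodule A A)) :=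
    fun x => by rw [this]
  exact key _

end Resolution


section Resolution2

variable (l : List A) (I : Ideal A) (hI : Ideal.ofList l = I)

include hI in
theorem d_comp_aug :
    (toChain (CohIII.koszulCx (ModuleCat.of A A) l)).d 1 0 ≫
      (ModuleCat.ofHom (augLin l I) :
        (toChain (CohIII.koszulCx (ModuleCat.of A A) l)).X 0 ⟶ ModuleCat.of A (A ⧸ I)) = 0 := by
  ext x
  have h := ker_augLin l I hI (-((1 : ℕ) : ℤ)) (by simp)
  have hx : ((CohIII.koszulCx (ModuleCat.of A A) l).d (-((1 : ℕ) : ℤ)) 0).hom x ∈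
      LinearMap.ker (augLin l I) := by
    rw [h]
    exact ⟨x, rfl⟩
  exact LinearMap.mem_ker.mp hx

/-- the augmentation of the Koszul chain complex -/
noncomputable def resπ :
    toChain (CohIII.koszulCx (ModuleCat.of A A) l) ⟶
      (ChainComplex.single₀ (ModuleCat.{u} A)).obj (ModuleCat.of A (A ⧸ I)) :=
  (ChainComplex.toSingle₀Equiv _ _).symm ⟨ModuleCat.ofHom (augLin l I), d_comp_aug l I hI⟩

end Resolution2


section Resolution3

variable (l : List A) (I : Ideal A) (hI : Ideal.ofList l = I)
  (hreg : ∀ i : ℤ, i ≠ 0 → IsZero ((CohIII.koszulCx (ModuleCat.of A A) l).homology i))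

include hreg in
theorem quasiIso_resπ : QuasiIso (resπ l I hI) where
  quasiIsoAt m := by
    rcases m with _ | m
    · rw [ChainComplex.quasiIsoAt₀_iff, ShortComplex.quasiIso_iff_of_zeros' _
        ((toChain (CohIII.koszulCx (ModuleCat.of A A) l)).shape 0 0 (by simp)) rfl rfl]
      constructor
      · rw [ShortComplex.moduleCat_exact_iff_range_eq_ker]
        have h := ker_augLin l I hI (-((1 : ℕ) : ℤ)) (by simp)
        change LinearMap.range ((CohIII.koszulCx (ModuleCat.of A A) l).d (-((1 : ℕ) : ℤ)) 0).hom =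
          LinearMap.ker ((resπ l I hI).f 0).hom
        rw [← h]
        congr 1
      · rw [ModuleCat.epi_iff_surjective]
        change Function.Surjective ((resπ l I hI).f 0).hom
        have : (resπ l I hI).f 0 = ModuleCat.ofHom (augLin l I) :=
          ChainComplex.toSingle₀Equiv_symm_apply_f_zero _ _
        rw [this]
        exact augLin_surjective l I
    · rw [quasiIsoAt_iff_exactAt' (hL := ChainComplex.exactAt_succ_single_obj ..),
        HomologicalComplex.exactAt_iff' _ (m + 2) (m + 1) m (by simp) (by simp),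
        ShortComplex.moduleCat_exact_iff_range_eq_ker]
      have h1 := hreg (-((m + 1 : ℕ) : ℤ)) (by
        have : (0 : ℤ) < ((m + 1 : ℕ) : ℤ) := by positivity
        omega)
      rw [← HomologicalComplex.exactAt_iff_isZero_homology,
        HomologicalComplex.exactAt_iff' _ (-((m + 2 : ℕ) : ℤ)) (-((m + 1 : ℕ) : ℤ)) (-(m : ℤ))
          (by simp; omega) (by simp),
        ShortComplex.moduleCat_exact_iff_range_eq_ker] at h1
      exact h1

end Resolution3


section TorIso

variable (l : List A) (I : Ideal A) (hI : Ideal.ofList l = I)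
  (hreg : ∀ i : ℤ, i ≠ 0 → IsZero ((CohIII.koszulCx (ModuleCat.of A A) l).homology i))

/-- the Koszul complex of a Koszul-regular sequence as a projective resolution -/
noncomputable def koszulResolution : ProjectiveResolution (ModuleCat.of A (A ⧸ I)) where
  complex := toChain (CohIII.koszulCx (ModuleCat.of A A) l)
  projective n := by
    have := projective_X l (-(n : ℤ))
    exact (IsProjective.iff_projective (R := A)
      (P := (CohIII.koszulCx (ModuleCat.of A A) l).X (-(n : ℤ)))).mp this
  π := resπ l I hI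
  quasiIso := quasiIso_resπ l I hI hreg

include hI hreg in
/-- `Tor_n(A/I, N)` is the Koszul homology with coefficients in `N`, for a Koszul-regular
sequence generating `I` -/
theorem nonempty_tor_equiv (N : ModuleCat.{u} A) (n : ℕ) :
    Nonempty (↑(((Tor (ModuleCat.{u} A) n).obj (ModuleCat.of A (A ⧸ I))).obj N) ≃ₗ[A]
      ↑((DRing.tensorCx (CohIII.koszulCx (ModuleCat.of A A) l) N).homology (-(n : ℤ)))) := by
  obtain ⟨e1⟩ := Groth.Agent.H18.tor_iso_homology_tensCx (ModuleCat.of A (A ⧸ I))
    (koszulResolution l I hI hreg) n N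
  have hz : IsZero ((DRing.tensorCx (CohIII.koszulCx (ModuleCat.of A A) l) N).X 1) :=
    Functor.map_isZero (tensorRight N)
      (Groth.Agent.H79.KoszulTop.isZero_X_of_pos (ModuleCat.of A A) l 1 one_pos)
  obtain ⟨e2⟩ := nonempty_homology_toChain
    (DRing.tensorCx (CohIII.koszulCx (ModuleCat.of A A) l) N) hz n
  have e3 : (Groth.Agent.H18.tensCx (koszulResolution l I hI hreg) N).homology n ≃ₗ[A]
      (toChain (DRing.tensorCx (CohIII.koszulCx (ModuleCat.of A A) l) N)).homology n :=
    LinearEquiv.refl _ _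
  exact ⟨e1.toLinearEquiv.trans (e3.trans e2)⟩

end TorIso

end Groth.Agent.H79.KoszulTor
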