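import Groth.Agent.H79.KoszulTopNat
import Mathlib.RingTheory.MvPolynomial.Ideal
import Mathlib.RingTheory.Regular.RegularSequence
import Mathlib.Algebra.Colimit.Module

set_option autoImplicit false
universe u
open CategoryTheory CochainComplex HomComplex Limits Groth.Agent.H12.KoszulReg
open Groth.Agent.H79.KoszulCone Groth.Agent.H79.KoszulTopNat

namespace Groth.Agent.H79.KoszulPoly

variable {A : Type u} [CommRing A]

section Regular

variable (k n : ℕ)

/-- the list of `n`-th powers of the first `i` variables generates a monomial ideal -/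
theorem ofList_take_eq (i : ℕ) :
    Ideal.ofList (((List.ofFn (fun j : Fin k => (MvPolynomial.X j : MvPolynomial (Fin k) A))).map
      (· ^ n)).take i) =
    Ideal.span ((fun s => MvPolynomial.monomial s (1 : A)) ''
      {s | ∃ j : Fin k, j.val < i ∧ s = Finsupp.single j n}) := by
  unfold Ideal.ofList
  congr 1
  ext y
  simp only [Set.mem_ofPred_eq, Set.mem_image]
  rw [List.mem_take_iff_getElem]
  constructor
  · rintro ⟨a, ha, rfl⟩
    simp only [List.length_map, List.length_ofFn, lt_inf_iff] at ha
    refine ⟨Finsupp.single ⟨a, ha.2⟩ n, ⟨⟨a, ha.2⟩, ha.1, rfl⟩, ?_⟩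
    simp [MvPolynomial.X_pow_eq_monomial]
  · rintro ⟨s, ⟨j, hj, rfl⟩, rfl⟩
    refine ⟨j.val, ?_, ?_⟩
    · simp only [List.length_map, List.length_ofFn, lt_inf_iff]
      exact ⟨hj, j.2⟩
    · simp [MvPolynomial.X_pow_eq_monomial]

theorem isWeaklyRegular_pow_X :
    RingTheory.Sequence.IsWeaklyRegular (MvPolynomial (Fin k) A)
      ((List.ofFn (fun j : Fin k => (MvPolynomial.X j : MvPolynomial (Fin k) A))).map (· ^ n)) := by
  rw [RingTheory.Sequence.isWeaklyRegular_iff]
  intro i hi
  rw [isSMulRegular_quotient_iff_mem_of_smul_mem]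
  have hik : i < k := by simpa using hi
  have htop : ∀ (I : Ideal (MvPolynomial (Fin k) A)) (y : MvPolynomial (Fin k) A),
      y ∈ (I • (⊤ : Submodule (MvPolynomial (Fin k) A) (MvPolynomial (Fin k) A))) ↔ y ∈ I := by
    intro I y
    rw [Ideal.smul_top_eq_map]
    simp
  intro x hx
  rw [htop, ofList_take_eq, MvPolynomial.mem_ideal_span_monomial_image] at hx ⊢
  intro xi hxi
  have hget : ((List.ofFn (fun j : Fin k => (MvPolynomial.X j : MvPolynomial (Fin k) A))).map
      (· ^ n))[i] = MvPolynomial.monomial (Finsupp.single (⟨i, hik⟩ : Fin k) n) (1 : A) := by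
    simp [MvPolynomial.X_pow_eq_monomial]
  have hmem : Finsupp.single (⟨i, hik⟩ : Fin k) n + xi ∈
      (((List.ofFn (fun j : Fin k => (MvPolynomial.X j : MvPolynomial (Fin k) A))).map
      (· ^ n))[i] • x).support := by
    rw [hget, smul_eq_mul, MvPolynomial.mem_support_iff, MvPolynomial.coeff_monomial_mul, one_mul]
    exact MvPolynomial.mem_support_iff.mp hxi
  obtain ⟨si, ⟨j, hj, rfl⟩, hle⟩ := hx _ hmem
  refine ⟨Finsupp.single j n, ⟨j, hj, rfl⟩, ?_⟩
  have hji : j ≠ (⟨i, hik⟩ : Fin k) := by
    intro h
    rw [h] at hj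
    exact lt_irrefl _ hj
  intro a
  by_cases haj : a = j
  · subst haj
    have := hle a
    simpa [Finsupp.single_apply, Ne.symm hji] using this
  · simp [Ne.symm haj]

theorem subsingleton_homology_pow_X (q : ℤ) (hq : q ≠ 0) :
    Subsingleton ((CohIII.koszulCx (ModuleCat.of (MvPolynomial (Fin k) A) (MvPolynomial (Fin k) A))
      ((List.ofFn (fun j : Fin k => (MvPolynomial.X j : MvPolynomial (Fin k) A))).map
        (· ^ n))).homology q) :=
  ModuleCat.subsingleton_of_isZero
    (isZero_koszulH_of_isWeaklyRegular _ (MvPolynomial (Fin k) A) (isWeaklyRegular_pow_X k n) q hq)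

end Regular


section Free

variable (k : ℕ)

/-- exponent vector `N - 1 - b` -/
noncomputable def expo (N : ℕ) (b : Fin k →₀ ℕ) : Fin k →₀ ℕ :=
  Finsupp.equivFunOnFinite.symm (fun j => N - 1 - b j)

@[simp] theorem expo_apply (N : ℕ) (b : Fin k →₀ ℕ) (j : Fin k) : expo k N b j = N - 1 - b j := rfl

/-- constant exponent vector -/
noncomputable def cst (t : ℕ) : Fin k →₀ ℕ := Finsupp.equivFunOnFinite.symm (fun _ => t)

@[simp] theorem cst_apply (t : ℕ) (j : Fin k) : cst k t j = t := rfl

/-- a level at which `b` is visible -/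
def nb (b : Fin k →₀ ℕ) : ℕ := b.sum (fun _ v => v) + 1

theorem lt_nb (b : Fin k →₀ ℕ) (j : Fin k) : b j < nb k b := by
  unfold nb
  have : b j ≤ b.sum (fun _ v => v) := by
    by_cases hj : j ∈ b.support
    · exact Finset.single_le_sum (f := fun i => b i) (fun _ _ => Nat.zero_le _) hj
    · rw [Finsupp.notMem_support_iff.mp hj]
      exact Nat.zero_le _
  omega

variable {k}

/-- the polynomial at level `N` attached to a coefficient vector -/
noncomputable def TN (N : ℕ) : ((Fin k →₀ ℕ) →₀ A) →+ MvPolynomial (Fin k) A :=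
  Finsupp.liftAddHom (fun b => (MvPolynomial.monomial (expo k N b)).toAddMonoidHom)

theorem TN_apply (N : ℕ) (c : (Fin k →₀ ℕ) →₀ A) :
    TN N c = ∑ b ∈ c.support, MvPolynomial.monomial (expo k N b) (c b) := by
  unfold TN
  rw [Finsupp.liftAddHom_apply, Finsupp.sum]
  rfl

theorem TN_single (N : ℕ) (b : Fin k →₀ ℕ) (a : A) :
    TN N (Finsupp.single b a) = MvPolynomial.monomial (expo k N b) a := by
  unfold TN
  rw [Finsupp.liftAddHom_apply_single]
  rfl

theorem TN_shift (N t : ℕ) (c : (Fin k →₀ ℕ) →₀ A)
    (hc : ∀ b ∈ c.support, ∀ j, b j < N) :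
    MvPolynomial.monomial (cst k t) (1 : A) * TN N c = TN (N + t) c := by
  rw [TN_apply, TN_apply, Finset.mul_sum]
  apply Finset.sum_congr rfl
  intro b hb
  rw [MvPolynomial.monomial_mul, one_mul]
  have he : cst k t + expo k N b = expo k (N + t) b := by
    ext j
    have := hc b hb j
    simp only [Finsupp.add_apply, cst_apply, expo_apply]
    omega
  rw [he]

theorem expo_injOn (N : ℕ) (b b' : Fin k →₀ ℕ) (hb : ∀ j, b j < N) (hb' : ∀ j, b' j < N)
    (h : expo k N b = expo k N b') : b = b' := by
  ext j
  have h1 := DFunLike.congr_fun h j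
  have := hb j
  have := hb' j
  simp only [expo_apply] at h1
  omega

theorem coeff_TN (N : ℕ) (c : (Fin k →₀ ℕ) →₀ A) (hc : ∀ b ∈ c.support, ∀ j, b j < N)
    (b₀ : Fin k →₀ ℕ) (hb₀ : ∀ j, b₀ j < N) :
    MvPolynomial.coeff (expo k N b₀) (TN N c) = c b₀ := by
  classical
  rw [TN_apply, MvPolynomial.coeff_sum]
  simp only [MvPolynomial.coeff_monomial]
  by_cases hmem : b₀ ∈ c.support
  · rw [Finset.sum_eq_single b₀]
    · simp
    · intro b hb hne
      rw [if_neg]
      intro h
      exact hne (expo_injOn N b b₀ (hc b hb) hb₀ h)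
    · intro h
      exact absurd hmem h
  · rw [Finsupp.notMem_support_iff.mp hmem]
    apply Finset.sum_eq_zero
    intro b hb
    rw [if_neg]
    intro h
    apply hmem
    rw [← expo_injOn N b b₀ (hc b hb) hb₀ h]
    exact hb

end Free


section System

variable {k : ℕ} (G : ℕ → Type u) [∀ n, AddCommGroup (G n)]
  [∀ n, Module (MvPolynomial (Fin k) A) (G n)]
  (f : ∀ n m, n ≤ m → G n →ₗ[MvPolynomial (Fin k) A] G m)
  (u : ∀ n, MvPolynomial (Fin k) A →ₗ[MvPolynomial (Fin k) A] G n)

/-- a direct system presented by the polynomial ring modulo powers of the variables, with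
transition maps the multiplications by powers of the product of the variables -/
structure Sys : Prop where
  surj : ∀ n, Function.Surjective (u n)
  ker : ∀ n (p : MvPolynomial (Fin k) A), u n p = 0 ↔ ∀ e ∈ p.support, ∃ j, n ≤ e j
  trans : ∀ n m (h : n ≤ m) (p : MvPolynomial (Fin k) A),
    f n m h (u n p) = u m (MvPolynomial.monomial (cst k (m - n)) 1 * p)

variable {G f u}

theorem Sys.directedSystem (hs : Sys G f u) : DirectedSystem G (fun i j h => f i j h) where
  map_self n x := by
    obtain ⟨p, rfl⟩ := hs.surj n x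
    rw [hs.trans]
    congr 1
    have : cst k (n - n) = 0 := by
      ext j
      simp
    rw [this]
    simp
  map_map c b a hab hbc x := by
    obtain ⟨p, rfl⟩ := hs.surj a x
    rw [hs.trans, hs.trans, hs.trans, ← mul_assoc, MvPolynomial.monomial_mul, one_mul]
    have : cst k (c - b) + cst k (b - a) = cst k (c - a) := by
      ext j
      simp only [Finsupp.add_apply, cst_apply]
      omega
    rw [this]

variable (hs : Sys G f u)

include hs in
/-- changing the level -/
theorem Sys.level_shift (N N' : ℕ) (h : N ≤ N') (c : (Fin k →₀ ℕ) →₀ A)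
    (hc : ∀ b ∈ c.support, ∀ j, b j < N) :
    Module.DirectLimit.of (MvPolynomial (Fin k) A) ℕ G f N (u N (TN N c)) =
      Module.DirectLimit.of (MvPolynomial (Fin k) A) ℕ G f N' (u N' (TN N' c)) := by
  rw [← Module.DirectLimit.of_f (hij := h), hs.trans, TN_shift N (N' - N) c hc,
    Nat.add_sub_cancel' h]

/-- the comparison map from the free module -/
noncomputable def Sys.psi (_ : Sys G f u) :
    ((Fin k →₀ ℕ) →₀ A) →+ Module.DirectLimit G f :=
  Finsupp.liftAddHom (fun b =>
    ((Module.DirectLimit.of (MvPolynomial (Fin k) A) ℕ G f (nb k b)).toAddMonoidHom.comp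
      (u (nb k b)).toAddMonoidHom).comp (MvPolynomial.monomial (expo k (nb k b) b)).toAddMonoidHom)

theorem Sys.psi_single (b : Fin k →₀ ℕ) (a : A) :
    hs.psi (Finsupp.single b a) = Module.DirectLimit.of (MvPolynomial (Fin k) A) ℕ G f (nb k b)
      (u (nb k b) (TN (nb k b) (Finsupp.single b a))) := by
  unfold Sys.psi
  rw [Finsupp.liftAddHom_apply_single, TN_single]
  rfl

theorem Sys.psi_eq (N : ℕ) (c : (Fin k →₀ ℕ) →₀ A) (hc : ∀ b ∈ c.support, ∀ j, b j < N) :
    hs.psi c = Module.DirectLimit.of (MvPolynomial (Fin k) A) ℕ G f N (u N (TN N c)) := by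
  classical
  have hsum : c = ∑ b ∈ c.support, Finsupp.single b (c b) := (Finsupp.sum_single c).symm
  conv_lhs => rw [hsum]
  conv_rhs => rw [hsum]
  rw [map_sum, map_sum, map_sum, map_sum]
  apply Finset.sum_congr rfl
  intro b hb
  rw [hs.psi_single]
  have hsupp : ∀ b' ∈ (Finsupp.single b (c b)).support, ∀ j, b' j < nb k b := by
    intro b' hb' j
    have : b' = b := by
      have := Finsupp.support_single_subset hb'
      simpa using this
    rw [this]
    exact lt_nb k b j
  have hsupp' : ∀ b' ∈ (Finsupp.single b (c b)).support, ∀ j, b' j < N := by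
    intro b' hb' j
    have : b' = b := by
      have := Finsupp.support_single_subset hb'
      simpa using this
    rw [this]
    exact hc b hb j
  rw [hs.level_shift (nb k b) (max (nb k b) N) (le_max_left _ _) _ hsupp,
    hs.level_shift N (max (nb k b) N) (le_max_right _ _) _ hsupp']

theorem Sys.psi_injective : Function.Injective hs.psi := by
  classical
  have := hs.directedSystem
  rw [injective_iff_map_eq_zero]
  intro c hc0
  by_contra hne
  obtain ⟨b₀, hb₀⟩ := Finsupp.support_nonempty_iff.mpr hne
  set N := c.support.sup (nb k) with hN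
  have hbound : ∀ b ∈ c.support, ∀ j, b j < N := fun b hb j =>
    lt_of_lt_of_le (lt_nb k b j) (Finset.le_sup (f := nb k) hb)
  rw [hs.psi_eq N c hbound] at hc0
  obtain ⟨N', hNN', hz⟩ := Module.DirectLimit.of.zero_exact hc0
  rw [hs.trans, TN_shift N (N' - N) c hbound, Nat.add_sub_cancel' hNN', hs.ker] at hz
  have hbound' : ∀ b ∈ c.support, ∀ j, b j < N' := fun b hb j =>
    lt_of_lt_of_le (hbound b hb j) hNN'
  have hcoeff := coeff_TN N' c hbound' b₀ (hbound' b₀ hb₀)
  have hmem : expo k N' b₀ ∈ (TN N' c).support := by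
    rw [MvPolynomial.mem_support_iff, hcoeff]
    exact Finsupp.mem_support_iff.mp hb₀
  obtain ⟨j, hj⟩ := hz _ hmem
  have h1 := hbound' b₀ hb₀ j
  simp only [expo_apply] at hj
  omega

theorem Sys.psi_surjective : Function.Surjective hs.psi := by
  classical
  intro z
  obtain ⟨n, x, rfl⟩ := Module.DirectLimit.exists_of z
  obtain ⟨p, rfl⟩ := hs.surj n x
  let F := p.support.filter (fun e => ∀ j, e j < n)
  let c : (Fin k →₀ ℕ) →₀ A := ∑ e ∈ F, Finsupp.single (expo k n e) (p.coeff e)
  have hcsupp : ∀ b ∈ c.support, ∀ j, b j < n := by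
    intro b hb j
    have h1 : b ∈ F.biUnion (fun e => (Finsupp.single (expo k n e) (p.coeff e)).support) :=
      Finsupp.support_finsetSum hb
    rw [Finset.mem_biUnion] at h1
    obtain ⟨e, he, hbe⟩ := h1
    have : b = expo k n e := by
      have := Finsupp.support_single_subset hbe
      simpa using this
    rw [this, expo_apply]
    have := (Finset.mem_filter.mp he).2 j
    omega
  refine ⟨c, ?_⟩
  rw [hs.psi_eq n c hcsupp]
  congr 1
  -- `u n (TN n c) = u n p`
  rw [← sub_eq_zero, ← map_sub, hs.ker]
  have hT : TN n c = ∑ e ∈ F, MvPolynomial.monomial e (p.coeff e) := by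
    simp only [c, map_sum, TN_single]
    apply Finset.sum_congr rfl
    intro e he
    have he' : expo k n (expo k n e) = e := by
      ext j
      have := (Finset.mem_filter.mp he).2 j
      simp only [expo_apply]
      omega
    rw [he']
  intro e he
  rw [hT] at he
  by_contra hcon
  push Not at hcon
  apply MvPolynomial.mem_support_iff.mp he
  rw [MvPolynomial.coeff_sub, MvPolynomial.coeff_sum]
  simp only [MvPolynomial.coeff_monomial]
  by_cases hep : e ∈ p.support
  · have heF : e ∈ F := Finset.mem_filter.mpr ⟨hep, hcon⟩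
    rw [Finset.sum_eq_single e]
    · simp
    · intro e' _ hne
      rw [if_neg hne]
    · intro h
      exact absurd heF h
  · rw [MvPolynomial.notMem_support_iff.mp hep, sub_zero]
    apply Finset.sum_eq_zero
    intro e' he'
    rw [if_neg]
    intro h
    rw [h] at he'
    exact hep (Finset.mem_filter.mp he').1

end System


section FreeFinal

variable {k : ℕ} {G : ℕ → Type u} [∀ n, AddCommGroup (G n)]
  [∀ n, Module (MvPolynomial (Fin k) A) (G n)]
  {f : ∀ n m, n ≤ m → G n →ₗ[MvPolynomial (Fin k) A] G m}
  {u : ∀ n, MvPolynomial (Fin k) A →ₗ[MvPolynomial (Fin k) A] G n}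
  (hs : Sys G f u)

theorem TN_smul (N : ℕ) (a : A) (c : (Fin k →₀ ℕ) →₀ A) :
    TN N (a • c) = MvPolynomial.C a * TN N c := by
  induction c using Finsupp.induction_linear with
  | zero => simp
  | add c c' hc hc' => rw [smul_add, map_add, map_add, hc, hc', mul_add]
  | single b a' =>
    rw [Finsupp.smul_single, TN_single, TN_single, smul_eq_mul, MvPolynomial.C_mul_monomial]

theorem Sys.psi_smul (a : A) (c : (Fin k →₀ ℕ) →₀ A) :
    hs.psi (a • c) = (MvPolynomial.C a : MvPolynomial (Fin k) A) • hs.psi c := by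
  classical
  set N := c.support.sup (nb k) with hN
  have hbound : ∀ b ∈ c.support, ∀ j, b j < N := fun b hb j =>
    lt_of_lt_of_le (lt_nb k b j) (Finset.le_sup (f := nb k) hb)
  have hbound' : ∀ b ∈ (a • c).support, ∀ j, b j < N := fun b hb j =>
    hbound b (Finsupp.support_smul hb) j
  rw [hs.psi_eq N c hbound, hs.psi_eq N (a • c) hbound', TN_smul, ← smul_eq_mul, map_smul,
    map_smul]

include hs in
/-- the direct limit is a free module over the coefficient ring -/
theorem Sys.free : Module.Free A (RestrictScalars A (MvPolynomial (Fin k) A)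
    (Module.DirectLimit G f)) := by
  let L : ((Fin k →₀ ℕ) →₀ A) →ₗ[A] RestrictScalars A (MvPolynomial (Fin k) A)
      (Module.DirectLimit G f) :=
    { toFun := fun c => (RestrictScalars.addEquiv A (MvPolynomial (Fin k) A)
          (Module.DirectLimit G f)).symm (hs.psi c)
      map_add' := fun c c' => by rw [map_add, map_add]
      map_smul' := fun a c => by
        rw [hs.psi_smul, RingHom.id_apply, RestrictScalars.smul_def, AddEquiv.apply_symm_apply,
          MvPolynomial.algebraMap_eq] }
  have hL : ∀ c, L c = (RestrictScalars.addEquiv A (MvPolynomial (Fin k) A)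
      (Module.DirectLimit G f)).symm (hs.psi c) := fun c => rfl
  have hinj : Function.Injective L := by
    intro c c' h
    rw [hL, hL] at h
    exact hs.psi_injective ((RestrictScalars.addEquiv A (MvPolynomial (Fin k) A)
      (Module.DirectLimit G f)).symm.injective h)
  have hsurj : Function.Surjective L := by
    intro x
    obtain ⟨c, hc⟩ := hs.psi_surjective
      (RestrictScalars.addEquiv A (MvPolynomial (Fin k) A) (Module.DirectLimit G f) x)
    refine ⟨c, ?_⟩
    rw [hL, hc, AddEquiv.symm_apply_apply]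
  exact Module.Free.of_equiv (LinearEquiv.ofBijective L ⟨hinj, hsurj⟩)

end FreeFinal


section KoszulSys

variable (A) (k : ℕ)

/-- the list of variables -/
noncomputable abbrev xs : List (MvPolynomial (Fin k) A) :=
  List.ofFn (fun j : Fin k => (MvPolynomial.X j : MvPolynomial (Fin k) A))

theorem prod_pow (t : ℕ) :
    ((xs A k).map (· ^ t)).prod = MvPolynomial.monomial (cst k t) (1 : A) := by
  rw [List.map_ofFn, List.prod_ofFn, MvPolynomial.monomial_eq, map_one, one_mul,
    Finsupp.prod_fintype _ _ (fun i => pow_zero _)]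
  rfl

theorem mem_ofList_pow_iff (n : ℕ) (p : MvPolynomial (Fin k) A) :
    p ∈ Ideal.ofList ((xs A k).map (· ^ n)) •
      (⊤ : Submodule (MvPolynomial (Fin k) A) (MvPolynomial (Fin k) A)) ↔
      ∀ e ∈ p.support, ∃ j, n ≤ e j := by
  have htop : ∀ (I : Ideal (MvPolynomial (Fin k) A)) (y : MvPolynomial (Fin k) A),
      y ∈ (I • (⊤ : Submodule (MvPolynomial (Fin k) A) (MvPolynomial (Fin k) A))) ↔ y ∈ I := by
    intro I y
    rw [Ideal.smul_top_eq_map]
    simp
  have htake : ((xs A k).map (· ^ n)).take k = (xs A k).map (· ^ n) :=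
    List.take_of_length_le (by simp)
  rw [htop, ← htake, ofList_take_eq, MvPolynomial.mem_ideal_span_monomial_image]
  apply forall₂_congr
  intro e _
  constructor
  · rintro ⟨si, ⟨j, _, rfl⟩, hle⟩
    refine ⟨j, ?_⟩
    have := hle j
    simpa using this
  · rintro ⟨j, hj⟩
    refine ⟨Finsupp.single j n, ⟨j, j.2, rfl⟩, ?_⟩
    intro a
    by_cases haj : a = j
    · subst haj
      simpa using hj
    · simp [Ne.symm haj]

/-- the Koszul direct system of the polynomial ring is of the standard form -/
theorem koszulSys :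
    Sys (A := A) (k := k)
      (fun n => ((CohIII.koszulCx (ModuleCat.of (MvPolynomial (Fin k) A) (MvPolynomial (Fin k) A))
        ((xs A k).map (· ^ n))).homology 0 : Type u))
      (fun n m h => (HomologicalComplex.homologyMap
        (CohIII.koszulTrans (ModuleCat.of (MvPolynomial (Fin k) A) (MvPolynomial (Fin k) A))
          n m h (xs A k)) 0).hom)
      (fun n => topMap (ModuleCat.of (MvPolynomial (Fin k) A) (MvPolynomial (Fin k) A))
        ((xs A k).map (· ^ n))) where
  surj n := topMap_surjective _ _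
  ker n p := by
    rw [topMap_eq_zero_iff]
    exact mem_ofList_pow_iff A k n p
  trans n m h p := by
    rw [topMap_trans, prod_pow, smul_eq_mul]

theorem free_directLimit (q : ℤ) (hq : q = 0) :
    Module.Free A (RestrictScalars A (MvPolynomial (Fin k) A)
      (Module.DirectLimit
        (fun n => ((CohIII.koszulCx (ModuleCat.of (MvPolynomial (Fin k) A)
          (MvPolynomial (Fin k) A)) ((xs A k).map (· ^ n))).homology q : Type u))
        (fun n m h => (HomologicalComplex.homologyMap
          (CohIII.koszulTrans (ModuleCat.of (MvPolynomial (Fin k) A) (MvPolynomial (Fin k) A))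
            n m h (xs A k)) q).hom))) := by
  subst hq
  exact (koszulSys A k).free

theorem subsingleton_directLimit (q : ℤ) (hq : q ≠ 0) :
    Subsingleton (Module.DirectLimit
        (fun n => ((CohIII.koszulCx (ModuleCat.of (MvPolynomial (Fin k) A)
          (MvPolynomial (Fin k) A)) ((xs A k).map (· ^ n))).homology q : Type u))
        (fun n m h => (HomologicalComplex.homologyMap
          (CohIII.koszulTrans (ModuleCat.of (MvPolynomial (Fin k) A) (MvPolynomial (Fin k) A))
            n m h (xs A k)) q).hom)) := by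
  refine ⟨fun x y => ?_⟩
  obtain ⟨n, x', rfl⟩ := Module.DirectLimit.exists_of x
  obtain ⟨m, y', rfl⟩ := Module.DirectLimit.exists_of y
  have h1 := subsingleton_homology_pow_X (A := A) k n q hq
  have h2 := subsingleton_homology_pow_X (A := A) k m q hq
  rw [Subsingleton.elim x' 0, Subsingleton.elim y' 0, map_zero, map_zero]

end KoszulSys

end Groth.Agent.H79.KoszulPoly
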