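import Groth.Agent.H79.SchDim

/-!
# Residue field maps of morphisms of `k`-schemes are `k`-algebra maps (helper79)
-/

set_option autoImplicit false
universe u
open CategoryTheory AlgebraicGeometry TopologicalSpace

namespace Groth.Agent.H79.SchResMap

attribute [local instance] Curv2.stalkAlgebra Curv2.resAlgebra

variable (k : Type u) [Field k] {X Y : Scheme.{u}} [X.Over (Spec (CommRingCat.of k))]
  [Y.Over (Spec (CommRingCat.of k))]

/-- the structure maps to the residue fields are compatible with a morphism over `k` -/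
theorem resMap_comp (f : Y ⟶ X)
    (hf : f ≫ (X ↘ Spec (CommRingCat.of k)) = (Y ↘ Spec (CommRingCat.of k))) (y : Y) :
    (f.residueFieldMap y).hom.comp (Curv2.resMap k X (f y)) = Curv2.resMap k Y y := by
  ext c
  simp only [Curv2.resMap, Curv2.stalkMap, Coh.toGlobal, RingHom.comp_apply]
  have h1 := congrArg (fun φ : X.presheaf.stalk (f y) ⟶ Y.residueField y => φ.hom ((X.presheaf.germ ⊤ (f y) trivial).hom
    (((X ↘ Spec (CommRingCat.of k)).appTop).hom
      ((Scheme.ΓSpecIso (CommRingCat.of k)).inv.hom c)))) (Scheme.residue_residueFieldMap f y)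
  simp only [CommRingCat.hom_comp, RingHom.comp_apply] at h1
  rw [h1]
  congr 1
  have h2 := Scheme.Hom.germ_stalkMap_apply f ⊤ y trivial
    (((X ↘ Spec (CommRingCat.of k)).appTop).hom ((Scheme.ΓSpecIso (CommRingCat.of k)).inv.hom c))
  rw [h2]
  have h3 : (Y ↘ Spec (CommRingCat.of k)).appTop =
      (X ↘ Spec (CommRingCat.of k)).appTop ≫ f.appTop := by
    rw [← hf]
    exact Scheme.Hom.comp_appTop _ _
  rw [h3]
  rfl

/-- the residue field map as a `k`-algebra map -/
noncomputable def resAlgHom (f : Y ⟶ X)
    (hf : f ≫ (X ↘ Spec (CommRingCat.of k)) = (Y ↘ Spec (CommRingCat.of k))) (y : Y) :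
    X.residueField (f y) →ₐ[k] Y.residueField y :=
  { (f.residueFieldMap y).hom with
    commutes' := fun c => congrArg (fun φ => φ c) (resMap_comp k f hf y) }

/-- transcendence degrees of residue fields grow along a morphism -/
theorem trdeg_le (f : Y ⟶ X)
    (hf : f ≫ (X ↘ Spec (CommRingCat.of k)) = (Y ↘ Spec (CommRingCat.of k))) (y : Y) :
    Algebra.trdeg k (X.residueField (f y)) ≤ Algebra.trdeg k (Y.residueField y) :=
  _root_.trdeg_le_of_injective (resAlgHom k f hf y) (resAlgHom k f hf y).toRingHom.injective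

end Groth.Agent.H79.SchResMap
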