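import Groth.Agent.H79.KoszulEulerPow
import Groth.Prelude.Def_LCI2

set_option autoImplicit false
universe u
open CategoryTheory CochainComplex HomComplex Limits Groth.Agent.H12.KoszulReg
open Groth.Agent.H79.KoszulCone

namespace Groth.Agent.H79.KoszulPerm

variable {A : Type u} [CommRing A]

/-- the Koszul complex of a module is invariant under permutation of the sequence -/
theorem nonempty_iso_of_perm (M : ModuleCat.{u} A) {l l' : List A} (h : l.Perm l') :
    Nonempty (CohIII.koszulCx M l ≅ CohIII.koszulCx M l') := by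
  induction h with
  | nil => exact ⟨Iso.refl _⟩
  | cons x _ ih =>
    obtain ⟨e⟩ := ih
    exact ⟨(coneFunctor x).mapIso e⟩
  | swap x y l =>
    exact ⟨Groth.Agent.H79.KoszulSwap.swapIso (CohIII.koszulCx M l) y x⟩
  | trans _ _ ih1 ih2 =>
    obtain ⟨e1⟩ := ih1
    obtain ⟨e2⟩ := ih2
    exact ⟨e1 ≪≫ e2⟩

theorem isZero_homology_of_perm (M : ModuleCat.{u} A) {l l' : List A} (h : l.Perm l') (i : ℤ)
    (hz : IsZero ((CohIII.koszulCx M l).homology i)) :
    IsZero ((CohIII.koszulCx M l').homology i) := by
  obtain ⟨e⟩ := nonempty_iso_of_perm M h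
  exact hz.of_iso
    ((HomologicalComplex.homologyFunctor (ModuleCat.{u} A) (ComplexShape.up ℤ) i).mapIso e.symm)

/-- Koszul-regularity is invariant under permutation -/
theorem isKoszulRegularSeq_of_perm {l l' : List A} (h : l.Perm l')
    (hl : LCI.IsKoszulRegularSeq A l) : LCI.IsKoszulRegularSeq A l' := by
  intro i hi
  have h0 : IsZero ((Koszul.koszul A l).homology i) := hl i hi
  show IsZero ((Koszul.koszul A l').homology i)
  rw [koszul_eq] at h0 ⊢
  exact isZero_homology_of_perm _ h i h0

end Groth.Agent.H79.KoszulPerm
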