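import Mathlib
import Groth.Prelude.Def_Cyc
import Groth.Agent.H48.CycFib
import Groth.Agent.H13.LengthFlat
import Groth.Agent.H79.SuppGeneric

/-!
# Composition of flat pullbacks of cycles (helper79)

* `deltaCompat_comp`: induced dimension functions compose.
* `topologicalKrullDim_closure_fiber`: the dimension of the closure of a point of any fibre.
* `hasRelDim_comp`: relative dimensions of flat morphisms add.
* `isFiniteLength_fibre_stalk`: the local ring of the fibre at a point generic in its fibre has
  finite length.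
* `length_fibre_comp`: multiplicativity of the lengths of the local rings of fibres.
-/

set_option autoImplicit false
universe u
open CategoryTheory AlgebraicGeometry TopologicalSpace Opposite TensorProduct

namespace Groth.Agent.H79.CycComp

open Groth.Agent.H48.CycFib Groth.Agent.H48.CycDim6

variable {X Y Z : Scheme.{u}} (f : X ⟶ Y) (g : Y ⟶ Z)

theorem deltaCompat_comp (δX : X → ℤ) (δY : Y → ℤ) (δZ : Z → ℤ)
    (hf : Cyc.DeltaCompat f δX δY) (hg : Cyc.DeltaCompat g δY δZ) :
    Cyc.DeltaCompat (f ≫ g) δX δZ := by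
  intro x
  obtain ⟨n, hn, hδn⟩ := hf x
  obtain ⟨m, hm, hδm⟩ := hg (f x)
  refine ⟨m + n, ?_, ?_⟩
  · let _ : Algebra (Y.residueField (f x)) (X.residueField x) :=
      (f.residueFieldMap x).hom.toAlgebra
    let _ : Algebra (Z.residueField (g (f x))) (Y.residueField (f x)) :=
      (g.residueFieldMap (f x)).hom.toAlgebra
    let _ : Algebra (Z.residueField (g (f x))) (X.residueField x) :=
      ((f ≫ g).residueFieldMap x).hom.toAlgebra
    have : IsScalarTower (Z.residueField (g (f x))) (Y.residueField (f x)) (X.residueField x) :=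
      IsScalarTower.of_algebraMap_eq (fun a => by
        change ((f ≫ g).residueFieldMap x).hom a =
          (f.residueFieldMap x).hom ((g.residueFieldMap (f x)).hom a)
        rw [Scheme.residueFieldMap_comp]
        rfl)
    have h := trdeg_add_eq (Z.residueField (g (f x))) (Y.residueField (f x))
      (A := X.residueField x)
    change Algebra.trdeg (Z.residueField (g (f x))) (X.residueField x) = _
    rw [← h, hn, hm]
    push_cast
    rfl
  · change δX x = δZ (g (f x)) + _
    rw [hδn, hδm]
    push_cast
    ring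

section Fib

variable [LocallyOfFiniteType f] (δX : X → ℤ) (δY : Y → ℤ) (hδX : Cyc.IsDimFun X δX)
  (hδ : Cyc.DeltaCompat f δX δY)

include hδX hδ in
/-- The dimension of the closure of a point of a fibre. -/
theorem topologicalKrullDim_closure_fiber (y : Y) (t : f.fiber y) :
    topologicalKrullDim ↥(closure ({t} : Set (f.fiber y))) =
      (((δX (f.fiberι y t) - δY y).toNat : ℕ∞) : WithBot ℕ∞) := by
  have hdF := isDimFun_fiber f δX hδX y (δY y)
  have h0 : ∀ t : f.fiber y, IsClosed ({t} : Set (f.fiber y)) →
      δX (f.fiberι y t) - δY y = 0 := by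
    intro t ht
    have hz := map_fiberι f y t
    obtain ⟨n, hn, hδn⟩ := hδ (f.fiberι y t)
    have h0 := trdeg_eq_zero_of_isClosed f y (f.fiberι y t) hz t rfl ht
    rw [hn] at h0
    have hn0 : n = 0 := by exact_mod_cast h0
    rw [hδn, hz, hn0]
    simp
  have := topologicalKrullDim_closure (f.fiber y)
    (fun t => δX (f.fiberι y t) - δY y) hdF h0 t
  simpa using this

end Fib

/-- Relative dimensions of flat morphisms locally of finite type add up. -/
theorem hasRelDim_comp [Flat f] [LocallyOfFiniteType f] [Flat g] [LocallyOfFiniteType g]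
    (δX : X → ℤ) (δY : Y → ℤ) (δZ : Z → ℤ) (hδX : Cyc.IsDimFun X δX) (hδY : Cyc.IsDimFun Y δY)
    (hf : Cyc.DeltaCompat f δX δY) (hg : Cyc.DeltaCompat g δY δZ) (r s : ℕ)
    (hr : Cyc.HasRelDim f r) (hs : Cyc.HasRelDim g s) : Cyc.HasRelDim (f ≫ g) (r + s) := by
  intro z T hT
  have hfg := deltaCompat_comp f g δX δY δZ hf hg
  obtain ⟨t, ht⟩ := QuasiSober.sober hT.1 (isClosed_of_mem_irreducibleComponents T hT)
  have hTt : T = closure {t} := ht.def.symm
  -- `t` has no proper generization in the fibre
  have htmax : ∀ t' : (f ≫ g).fiber z, t' ⤳ t → t' = t := by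
    intro t' ht'
    have h1 : T ≤ closure {t'} := by
      rw [hTt]
      exact closure_minimal (Set.singleton_subset_iff.mpr (specializes_iff_mem_closure.mp ht'))
        isClosed_closure
    have h2 := hT.2 (isIrreducible_singleton.closure) h1
    have h3 : t' ∈ closure ({t} : Set ((f ≫ g).fiber z)) := by
      rw [← hTt]
      exact h2 (subset_closure rfl)
    exact (ht'.antisymm (specializes_iff_mem_closure.mpr h3)).eq
  set x : X := (f ≫ g).fiberι z t with hxdef
  have hxz : g (f x) = z := map_fiberι (f ≫ g) z t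
  have hxmax : ∀ x' : X, x' ⤳ x → g (f x') = z → x' = x := by
    intro x' hx' hx'z
    have hx'r : x' ∈ Set.range ((f ≫ g).fiberι z) := by
      rw [Scheme.Hom.range_fiberι]
      exact hx'z
    obtain ⟨t', rfl⟩ := hx'r
    rw [htmax t' ((fiberι_specializes_iff (f ≫ g) z t' t).mp hx')]
  have h1 := generic_of_component_preimage_flat f δX δY hδX hf r hr (f x) x (subset_closure rfl)
    (by
      intro x' hx'1 hx'2
      have e1 : f x' ⤳ f x := hx'2.map f.continuous
      have e2 : f x ⤳ f x' := specializes_iff_mem_closure.mpr hx'1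
      have e3 : f x' = f x := (e1.antisymm e2).eq
      exact hxmax x' hx'2 (by rw [e3, hxz]))
  have h2 := generic_of_component_preimage_flat g δY δZ hδY hg s hs z (f x)
    (by rw [hxz]; exact subset_closure rfl)
    (by
      intro y' hy'1 hy'2
      have e1 : g y' ⤳ g (f x) := hy'2.map g.continuous
      have e2 : z ⤳ g y' := specializes_iff_mem_closure.mpr hy'1
      rw [hxz] at e1
      have e3 : g y' = z := (e1.antisymm e2).eq
      obtain ⟨x', hx'x, hx'y⟩ := Flat.generalizingMap f hy'2
      have := hxmax x' hx'x (by rw [hx'y, e3])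
      rw [← hx'y, this])
  have hdim := topologicalKrullDim_closure_fiber (f ≫ g) δX δZ hδX hfg z t
  rw [hTt, hdim]
  have h3 : (δX x - δZ z).toNat = r + s := by
    have := h1.2
    have := h2.2
    omega
  rw [← hxdef, h3]
  rfl

/-- The local ring of the fibre of `g` at a point `y` without proper generization in its fibre has
finite length. -/
theorem isFiniteLength_fibre_stalk [IsLocallyNoetherian Y] (y : Y)
    (hgen : ∀ y' : Y, y' ⤳ y → g y' = g y → y' = y) :
    IsFiniteLength (Y.presheaf.stalk y)
      (Y.presheaf.stalk y ⧸ Ideal.map (g.stalkMap y).hom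
        (IsLocalRing.maximalIdeal (Z.presheaf.stalk (g y)))) := by
  apply Groth.Agent.H64.isFiniteLength_of_support_subset_maximal
  intro p hp
  have hI : Ideal.map (g.stalkMap y).hom (IsLocalRing.maximalIdeal (Z.presheaf.stalk (g y))) ≤
      p.asIdeal := by
    rw [Module.mem_support_iff_of_finite, Ideal.annihilator_quotient] at hp
    exact hp
  have hcomap : p.asIdeal.comap (g.stalkMap y).hom =
      IsLocalRing.maximalIdeal (Z.presheaf.stalk (g y)) :=
    le_antisymm (IsLocalRing.le_maximalIdeal (Ideal.comap_ne_top _ p.2.ne_top))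
      (Ideal.map_le_iff_le_comap.mp hI)
  have h1 : g (Y.fromSpecStalk y p) =
      Z.fromSpecStalk (g y) (Spec.map (g.stalkMap y) p) := by
    have := Scheme.SpecMap_stalkMap_fromSpecStalk g (x := y)
    exact (congr($(this) p)).symm
  have h2 : Spec.map (g.stalkMap y) p = IsLocalRing.closedPoint (Z.presheaf.stalk (g y)) :=
    PrimeSpectrum.ext hcomap
  rw [h2, Scheme.fromSpecStalk_closedPoint] at h1
  have h3 := hgen _ (Groth.Agent.H8.fromSpecStalk_specializes y p) h1
  rw [Groth.Agent.H79.SuppGeneric.eq_closedPoint_of_fromSpecStalk_eq y p h3]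
  exact IsLocalRing.maximalIdeal.isMaximal _

/-- Multiplicativity of the lengths of the local rings of the fibres along a flat morphism. -/
theorem length_fibre_comp [Flat f] (x : X)
    (hfl : IsFiniteLength (Y.presheaf.stalk (f x))
      (Y.presheaf.stalk (f x) ⧸ Ideal.map (g.stalkMap (f x)).hom
        (IsLocalRing.maximalIdeal (Z.presheaf.stalk (g (f x)))))) :
    Module.length (X.presheaf.stalk x)
        (X.presheaf.stalk x ⧸ Ideal.map ((f ≫ g).stalkMap x).hom
          (IsLocalRing.maximalIdeal (Z.presheaf.stalk ((f ≫ g) x)))) =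
      Module.length (Y.presheaf.stalk (f x))
        (Y.presheaf.stalk (f x) ⧸ Ideal.map (g.stalkMap (f x)).hom
          (IsLocalRing.maximalIdeal (Z.presheaf.stalk (g (f x))))) *
      Module.length (X.presheaf.stalk x)
        (X.presheaf.stalk x ⧸ Ideal.map (f.stalkMap x).hom
          (IsLocalRing.maximalIdeal (Y.presheaf.stalk (f x)))) := by
  let _ := (f.stalkMap x).hom.toAlgebra
  have hflat : Module.Flat (Y.presheaf.stalk (f x)) (X.presheaf.stalk x) := Flat.stalkMap f x
  have e1 := Groth.Agent.H13.length_lTensor_of_isFiniteLength (A := Y.presheaf.stalk (f x))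
    (B := X.presheaf.stalk x) (X.presheaf.stalk x) _ hfl
  have e2 := Groth.Agent.H13.length_lTensor_quotient (A := Y.presheaf.stalk (f x))
    (B := X.presheaf.stalk x) (X.presheaf.stalk x)
    (Ideal.map (g.stalkMap (f x)).hom (IsLocalRing.maximalIdeal (Z.presheaf.stalk (g (f x)))))
  rw [e2] at e1
  have h1 : ((Ideal.map (g.stalkMap (f x)).hom
      (IsLocalRing.maximalIdeal (Z.presheaf.stalk (g (f x))))).map
      (algebraMap (Y.presheaf.stalk (f x)) (X.presheaf.stalk x)) •
        (⊤ : Submodule (X.presheaf.stalk x) (X.presheaf.stalk x))) =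
      Ideal.map ((f ≫ g).stalkMap x).hom
        (IsLocalRing.maximalIdeal (Z.presheaf.stalk ((f ≫ g) x))) := by
    rw [smul_eq_mul, Ideal.mul_top, Ideal.map_map, Scheme.Hom.stalkMap_comp]
    rfl
  have h2 : ((IsLocalRing.maximalIdeal (Y.presheaf.stalk (f x))).map
      (algebraMap (Y.presheaf.stalk (f x)) (X.presheaf.stalk x)) •
        (⊤ : Submodule (X.presheaf.stalk x) (X.presheaf.stalk x))) =
      Ideal.map (f.stalkMap x).hom (IsLocalRing.maximalIdeal (Y.presheaf.stalk (f x))) := by
    rw [smul_eq_mul, Ideal.mul_top]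
    rfl
  rw [(Submodule.quotEquivOfEq _ _ h1).length_eq, (Submodule.quotEquivOfEq _ _ h2).length_eq] at e1
  exact e1

end Groth.Agent.H79.CycComp
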