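import Mathlib
import Groth.Prelude.Def_Cyc
import Groth.Agent.H48.CycFib

/-!
# Relative dimension bounds the jump of dimension functions (helper79)

`delta_le_add_relDim`: if every irreducible component of every fibre of `f` has dimension `r`
and `δX` is induced from `δY`, then `δX x ≤ δY (f x) + r`.
-/

set_option autoImplicit false
universe u
open CategoryTheory AlgebraicGeometry TopologicalSpace Opposite

namespace Groth.Agent.H79.CycRelDim

variable {X Y : Scheme.{u}} (f : X ⟶ Y) [LocallyOfFiniteType f] (δX : X → ℤ) (δY : Y → ℤ)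

theorem delta_le_add_relDim (hδX : Cyc.IsDimFun X δX) (hδ : Cyc.DeltaCompat f δX δY) (r : ℕ)
    (hr : Cyc.HasRelDim f r) (x : X) : δX x ≤ δY (f x) + r := by
  have hdim := Groth.Agent.H48.CycFib.topologicalKrullDim_closure_asFiber f δX δY hδX hδ x
  have hirr : IsIrreducible (closure ({f.asFiber x} : Set (f.fiber (f x)))) :=
    isIrreducible_singleton.closure
  obtain ⟨T, hT, hsub, hmax⟩ := exists_preirreducible _ hirr.isPreirreducible
  have hTirr : IsIrreducible T := ⟨hirr.nonempty.mono hsub, hT⟩
  have hTmem : T ∈ irreducibleComponents (f.fiber (f x)) :=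
    ⟨hTirr, fun T' hT' hle => (hmax T' hT'.isPreirreducible hle).le⟩
  have h1 := hr (f x) T hTmem
  have h2 : topologicalKrullDim ↥(closure ({f.asFiber x} : Set (f.fiber (f x)))) ≤
      topologicalKrullDim ↥T :=
    (Topology.IsEmbedding.inclusion hsub).isInducing.topologicalKrullDim_le
  rw [hdim, h1] at h2
  have h3 : ((δX x - δY (f x)).toNat : ℕ∞) ≤ (r : ℕ∞) := by exact_mod_cast h2
  have h4 : (δX x - δY (f x)).toNat ≤ r := by exact_mod_cast h3
  omega

end Groth.Agent.H79.CycRelDim
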