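import Mathlib
import Groth.Agent.H48.DimIneqSch

/-!
# Residue field extensions of morphisms locally of finite type are finitely generated (helper79)
-/

set_option autoImplicit false
set_option linter.style.haveILetI false
universe u

open AlgebraicGeometry CategoryTheory TopologicalSpace Opposite

namespace Groth.Agent.H79.ResFieldEssFT

open Groth.Agent.H48.DimIneq Groth.Agent.H48.DimIneqSch

section Ring

variable {A B K L : Type u} [CommRing A] [CommRing B] [Algebra A B]
  [Algebra.FiniteType A B] [Field K] [Field L]
  [Algebra K L] {evA : A →+* K} {evB : B →+* L}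

theorem essFiniteType_of_isFrac (hsq : (algebraMap K L).comp evA = evB.comp (algebraMap A B))
    (hL : IsFrac evB) : Algebra.EssFiniteType K L := by
  letI algBL : Algebra B L := evB.toAlgebra
  letI algAL : Algebra A L := (evB.comp (algebraMap A B)).toAlgebra
  letI algAK : Algebra A K := evA.toAlgebra
  have : IsScalarTower A B L := IsScalarTower.of_algebraMap_eq fun _ => rfl
  have : IsScalarTower A K L := IsScalarTower.of_algebraMap_eq fun a => by
    have := congrArg (fun g => g a) hsq
    exact this.symm
  have : Algebra.EssFiniteType B L := by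
    rw [Algebra.essFiniteType_iff]
    refine ⟨∅, fun s => ?_⟩
    obtain ⟨a, t, ht, hs⟩ := hL s
    refine ⟨evB t, ?_, ?_, ?_⟩
    · exact Subalgebra.algebraMap_mem _ t
    · exact (isUnit_iff_ne_zero.mpr ht)
    · rw [hs]
      exact Subalgebra.algebraMap_mem _ a
  have : Algebra.EssFiniteType A L := Algebra.EssFiniteType.comp A B L
  exact Algebra.EssFiniteType.of_comp A K L

end Ring

variable {X S : Scheme.{u}}

/-- For `f` locally of finite type, `κ(x)` is a finitely generated field extension of `κ(f x)`. -/
theorem essFiniteType_residueFieldMap (f : X ⟶ S) [LocallyOfFiniteType f] (x : X) :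
    letI := (f.residueFieldMap x).hom.toAlgebra
    Algebra.EssFiniteType (S.residueField (f x)) (X.residueField x) := by
  obtain ⟨V, hV, hxV, -⟩ := exists_isAffineOpen_mem_and_subset (x := f x) (U := ⊤) trivial
  obtain ⟨U, hU, hxU, e⟩ := exists_isAffineOpen_mem_and_subset (x := x) (U := f ⁻¹ᵁ V) hxV
  letI algAB : Algebra Γ(S, V) Γ(X, U) := (f.appLE V U e).hom.toAlgebra
  have : Algebra.FiniteType Γ(S, V) Γ(X, U) := f.finiteType_appLE hV hU e
  letI algKL : Algebra (S.residueField (f x)) (X.residueField x) :=
    (f.residueFieldMap x).hom.toAlgebra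
  have hsq : (algebraMap (S.residueField (f x)) (X.residueField x)).comp
      (S.evaluation V (f x) (e hxU)).hom =
      (X.evaluation U x hxU).hom.comp (algebraMap Γ(S, V) Γ(X, U)) :=
    evaluation_square f e x hxU
  have hL := isFrac_evaluation hU x hxU
  exact essFiniteType_of_isFrac hsq hL

/-- For `f` locally of finite type, the residue field extension at any point has finite
transcendence degree. -/
theorem exists_nat_trdeg_residueFieldMap (f : X ⟶ S) [LocallyOfFiniteType f] (x : X) :
    ∃ n : ℕ, letI := (f.residueFieldMap x).hom.toAlgebra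
      Algebra.trdeg (S.residueField (f x)) (X.residueField x) = n := by
  letI := (f.residueFieldMap x).hom.toAlgebra
  have := essFiniteType_residueFieldMap f x
  have h := trdeg_lt_aleph0 (K := S.residueField (f x)) (L := X.residueField x)
  obtain ⟨n, hn⟩ := Cardinal.lt_aleph0.mp h
  exact ⟨n, hn⟩

end Groth.Agent.H79.ResFieldEssFT
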