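import Mathlib

namespace Groth.Agent.H79

universe u v

section
variable {A : Type u} [CommRing A] [IsRegularLocalRing A]
  {G : Type v} [Group G] [MulSemiringAction G A]

open IsLocalRing

/-- Nakayama in the form used here. -/
theorem max_le_of_le_sup_sq (N : Ideal A) (h : maximalIdeal A ≤ N ⊔ maximalIdeal A ^ 2) :
    maximalIdeal A ≤ N := by
  have hfg : (maximalIdeal A : Submodule A A).FG := IsNoetherian.noetherian _
  refine Submodule.le_of_le_smul_of_le_jacobson_bot (I := maximalIdeal A) hfg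
    (IsLocalRing.maximalIdeal_le_jacobson ⊥) ?_
  rw [pow_two] at h
  exact h

/-- A generating family of `dim A` elements is minimal: no element lies in the ideal generated by
the others plus `m ^ 2`. -/
theorem not_mem_of_span_eq (n : ℕ) (hn : ringKrullDim A = n) (u : Fin n → A)
    (hu : Ideal.span (Set.range u) = maximalIdeal A) (i : Fin n) :
    u i ∉ Ideal.span (u '' {j | j ≠ i}) ⊔ maximalIdeal A ^ 2 := by
  classical
  intro hmem
  have hle : maximalIdeal A ≤ Ideal.span (u '' {j | j ≠ i}) ⊔ maximalIdeal A ^ 2 := by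
    have hu' : maximalIdeal A ≤ Ideal.span (Set.range u) := hu.ge
    refine hu'.trans ?_
    rw [Ideal.span_le]
    rintro _ ⟨j, rfl⟩
    by_cases hj : j = i
    · rw [hj]; exact hmem
    · exact Ideal.mem_sup_left (Ideal.subset_span ⟨j, hj, rfl⟩)
  have hle' := max_le_of_le_sup_sq _ hle
  have hge : Ideal.span (u '' {j | j ≠ i}) ≤ maximalIdeal A := by
    rw [← hu]
    exact Ideal.span_mono (Set.image_subset_range _ _)
  have heq : Ideal.span (u '' {j | j ≠ i}) = maximalIdeal A := le_antisymm hge hle'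
  let s : Finset A := (Finset.univ.erase i).image u
  have hs : (s : Set A) = u '' {j | j ≠ i} := by
    ext x
    simp [s]
  have hmin : maximalIdeal A ∈ (Ideal.span (s : Set A)).minimalPrimes := by
    rw [hs, heq, Ideal.minimalPrimes_eq_subsingleton_self]
    exact Set.mem_singleton _
  have h1 := Ideal.height_le_card_of_mem_minimalPrimes_span_finset hmin
  have h2 : s.card ≤ n - 1 := by
    refine Finset.card_image_le.trans ?_
    rw [Finset.card_erase_of_mem (Finset.mem_univ i), Finset.card_univ, Fintype.card_fin]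
  have h3 : (maximalIdeal A).height = (n : ℕ∞) := by
    have := IsLocalRing.maximalIdeal_height_eq_ringKrullDim (R := A)
    rw [hn] at this
    exact_mod_cast this
  rw [h3] at h1
  have h4 : (n : ℕ∞) ≤ ((n - 1 : ℕ) : ℕ∞) := h1.trans (by exact_mod_cast h2)
  have h5 : n ≤ n - 1 := by exact_mod_cast h4
  have : 0 < n := Fin.pos i
  omega


variable (hres : ∀ (σ : G) (a : A), σ • a - a ∈ maximalIdeal A)

include hres in
theorem map_max_le (σ : G) :
    Ideal.map (MulSemiringAction.toRingHom G A σ) (maximalIdeal A) ≤ maximalIdeal A := by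
  rw [Ideal.map_le_iff_le_comap]
  intro a ha
  rw [Ideal.mem_comap]
  change σ • a ∈ maximalIdeal A
  have h : σ • a = (σ • a - a) + a := by ring
  rw [h]
  exact add_mem (hres σ a) ha

include hres in
theorem map_max_sq_le (σ : G) :
    Ideal.map (MulSemiringAction.toRingHom G A σ) (maximalIdeal A ^ 2) ≤ maximalIdeal A ^ 2 := by
  rw [Ideal.map_pow]
  exact Ideal.pow_right_mono (map_max_le hres σ) 2

variable (n : ℕ) (hn : ringKrullDim A = n) (u : Fin n → A)
  (hu : Ideal.span (Set.range u) = maximalIdeal A)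
  (htri : ∀ (σ : G) (i : Fin n),
    σ • u i ∈ Ideal.span (u '' {j | j ≤ i}) ⊔ maximalIdeal A ^ 2)

/-- the lower flag ideals -/
def flagLT (u : Fin n → A) (i : Fin n) : Ideal A :=
  Ideal.span (u '' {j | j < i}) ⊔ maximalIdeal A ^ 2

include hres htri in
theorem map_flagLT_le (σ : G) (i : Fin n) :
    Ideal.map (MulSemiringAction.toRingHom G A σ) (flagLT n u i) ≤ flagLT n u i := by
  unfold flagLT
  rw [Ideal.map_sup]
  refine sup_le ?_ ((map_max_sq_le hres σ).trans le_sup_right)
  rw [Ideal.map_span, Ideal.span_le]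
  rintro _ ⟨_, ⟨j, hj, rfl⟩, rfl⟩
  have h := htri σ j
  have hmono : Ideal.span (u '' {k | k ≤ j}) ≤ Ideal.span (u '' {k | k < i}) :=
    Ideal.span_mono (Set.image_mono (fun k (hk : k ≤ j) => lt_of_le_of_lt hk hj))
  exact sup_le_sup_right hmono _ h

include hres htri hn hu in
theorem smul_not_mem_flagLT (τ : G) (i : Fin n) : τ • u i ∉ flagLT n u i := by
  intro hmem
  have h1 : τ⁻¹ • (τ • u i) ∈ flagLT n u i :=
    map_flagLT_le hres n u htri τ⁻¹ i (Ideal.mem_map_of_mem _ hmem)
  rw [inv_smul_smul] at h1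
  refine not_mem_of_span_eq n hn u hu i ?_
  have hmono : Ideal.span (u '' {k | k < i}) ≤ Ideal.span (u '' {k | k ≠ i}) :=
    Ideal.span_mono (Set.image_mono (fun k (hk : k < i) => ne_of_lt hk))
  exact sup_le_sup_right hmono _ h1

include hres htri hn hu in
theorem mem_span_smul_sup_flagLT (τ : G) (i : Fin n) :
    u i ∈ Ideal.span {τ • u i} ⊔ flagLT n u i := by
  have h := htri τ i
  have hsplit : Ideal.span (u '' {j | j ≤ i}) ⊔ maximalIdeal A ^ 2 ≤
      flagLT n u i ⊔ Ideal.span {u i} := by
    refine sup_le ?_ (le_sup_right.trans le_sup_left)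
    rw [Ideal.span_le]
    rintro _ ⟨j, hj, rfl⟩
    have hj' : j ≤ i := hj
    rcases lt_or_eq_of_le hj' with hlt | heq
    · exact Ideal.mem_sup_left (Ideal.mem_sup_left (Ideal.subset_span ⟨j, hlt, rfl⟩))
    · rw [heq]
      exact Ideal.mem_sup_right (Ideal.subset_span rfl)
  obtain ⟨y, hy, z, hz, hyz⟩ := Submodule.mem_sup.1 (hsplit h)
  obtain ⟨c, rfl⟩ := Ideal.mem_span_singleton'.1 hz
  have hui : u i ∈ maximalIdeal A := by
    rw [← hu]; exact Ideal.subset_span ⟨i, rfl⟩
  have hc : IsUnit c := by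
    by_contra hc
    have hcm : c ∈ maximalIdeal A := (IsLocalRing.mem_maximalIdeal c).2 hc
    have h2 : c * u i ∈ maximalIdeal A ^ 2 := by
      rw [pow_two]; exact Ideal.mul_mem_mul hcm hui
    apply smul_not_mem_flagLT hres n hn u hu htri τ i
    rw [← hyz]
    exact add_mem hy (Ideal.mem_sup_right h2)
  obtain ⟨c', rfl⟩ := hc
  have : u i = (c'⁻¹ : Aˣ) * (τ • u i) - (c'⁻¹ : Aˣ) * y := by
    rw [← hyz]
    rw [mul_add, ← mul_assoc, Units.inv_mul, one_mul]
    ring
  have hmem : (c'⁻¹ : Aˣ) * (τ • u i) - (c'⁻¹ : Aˣ) * y ∈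
      Ideal.span {τ • u i} ⊔ flagLT n u i :=
    sub_mem (Ideal.mem_sup_left (Ideal.mul_mem_left _ _ (Ideal.subset_span rfl)))
      (Ideal.mem_sup_right (Ideal.mul_mem_left _ _ hy))
  rwa [← this] at hmem

include hres htri hn hu in
theorem admissible (τ : Fin n → G) :
    Ideal.span (Set.range fun i => τ i • u i) = maximalIdeal A := by
  set W := Ideal.span (Set.range fun i => τ i • u i) with hW
  have hWle : W ≤ maximalIdeal A := by
    rw [hW, Ideal.span_le]
    rintro _ ⟨i, rfl⟩
    have hui : u i ∈ maximalIdeal A := by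
      rw [← hu]; exact Ideal.subset_span ⟨i, rfl⟩
    exact map_max_le hres (τ i) (Ideal.mem_map_of_mem _ hui)
  have key : ∀ i : Fin n, u i ∈ W ⊔ maximalIdeal A ^ 2 := by
    intro i
    induction i using WellFoundedLT.induction with
    | ind i ih =>
      have h1 : flagLT n u i ≤ W ⊔ maximalIdeal A ^ 2 := by
        unfold flagLT
        refine sup_le ?_ le_sup_right
        rw [Ideal.span_le]
        rintro _ ⟨j, hj, rfl⟩
        exact ih j hj
      have h2 := mem_span_smul_sup_flagLT hres n hn u hu htri (τ i) i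
      refine (sup_le ?_ h1) h2
      rw [Ideal.span_le]
      intro x hx
      rw [Set.mem_singleton_iff] at hx
      rw [hx]
      exact Ideal.mem_sup_left (Ideal.subset_span ⟨i, rfl⟩)
  apply le_antisymm hWle
  apply max_le_of_le_sup_sq
  have hu' : maximalIdeal A ≤ Ideal.span (Set.range u) := hu.ge
  refine hu'.trans ?_
  rw [Ideal.span_le]
  rintro _ ⟨i, rfl⟩
  exact key i

end

end Groth.Agent.H79
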