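import Mathlib

/-!
# Artin–Schreier conductor equals the ramification break (power series computations)
-/

namespace Groth.Agent.H79.AS

open PowerSeries

variable {k : Type*} [Field k]

/-- Data: an automorphism `σ` of `k⟦X⟧` with `σ X = X * w`, `w = 1 + e`. -/
structure Setup (σ : k⟦X⟧ ≃ₐ[k] k⟦X⟧) (m : ℕ) (w : k⟦X⟧) : Prop where
  sX : σ X = X * w
  cw : constantCoeff w = 1
  ow : (w - 1).order = m

variable {σ : k⟦X⟧ ≃ₐ[k] k⟦X⟧} {m : ℕ} {w : k⟦X⟧}

theorem isUnit_of_cc_one {h : k⟦X⟧} (hh : constantCoeff h = 1) : IsUnit h := by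
  rw [isUnit_iff_constantCoeff, hh]; exact isUnit_one

theorem order_of_cc_ne {h : k⟦X⟧} (hh : constantCoeff h ≠ 0) : h.order = 0 :=
  order_zero_of_unit (by rw [isUnit_iff_constantCoeff]; exact hh.isUnit)

theorem Setup.cc (S : Setup σ m w) (h : k⟦X⟧) : constantCoeff (σ h) = constantCoeff h := by
  conv_lhs => rw [eq_X_mul_shift_add_const h]
  rw [map_add, map_mul, S.sX]
  have : σ (C (constantCoeff h)) = C (constantCoeff h) := by
    have := σ.commutes (constantCoeff h)
    simpa [algebraMap_apply'] using this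
  rw [this]
  simp

theorem Setup.sub_dvd (S : Setup σ m w) : ∀ (N : ℕ), N ≤ m + 1 → ∀ h : k⟦X⟧, X ^ N ∣ σ h - h
  | 0, _, h => by simp
  | N + 1, hN, h => by
    obtain ⟨h', hh'⟩ : ∃ h', h = X * h' + C (constantCoeff h) := ⟨_, eq_X_mul_shift_add_const h⟩
    have hC : σ (C (constantCoeff h)) = C (constantCoeff h) := by
      have := σ.commutes (constantCoeff h)
      simpa [algebraMap_apply'] using this
    have e : σ h - h = (σ X - X) * σ h' + X * (σ h' - h') := by
      conv_lhs => rw [hh']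
      rw [map_add, map_mul, hC]; ring
    rw [e]
    apply dvd_add
    · apply Dvd.dvd.mul_right
      have h1 : σ X - X = X * (w - 1) := by rw [S.sX]; ring
      rw [h1, pow_succ']
      apply mul_dvd_mul_left
      have h2 : X ^ (w - 1).order.toNat ∣ w - 1 := X_pow_order_dvd
      rw [S.ow] at h2
      exact (pow_dvd_pow X (by simpa using Nat.le_of_succ_le_succ hN)).trans h2
    · rw [pow_succ']
      exact mul_dvd_mul_left X (S.sub_dvd N (Nat.le_of_succ_le hN) h')

theorem le_order_of_X_pow_dvd {N : ℕ} {h : k⟦X⟧} (hd : X ^ N ∣ h) : (N : ℕ∞) ≤ h.order := by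
  obtain ⟨c, rfl⟩ := hd
  rw [order_mul, order_X_pow]
  exact le_self_add

theorem Setup.le_order_sub (S : Setup σ m w) (h : k⟦X⟧) : ((m + 1 : ℕ) : ℕ∞) ≤ (σ h - h).order :=
  le_order_of_X_pow_dvd (S.sub_dvd (m + 1) le_rfl h)

theorem Setup.isUnit_w (S : Setup σ m w) : IsUnit w := isUnit_of_cc_one S.cw

theorem Setup.order_w_pow (S : Setup σ m w) (n : ℕ) : (w ^ n).order = 0 :=
  order_zero_of_unit (S.isUnit_w.pow n)

/-- `σ` preserves the order. -/
theorem Setup.order_map (S : Setup σ m w) (h : k⟦X⟧) : (σ h).order = h.order := by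
  by_cases h0 : h = 0
  · simp [h0]
  · have e := X_pow_order_mul_divXPowOrder (f := h)
    have hu : IsUnit (divXPowOrder h) := by
      rw [isUnit_iff_constantCoeff]
      exact (by rwa [ne_eq, constantCoeff_divXPowOrder_eq_zero_iff] : constantCoeff (divXPowOrder h) ≠ 0).isUnit
    have e2 : σ h = X ^ h.order.toNat * (w ^ h.order.toNat * σ (divXPowOrder h)) := by
      conv_lhs => rw [← e]
      rw [map_mul, map_pow, S.sX, mul_pow]; ring
    rw [e2, order_mul, order_X_pow, order_mul, S.order_w_pow,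
      order_zero_of_unit (hu.map σ), add_zero, add_zero, coe_toNat_order h0]

theorem Setup.order_map_pow (S : Setup σ m w) (i : ℕ) (h : k⟦X⟧) : ((σ ^ i) h).order = h.order := by
  induction i with
  | zero => simp
  | succ i ih => rw [pow_succ', AlgEquiv.mul_apply, S.order_map, ih]

/-- `ord(w^μ - 1) = m` when `μ` is invertible in `k`. -/
theorem Setup.order_w_pow_sub_one (S : Setup σ m w) (μ : ℕ) (hμ : (μ : k) ≠ 0) :
    (w ^ μ - 1).order = m := by
  rw [← mul_geom_sum, order_mul, S.ow]
  have : constantCoeff (∑ i ∈ Finset.range μ, w ^ i) = (μ : k) := by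
    rw [map_sum]
    simp [S.cw]
  rw [order_of_cc_ne (by rw [this]; exact hμ), add_zero]

/-- The key computation. -/
theorem Setup.order_key (S : Setup σ m w) (a b : k⟦X⟧) (ha : a ≠ 0) (hb : b ≠ 0) (μ : ℕ)
    (hμ : (μ : k) ≠ 0) (hab : b.order.toNat = a.order.toNat + μ) :
    (σ a * b - a * σ b).order = ((a.order.toNat + b.order.toNat + m : ℕ) : ℕ∞) := by
  set α := a.order.toNat with hα
  set β := b.order.toNat with hβ
  set a₀ := divXPowOrder a with ha₀
  set b₀ := divXPowOrder b with hb₀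
  have ea : a = X ^ α * a₀ := (X_pow_order_mul_divXPowOrder (f := a)).symm
  have eb : b = X ^ β * b₀ := (X_pow_order_mul_divXPowOrder (f := b)).symm
  have ua : constantCoeff a₀ ≠ 0 := by rwa [ne_eq, constantCoeff_divXPowOrder_eq_zero_iff]
  have ub : constantCoeff b₀ ≠ 0 := by rwa [ne_eq, constantCoeff_divXPowOrder_eq_zero_iff]
  have uσb : constantCoeff (σ b₀) ≠ 0 := by rwa [S.cc]
  have esa : σ a = X ^ α * (w ^ α * σ a₀) := by
    conv_lhs => rw [ea]
    rw [map_mul, map_pow, S.sX, mul_pow]; ring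
  have esb : σ b = X ^ β * (w ^ β * σ b₀) := by
    conv_lhs => rw [eb]
    rw [map_mul, map_pow, S.sX, mul_pow]; ring
  have main : σ a * b - a * σ b =
      X ^ (α + β) * (w ^ α * (((σ a₀ - a₀) * b₀ - a₀ * (σ b₀ - b₀)) + -((w ^ μ - 1) * (a₀ * σ b₀)))) := by
    rw [esa, esb]
    conv_lhs => rw [ea, eb]
    rw [hab, pow_add w α μ]
    ring
  rw [main, order_mul, order_X_pow, order_mul, S.order_w_pow, zero_add]
  have o2 : (-((w ^ μ - 1) * (a₀ * σ b₀))).order = m := by
    rw [order_neg, order_mul, order_mul, S.order_w_pow_sub_one μ hμ, order_of_cc_ne ua,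
      order_of_cc_ne uσb, add_zero, add_zero]
  have o1 : ((m + 1 : ℕ) : ℕ∞) ≤ ((σ a₀ - a₀) * b₀ - a₀ * (σ b₀ - b₀)).order := by
    rw [sub_eq_add_neg]
    refine le_trans ?_ (min_order_le_order_add _ _)
    rw [le_min_iff, order_neg]
    constructor
    · rw [order_mul]; exact le_trans (S.le_order_sub a₀) le_self_add
    · rw [order_mul]; exact le_trans (S.le_order_sub b₀) le_add_self
  have hne : ((σ a₀ - a₀) * b₀ - a₀ * (σ b₀ - b₀)).order ≠ (-((w ^ μ - 1) * (a₀ * σ b₀))).order := by
    rw [o2]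
    intro hcon
    rw [hcon] at o1
    have : (m + 1 : ℕ) ≤ m := by exact_mod_cast o1
    omega
  rw [order_add_of_order_ne _ _ hne, o2, min_eq_right]
  · push_cast; ring
  · exact le_trans (by exact_mod_cast Nat.le_succ m) o1

theorem cc_of_sX (hsX : σ X = X * w) (h : k⟦X⟧) : constantCoeff (σ h) = constantCoeff h := by
  conv_lhs => rw [eq_X_mul_shift_add_const h]
  rw [map_add, map_mul, hsX]
  have : σ (C (constantCoeff h)) = C (constantCoeff h) := by
    have := σ.commutes (constantCoeff h)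
    simpa [algebraMap_apply'] using this
  rw [this]
  simp

theorem iterate_X (hsX : σ X = X * w) :
    ∀ i : ℕ, ∃ W : k⟦X⟧, (σ ^ i) X = X * W ∧ constantCoeff W = constantCoeff w ^ i
  | 0 => ⟨1, by simp, by simp⟩
  | i + 1 => by
    obtain ⟨W, h1, h2⟩ := iterate_X hsX i
    refine ⟨w * σ W, ?_, ?_⟩
    · rw [pow_succ', AlgEquiv.mul_apply, h1, map_mul, hsX]; ring
    · rw [map_mul, cc_of_sX hsX, h2, pow_succ]; ring

theorem cc_w_eq_one (p : ℕ) [Fact p.Prime] [CharP k p] (hsX : σ X = X * w) (hσp : σ ^ p = 1) :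
    constantCoeff w = 1 := by
  obtain ⟨W, h1, h2⟩ := iterate_X hsX p
  rw [hσp, AlgEquiv.one_apply] at h1
  have hW : W = 1 := by
    have : X * W = X * 1 := by rw [← h1, mul_one]
    exact mul_left_cancel₀ X_ne_zero this
  rw [hW, map_one] at h2
  have h3 : (constantCoeff w - 1) ^ p = 0 := by
    rw [sub_pow_char, ← h2, one_pow, sub_self]
  exact sub_eq_zero.1 (pow_eq_zero_iff (Fact.out : p.Prime).ne_zero |>.1 h3)

/-- Construction of the setup from the ramification break. -/
theorem exists_setup (p : ℕ) [Fact p.Prime] [CharP k p] (hσp : σ ^ p = 1)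
    (hm : (σ X - X).order = ((m + 1 : ℕ) : ℕ∞)) : ∃ w, Setup σ m w := by
  have hne : σ X - X ≠ 0 := by
    intro h0
    rw [h0, order_zero] at hm
    exact ENat.top_ne_natCast _ hm
  set c := divXPowOrder (σ X - X) with hc
  have e1 : X ^ (m + 1) * c = σ X - X := by
    have := X_pow_order_mul_divXPowOrder (f := σ X - X)
    rwa [hm, ENat.toNat_natCast] at this
  have uc : constantCoeff c ≠ 0 := by rwa [ne_eq, constantCoeff_divXPowOrder_eq_zero_iff]
  have hsX : σ X = X * (1 + X ^ m * c) := by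
    have : σ X = X + X ^ (m + 1) * c := by rw [e1]; ring
    rw [this, pow_succ']; ring
  have ow : ((1 + X ^ m * c : k⟦X⟧) - 1).order = (m : ℕ∞) := by
    rw [add_sub_cancel_left, order_mul, order_X_pow, order_of_cc_ne uc, add_zero]
  exact ⟨1 + X ^ m * c, hsX, cc_w_eq_one p hsX hσp, ow⟩

theorem prod_invariant (p : ℕ) (hσp : σ ^ p = 1) :
    σ (∏ i ∈ Finset.range p, (σ ^ i) X) = ∏ i ∈ Finset.range p, (σ ^ i) X := by
  rw [map_prod]
  have h1 : ∀ i ∈ Finset.range p, σ ((σ ^ i) X) = (σ ^ (i + 1)) X := by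
    intro i _
    rw [pow_succ', AlgEquiv.mul_apply]
  rw [Finset.prod_congr rfl h1]
  have h2 := Finset.prod_range_succ' (fun i => (σ ^ i) (X : k⟦X⟧)) p
  have h3 := Finset.prod_range_succ (fun i => (σ ^ i) (X : k⟦X⟧)) p
  rw [h3] at h2
  simp only [hσp, AlgEquiv.one_apply, pow_zero] at h2
  exact (mul_right_cancel₀ X_ne_zero h2).symm

theorem Setup.order_prod_X (S : Setup σ m w) (p : ℕ) :
    (∏ i ∈ Finset.range p, (σ ^ i) X).order = p := by
  rw [order_prod, Finset.sum_congr rfl (fun i _ => (S.order_map_pow i X).trans order_X)]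
  simp

theorem toNat_eq_of_order {h : k⟦X⟧} (h0 : h ≠ 0) : h.order = (h.order.toNat : ℕ∞) :=
  (coe_toNat_order h0).symm

/-- The main computation inside `k⟦X⟧`. -/
theorem main_aux (p q : ℕ) [Fact p.Prime] [CharP k p] (hpq : p = q + 1)
    (σ : k⟦X⟧ ≃ₐ[k] k⟦X⟧) (hσp : σ ^ p = 1)
    (m : ℕ) (hm : (σ X - X).order = ((m + 1 : ℕ) : ℕ∞))
    (f : k⟦X⟧) (hfσ : σ f = f) (hf0 : constantCoeff f ≠ 0)
    (μ : ℕ) (hμ : 0 < μ) (hpμ : ¬ p ∣ μ) (a b : k⟦X⟧) (hb : b ≠ 0)
    (hz : (a ^ (q + 1) - a * b ^ q) * (∏ i ∈ Finset.range p, (σ ^ i) X) ^ μ = f * b ^ (q + 1)) :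
    μ = m := by
  obtain ⟨w, S⟩ := exists_setup p hσp hm
  have : CharP k⟦X⟧ p := charP_of_injective_algebraMap (algebraMap k k⟦X⟧).injective p
  have hq : 0 < q := by
    have := (Fact.out : p.Prime).two_le
    omega
  set x := ∏ i ∈ Finset.range p, (σ ^ i) X with hx
  have hσx : σ x = x := prod_invariant p hσp
  have ox : x.order = p := S.order_prod_X p
  have hx0 : x ≠ 0 := by
    intro h0
    rw [h0, order_zero] at ox
    exact ENat.top_ne_natCast _ ox
  have hf : f ≠ 0 := by
    intro h0; rw [h0] at hf0; simp at hf0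
  have hμk : (μ : k) ≠ 0 := by
    rwa [ne_eq, CharP.cast_eq_zero_iff k p μ]
  have hrhs : f * b ^ (q + 1) ≠ 0 := mul_ne_zero hf (pow_ne_zero _ hb)
  have ha : a ≠ 0 := by
    intro h0
    rw [h0] at hz
    simp at hz
    rcases hz with h | h
    · exact hf h
    · exact hb h
  have E2 : (σ a ^ (q + 1) - σ a * σ b ^ q) * x ^ μ = f * σ b ^ (q + 1) := by
    have := congrArg σ hz
    simpa [map_mul, map_sub, map_pow, hσx, hfσ] using this
  obtain ⟨c, hc⟩ : ∃ c, c = a ^ (q + 1) - a * b ^ q := ⟨_, rfl⟩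
  have hzc : c * x ^ μ = f * b ^ (q + 1) := by rw [hc]; exact hz
  have hc0 : c ≠ 0 := by
    intro h0
    rw [h0, zero_mul] at hzc
    exact hrhs hzc.symm
  -- orders as natural numbers
  set α := a.order.toNat with hα
  set β := b.order.toNat with hβ
  set γ := c.order.toNat with hγ
  have oa : a.order = α := toNat_eq_of_order ha
  have ob : b.order = β := toNat_eq_of_order hb
  have oc : c.order = γ := toNat_eq_of_order hc0
  have of : f.order = 0 := order_of_cc_ne hf0
  have e1 : γ + μ * p = (q + 1) * β := by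
    have := congrArg order hzc
    rw [order_mul, order_pow, order_mul, order_pow, oc, ox, ob, of, zero_add,
      nsmul_eq_mul, nsmul_eq_mul] at this
    exact_mod_cast this
  have o1 : (a ^ (q + 1)).order = (((q + 1) * α : ℕ) : ℕ∞) := by
    rw [order_pow, oa, nsmul_eq_mul]; norm_cast
  have o2 : (a * b ^ q).order = ((α + q * β : ℕ) : ℕ∞) := by
    rw [order_mul, order_pow, oa, ob, nsmul_eq_mul]; norm_cast
  have hβα : β = α + μ := by
    rcases lt_or_ge α β with hlt | hge
    · have hne : (a ^ (q + 1)).order ≠ (-(a * b ^ q)).order := by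
        rw [order_neg, o1, o2]
        intro h
        have h' : (q + 1) * α = α + q * β := by exact_mod_cast h
        nlinarith
      have : c.order = (((q + 1) * α : ℕ) : ℕ∞) := by
        rw [hc, sub_eq_add_neg, order_add_of_order_ne _ _ hne, order_neg, o1, o2]
        rw [min_eq_left]
        have : (q + 1) * α ≤ α + q * β := by nlinarith
        exact_mod_cast this
      rw [oc] at this
      have h' : γ = (q + 1) * α := by exact_mod_cast this
      rw [h', hpq] at e1
      have : (q + 1) * (α + μ) = (q + 1) * β := by rw [← e1]; ring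
      exact (Nat.eq_of_mul_eq_mul_left (Nat.succ_pos q) this).symm
    · exfalso
      have : (((q + 1) * β : ℕ) : ℕ∞) ≤ c.order := by
        rw [hc, sub_eq_add_neg]
        refine le_trans ?_ (min_order_le_order_add _ _)
        rw [le_min_iff, order_neg, o1, o2]
        constructor
        · have : (q + 1) * β ≤ (q + 1) * α := Nat.mul_le_mul_left _ hge
          exact_mod_cast this
        · have : (q + 1) * β ≤ α + q * β := by nlinarith
          exact_mod_cast this
      rw [oc] at this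
      have h' : (q + 1) * β ≤ γ := by exact_mod_cast this
      have : 0 < μ * p := Nat.mul_pos hμ (Fact.out : p.Prime).pos
      omega
  -- the difference
  set D := σ a * b - a * σ b with hD
  set B := b * σ b with hB
  have oD : D.order = ((α + β + m : ℕ) : ℕ∞) := S.order_key a b ha hb μ hμk hβα
  have hD0 : D ≠ 0 := by
    intro h0
    rw [h0, order_zero] at oD
    exact ENat.top_ne_natCast _ oD
  have hDp : D ^ (q + 1) = (σ a * b) ^ (q + 1) - (a * σ b) ^ (q + 1) := by
    rw [hD, ← hpq, sub_pow_char]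
  have key : x ^ μ * D ^ (q + 1) = x ^ μ * (B ^ q * D) := by
    rw [hDp, hB, hD]
    linear_combination (b ^ (q + 1)) * E2 - (σ b ^ (q + 1)) * hz
  have key2 : D ^ q * D = B ^ q * D := by
    rw [← pow_succ]
    exact mul_left_cancel₀ (pow_ne_zero _ hx0) key
  have key3 : D ^ q = B ^ q := mul_right_cancel₀ hD0 key2
  have oB : B.order = ((β + β : ℕ) : ℕ∞) := by
    rw [hB, order_mul, S.order_map, ob]; norm_cast
  have := congrArg order key3
  rw [order_pow, order_pow, oD, oB, nsmul_eq_mul, nsmul_eq_mul] at this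
  have h' : q * (α + β + m) = q * (β + β) := by exact_mod_cast this
  have := Nat.eq_of_mul_eq_mul_left hq h'
  omega

end Groth.Agent.H79.AS
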