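import Groth.Prelude.Def_Models
import Mathlib

/-!
# Affine data attached to a minimal numerical type of genus one

Basic facts on numerical types (the first part follows helper37's `H37/NumType`, `H37/Parity`),
the integer matrix `b i j = a i j / w i`, the abstract notion `AffData`, certificate lemmas
(a non-negative vector with non-negative image is impossible unless the image vanishes), and the
existence of a breadth-first ordering of the indices.
-/

set_option autoImplicit false
set_option linter.unusedVariables false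

namespace Groth.Agent.H79.Aff

open Finset Models Models.NumericalType

variable {n : ℕ}

section NT

variable (T : Models.NumericalType n)

theorem nt_row_sum (i : Fin n) : ∑ j, T.a i j * T.m j = 0 := by
  have h := congrFun T.mulVec_m i
  simpa [Matrix.mulVec, dotProduct] using h

theorem nt_symm (i j : Fin n) : T.a i j = T.a j i := by
  have h := T.symm
  exact (Matrix.IsSymm.apply h i j).symm

theorem nt_exists_pos_of_one_lt (hn : 1 < n) (i : Fin n) : ∃ j, j ≠ i ∧ 0 < T.a i j := by
  have hne : ({i} : Finset (Fin n)) ≠ univ := by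
    intro h
    have hc := congrArg Finset.card h
    simp at hc
    omega
  obtain ⟨i', hi', j, hj, hij⟩ := T.connected {i} (singleton_nonempty i) hne
  rw [mem_singleton] at hi'
  subst hi'
  rw [mem_singleton] at hj
  refine ⟨j, hj, lt_of_le_of_ne (T.offDiag_nonneg _ _ (Ne.symm hj)) (Ne.symm hij)⟩

theorem nt_diag_neg (hn : 1 < n) (i : Fin n) : T.a i i < 0 := by
  obtain ⟨j, hji, hpos⟩ := nt_exists_pos_of_one_lt T hn i
  have hrow := nt_row_sum T i
  rw [← Finset.add_sum_erase _ _ (mem_univ i)] at hrow
  have hj : j ∈ univ.erase i := mem_erase.mpr ⟨hji, mem_univ j⟩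
  have hsum : 0 < ∑ x ∈ univ.erase i, T.a i x * T.m x := by
    apply Finset.sum_pos'
    · intro k hk
      have hki : k ≠ i := (mem_erase.mp hk).1
      exact mul_nonneg (T.offDiag_nonneg _ _ (Ne.symm hki)) (le_of_lt (T.m_pos k))
    · exact ⟨j, hj, mul_pos hpos (T.m_pos j)⟩
  have hm := T.m_pos i
  by_contra hcon
  rw [not_lt] at hcon
  have : 0 ≤ T.a i i * T.m i := mul_nonneg hcon (le_of_lt hm)
  linarith

theorem sum_sum_symm_parity : ∀ (n : ℕ) (f : Fin n → Fin n → ℤ), (∀ i j, f i j = f j i) →
    ∃ k : ℤ, ∑ i, ∑ j, f i j = ∑ i, f i i + 2 * k := by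
  intro n
  induction n with
  | zero => intro f _; exact ⟨0, by simp⟩
  | succ n ih =>
    intro f hf
    obtain ⟨k, hk⟩ := ih (fun i j => f i.succ j.succ) (fun i j => hf _ _)
    refine ⟨k + ∑ j : Fin n, f 0 j.succ, ?_⟩
    rw [Fin.sum_univ_succ]
    have h1 : ∑ j, f 0 j = f 0 0 + ∑ j : Fin n, f 0 j.succ := Fin.sum_univ_succ _
    have h2 : ∑ i : Fin n, ∑ j, f i.succ j
        = ∑ i : Fin n, f i.succ 0 + ∑ i : Fin n, ∑ j : Fin n, f i.succ j.succ := by
      rw [← Finset.sum_add_distrib]
      apply Finset.sum_congr rfl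
      intro i _
      exact Fin.sum_univ_succ _
    have h3 : ∑ i : Fin n, f i.succ 0 = ∑ j : Fin n, f 0 j.succ :=
      Finset.sum_congr rfl (fun i _ => hf _ _)
    have h4 : ∑ i : Fin (n + 1), f i i = f 0 0 + ∑ i : Fin n, f i.succ i.succ :=
      Fin.sum_univ_succ _
    rw [h1, h2, h3, hk, h4]
    ring

theorem nt_parity : ∃ k : ℤ, ∑ i, T.m i * T.a i i = 2 * k := by
  -- Σ_i Σ_j m_i a_ij m_j = 0, and the off-diagonal part is even
  have hzero : ∑ i, ∑ j, T.m i * T.a i j * T.m j = 0 := by
    apply Finset.sum_eq_zero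
    intro i _
    have h := nt_row_sum T i
    have : ∑ j, T.m i * T.a i j * T.m j = T.m i * ∑ j, T.a i j * T.m j := by
      rw [Finset.mul_sum]
      apply Finset.sum_congr rfl
      intro j _
      ring
    rw [this, h, mul_zero]
  obtain ⟨k, hk⟩ := sum_sum_symm_parity n (fun i j => T.m i * T.a i j * T.m j)
    (fun i j => by rw [nt_symm T i j]; ring)
  rw [hzero] at hk
  -- m_i^2 a_ii ≡ m_i a_ii mod 2
  have hc : ∀ i, ∃ c : ℤ, T.m i * T.m i - T.m i = 2 * c := by
    intro i
    rcases Int.even_or_odd' (T.m i) with ⟨c, hc | hc⟩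
    · exact ⟨c * (2 * c - 1), by rw [hc]; ring⟩
    · exact ⟨c * (2 * c + 1), by rw [hc]; ring⟩
  choose c hc using hc
  refine ⟨-k - ∑ i, c i * T.a i i, ?_⟩
  have h3 : ∑ i, T.m i * T.a i i
      = ∑ i, T.m i * T.a i i * T.m i - ∑ i, (T.m i * T.m i - T.m i) * T.a i i := by
    rw [← Finset.sum_sub_distrib]
    apply Finset.sum_congr rfl
    intro i _
    ring
  have h4 : ∑ i, (T.m i * T.m i - T.m i) * T.a i i = 2 * ∑ i, c i * T.a i i := by
    rw [Finset.mul_sum]
    apply Finset.sum_congr rfl
    intro i _
    rw [hc i]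
    ring
  rw [h3, h4]
  linarith

theorem nt_genus_one_sum (hg : T.genus = 1) :
    ∑ i, T.m i * (2 * T.w i * (T.g i - 1) - T.a i i) = 0 := by
  obtain ⟨k, hk⟩ := nt_parity T
  unfold Models.NumericalType.genus at hg
  rw [hk] at hg
  have h2 : (2 * k) / 2 = k := by omega
  rw [h2] at hg
  have h3 : ∑ i, T.m i * (2 * T.w i * (T.g i - 1) - T.a i i) =
      2 * ∑ i, T.m i * T.w i * (T.g i - 1) - ∑ i, T.m i * T.a i i := by
    rw [Finset.mul_sum, ← Finset.sum_sub_distrib]
    apply Finset.sum_congr rfl
    intro i _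
    ring
  rw [h3, hk]
  linarith

/-- a minimal numerical type of genus one with more than one index has only `(-2)`-indices -/
theorem nt_genus_one_minusTwo (hn : 1 < n) (hmin : T.IsMinimal) (hg : T.genus = 1) (i : Fin n) :
    T.IsMinusTwo i := by
  have hsum := nt_genus_one_sum T hg
  have hnn : ∀ j ∈ (univ : Finset (Fin n)),
      0 ≤ T.m j * (2 * T.w j * (T.g j - 1) - T.a j j) := by
    intro j _
    by_contra hneg
    rw [not_le] at hneg
    apply hmin j
    have hm := T.m_pos j
    have hw := T.w_pos j
    have hgj := T.g_nonneg j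
    have hdn := nt_diag_neg T hn j
    have h1 : 2 * T.w j * (T.g j - 1) - T.a j j < 0 := by
      by_contra hc
      rw [not_lt] at hc
      have := mul_nonneg (le_of_lt hm) hc
      linarith
    obtain ⟨c, hc⟩ := T.w_dvd j j
    have hg0 : T.g j = 0 := by
      by_contra hne
      have h1' : 1 ≤ T.g j := by omega
      have : 0 ≤ 2 * T.w j * (T.g j - 1) := by
        apply mul_nonneg (by linarith)
        linarith
      linarith
    refine ⟨hg0, ?_⟩
    rw [hg0] at h1
    rw [hc] at h1 hdn ⊢
    have hc1 : c < 0 := by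
      by_contra hcc
      rw [not_lt] at hcc
      have := mul_nonneg (le_of_lt hw) hcc
      linarith
    have hc2 : -2 < c := by
      by_contra hcc
      rw [not_lt] at hcc
      have : T.w j * c ≤ T.w j * (-2) := mul_le_mul_of_nonneg_left hcc (le_of_lt hw)
      linarith
    have : c = -1 := by omega
    rw [this]; ring
  have hz := (Finset.sum_eq_zero_iff_of_nonneg hnn).mp hsum i (mem_univ i)
  have hm := T.m_pos i
  have hw := T.w_pos i
  have hgi := T.g_nonneg i
  have hdn := nt_diag_neg T hn i
  have h1 : 2 * T.w i * (T.g i - 1) - T.a i i = 0 := by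
    rcases mul_eq_zero.mp hz with h0 | h0
    · linarith
    · exact h0
  have hg0 : T.g i = 0 := by
    by_contra hne
    have h1' : 1 ≤ T.g i := by omega
    have : 0 ≤ 2 * T.w i * (T.g i - 1) := by
      apply mul_nonneg (by linarith)
      linarith
    linarith
  refine ⟨hg0, ?_⟩
  rw [hg0] at h1
  linarith

end NT

/-! ### The matrix `b` -/

/-- The integer matrix `a i j / w i`. -/
def bmat (T : Models.NumericalType n) (i j : Fin n) : ℤ := T.a i j / T.w i

theorem a_eq (T : Models.NumericalType n) (i j : Fin n) : T.a i j = T.w i * bmat T i j :=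
  (Int.mul_ediv_cancel' (T.w_dvd i j)).symm

/-- Abstract affine data: a generalized Cartan matrix (with sign reversed) with a positive null
vector and a positive symmetrizer, connected. -/
structure AffData (n : ℕ) where
  b : Fin n → Fin n → ℤ
  m : Fin n → ℤ
  w : Fin n → ℤ
  m_pos : ∀ i, 0 < m i
  w_pos : ∀ i, 0 < w i
  diag : ∀ i, b i i = -2
  nonneg : ∀ i j, i ≠ j → 0 ≤ b i j
  row : ∀ i, ∑ j, b i j * m j = 0
  symz : ∀ i j, w i * b i j = w j * b j i
  conn : ∀ I : Finset (Fin n), I.Nonempty → I ≠ univ → ∃ i ∈ I, ∃ j ∉ I, b i j ≠ 0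

/-- The affine data of a numerical type all of whose indices are `(-2)`-indices. -/
def ofType (T : Models.NumericalType n) (h2 : ∀ i, T.IsMinusTwo i) : AffData n where
  b := bmat T
  m := T.m
  w := T.w
  m_pos := T.m_pos
  w_pos := T.w_pos
  diag := fun i => by
    have h := (h2 i).2
    have hw := T.w_pos i
    unfold bmat
    rw [h]
    exact Int.mul_ediv_cancel (-2) (ne_of_gt hw)
  nonneg := fun i j h => Int.ediv_nonneg (T.offDiag_nonneg i j h) (le_of_lt (T.w_pos i))
  row := fun i => by
    have h := nt_row_sum T i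
    have h1 : T.w i * ∑ j, bmat T i j * T.m j = 0 := by
      rw [Finset.mul_sum, ← h]
      apply Finset.sum_congr rfl
      intro j _
      rw [a_eq T i j]
      ring
    rcases mul_eq_zero.mp h1 with h0 | h0
    · have := T.w_pos i
      omega
    · exact h0
  symz := fun i j => by rw [← a_eq, ← a_eq, nt_symm]
  conn := fun I hI hne => by
    obtain ⟨i, hi, j, hj, hij⟩ := T.connected I hI hne
    refine ⟨i, hi, j, hj, ?_⟩
    intro h0
    apply hij
    rw [a_eq, h0, mul_zero]

namespace AffData

variable (D : AffData n)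

/-- Reindexing affine data by a permutation. -/
def reindex (σ : Equiv.Perm (Fin n)) : AffData n where
  b := fun i j => D.b (σ i) (σ j)
  m := fun i => D.m (σ i)
  w := fun i => D.w (σ i)
  m_pos := fun i => D.m_pos _
  w_pos := fun i => D.w_pos _
  diag := fun i => D.diag _
  nonneg := fun i j h => D.nonneg _ _ (fun h' => h (σ.injective h'))
  row := fun i => by
    have h := D.row (σ i)
    rw [← h]
    exact Equiv.sum_comp σ (fun j => D.b (σ i) j * D.m j)
  symz := fun i j => D.symz _ _
  conn := fun I hI hne => by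
    have h1 : (I.map σ.toEmbedding).Nonempty := by simpa using hI
    have h2 : I.map σ.toEmbedding ≠ univ := by
      intro h
      apply hne
      have hc := congrArg Finset.card h
      rw [Finset.card_map] at hc
      exact (Finset.card_eq_iff_eq_univ I).mp hc
    obtain ⟨i, hi, j, hj, hij⟩ := D.conn _ h1 h2
    rw [Finset.mem_map] at hi
    obtain ⟨i', hi', rfl⟩ := hi
    refine ⟨i', hi', σ.symm j, ?_, ?_⟩
    · intro hmem
      apply hj
      rw [Finset.mem_map]
      exact ⟨σ.symm j, hmem, by simp⟩
    · simpa using hij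

theorem b_zero_iff (i j : Fin n) : D.b i j = 0 ↔ D.b j i = 0 := by
  have h := D.symz i j
  have hi := D.w_pos i
  have hj := D.w_pos j
  constructor
  · intro h0
    rw [h0, mul_zero] at h
    rcases mul_eq_zero.mp h.symm with h1 | h1
    · omega
    · exact h1
  · intro h0
    rw [h0, mul_zero] at h
    rcases mul_eq_zero.mp h with h1 | h1
    · omega
    · exact h1

/-- the row sum with the diagonal term split off -/
theorem row_split (c : Fin n → ℤ) (i : Fin n) :
    ∑ j, D.b i j * c j = -2 * c i + ∑ j, (if j = i then 0 else D.b i j * c j) := by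
  rw [← Finset.add_sum_erase _ _ (mem_univ i), D.diag i]
  congr 1
  rw [← Finset.add_sum_erase _ (fun j => if j = i then 0 else D.b i j * c j) (mem_univ i)]
  simp only [if_true, zero_add]
  apply Finset.sum_congr rfl
  intro j hj
  rw [if_neg (Finset.ne_of_mem_erase hj)]

theorem term_le (i j : Fin n) (hij : i ≠ j) : D.b i j * D.m j ≤ 2 * D.m i := by
  have h := D.row i
  rw [row_split] at h
  have h1 : D.b i j * D.m j ≤ ∑ l, (if l = i then 0 else D.b i l * D.m l) := by
    have := Finset.single_le_sum (f := fun l => if l = i then 0 else D.b i l * D.m l)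
      (s := univ) (fun l _ => by
        by_cases hl : l = i
        · simp [hl]
        · simp only [if_neg hl]
          exact mul_nonneg (D.nonneg i l (Ne.symm hl)) (le_of_lt (D.m_pos l))) (mem_univ j)
    simpa [if_neg (Ne.symm hij)] using this
  linarith

theorem prod_le_four (i j : Fin n) (hij : i ≠ j) : D.b i j * D.b j i ≤ 4 := by
  have h1 := D.term_le i j hij
  have h2 := D.term_le j i (Ne.symm hij)
  have hi := D.m_pos i
  have hj := D.m_pos j
  have hb1 := D.nonneg i j hij
  have hb2 := D.nonneg j i (Ne.symm hij)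
  by_contra hcon
  rw [not_le] at hcon
  have h5 : 5 ≤ D.b i j * D.b j i := by omega
  have h3 : (D.b i j * D.m j) * (D.b j i * D.m i) ≤ (2 * D.m i) * (2 * D.m j) :=
    mul_le_mul h1 h2 (mul_nonneg hb2 (le_of_lt hi)) (by positivity)
  have h4 : 0 < D.m i * D.m j := mul_pos hi hj
  nlinarith

/-- the nine possible values of a pair `(b i j, b j i)` -/
def opts : List (ℕ × ℕ) := [(0,0),(1,1),(1,2),(2,1),(1,3),(3,1),(1,4),(4,1),(2,2)]

theorem pair_mem (i j : Fin n) (hij : i ≠ j) : ((D.b i j).toNat, (D.b j i).toNat) ∈ opts := by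
  have hb1 := D.nonneg i j hij
  have hb2 := D.nonneg j i (Ne.symm hij)
  have hp := D.prod_le_four i j hij
  have hz := D.b_zero_iff i j
  obtain ⟨x, hx⟩ := Int.eq_ofNat_of_zero_le hb1
  obtain ⟨y, hy⟩ := Int.eq_ofNat_of_zero_le hb2
  rw [hx, hy] at hp ⊢
  rw [hx, hy] at hz
  simp only [Int.toNat_natCast]
  have hp' : x * y ≤ 4 := by exact_mod_cast hp
  have hz' : x = 0 ↔ y = 0 := by
    constructor
    · intro h; have := hz.mp (by exact_mod_cast h); exact_mod_cast this
    · intro h; have := hz.mpr (by exact_mod_cast h); exact_mod_cast this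
  have hx4 : x ≤ 4 := by
    by_contra hc
    have : y ≠ 0 := fun h => by have := hz'.mpr h; omega
    have : 1 ≤ y := by omega
    nlinarith
  have hy4 : y ≤ 4 := by
    by_contra hc
    have : x ≠ 0 := fun h => by have := hz'.mp h; omega
    have : 1 ≤ x := by omega
    nlinarith
  interval_cases x <;> interval_cases y <;> simp_all [opts]

/-- the null vector pairs to zero with every image vector -/
theorem pairing (c : Fin n → ℤ) : ∑ i, D.m i * D.w i * ∑ j, D.b i j * c j = 0 := by
  have h1 : ∑ i, D.m i * D.w i * ∑ j, D.b i j * c j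
      = ∑ i, ∑ j, c j * D.w j * (D.b j i * D.m i) := by
    apply Finset.sum_congr rfl
    intro i _
    rw [Finset.mul_sum]
    apply Finset.sum_congr rfl
    intro j _
    have := D.symz i j
    calc D.m i * D.w i * (D.b i j * c j) = (D.w i * D.b i j) * (D.m i * c j) := by ring
      _ = (D.w j * D.b j i) * (D.m i * c j) := by rw [this]
      _ = c j * D.w j * (D.b j i * D.m i) := by ring
  rw [h1, Finset.sum_comm]
  apply Finset.sum_eq_zero
  intro j _
  rw [← Finset.mul_sum, D.row j, mul_zero]

theorem image_zero_of_nonneg (c : Fin n → ℤ) (h : ∀ i, 0 ≤ ∑ j, D.b i j * c j) (i : Fin n) :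
    ∑ j, D.b i j * c j = 0 := by
  have hp := D.pairing c
  have hnn : ∀ i ∈ (univ : Finset (Fin n)), 0 ≤ D.m i * D.w i * ∑ j, D.b i j * c j := by
    intro i _
    exact mul_nonneg (mul_nonneg (le_of_lt (D.m_pos i)) (le_of_lt (D.w_pos i))) (h i)
  have hz := (Finset.sum_eq_zero_iff_of_nonneg hnn).mp hp i (mem_univ i)
  have hmw : 0 < D.m i * D.w i := mul_pos (D.m_pos i) (D.w_pos i)
  rcases mul_eq_zero.mp hz with h0 | h0
  · omega
  · exact h0

theorem image_zero_of_nonpos (c : Fin n → ℤ) (h : ∀ i, ∑ j, D.b i j * c j ≤ 0) (i : Fin n) :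
    ∑ j, D.b i j * c j = 0 := by
  have h' : ∀ i, 0 ≤ ∑ j, D.b i j * (fun j => - c j) j := by
    intro i
    have : ∑ j, D.b i j * (fun j => - c j) j = - ∑ j, D.b i j * c j := by
      rw [← Finset.sum_neg_distrib]
      apply Finset.sum_congr rfl
      intro j _
      ring
    rw [this]
    have := h i
    omega
  have h0 := D.image_zero_of_nonneg (fun j => - c j) h' i
  have : ∑ j, D.b i j * (fun j => - c j) j = - ∑ j, D.b i j * c j := by
    rw [← Finset.sum_neg_distrib]
    apply Finset.sum_congr rfl
    intro j _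
    ring
  rw [this] at h0
  omega

/-- The off-diagonal part of a row sum. -/
def off (L : Fin n → Fin n → ℤ) (c : Fin n → ℤ) (i : Fin n) : ℤ :=
  ∑ j, (if j = i then 0 else L i j * c j)

theorem off_mono (L : Fin n → Fin n → ℤ) (hL : ∀ i j, i ≠ j → L i j ≤ D.b i j)
    (c : Fin n → ℤ) (hc : ∀ i, 0 ≤ c i) (i : Fin n) : off L c i ≤ off D.b c i := by
  unfold off
  apply Finset.sum_le_sum
  intro j _
  by_cases hj : j = i
  · simp [hj]
  · simp only [if_neg hj]
    exact mul_le_mul_of_nonneg_right (hL i j (Ne.symm hj)) (hc j)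

/-- Certificate lemma: a non-negative vector whose image under a lower bound of `b` is
non-negative, and either somewhere positive or with proper non-empty support, cannot exist. -/
theorem cert_false (L : Fin n → Fin n → ℤ) (hL : ∀ i j, i ≠ j → L i j ≤ D.b i j)
    (c : Fin n → ℤ) (hc : ∀ i, 0 ≤ c i)
    (hrow : ∀ i, 2 * c i ≤ off L c i)
    (hstrict : (∃ i, 2 * c i < off L c i) ∨ ((∃ k, c k = 0) ∧ ∃ k, c k ≠ 0)) : False := by
  have hmono := D.off_mono L hL c hc
  have hnn : ∀ i, 0 ≤ ∑ j, D.b i j * c j := by
    intro i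
    rw [D.row_split]
    have := hrow i
    have := hmono i
    unfold off at *
    linarith
  have hz := D.image_zero_of_nonneg c hnn
  rcases hstrict with ⟨i, hi⟩ | ⟨⟨k, hk⟩, ⟨k', hk'⟩⟩
  · have h1 := hz i
    rw [D.row_split] at h1
    have := hmono i
    unfold off at *
    linarith
  · -- support is proper and non-empty: use connectivity
    let I : Finset (Fin n) := univ.filter (fun i => c i ≠ 0)
    have hI : I.Nonempty := ⟨k', by simp [I, hk']⟩
    have hne : I ≠ univ := by
      intro h
      have : k ∈ I := by rw [h]; exact mem_univ k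
      simp [I] at this
      exact this hk
    obtain ⟨i, hi, j, hj, hij⟩ := D.conn I hI hne
    have hci : c i ≠ 0 := by simpa [I] using hi
    have hcj : c j = 0 := by simpa [I] using hj
    have hne' : i ≠ j := fun h => by rw [h] at hci; exact hci hcj
    have hbji : D.b j i ≠ 0 := fun h => hij ((D.b_zero_iff i j).mpr h)
    have hpos : 0 < D.b j i := lt_of_le_of_ne (D.nonneg j i (Ne.symm hne')) (Ne.symm hbji)
    have hcipos : 0 < c i := lt_of_le_of_ne (hc i) (Ne.symm hci)
    have h1 := hz j
    rw [D.row_split, hcj] at h1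
    have h2 : D.b j i * c i ≤ ∑ l, (if l = j then 0 else D.b j l * c l) := by
      have := Finset.single_le_sum (f := fun l => if l = j then 0 else D.b j l * c l)
        (s := univ) (fun l _ => by
          by_cases hl : l = j
          · simp [hl]
          · simp only [if_neg hl]
            exact mul_nonneg (D.nonneg j l (Ne.symm hl)) (hc l)) (mem_univ i)
      simpa [if_neg hne'] using this
    have h3 : 0 < D.b j i * c i := mul_pos hpos hcipos
    linarith

/-- Certificate lemma for finite type: the exact matrix cannot have a vector with non-positive,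
somewhere negative image. -/
theorem fin_false (c : Fin n → ℤ)
    (hrow : ∀ i, off D.b c i ≤ 2 * c i) (hstrict : ∃ i, off D.b c i < 2 * c i) : False := by
  have hnp : ∀ i, ∑ j, D.b i j * c j ≤ 0 := by
    intro i
    rw [D.row_split]
    have := hrow i
    unfold off at *
    linarith
  obtain ⟨i, hi⟩ := hstrict
  have h1 := D.image_zero_of_nonpos c hnp i
  rw [D.row_split] at h1
  unfold off at *
  linarith

end AffData

end Groth.Agent.H79.Aff
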