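import Groth.Agent.H79.AffN4

/-! The cases of the genus one classification on 4 indices (generated). -/

set_option autoImplicit false
set_option linter.unusedVariables false
set_option linter.unusedTactic false
set_option linter.unreachableTactic false
set_option linter.unnecessarySeqFocus false
set_option maxHeartbeats 1600000

namespace Groth.Agent.H79.Aff

open Finset Models Models.NumericalType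

theorem case4_0 (T : Models.NumericalType 4) (h2 : ∀ i, T.IsMinusTwo i) (σ : Equiv.Perm (Fin 4))
    (hσ : ∀ i j : Fin 4, i ≠ j → bmat T (σ i) (σ j) = (canonEnt N4.canon 0 i.val j.val : ℤ))
    (m w : ℤ) (hm : m = T.m (σ 0)) (hw : w = T.w (σ 0)) :
    (T.m (σ 0) = m ∧ T.m (σ 1) = m ∧ T.m (σ 2) = m ∧ T.m (σ 3) = m ∧ T.w (σ 0) = w ∧ T.w (σ 1) = w ∧ T.w (σ 2) = w ∧ T.w (σ 3) = w ∧ T.a (σ 0) (σ 0) = -2 * w ∧ T.a (σ 0) (σ 1) = w ∧ T.a (σ 0) (σ 2) = 0 ∧ T.a (σ 0) (σ 3) = w ∧ T.a (σ 1) (σ 1) = -2 * w ∧ T.a (σ 1) (σ 2) = w ∧ T.a (σ 1) (σ 3) = 0 ∧ T.a (σ 2) (σ 2) = -2 * w ∧ T.a (σ 2) (σ 3) = w ∧ T.a (σ 3) (σ 3) = -2 * w) := by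
  subst hm hw
  have e_0_0 : bmat T (σ 0) (σ 0) = -2 := (ofType T h2).diag (σ 0)
  have e_0_1 : bmat T (σ 0) (σ 1) = 1 := (hσ 0 1 (by decide)).trans (by rfl)
  have e_0_2 : bmat T (σ 0) (σ 2) = 0 := (hσ 0 2 (by decide)).trans (by rfl)
  have e_0_3 : bmat T (σ 0) (σ 3) = 1 := (hσ 0 3 (by decide)).trans (by rfl)
  have e_1_0 : bmat T (σ 1) (σ 0) = 1 := (hσ 1 0 (by decide)).trans (by rfl)
  have e_1_1 : bmat T (σ 1) (σ 1) = -2 := (ofType T h2).diag (σ 1)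
  have e_1_2 : bmat T (σ 1) (σ 2) = 1 := (hσ 1 2 (by decide)).trans (by rfl)
  have e_1_3 : bmat T (σ 1) (σ 3) = 0 := (hσ 1 3 (by decide)).trans (by rfl)
  have e_2_0 : bmat T (σ 2) (σ 0) = 0 := (hσ 2 0 (by decide)).trans (by rfl)
  have e_2_1 : bmat T (σ 2) (σ 1) = 1 := (hσ 2 1 (by decide)).trans (by rfl)
  have e_2_2 : bmat T (σ 2) (σ 2) = -2 := (ofType T h2).diag (σ 2)
  have e_2_3 : bmat T (σ 2) (σ 3) = 1 := (hσ 2 3 (by decide)).trans (by rfl)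
  have e_3_0 : bmat T (σ 3) (σ 0) = 1 := (hσ 3 0 (by decide)).trans (by rfl)
  have e_3_1 : bmat T (σ 3) (σ 1) = 0 := (hσ 3 1 (by decide)).trans (by rfl)
  have e_3_2 : bmat T (σ 3) (σ 2) = 1 := (hσ 3 2 (by decide)).trans (by rfl)
  have e_3_3 : bmat T (σ 3) (σ 3) = -2 := (ofType T h2).diag (σ 3)
  have r_0 := row_reindex T h2 σ 0
  rw [Fin.sum_univ_four, e_0_0, e_0_1, e_0_2, e_0_3] at r_0
  have r_1 := row_reindex T h2 σ 1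
  rw [Fin.sum_univ_four, e_1_0, e_1_1, e_1_2, e_1_3] at r_1
  have r_2 := row_reindex T h2 σ 2
  rw [Fin.sum_univ_four, e_2_0, e_2_1, e_2_2, e_2_3] at r_2
  have r_3 := row_reindex T h2 σ 3
  rw [Fin.sum_univ_four, e_3_0, e_3_1, e_3_2, e_3_3] at r_3
  have hM_0 : T.m (σ 0) = T.m (σ 0) := by omega
  have hM_1 : T.m (σ 1) = T.m (σ 0) := by omega
  have hM_2 : T.m (σ 2) = T.m (σ 0) := by omega
  have hM_3 : T.m (σ 3) = T.m (σ 0) := by omega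
  have s_0_1 := symz_bmat T (σ 0) (σ 1)
  rw [e_0_1, e_1_0] at s_0_1
  have s_0_3 := symz_bmat T (σ 0) (σ 3)
  rw [e_0_3, e_3_0] at s_0_3
  have s_1_2 := symz_bmat T (σ 1) (σ 2)
  rw [e_1_2, e_2_1] at s_1_2
  have s_2_3 := symz_bmat T (σ 2) (σ 3)
  rw [e_2_3, e_3_2] at s_2_3
  have hW_0 : T.w (σ 0) = T.w (σ 0) := by omega
  have hW_1 : T.w (σ 1) = T.w (σ 0) := by omega
  have hW_2 : T.w (σ 2) = T.w (σ 0) := by omega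
  have hW_3 : T.w (σ 3) = T.w (σ 0) := by omega
  refine ⟨?_, ?_, ?_, ?_, ?_, ?_, ?_, ?_, ?_, ?_, ?_, ?_, ?_, ?_, ?_, ?_, ?_, ?_⟩
  · exact hM_0
  · exact hM_1
  · exact hM_2
  · exact hM_3
  · exact hW_0
  · exact hW_1
  · exact hW_2
  · exact hW_3
  · rw [(h2 (σ 0)).2] <;> omega
  · rw [a_eq T (σ 0) (σ 1), e_0_1] <;> omega
  · rw [a_eq T (σ 0) (σ 2), e_0_2] <;> omega
  · rw [a_eq T (σ 0) (σ 3), e_0_3] <;> omega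
  · rw [(h2 (σ 1)).2] <;> omega
  · rw [a_eq T (σ 1) (σ 2), e_1_2] <;> omega
  · rw [a_eq T (σ 1) (σ 3), e_1_3] <;> omega
  · rw [(h2 (σ 2)).2] <;> omega
  · rw [a_eq T (σ 2) (σ 3), e_2_3] <;> omega
  · rw [(h2 (σ 3)).2] <;> omega

theorem case4_1 (T : Models.NumericalType 4) (h2 : ∀ i, T.IsMinusTwo i) (σ : Equiv.Perm (Fin 4))
    (hσ : ∀ i j : Fin 4, i ≠ j → bmat T (σ i) (σ j) = (canonEnt N4.canon 1 i.val j.val : ℤ))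
    (m w : ℤ) (hm : m = T.m (σ 3)) (hw : w = T.w (σ 0)) :
    (T.m (σ 0) = 2 * m ∧ T.m (σ 1) = 2 * m ∧ T.m (σ 2) = 2 * m ∧ T.m (σ 3) = m ∧ T.w (σ 0) = w ∧ T.w (σ 1) = 2 * w ∧ T.w (σ 2) = 2 * w ∧ T.w (σ 3) = 4 * w ∧ T.a (σ 0) (σ 0) = -2 * w ∧ T.a (σ 0) (σ 1) = 2 * w ∧ T.a (σ 0) (σ 2) = 0 ∧ T.a (σ 0) (σ 3) = 0 ∧ T.a (σ 1) (σ 1) = -4 * w ∧ T.a (σ 1) (σ 2) = 2 * w ∧ T.a (σ 1) (σ 3) = 0 ∧ T.a (σ 2) (σ 2) = -4 * w ∧ T.a (σ 2) (σ 3) = 4 * w ∧ T.a (σ 3) (σ 3) = -8 * w) := by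
  subst hm hw
  have e_0_0 : bmat T (σ 0) (σ 0) = -2 := (ofType T h2).diag (σ 0)
  have e_0_1 : bmat T (σ 0) (σ 1) = 2 := (hσ 0 1 (by decide)).trans (by rfl)
  have e_0_2 : bmat T (σ 0) (σ 2) = 0 := (hσ 0 2 (by decide)).trans (by rfl)
  have e_0_3 : bmat T (σ 0) (σ 3) = 0 := (hσ 0 3 (by decide)).trans (by rfl)
  have e_1_0 : bmat T (σ 1) (σ 0) = 1 := (hσ 1 0 (by decide)).trans (by rfl)
  have e_1_1 : bmat T (σ 1) (σ 1) = -2 := (ofType T h2).diag (σ 1)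
  have e_1_2 : bmat T (σ 1) (σ 2) = 1 := (hσ 1 2 (by decide)).trans (by rfl)
  have e_1_3 : bmat T (σ 1) (σ 3) = 0 := (hσ 1 3 (by decide)).trans (by rfl)
  have e_2_0 : bmat T (σ 2) (σ 0) = 0 := (hσ 2 0 (by decide)).trans (by rfl)
  have e_2_1 : bmat T (σ 2) (σ 1) = 1 := (hσ 2 1 (by decide)).trans (by rfl)
  have e_2_2 : bmat T (σ 2) (σ 2) = -2 := (ofType T h2).diag (σ 2)
  have e_2_3 : bmat T (σ 2) (σ 3) = 2 := (hσ 2 3 (by decide)).trans (by rfl)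
  have e_3_0 : bmat T (σ 3) (σ 0) = 0 := (hσ 3 0 (by decide)).trans (by rfl)
  have e_3_1 : bmat T (σ 3) (σ 1) = 0 := (hσ 3 1 (by decide)).trans (by rfl)
  have e_3_2 : bmat T (σ 3) (σ 2) = 1 := (hσ 3 2 (by decide)).trans (by rfl)
  have e_3_3 : bmat T (σ 3) (σ 3) = -2 := (ofType T h2).diag (σ 3)
  have r_0 := row_reindex T h2 σ 0
  rw [Fin.sum_univ_four, e_0_0, e_0_1, e_0_2, e_0_3] at r_0
  have r_1 := row_reindex T h2 σ 1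
  rw [Fin.sum_univ_four, e_1_0, e_1_1, e_1_2, e_1_3] at r_1
  have r_2 := row_reindex T h2 σ 2
  rw [Fin.sum_univ_four, e_2_0, e_2_1, e_2_2, e_2_3] at r_2
  have r_3 := row_reindex T h2 σ 3
  rw [Fin.sum_univ_four, e_3_0, e_3_1, e_3_2, e_3_3] at r_3
  have hM_0 : T.m (σ 0) = 2 * T.m (σ 3) := by omega
  have hM_1 : T.m (σ 1) = 2 * T.m (σ 3) := by omega
  have hM_2 : T.m (σ 2) = 2 * T.m (σ 3) := by omega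
  have hM_3 : T.m (σ 3) = T.m (σ 3) := by omega
  have s_0_1 := symz_bmat T (σ 0) (σ 1)
  rw [e_0_1, e_1_0] at s_0_1
  have s_1_2 := symz_bmat T (σ 1) (σ 2)
  rw [e_1_2, e_2_1] at s_1_2
  have s_2_3 := symz_bmat T (σ 2) (σ 3)
  rw [e_2_3, e_3_2] at s_2_3
  have hW_0 : T.w (σ 0) = T.w (σ 0) := by omega
  have hW_1 : T.w (σ 1) = 2 * T.w (σ 0) := by omega
  have hW_2 : T.w (σ 2) = 2 * T.w (σ 0) := by omega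
  have hW_3 : T.w (σ 3) = 4 * T.w (σ 0) := by omega
  refine ⟨?_, ?_, ?_, ?_, ?_, ?_, ?_, ?_, ?_, ?_, ?_, ?_, ?_, ?_, ?_, ?_, ?_, ?_⟩
  · exact hM_0
  · exact hM_1
  · exact hM_2
  · exact hM_3
  · exact hW_0
  · exact hW_1
  · exact hW_2
  · exact hW_3
  · rw [(h2 (σ 0)).2] <;> omega
  · rw [a_eq T (σ 0) (σ 1), e_0_1] <;> omega
  · rw [a_eq T (σ 0) (σ 2), e_0_2] <;> omega
  · rw [a_eq T (σ 0) (σ 3), e_0_3] <;> omega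
  · rw [(h2 (σ 1)).2] <;> omega
  · rw [a_eq T (σ 1) (σ 2), e_1_2] <;> omega
  · rw [a_eq T (σ 1) (σ 3), e_1_3] <;> omega
  · rw [(h2 (σ 2)).2] <;> omega
  · rw [a_eq T (σ 2) (σ 3), e_2_3] <;> omega
  · rw [(h2 (σ 3)).2] <;> omega

theorem case4_2 (T : Models.NumericalType 4) (h2 : ∀ i, T.IsMinusTwo i) (σ : Equiv.Perm (Fin 4))
    (hσ : ∀ i j : Fin 4, i ≠ j → bmat T (σ i) (σ j) = (canonEnt N4.canon 2 i.val j.val : ℤ))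
    (m w : ℤ) (hm : m = T.m (σ 0)) (hw : w = T.w (σ 0)) :
    (T.m (σ 0) = m ∧ T.m (σ 1) = m ∧ T.m (σ 2) = m ∧ T.m (σ 3) = m ∧ T.w (σ 0) = w ∧ T.w (σ 1) = 2 * w ∧ T.w (σ 2) = 2 * w ∧ T.w (σ 3) = w ∧ T.a (σ 0) (σ 0) = -2 * w ∧ T.a (σ 0) (σ 1) = 2 * w ∧ T.a (σ 0) (σ 2) = 0 ∧ T.a (σ 0) (σ 3) = 0 ∧ T.a (σ 1) (σ 1) = -4 * w ∧ T.a (σ 1) (σ 2) = 2 * w ∧ T.a (σ 1) (σ 3) = 0 ∧ T.a (σ 2) (σ 2) = -4 * w ∧ T.a (σ 2) (σ 3) = 2 * w ∧ T.a (σ 3) (σ 3) = -2 * w) := by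
  subst hm hw
  have e_0_0 : bmat T (σ 0) (σ 0) = -2 := (ofType T h2).diag (σ 0)
  have e_0_1 : bmat T (σ 0) (σ 1) = 2 := (hσ 0 1 (by decide)).trans (by rfl)
  have e_0_2 : bmat T (σ 0) (σ 2) = 0 := (hσ 0 2 (by decide)).trans (by rfl)
  have e_0_3 : bmat T (σ 0) (σ 3) = 0 := (hσ 0 3 (by decide)).trans (by rfl)
  have e_1_0 : bmat T (σ 1) (σ 0) = 1 := (hσ 1 0 (by decide)).trans (by rfl)
  have e_1_1 : bmat T (σ 1) (σ 1) = -2 := (ofType T h2).diag (σ 1)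
  have e_1_2 : bmat T (σ 1) (σ 2) = 1 := (hσ 1 2 (by decide)).trans (by rfl)
  have e_1_3 : bmat T (σ 1) (σ 3) = 0 := (hσ 1 3 (by decide)).trans (by rfl)
  have e_2_0 : bmat T (σ 2) (σ 0) = 0 := (hσ 2 0 (by decide)).trans (by rfl)
  have e_2_1 : bmat T (σ 2) (σ 1) = 1 := (hσ 2 1 (by decide)).trans (by rfl)
  have e_2_2 : bmat T (σ 2) (σ 2) = -2 := (ofType T h2).diag (σ 2)
  have e_2_3 : bmat T (σ 2) (σ 3) = 1 := (hσ 2 3 (by decide)).trans (by rfl)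
  have e_3_0 : bmat T (σ 3) (σ 0) = 0 := (hσ 3 0 (by decide)).trans (by rfl)
  have e_3_1 : bmat T (σ 3) (σ 1) = 0 := (hσ 3 1 (by decide)).trans (by rfl)
  have e_3_2 : bmat T (σ 3) (σ 2) = 2 := (hσ 3 2 (by decide)).trans (by rfl)
  have e_3_3 : bmat T (σ 3) (σ 3) = -2 := (ofType T h2).diag (σ 3)
  have r_0 := row_reindex T h2 σ 0
  rw [Fin.sum_univ_four, e_0_0, e_0_1, e_0_2, e_0_3] at r_0
  have r_1 := row_reindex T h2 σ 1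
  rw [Fin.sum_univ_four, e_1_0, e_1_1, e_1_2, e_1_3] at r_1
  have r_2 := row_reindex T h2 σ 2
  rw [Fin.sum_univ_four, e_2_0, e_2_1, e_2_2, e_2_3] at r_2
  have r_3 := row_reindex T h2 σ 3
  rw [Fin.sum_univ_four, e_3_0, e_3_1, e_3_2, e_3_3] at r_3
  have hM_0 : T.m (σ 0) = T.m (σ 0) := by omega
  have hM_1 : T.m (σ 1) = T.m (σ 0) := by omega
  have hM_2 : T.m (σ 2) = T.m (σ 0) := by omega
  have hM_3 : T.m (σ 3) = T.m (σ 0) := by omega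
  have s_0_1 := symz_bmat T (σ 0) (σ 1)
  rw [e_0_1, e_1_0] at s_0_1
  have s_1_2 := symz_bmat T (σ 1) (σ 2)
  rw [e_1_2, e_2_1] at s_1_2
  have s_2_3 := symz_bmat T (σ 2) (σ 3)
  rw [e_2_3, e_3_2] at s_2_3
  have hW_0 : T.w (σ 0) = T.w (σ 0) := by omega
  have hW_1 : T.w (σ 1) = 2 * T.w (σ 0) := by omega
  have hW_2 : T.w (σ 2) = 2 * T.w (σ 0) := by omega
  have hW_3 : T.w (σ 3) = T.w (σ 0) := by omega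
  refine ⟨?_, ?_, ?_, ?_, ?_, ?_, ?_, ?_, ?_, ?_, ?_, ?_, ?_, ?_, ?_, ?_, ?_, ?_⟩
  · exact hM_0
  · exact hM_1
  · exact hM_2
  · exact hM_3
  · exact hW_0
  · exact hW_1
  · exact hW_2
  · exact hW_3
  · rw [(h2 (σ 0)).2] <;> omega
  · rw [a_eq T (σ 0) (σ 1), e_0_1] <;> omega
  · rw [a_eq T (σ 0) (σ 2), e_0_2] <;> omega
  · rw [a_eq T (σ 0) (σ 3), e_0_3] <;> omega
  · rw [(h2 (σ 1)).2] <;> omega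
  · rw [a_eq T (σ 1) (σ 2), e_1_2] <;> omega
  · rw [a_eq T (σ 1) (σ 3), e_1_3] <;> omega
  · rw [(h2 (σ 2)).2] <;> omega
  · rw [a_eq T (σ 2) (σ 3), e_2_3] <;> omega
  · rw [(h2 (σ 3)).2] <;> omega

theorem case4_3 (T : Models.NumericalType 4) (h2 : ∀ i, T.IsMinusTwo i) (σ : Equiv.Perm (Fin 4))
    (hσ : ∀ i j : Fin 4, i ≠ j → bmat T (σ i) (σ j) = (canonEnt N4.canon 3 i.val j.val : ℤ))
    (m w : ℤ) (hm : m = T.m (σ 0)) (hw : w = T.w (σ 1)) :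
    (T.m (σ 0) = m ∧ T.m (σ 1) = 2 * m ∧ T.m (σ 2) = 2 * m ∧ T.m (σ 3) = m ∧ T.w (σ 0) = 2 * w ∧ T.w (σ 1) = w ∧ T.w (σ 2) = w ∧ T.w (σ 3) = 2 * w ∧ T.a (σ 0) (σ 0) = -4 * w ∧ T.a (σ 0) (σ 1) = 2 * w ∧ T.a (σ 0) (σ 2) = 0 ∧ T.a (σ 0) (σ 3) = 0 ∧ T.a (σ 1) (σ 1) = -2 * w ∧ T.a (σ 1) (σ 2) = w ∧ T.a (σ 1) (σ 3) = 0 ∧ T.a (σ 2) (σ 2) = -2 * w ∧ T.a (σ 2) (σ 3) = 2 * w ∧ T.a (σ 3) (σ 3) = -4 * w) := by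
  subst hm hw
  have e_0_0 : bmat T (σ 0) (σ 0) = -2 := (ofType T h2).diag (σ 0)
  have e_0_1 : bmat T (σ 0) (σ 1) = 1 := (hσ 0 1 (by decide)).trans (by rfl)
  have e_0_2 : bmat T (σ 0) (σ 2) = 0 := (hσ 0 2 (by decide)).trans (by rfl)
  have e_0_3 : bmat T (σ 0) (σ 3) = 0 := (hσ 0 3 (by decide)).trans (by rfl)
  have e_1_0 : bmat T (σ 1) (σ 0) = 2 := (hσ 1 0 (by decide)).trans (by rfl)
  have e_1_1 : bmat T (σ 1) (σ 1) = -2 := (ofType T h2).diag (σ 1)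
  have e_1_2 : bmat T (σ 1) (σ 2) = 1 := (hσ 1 2 (by decide)).trans (by rfl)
  have e_1_3 : bmat T (σ 1) (σ 3) = 0 := (hσ 1 3 (by decide)).trans (by rfl)
  have e_2_0 : bmat T (σ 2) (σ 0) = 0 := (hσ 2 0 (by decide)).trans (by rfl)
  have e_2_1 : bmat T (σ 2) (σ 1) = 1 := (hσ 2 1 (by decide)).trans (by rfl)
  have e_2_2 : bmat T (σ 2) (σ 2) = -2 := (ofType T h2).diag (σ 2)
  have e_2_3 : bmat T (σ 2) (σ 3) = 2 := (hσ 2 3 (by decide)).trans (by rfl)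
  have e_3_0 : bmat T (σ 3) (σ 0) = 0 := (hσ 3 0 (by decide)).trans (by rfl)
  have e_3_1 : bmat T (σ 3) (σ 1) = 0 := (hσ 3 1 (by decide)).trans (by rfl)
  have e_3_2 : bmat T (σ 3) (σ 2) = 1 := (hσ 3 2 (by decide)).trans (by rfl)
  have e_3_3 : bmat T (σ 3) (σ 3) = -2 := (ofType T h2).diag (σ 3)
  have r_0 := row_reindex T h2 σ 0
  rw [Fin.sum_univ_four, e_0_0, e_0_1, e_0_2, e_0_3] at r_0
  have r_1 := row_reindex T h2 σ 1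
  rw [Fin.sum_univ_four, e_1_0, e_1_1, e_1_2, e_1_3] at r_1
  have r_2 := row_reindex T h2 σ 2
  rw [Fin.sum_univ_four, e_2_0, e_2_1, e_2_2, e_2_3] at r_2
  have r_3 := row_reindex T h2 σ 3
  rw [Fin.sum_univ_four, e_3_0, e_3_1, e_3_2, e_3_3] at r_3
  have hM_0 : T.m (σ 0) = T.m (σ 0) := by omega
  have hM_1 : T.m (σ 1) = 2 * T.m (σ 0) := by omega
  have hM_2 : T.m (σ 2) = 2 * T.m (σ 0) := by omega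
  have hM_3 : T.m (σ 3) = T.m (σ 0) := by omega
  have s_0_1 := symz_bmat T (σ 0) (σ 1)
  rw [e_0_1, e_1_0] at s_0_1
  have s_1_2 := symz_bmat T (σ 1) (σ 2)
  rw [e_1_2, e_2_1] at s_1_2
  have s_2_3 := symz_bmat T (σ 2) (σ 3)
  rw [e_2_3, e_3_2] at s_2_3
  have hW_0 : T.w (σ 0) = 2 * T.w (σ 1) := by omega
  have hW_1 : T.w (σ 1) = T.w (σ 1) := by omega
  have hW_2 : T.w (σ 2) = T.w (σ 1) := by omega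
  have hW_3 : T.w (σ 3) = 2 * T.w (σ 1) := by omega
  refine ⟨?_, ?_, ?_, ?_, ?_, ?_, ?_, ?_, ?_, ?_, ?_, ?_, ?_, ?_, ?_, ?_, ?_, ?_⟩
  · exact hM_0
  · exact hM_1
  · exact hM_2
  · exact hM_3
  · exact hW_0
  · exact hW_1
  · exact hW_2
  · exact hW_3
  · rw [(h2 (σ 0)).2] <;> omega
  · rw [a_eq T (σ 0) (σ 1), e_0_1] <;> omega
  · rw [a_eq T (σ 0) (σ 2), e_0_2] <;> omega
  · rw [a_eq T (σ 0) (σ 3), e_0_3] <;> omega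
  · rw [(h2 (σ 1)).2] <;> omega
  · rw [a_eq T (σ 1) (σ 2), e_1_2] <;> omega
  · rw [a_eq T (σ 1) (σ 3), e_1_3] <;> omega
  · rw [(h2 (σ 2)).2] <;> omega
  · rw [a_eq T (σ 2) (σ 3), e_2_3] <;> omega
  · rw [(h2 (σ 3)).2] <;> omega

theorem case4_4 (T : Models.NumericalType 4) (h2 : ∀ i, T.IsMinusTwo i) (σ : Equiv.Perm (Fin 4))
    (hσ : ∀ i j : Fin 4, i ≠ j → bmat T (σ i) (σ j) = (canonEnt N4.canon 4 i.val j.val : ℤ))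
    (m w : ℤ) (hm : m = T.m (σ 1)) (hw : w = T.w (σ 0)) :
    (T.m (σ 0) = 2 * m ∧ T.m (σ 1) = m ∧ T.m (σ 2) = m ∧ T.m (σ 3) = m ∧ T.w (σ 0) = w ∧ T.w (σ 1) = w ∧ T.w (σ 2) = w ∧ T.w (σ 3) = 2 * w ∧ T.a (σ 0) (σ 0) = -2 * w ∧ T.a (σ 0) (σ 1) = w ∧ T.a (σ 0) (σ 2) = w ∧ T.a (σ 0) (σ 3) = 2 * w ∧ T.a (σ 1) (σ 1) = -2 * w ∧ T.a (σ 1) (σ 2) = 0 ∧ T.a (σ 1) (σ 3) = 0 ∧ T.a (σ 2) (σ 2) = -2 * w ∧ T.a (σ 2) (σ 3) = 0 ∧ T.a (σ 3) (σ 3) = -4 * w) := by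
  subst hm hw
  have e_0_0 : bmat T (σ 0) (σ 0) = -2 := (ofType T h2).diag (σ 0)
  have e_0_1 : bmat T (σ 0) (σ 1) = 1 := (hσ 0 1 (by decide)).trans (by rfl)
  have e_0_2 : bmat T (σ 0) (σ 2) = 1 := (hσ 0 2 (by decide)).trans (by rfl)
  have e_0_3 : bmat T (σ 0) (σ 3) = 2 := (hσ 0 3 (by decide)).trans (by rfl)
  have e_1_0 : bmat T (σ 1) (σ 0) = 1 := (hσ 1 0 (by decide)).trans (by rfl)
  have e_1_1 : bmat T (σ 1) (σ 1) = -2 := (ofType T h2).diag (σ 1)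
  have e_1_2 : bmat T (σ 1) (σ 2) = 0 := (hσ 1 2 (by decide)).trans (by rfl)
  have e_1_3 : bmat T (σ 1) (σ 3) = 0 := (hσ 1 3 (by decide)).trans (by rfl)
  have e_2_0 : bmat T (σ 2) (σ 0) = 1 := (hσ 2 0 (by decide)).trans (by rfl)
  have e_2_1 : bmat T (σ 2) (σ 1) = 0 := (hσ 2 1 (by decide)).trans (by rfl)
  have e_2_2 : bmat T (σ 2) (σ 2) = -2 := (ofType T h2).diag (σ 2)
  have e_2_3 : bmat T (σ 2) (σ 3) = 0 := (hσ 2 3 (by decide)).trans (by rfl)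
  have e_3_0 : bmat T (σ 3) (σ 0) = 1 := (hσ 3 0 (by decide)).trans (by rfl)
  have e_3_1 : bmat T (σ 3) (σ 1) = 0 := (hσ 3 1 (by decide)).trans (by rfl)
  have e_3_2 : bmat T (σ 3) (σ 2) = 0 := (hσ 3 2 (by decide)).trans (by rfl)
  have e_3_3 : bmat T (σ 3) (σ 3) = -2 := (ofType T h2).diag (σ 3)
  have r_0 := row_reindex T h2 σ 0
  rw [Fin.sum_univ_four, e_0_0, e_0_1, e_0_2, e_0_3] at r_0
  have r_1 := row_reindex T h2 σ 1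
  rw [Fin.sum_univ_four, e_1_0, e_1_1, e_1_2, e_1_3] at r_1
  have r_2 := row_reindex T h2 σ 2
  rw [Fin.sum_univ_four, e_2_0, e_2_1, e_2_2, e_2_3] at r_2
  have r_3 := row_reindex T h2 σ 3
  rw [Fin.sum_univ_four, e_3_0, e_3_1, e_3_2, e_3_3] at r_3
  have hM_0 : T.m (σ 0) = 2 * T.m (σ 1) := by omega
  have hM_1 : T.m (σ 1) = T.m (σ 1) := by omega
  have hM_2 : T.m (σ 2) = T.m (σ 1) := by omega
  have hM_3 : T.m (σ 3) = T.m (σ 1) := by omega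
  have s_0_1 := symz_bmat T (σ 0) (σ 1)
  rw [e_0_1, e_1_0] at s_0_1
  have s_0_2 := symz_bmat T (σ 0) (σ 2)
  rw [e_0_2, e_2_0] at s_0_2
  have s_0_3 := symz_bmat T (σ 0) (σ 3)
  rw [e_0_3, e_3_0] at s_0_3
  have hW_0 : T.w (σ 0) = T.w (σ 0) := by omega
  have hW_1 : T.w (σ 1) = T.w (σ 0) := by omega
  have hW_2 : T.w (σ 2) = T.w (σ 0) := by omega
  have hW_3 : T.w (σ 3) = 2 * T.w (σ 0) := by omega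
  refine ⟨?_, ?_, ?_, ?_, ?_, ?_, ?_, ?_, ?_, ?_, ?_, ?_, ?_, ?_, ?_, ?_, ?_, ?_⟩
  · exact hM_0
  · exact hM_1
  · exact hM_2
  · exact hM_3
  · exact hW_0
  · exact hW_1
  · exact hW_2
  · exact hW_3
  · rw [(h2 (σ 0)).2] <;> omega
  · rw [a_eq T (σ 0) (σ 1), e_0_1] <;> omega
  · rw [a_eq T (σ 0) (σ 2), e_0_2] <;> omega
  · rw [a_eq T (σ 0) (σ 3), e_0_3] <;> omega
  · rw [(h2 (σ 1)).2] <;> omega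
  · rw [a_eq T (σ 1) (σ 2), e_1_2] <;> omega
  · rw [a_eq T (σ 1) (σ 3), e_1_3] <;> omega
  · rw [(h2 (σ 2)).2] <;> omega
  · rw [a_eq T (σ 2) (σ 3), e_2_3] <;> omega
  · rw [(h2 (σ 3)).2] <;> omega

theorem case4_5 (T : Models.NumericalType 4) (h2 : ∀ i, T.IsMinusTwo i) (σ : Equiv.Perm (Fin 4))
    (hσ : ∀ i j : Fin 4, i ≠ j → bmat T (σ i) (σ j) = (canonEnt N4.canon 5 i.val j.val : ℤ))
    (m w : ℤ) (hm : m = T.m (σ 1)) (hw : w = T.w (σ 3)) :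
    (T.m (σ 0) = 2 * m ∧ T.m (σ 1) = m ∧ T.m (σ 2) = m ∧ T.m (σ 3) = 2 * m ∧ T.w (σ 0) = 2 * w ∧ T.w (σ 1) = 2 * w ∧ T.w (σ 2) = 2 * w ∧ T.w (σ 3) = w ∧ T.a (σ 0) (σ 0) = -4 * w ∧ T.a (σ 0) (σ 1) = 2 * w ∧ T.a (σ 0) (σ 2) = 2 * w ∧ T.a (σ 0) (σ 3) = 2 * w ∧ T.a (σ 1) (σ 1) = -4 * w ∧ T.a (σ 1) (σ 2) = 0 ∧ T.a (σ 1) (σ 3) = 0 ∧ T.a (σ 2) (σ 2) = -4 * w ∧ T.a (σ 2) (σ 3) = 0 ∧ T.a (σ 3) (σ 3) = -2 * w) := by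
  subst hm hw
  have e_0_0 : bmat T (σ 0) (σ 0) = -2 := (ofType T h2).diag (σ 0)
  have e_0_1 : bmat T (σ 0) (σ 1) = 1 := (hσ 0 1 (by decide)).trans (by rfl)
  have e_0_2 : bmat T (σ 0) (σ 2) = 1 := (hσ 0 2 (by decide)).trans (by rfl)
  have e_0_3 : bmat T (σ 0) (σ 3) = 1 := (hσ 0 3 (by decide)).trans (by rfl)
  have e_1_0 : bmat T (σ 1) (σ 0) = 1 := (hσ 1 0 (by decide)).trans (by rfl)
  have e_1_1 : bmat T (σ 1) (σ 1) = -2 := (ofType T h2).diag (σ 1)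
  have e_1_2 : bmat T (σ 1) (σ 2) = 0 := (hσ 1 2 (by decide)).trans (by rfl)
  have e_1_3 : bmat T (σ 1) (σ 3) = 0 := (hσ 1 3 (by decide)).trans (by rfl)
  have e_2_0 : bmat T (σ 2) (σ 0) = 1 := (hσ 2 0 (by decide)).trans (by rfl)
  have e_2_1 : bmat T (σ 2) (σ 1) = 0 := (hσ 2 1 (by decide)).trans (by rfl)
  have e_2_2 : bmat T (σ 2) (σ 2) = -2 := (ofType T h2).diag (σ 2)
  have e_2_3 : bmat T (σ 2) (σ 3) = 0 := (hσ 2 3 (by decide)).trans (by rfl)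
  have e_3_0 : bmat T (σ 3) (σ 0) = 2 := (hσ 3 0 (by decide)).trans (by rfl)
  have e_3_1 : bmat T (σ 3) (σ 1) = 0 := (hσ 3 1 (by decide)).trans (by rfl)
  have e_3_2 : bmat T (σ 3) (σ 2) = 0 := (hσ 3 2 (by decide)).trans (by rfl)
  have e_3_3 : bmat T (σ 3) (σ 3) = -2 := (ofType T h2).diag (σ 3)
  have r_0 := row_reindex T h2 σ 0
  rw [Fin.sum_univ_four, e_0_0, e_0_1, e_0_2, e_0_3] at r_0
  have r_1 := row_reindex T h2 σ 1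
  rw [Fin.sum_univ_four, e_1_0, e_1_1, e_1_2, e_1_3] at r_1
  have r_2 := row_reindex T h2 σ 2
  rw [Fin.sum_univ_four, e_2_0, e_2_1, e_2_2, e_2_3] at r_2
  have r_3 := row_reindex T h2 σ 3
  rw [Fin.sum_univ_four, e_3_0, e_3_1, e_3_2, e_3_3] at r_3
  have hM_0 : T.m (σ 0) = 2 * T.m (σ 1) := by omega
  have hM_1 : T.m (σ 1) = T.m (σ 1) := by omega
  have hM_2 : T.m (σ 2) = T.m (σ 1) := by omega
  have hM_3 : T.m (σ 3) = 2 * T.m (σ 1) := by omega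
  have s_0_1 := symz_bmat T (σ 0) (σ 1)
  rw [e_0_1, e_1_0] at s_0_1
  have s_0_2 := symz_bmat T (σ 0) (σ 2)
  rw [e_0_2, e_2_0] at s_0_2
  have s_0_3 := symz_bmat T (σ 0) (σ 3)
  rw [e_0_3, e_3_0] at s_0_3
  have hW_0 : T.w (σ 0) = 2 * T.w (σ 3) := by omega
  have hW_1 : T.w (σ 1) = 2 * T.w (σ 3) := by omega
  have hW_2 : T.w (σ 2) = 2 * T.w (σ 3) := by omega
  have hW_3 : T.w (σ 3) = T.w (σ 3) := by omega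
  refine ⟨?_, ?_, ?_, ?_, ?_, ?_, ?_, ?_, ?_, ?_, ?_, ?_, ?_, ?_, ?_, ?_, ?_, ?_⟩
  · exact hM_0
  · exact hM_1
  · exact hM_2
  · exact hM_3
  · exact hW_0
  · exact hW_1
  · exact hW_2
  · exact hW_3
  · rw [(h2 (σ 0)).2] <;> omega
  · rw [a_eq T (σ 0) (σ 1), e_0_1] <;> omega
  · rw [a_eq T (σ 0) (σ 2), e_0_2] <;> omega
  · rw [a_eq T (σ 0) (σ 3), e_0_3] <;> omega
  · rw [(h2 (σ 1)).2] <;> omega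
  · rw [a_eq T (σ 1) (σ 2), e_1_2] <;> omega
  · rw [a_eq T (σ 1) (σ 3), e_1_3] <;> omega
  · rw [(h2 (σ 2)).2] <;> omega
  · rw [a_eq T (σ 2) (σ 3), e_2_3] <;> omega
  · rw [(h2 (σ 3)).2] <;> omega

theorem main4 (T : Models.NumericalType 4) (hmin : T.IsMinimal) (hg : T.genus = 1) :
    (∀ i, T.g i = 0) ∧ ∃ (σ : Equiv.Perm (Fin 4)) (m w : ℤ),
      ((T.m (σ 0) = m ∧ T.m (σ 1) = m ∧ T.m (σ 2) = m ∧ T.m (σ 3) = m ∧ T.w (σ 0) = w ∧ T.w (σ 1) = w ∧ T.w (σ 2) = w ∧ T.w (σ 3) = w ∧ T.a (σ 0) (σ 0) = -2 * w ∧ T.a (σ 0) (σ 1) = w ∧ T.a (σ 0) (σ 2) = 0 ∧ T.a (σ 0) (σ 3) = w ∧ T.a (σ 1) (σ 1) = -2 * w ∧ T.a (σ 1) (σ 2) = w ∧ T.a (σ 1) (σ 3) = 0 ∧ T.a (σ 2) (σ 2) = -2 * w ∧ T.a (σ 2) (σ 3) = w ∧ T.a (σ 3) (σ 3) = -2 * w) ∨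
      (T.m (σ 0) = 2 * m ∧ T.m (σ 1) = 2 * m ∧ T.m (σ 2) = 2 * m ∧ T.m (σ 3) = m ∧ T.w (σ 0) = w ∧ T.w (σ 1) = 2 * w ∧ T.w (σ 2) = 2 * w ∧ T.w (σ 3) = 4 * w ∧ T.a (σ 0) (σ 0) = -2 * w ∧ T.a (σ 0) (σ 1) = 2 * w ∧ T.a (σ 0) (σ 2) = 0 ∧ T.a (σ 0) (σ 3) = 0 ∧ T.a (σ 1) (σ 1) = -4 * w ∧ T.a (σ 1) (σ 2) = 2 * w ∧ T.a (σ 1) (σ 3) = 0 ∧ T.a (σ 2) (σ 2) = -4 * w ∧ T.a (σ 2) (σ 3) = 4 * w ∧ T.a (σ 3) (σ 3) = -8 * w) ∨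
      (T.m (σ 0) = m ∧ T.m (σ 1) = m ∧ T.m (σ 2) = m ∧ T.m (σ 3) = m ∧ T.w (σ 0) = w ∧ T.w (σ 1) = 2 * w ∧ T.w (σ 2) = 2 * w ∧ T.w (σ 3) = w ∧ T.a (σ 0) (σ 0) = -2 * w ∧ T.a (σ 0) (σ 1) = 2 * w ∧ T.a (σ 0) (σ 2) = 0 ∧ T.a (σ 0) (σ 3) = 0 ∧ T.a (σ 1) (σ 1) = -4 * w ∧ T.a (σ 1) (σ 2) = 2 * w ∧ T.a (σ 1) (σ 3) = 0 ∧ T.a (σ 2) (σ 2) = -4 * w ∧ T.a (σ 2) (σ 3) = 2 * w ∧ T.a (σ 3) (σ 3) = -2 * w) ∨
      (T.m (σ 0) = m ∧ T.m (σ 1) = 2 * m ∧ T.m (σ 2) = 2 * m ∧ T.m (σ 3) = m ∧ T.w (σ 0) = 2 * w ∧ T.w (σ 1) = w ∧ T.w (σ 2) = w ∧ T.w (σ 3) = 2 * w ∧ T.a (σ 0) (σ 0) = -4 * w ∧ T.a (σ 0) (σ 1) = 2 * w ∧ T.a (σ 0) (σ 2) = 0 ∧ T.a (σ 0) (σ 3) = 0 ∧ T.a (σ 1) (σ 1) = -2 * w ∧ T.a (σ 1) (σ 2) = w ∧ T.a (σ 1) (σ 3) = 0 ∧ T.a (σ 2) (σ 2) = -2 * w ∧ T.a (σ 2) (σ 3) = 2 * w ∧ T.a (σ 3) (σ 3) = -4 * w) ∨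
      (T.m (σ 0) = 2 * m ∧ T.m (σ 1) = m ∧ T.m (σ 2) = m ∧ T.m (σ 3) = m ∧ T.w (σ 0) = w ∧ T.w (σ 1) = w ∧ T.w (σ 2) = w ∧ T.w (σ 3) = 2 * w ∧ T.a (σ 0) (σ 0) = -2 * w ∧ T.a (σ 0) (σ 1) = w ∧ T.a (σ 0) (σ 2) = w ∧ T.a (σ 0) (σ 3) = 2 * w ∧ T.a (σ 1) (σ 1) = -2 * w ∧ T.a (σ 1) (σ 2) = 0 ∧ T.a (σ 1) (σ 3) = 0 ∧ T.a (σ 2) (σ 2) = -2 * w ∧ T.a (σ 2) (σ 3) = 0 ∧ T.a (σ 3) (σ 3) = -4 * w) ∨
      (T.m (σ 0) = 2 * m ∧ T.m (σ 1) = m ∧ T.m (σ 2) = m ∧ T.m (σ 3) = 2 * m ∧ T.w (σ 0) = 2 * w ∧ T.w (σ 1) = 2 * w ∧ T.w (σ 2) = 2 * w ∧ T.w (σ 3) = w ∧ T.a (σ 0) (σ 0) = -4 * w ∧ T.a (σ 0) (σ 1) = 2 * w ∧ T.a (σ 0) (σ 2) = 2 * w ∧ T.a (σ 0) (σ 3) = 2 * w ∧ T.a (σ 1) (σ 1) = -4 * w ∧ T.a (σ 1) (σ 2) = 0 ∧ T.a (σ 1) (σ 3) = 0 ∧ T.a (σ 2) (σ 2) = -4 * w ∧ T.a (σ 2) (σ 3) = 0 ∧ T.a (σ 3) (σ 3) = -2 * w)) :=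 by
  have h2 := nt_genus_one_minusTwo T (by norm_num) hmin hg
  refine ⟨fun i => (h2 i).1, ?_⟩
  obtain ⟨idx, hidx, σ, hσ⟩ := classify N4.canon N4.tree N4.tree_ok (ofType T h2) (by norm_num)
  have hidx' : idx < 6 := hidx
  interval_cases idx
  · exact ⟨σ, _, _, Or.inl (case4_0 T h2 σ hσ _ _ rfl rfl)⟩
  · exact ⟨σ, _, _, Or.inr (Or.inl (case4_1 T h2 σ hσ _ _ rfl rfl))⟩
  · exact ⟨σ, _, _, Or.inr (Or.inr (Or.inl (case4_2 T h2 σ hσ _ _ rfl rfl)))⟩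
  · exact ⟨σ, _, _, Or.inr (Or.inr (Or.inr (Or.inl (case4_3 T h2 σ hσ _ _ rfl rfl))))⟩
  · exact ⟨σ, _, _, Or.inr (Or.inr (Or.inr (Or.inr (Or.inl (case4_4 T h2 σ hσ _ _ rfl rfl)))))⟩
  · exact ⟨σ, _, _, Or.inr (Or.inr (Or.inr (Or.inr (Or.inr (case4_5 T h2 σ hσ _ _ rfl rfl)))))⟩

end Groth.Agent.H79.Aff
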