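import Groth.Agent.H79.AffN9

/-! The cases of the genus one classification on 9 indices (generated). -/

set_option autoImplicit false
set_option linter.unusedVariables false
set_option linter.unusedTactic false
set_option linter.unreachableTactic false
set_option linter.unnecessarySeqFocus false
set_option maxHeartbeats 1600000

namespace Groth.Agent.H79.Aff

open Finset Models Models.NumericalType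

theorem case9_0 (T : Models.NumericalType 9) (h2 : ∀ i, T.IsMinusTwo i) (σ : Equiv.Perm (Fin 9))
    (hσ : ∀ i j : Fin 9, i ≠ j → bmat T (σ i) (σ j) = (canonEnt N9.canon 0 i.val j.val : ℤ))
    (m w : ℤ) (hm : m = T.m (σ 0)) (hw : w = T.w (σ 0)) :
    (T.m (σ 0) = m ∧ T.m (σ 1) = m ∧ T.m (σ 2) = m ∧ T.m (σ 3) = m ∧ T.m (σ 4) = m ∧ T.m (σ 5) = m ∧ T.m (σ 6) = m ∧ T.m (σ 7) = m ∧ T.m (σ 8) = m ∧ T.w (σ 0) = w ∧ T.w (σ 1) = w ∧ T.w (σ 2) = w ∧ T.w (σ 3) = w ∧ T.w (σ 4) = w ∧ T.w (σ 5) = w ∧ T.w (σ 6) = w ∧ T.w (σ 7) = w ∧ T.w (σ 8) = w ∧ T.a (σ 0) (σ 0) = -2 * w ∧ T.a (σ 0) (σ 1) = w ∧ T.a (σ 0) (σ 2) = 0 ∧ T.a (σ 0) (σ 3) = 0 ∧ T.a (σ 0) (σ 4) = 0 ∧ T.a (σ 0) (σ 5) = 0 ∧ T.a (σ 0) (σ 6) = 0 ∧ T.a (σ 0) (σ 7) = 0 ∧ T.a (σ 0) (σ 8) = w ∧ T.a (σ 1) (σ 1) = -2 * w ∧ T.a (σ 1)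 (σ 2) = w ∧ T.a (σ 1) (σ 3) = 0 ∧ T.a (σ 1) (σ 4) = 0 ∧ T.a (σ 1) (σ 5) = 0 ∧ T.a (σ 1) (σ 6) = 0 ∧ T.a (σ 1) (σ 7) = 0 ∧ T.a (σ 1) (σ 8) = 0 ∧ T.a (σ 2) (σ 2) = -2 * w ∧ T.a (σ 2) (σ 3) = w ∧ T.a (σ 2) (σ 4) = 0 ∧ T.a (σ 2) (σ 5) = 0 ∧ T.a (σ 2) (σ 6) = 0 ∧ T.a (σ 2) (σ 7) = 0 ∧ T.a (σ 2) (σ 8) = 0 ∧ T.a (σ 3) (σ 3) = -2 * w ∧ T.a (σ 3) (σ 4) = w ∧ T.a (σ 3) (σ 5) = 0 ∧ T.a (σ 3) (σ 6) = 0 ∧ T.a (σ 3) (σ 7) = 0 ∧ T.a (σ 3) (σ 8) = 0 ∧ T.a (σ 4) (σ 4) = -2 * w ∧ T.a (σ 4) (σ 5) = w ∧ T.a (σ 4) (σ 6) = 0 ∧ T.a (σ 4) (σ 7) = 0 ∧ T.a (σ 4) (σ 8) = 0 ∧ T.a (σ 5) (σ 5) = -2 * w ∧ T.a (σ 5) (σ 6) = w ∧ T.a (σ 5) (σ 7) = 0 ∧ T.a (σ 5) (σ 8) = 0 ∧ T.a (σ 6) (σ 6) = -2 * w ∧ T.a (σ 6) (σ 7) = w ∧ T.a (σ 6) (σ 8) = 0 ∧ T.a (σ 7) (σ 7) = -2 * w ∧ T.a (σ 7) (σ 8) = w ∧ T.a (σ 8) (σ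 8) = -2 * w) := by
  subst hm hw
  have e_0_0 : bmat T (σ 0) (σ 0) = -2 := (ofType T h2).diag (σ 0)
  have e_0_1 : bmat T (σ 0) (σ 1) = 1 := (hσ 0 1 (by decide)).trans (by rfl)
  have e_0_2 : bmat T (σ 0) (σ 2) = 0 := (hσ 0 2 (by decide)).trans (by rfl)
  have e_0_3 : bmat T (σ 0) (σ 3) = 0 := (hσ 0 3 (by decide)).trans (by rfl)
  have e_0_4 : bmat T (σ 0) (σ 4) = 0 := (hσ 0 4 (by decide)).trans (by rfl)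
  have e_0_5 : bmat T (σ 0) (σ 5) = 0 := (hσ 0 5 (by decide)).trans (by rfl)
  have e_0_6 : bmat T (σ 0) (σ 6) = 0 := (hσ 0 6 (by decide)).trans (by rfl)
  have e_0_7 : bmat T (σ 0) (σ 7) = 0 := (hσ 0 7 (by decide)).trans (by rfl)
  have e_0_8 : bmat T (σ 0) (σ 8) = 1 := (hσ 0 8 (by decide)).trans (by rfl)
  have e_1_0 : bmat T (σ 1) (σ 0) = 1 := (hσ 1 0 (by decide)).trans (by rfl)
  have e_1_1 : bmat T (σ 1) (σ 1) = -2 := (ofType T h2).diag (σ 1)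
  have e_1_2 : bmat T (σ 1) (σ 2) = 1 := (hσ 1 2 (by decide)).trans (by rfl)
  have e_1_3 : bmat T (σ 1) (σ 3) = 0 := (hσ 1 3 (by decide)).trans (by rfl)
  have e_1_4 : bmat T (σ 1) (σ 4) = 0 := (hσ 1 4 (by decide)).trans (by rfl)
  have e_1_5 : bmat T (σ 1) (σ 5) = 0 := (hσ 1 5 (by decide)).trans (by rfl)
  have e_1_6 : bmat T (σ 1) (σ 6) = 0 := (hσ 1 6 (by decide)).trans (by rfl)
  have e_1_7 : bmat T (σ 1) (σ 7) = 0 := (hσ 1 7 (by decide)).trans (by rfl)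
  have e_1_8 : bmat T (σ 1) (σ 8) = 0 := (hσ 1 8 (by decide)).trans (by rfl)
  have e_2_0 : bmat T (σ 2) (σ 0) = 0 := (hσ 2 0 (by decide)).trans (by rfl)
  have e_2_1 : bmat T (σ 2) (σ 1) = 1 := (hσ 2 1 (by decide)).trans (by rfl)
  have e_2_2 : bmat T (σ 2) (σ 2) = -2 := (ofType T h2).diag (σ 2)
  have e_2_3 : bmat T (σ 2) (σ 3) = 1 := (hσ 2 3 (by decide)).trans (by rfl)
  have e_2_4 : bmat T (σ 2) (σ 4) = 0 := (hσ 2 4 (by decide)).trans (by rfl)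
  have e_2_5 : bmat T (σ 2) (σ 5) = 0 := (hσ 2 5 (by decide)).trans (by rfl)
  have e_2_6 : bmat T (σ 2) (σ 6) = 0 := (hσ 2 6 (by decide)).trans (by rfl)
  have e_2_7 : bmat T (σ 2) (σ 7) = 0 := (hσ 2 7 (by decide)).trans (by rfl)
  have e_2_8 : bmat T (σ 2) (σ 8) = 0 := (hσ 2 8 (by decide)).trans (by rfl)
  have e_3_0 : bmat T (σ 3) (σ 0) = 0 := (hσ 3 0 (by decide)).trans (by rfl)
  have e_3_1 : bmat T (σ 3) (σ 1) = 0 := (hσ 3 1 (by decide)).trans (by rfl)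
  have e_3_2 : bmat T (σ 3) (σ 2) = 1 := (hσ 3 2 (by decide)).trans (by rfl)
  have e_3_3 : bmat T (σ 3) (σ 3) = -2 := (ofType T h2).diag (σ 3)
  have e_3_4 : bmat T (σ 3) (σ 4) = 1 := (hσ 3 4 (by decide)).trans (by rfl)
  have e_3_5 : bmat T (σ 3) (σ 5) = 0 := (hσ 3 5 (by decide)).trans (by rfl)
  have e_3_6 : bmat T (σ 3) (σ 6) = 0 := (hσ 3 6 (by decide)).trans (by rfl)
  have e_3_7 : bmat T (σ 3) (σ 7) = 0 := (hσ 3 7 (by decide)).trans (by rfl)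
  have e_3_8 : bmat T (σ 3) (σ 8) = 0 := (hσ 3 8 (by decide)).trans (by rfl)
  have e_4_0 : bmat T (σ 4) (σ 0) = 0 := (hσ 4 0 (by decide)).trans (by rfl)
  have e_4_1 : bmat T (σ 4) (σ 1) = 0 := (hσ 4 1 (by decide)).trans (by rfl)
  have e_4_2 : bmat T (σ 4) (σ 2) = 0 := (hσ 4 2 (by decide)).trans (by rfl)
  have e_4_3 : bmat T (σ 4) (σ 3) = 1 := (hσ 4 3 (by decide)).trans (by rfl)
  have e_4_4 : bmat T (σ 4) (σ 4) = -2 := (ofType T h2).diag (σ 4)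
  have e_4_5 : bmat T (σ 4) (σ 5) = 1 := (hσ 4 5 (by decide)).trans (by rfl)
  have e_4_6 : bmat T (σ 4) (σ 6) = 0 := (hσ 4 6 (by decide)).trans (by rfl)
  have e_4_7 : bmat T (σ 4) (σ 7) = 0 := (hσ 4 7 (by decide)).trans (by rfl)
  have e_4_8 : bmat T (σ 4) (σ 8) = 0 := (hσ 4 8 (by decide)).trans (by rfl)
  have e_5_0 : bmat T (σ 5) (σ 0) = 0 := (hσ 5 0 (by decide)).trans (by rfl)
  have e_5_1 : bmat T (σ 5) (σ 1) = 0 := (hσ 5 1 (by decide)).trans (by rfl)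
  have e_5_2 : bmat T (σ 5) (σ 2) = 0 := (hσ 5 2 (by decide)).trans (by rfl)
  have e_5_3 : bmat T (σ 5) (σ 3) = 0 := (hσ 5 3 (by decide)).trans (by rfl)
  have e_5_4 : bmat T (σ 5) (σ 4) = 1 := (hσ 5 4 (by decide)).trans (by rfl)
  have e_5_5 : bmat T (σ 5) (σ 5) = -2 := (ofType T h2).diag (σ 5)
  have e_5_6 : bmat T (σ 5) (σ 6) = 1 := (hσ 5 6 (by decide)).trans (by rfl)
  have e_5_7 : bmat T (σ 5) (σ 7) = 0 := (hσ 5 7 (by decide)).trans (by rfl)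
  have e_5_8 : bmat T (σ 5) (σ 8) = 0 := (hσ 5 8 (by decide)).trans (by rfl)
  have e_6_0 : bmat T (σ 6) (σ 0) = 0 := (hσ 6 0 (by decide)).trans (by rfl)
  have e_6_1 : bmat T (σ 6) (σ 1) = 0 := (hσ 6 1 (by decide)).trans (by rfl)
  have e_6_2 : bmat T (σ 6) (σ 2) = 0 := (hσ 6 2 (by decide)).trans (by rfl)
  have e_6_3 : bmat T (σ 6) (σ 3) = 0 := (hσ 6 3 (by decide)).trans (by rfl)
  have e_6_4 : bmat T (σ 6) (σ 4) = 0 := (hσ 6 4 (by decide)).trans (by rfl)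
  have e_6_5 : bmat T (σ 6) (σ 5) = 1 := (hσ 6 5 (by decide)).trans (by rfl)
  have e_6_6 : bmat T (σ 6) (σ 6) = -2 := (ofType T h2).diag (σ 6)
  have e_6_7 : bmat T (σ 6) (σ 7) = 1 := (hσ 6 7 (by decide)).trans (by rfl)
  have e_6_8 : bmat T (σ 6) (σ 8) = 0 := (hσ 6 8 (by decide)).trans (by rfl)
  have e_7_0 : bmat T (σ 7) (σ 0) = 0 := (hσ 7 0 (by decide)).trans (by rfl)
  have e_7_1 : bmat T (σ 7) (σ 1) = 0 := (hσ 7 1 (by decide)).trans (by rfl)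
  have e_7_2 : bmat T (σ 7) (σ 2) = 0 := (hσ 7 2 (by decide)).trans (by rfl)
  have e_7_3 : bmat T (σ 7) (σ 3) = 0 := (hσ 7 3 (by decide)).trans (by rfl)
  have e_7_4 : bmat T (σ 7) (σ 4) = 0 := (hσ 7 4 (by decide)).trans (by rfl)
  have e_7_5 : bmat T (σ 7) (σ 5) = 0 := (hσ 7 5 (by decide)).trans (by rfl)
  have e_7_6 : bmat T (σ 7) (σ 6) = 1 := (hσ 7 6 (by decide)).trans (by rfl)
  have e_7_7 : bmat T (σ 7) (σ 7) = -2 := (ofType T h2).diag (σ 7)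
  have e_7_8 : bmat T (σ 7) (σ 8) = 1 := (hσ 7 8 (by decide)).trans (by rfl)
  have e_8_0 : bmat T (σ 8) (σ 0) = 1 := (hσ 8 0 (by decide)).trans (by rfl)
  have e_8_1 : bmat T (σ 8) (σ 1) = 0 := (hσ 8 1 (by decide)).trans (by rfl)
  have e_8_2 : bmat T (σ 8) (σ 2) = 0 := (hσ 8 2 (by decide)).trans (by rfl)
  have e_8_3 : bmat T (σ 8) (σ 3) = 0 := (hσ 8 3 (by decide)).trans (by rfl)
  have e_8_4 : bmat T (σ 8) (σ 4) = 0 := (hσ 8 4 (by decide)).trans (by rfl)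
  have e_8_5 : bmat T (σ 8) (σ 5) = 0 := (hσ 8 5 (by decide)).trans (by rfl)
  have e_8_6 : bmat T (σ 8) (σ 6) = 0 := (hσ 8 6 (by decide)).trans (by rfl)
  have e_8_7 : bmat T (σ 8) (σ 7) = 1 := (hσ 8 7 (by decide)).trans (by rfl)
  have e_8_8 : bmat T (σ 8) (σ 8) = -2 := (ofType T h2).diag (σ 8)
  have r_0 := row_reindex T h2 σ 0
  rw [sum_fin9, e_0_0, e_0_1, e_0_2, e_0_3, e_0_4, e_0_5, e_0_6, e_0_7, e_0_8] at r_0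
  have r_1 := row_reindex T h2 σ 1
  rw [sum_fin9, e_1_0, e_1_1, e_1_2, e_1_3, e_1_4, e_1_5, e_1_6, e_1_7, e_1_8] at r_1
  have r_2 := row_reindex T h2 σ 2
  rw [sum_fin9, e_2_0, e_2_1, e_2_2, e_2_3, e_2_4, e_2_5, e_2_6, e_2_7, e_2_8] at r_2
  have r_3 := row_reindex T h2 σ 3
  rw [sum_fin9, e_3_0, e_3_1, e_3_2, e_3_3, e_3_4, e_3_5, e_3_6, e_3_7, e_3_8] at r_3
  have r_4 := row_reindex T h2 σ 4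
  rw [sum_fin9, e_4_0, e_4_1, e_4_2, e_4_3, e_4_4, e_4_5, e_4_6, e_4_7, e_4_8] at r_4
  have r_5 := row_reindex T h2 σ 5
  rw [sum_fin9, e_5_0, e_5_1, e_5_2, e_5_3, e_5_4, e_5_5, e_5_6, e_5_7, e_5_8] at r_5
  have r_6 := row_reindex T h2 σ 6
  rw [sum_fin9, e_6_0, e_6_1, e_6_2, e_6_3, e_6_4, e_6_5, e_6_6, e_6_7, e_6_8] at r_6
  have r_7 := row_reindex T h2 σ 7
  rw [sum_fin9, e_7_0, e_7_1, e_7_2, e_7_3, e_7_4, e_7_5, e_7_6, e_7_7, e_7_8] at r_7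
  have r_8 := row_reindex T h2 σ 8
  rw [sum_fin9, e_8_0, e_8_1, e_8_2, e_8_3, e_8_4, e_8_5, e_8_6, e_8_7, e_8_8] at r_8
  have hM_0 : T.m (σ 0) = T.m (σ 0) := by omega
  have hM_1 : T.m (σ 1) = T.m (σ 0) := by omega
  have hM_2 : T.m (σ 2) = T.m (σ 0) := by omega
  have hM_3 : T.m (σ 3) = T.m (σ 0) := by omega
  have hM_4 : T.m (σ 4) = T.m (σ 0) := by omega
  have hM_5 : T.m (σ 5) = T.m (σ 0) := by omega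
  have hM_6 : T.m (σ 6) = T.m (σ 0) := by omega
  have hM_7 : T.m (σ 7) = T.m (σ 0) := by omega
  have hM_8 : T.m (σ 8) = T.m (σ 0) := by omega
  have s_0_1 := symz_bmat T (σ 0) (σ 1)
  rw [e_0_1, e_1_0] at s_0_1
  have s_0_8 := symz_bmat T (σ 0) (σ 8)
  rw [e_0_8, e_8_0] at s_0_8
  have s_1_2 := symz_bmat T (σ 1) (σ 2)
  rw [e_1_2, e_2_1] at s_1_2
  have s_2_3 := symz_bmat T (σ 2) (σ 3)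
  rw [e_2_3, e_3_2] at s_2_3
  have s_3_4 := symz_bmat T (σ 3) (σ 4)
  rw [e_3_4, e_4_3] at s_3_4
  have s_4_5 := symz_bmat T (σ 4) (σ 5)
  rw [e_4_5, e_5_4] at s_4_5
  have s_5_6 := symz_bmat T (σ 5) (σ 6)
  rw [e_5_6, e_6_5] at s_5_6
  have s_6_7 := symz_bmat T (σ 6) (σ 7)
  rw [e_6_7, e_7_6] at s_6_7
  have s_7_8 := symz_bmat T (σ 7) (σ 8)
  rw [e_7_8, e_8_7] at s_7_8
  have hW_0 : T.w (σ 0) = T.w (σ 0) := by omega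
  have hW_1 : T.w (σ 1) = T.w (σ 0) := by omega
  have hW_2 : T.w (σ 2) = T.w (σ 0) := by omega
  have hW_3 : T.w (σ 3) = T.w (σ 0) := by omega
  have hW_4 : T.w (σ 4) = T.w (σ 0) := by omega
  have hW_5 : T.w (σ 5) = T.w (σ 0) := by omega
  have hW_6 : T.w (σ 6) = T.w (σ 0) := by omega
  have hW_7 : T.w (σ 7) = T.w (σ 0) := by omega
  have hW_8 : T.w (σ 8) = T.w (σ 0) := by omega
  refine ⟨?_, ?_, ?_, ?_, ?_, ?_, ?_, ?_, ?_, ?_, ?_, ?_, ?_, ?_, ?_, ?_, ?_, ?_, ?_, ?_, ?_, ?_, ?_, ?_, ?_, ?_, ?_, ?_, ?_, ?_, ?_, ?_, ?_, ?_, ?_, ?_, ?_, ?_, ?_, ?_, ?_, ?_, ?_, ?_, ?_, ?_, ?_, ?_, ?_, ?_, ?_, ?_, ?_, ?_, ?_, ?_, ?_, ?_, ?_, ?_, ?_, ?_, ?_⟩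
  · exact hM_0
  · exact hM_1
  · exact hM_2
  · exact hM_3
  · exact hM_4
  · exact hM_5
  · exact hM_6
  · exact hM_7
  · exact hM_8
  · exact hW_0
  · exact hW_1
  · exact hW_2
  · exact hW_3
  · exact hW_4
  · exact hW_5
  · exact hW_6
  · exact hW_7
  · exact hW_8
  · rw [(h2 (σ 0)).2] <;> omega
  · rw [a_eq T (σ 0) (σ 1), e_0_1] <;> omega
  · rw [a_eq T (σ 0) (σ 2), e_0_2] <;> omega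
  · rw [a_eq T (σ 0) (σ 3), e_0_3] <;> omega
  · rw [a_eq T (σ 0) (σ 4), e_0_4] <;> omega
  · rw [a_eq T (σ 0) (σ 5), e_0_5] <;> omega
  · rw [a_eq T (σ 0) (σ 6), e_0_6] <;> omega
  · rw [a_eq T (σ 0) (σ 7), e_0_7] <;> omega
  · rw [a_eq T (σ 0) (σ 8), e_0_8] <;> omega
  · rw [(h2 (σ 1)).2] <;> omega
  · rw [a_eq T (σ 1) (σ 2), e_1_2] <;> omega
  · rw [a_eq T (σ 1) (σ 3), e_1_3] <;> omega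
  · rw [a_eq T (σ 1) (σ 4), e_1_4] <;> omega
  · rw [a_eq T (σ 1) (σ 5), e_1_5] <;> omega
  · rw [a_eq T (σ 1) (σ 6), e_1_6] <;> omega
  · rw [a_eq T (σ 1) (σ 7), e_1_7] <;> omega
  · rw [a_eq T (σ 1) (σ 8), e_1_8] <;> omega
  · rw [(h2 (σ 2)).2] <;> omega
  · rw [a_eq T (σ 2) (σ 3), e_2_3] <;> omega
  · rw [a_eq T (σ 2) (σ 4), e_2_4] <;> omega
  · rw [a_eq T (σ 2) (σ 5), e_2_5] <;> omega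
  · rw [a_eq T (σ 2) (σ 6), e_2_6] <;> omega
  · rw [a_eq T (σ 2) (σ 7), e_2_7] <;> omega
  · rw [a_eq T (σ 2) (σ 8), e_2_8] <;> omega
  · rw [(h2 (σ 3)).2] <;> omega
  · rw [a_eq T (σ 3) (σ 4), e_3_4] <;> omega
  · rw [a_eq T (σ 3) (σ 5), e_3_5] <;> omega
  · rw [a_eq T (σ 3) (σ 6), e_3_6] <;> omega
  · rw [a_eq T (σ 3) (σ 7), e_3_7] <;> omega
  · rw [a_eq T (σ 3) (σ 8), e_3_8] <;> omega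
  · rw [(h2 (σ 4)).2] <;> omega
  · rw [a_eq T (σ 4) (σ 5), e_4_5] <;> omega
  · rw [a_eq T (σ 4) (σ 6), e_4_6] <;> omega
  · rw [a_eq T (σ 4) (σ 7), e_4_7] <;> omega
  · rw [a_eq T (σ 4) (σ 8), e_4_8] <;> omega
  · rw [(h2 (σ 5)).2] <;> omega
  · rw [a_eq T (σ 5) (σ 6), e_5_6] <;> omega
  · rw [a_eq T (σ 5) (σ 7), e_5_7] <;> omega
  · rw [a_eq T (σ 5) (σ 8), e_5_8] <;> omega
  · rw [(h2 (σ 6)).2] <;> omega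
  · rw [a_eq T (σ 6) (σ 7), e_6_7] <;> omega
  · rw [a_eq T (σ 6) (σ 8), e_6_8] <;> omega
  · rw [(h2 (σ 7)).2] <;> omega
  · rw [a_eq T (σ 7) (σ 8), e_7_8] <;> omega
  · rw [(h2 (σ 8)).2] <;> omega

theorem case9_1 (T : Models.NumericalType 9) (h2 : ∀ i, T.IsMinusTwo i) (σ : Equiv.Perm (Fin 9))
    (hσ : ∀ i j : Fin 9, i ≠ j → bmat T (σ i) (σ j) = (canonEnt N9.canon 1 i.val j.val : ℤ))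
    (m w : ℤ) (hm : m = T.m (σ 8)) (hw : w = T.w (σ 0)) :
    (T.m (σ 0) = 2 * m ∧ T.m (σ 1) = 2 * m ∧ T.m (σ 2) = 2 * m ∧ T.m (σ 3) = 2 * m ∧ T.m (σ 4) = 2 * m ∧ T.m (σ 5) = 2 * m ∧ T.m (σ 6) = 2 * m ∧ T.m (σ 7) = 2 * m ∧ T.m (σ 8) = m ∧ T.w (σ 0) = w ∧ T.w (σ 1) = 2 * w ∧ T.w (σ 2) = 2 * w ∧ T.w (σ 3) = 2 * w ∧ T.w (σ 4) = 2 * w ∧ T.w (σ 5) = 2 * w ∧ T.w (σ 6) = 2 * w ∧ T.w (σ 7) = 2 * w ∧ T.w (σ 8) = 4 * w ∧ T.a (σ 0) (σ 0) = -2 * w ∧ T.a (σ 0) (σ 1) = 2 * w ∧ T.a (σ 0) (σ 2) = 0 ∧ T.a (σ 0) (σ 3) = 0 ∧ T.a (σ 0) (σ 4) = 0 ∧ T.a (σ 0) (σ 5) = 0 ∧ T.a (σ 0) (σ 6) = 0 ∧ T.a (σ 0) (σ 7) = 0 ∧ T.a (σ 0) (σ 8) = 0 ∧ T.a (σ 1) (σ 1) = -4 * w ∧ T.a (σ 1) (σ 2) = 2 * w ∧ T.a (σ 1) (σ 3) = 0 ∧ T.a (σ 1) (σ 4) = 0 ∧ T.a (σ 1) (σ 5) = 0 ∧ T.a (σ 1) (σ 6) = 0 ∧ T.a (σ 1) (σ 7) =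 0 ∧ T.a (σ 1) (σ 8) = 0 ∧ T.a (σ 2) (σ 2) = -4 * w ∧ T.a (σ 2) (σ 3) = 2 * w ∧ T.a (σ 2) (σ 4) = 0 ∧ T.a (σ 2) (σ 5) = 0 ∧ T.a (σ 2) (σ 6) = 0 ∧ T.a (σ 2) (σ 7) = 0 ∧ T.a (σ 2) (σ 8) = 0 ∧ T.a (σ 3) (σ 3) = -4 * w ∧ T.a (σ 3) (σ 4) = 2 * w ∧ T.a (σ 3) (σ 5) = 0 ∧ T.a (σ 3) (σ 6) = 0 ∧ T.a (σ 3) (σ 7) = 0 ∧ T.a (σ 3) (σ 8) = 0 ∧ T.a (σ 4) (σ 4) = -4 * w ∧ T.a (σ 4) (σ 5) = 2 * w ∧ T.a (σ 4) (σ 6) = 0 ∧ T.a (σ 4) (σ 7) = 0 ∧ T.a (σ 4) (σ 8) = 0 ∧ T.a (σ 5) (σ 5) = -4 * w ∧ T.a (σ 5) (σ 6) = 2 * w ∧ T.a (σ 5) (σ 7) = 0 ∧ T.a (σ 5) (σ 8) = 0 ∧ T.a (σ 6) (σ 6) = -4 * w ∧ T.a (σ 6) (σ 7) = 2 * w ∧ T.a (σ 6) (σ 8) = 0 ∧ T.a (σ 7) (σ 7) = -4 * w ∧ T.a (σ 7) (σ 8) = 4 * w ∧ T.a (σ 8) (σ 8) = -8 * w) := by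
  subst hm hw
  have e_0_0 : bmat T (σ 0) (σ 0) = -2 := (ofType T h2).diag (σ 0)
  have e_0_1 : bmat T (σ 0) (σ 1) = 2 := (hσ 0 1 (by decide)).trans (by rfl)
  have e_0_2 : bmat T (σ 0) (σ 2) = 0 := (hσ 0 2 (by decide)).trans (by rfl)
  have e_0_3 : bmat T (σ 0) (σ 3) = 0 := (hσ 0 3 (by decide)).trans (by rfl)
  have e_0_4 : bmat T (σ 0) (σ 4) = 0 := (hσ 0 4 (by decide)).trans (by rfl)
  have e_0_5 : bmat T (σ 0) (σ 5) = 0 := (hσ 0 5 (by decide)).trans (by rfl)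
  have e_0_6 : bmat T (σ 0) (σ 6) = 0 := (hσ 0 6 (by decide)).trans (by rfl)
  have e_0_7 : bmat T (σ 0) (σ 7) = 0 := (hσ 0 7 (by decide)).trans (by rfl)
  have e_0_8 : bmat T (σ 0) (σ 8) = 0 := (hσ 0 8 (by decide)).trans (by rfl)
  have e_1_0 : bmat T (σ 1) (σ 0) = 1 := (hσ 1 0 (by decide)).trans (by rfl)
  have e_1_1 : bmat T (σ 1) (σ 1) = -2 := (ofType T h2).diag (σ 1)
  have e_1_2 : bmat T (σ 1) (σ 2) = 1 := (hσ 1 2 (by decide)).trans (by rfl)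
  have e_1_3 : bmat T (σ 1) (σ 3) = 0 := (hσ 1 3 (by decide)).trans (by rfl)
  have e_1_4 : bmat T (σ 1) (σ 4) = 0 := (hσ 1 4 (by decide)).trans (by rfl)
  have e_1_5 : bmat T (σ 1) (σ 5) = 0 := (hσ 1 5 (by decide)).trans (by rfl)
  have e_1_6 : bmat T (σ 1) (σ 6) = 0 := (hσ 1 6 (by decide)).trans (by rfl)
  have e_1_7 : bmat T (σ 1) (σ 7) = 0 := (hσ 1 7 (by decide)).trans (by rfl)
  have e_1_8 : bmat T (σ 1) (σ 8) = 0 := (hσ 1 8 (by decide)).trans (by rfl)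
  have e_2_0 : bmat T (σ 2) (σ 0) = 0 := (hσ 2 0 (by decide)).trans (by rfl)
  have e_2_1 : bmat T (σ 2) (σ 1) = 1 := (hσ 2 1 (by decide)).trans (by rfl)
  have e_2_2 : bmat T (σ 2) (σ 2) = -2 := (ofType T h2).diag (σ 2)
  have e_2_3 : bmat T (σ 2) (σ 3) = 1 := (hσ 2 3 (by decide)).trans (by rfl)
  have e_2_4 : bmat T (σ 2) (σ 4) = 0 := (hσ 2 4 (by decide)).trans (by rfl)
  have e_2_5 : bmat T (σ 2) (σ 5) = 0 := (hσ 2 5 (by decide)).trans (by rfl)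
  have e_2_6 : bmat T (σ 2) (σ 6) = 0 := (hσ 2 6 (by decide)).trans (by rfl)
  have e_2_7 : bmat T (σ 2) (σ 7) = 0 := (hσ 2 7 (by decide)).trans (by rfl)
  have e_2_8 : bmat T (σ 2) (σ 8) = 0 := (hσ 2 8 (by decide)).trans (by rfl)
  have e_3_0 : bmat T (σ 3) (σ 0) = 0 := (hσ 3 0 (by decide)).trans (by rfl)
  have e_3_1 : bmat T (σ 3) (σ 1) = 0 := (hσ 3 1 (by decide)).trans (by rfl)
  have e_3_2 : bmat T (σ 3) (σ 2) = 1 := (hσ 3 2 (by decide)).trans (by rfl)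
  have e_3_3 : bmat T (σ 3) (σ 3) = -2 := (ofType T h2).diag (σ 3)
  have e_3_4 : bmat T (σ 3) (σ 4) = 1 := (hσ 3 4 (by decide)).trans (by rfl)
  have e_3_5 : bmat T (σ 3) (σ 5) = 0 := (hσ 3 5 (by decide)).trans (by rfl)
  have e_3_6 : bmat T (σ 3) (σ 6) = 0 := (hσ 3 6 (by decide)).trans (by rfl)
  have e_3_7 : bmat T (σ 3) (σ 7) = 0 := (hσ 3 7 (by decide)).trans (by rfl)
  have e_3_8 : bmat T (σ 3) (σ 8) = 0 := (hσ 3 8 (by decide)).trans (by rfl)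
  have e_4_0 : bmat T (σ 4) (σ 0) = 0 := (hσ 4 0 (by decide)).trans (by rfl)
  have e_4_1 : bmat T (σ 4) (σ 1) = 0 := (hσ 4 1 (by decide)).trans (by rfl)
  have e_4_2 : bmat T (σ 4) (σ 2) = 0 := (hσ 4 2 (by decide)).trans (by rfl)
  have e_4_3 : bmat T (σ 4) (σ 3) = 1 := (hσ 4 3 (by decide)).trans (by rfl)
  have e_4_4 : bmat T (σ 4) (σ 4) = -2 := (ofType T h2).diag (σ 4)
  have e_4_5 : bmat T (σ 4) (σ 5) = 1 := (hσ 4 5 (by decide)).trans (by rfl)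
  have e_4_6 : bmat T (σ 4) (σ 6) = 0 := (hσ 4 6 (by decide)).trans (by rfl)
  have e_4_7 : bmat T (σ 4) (σ 7) = 0 := (hσ 4 7 (by decide)).trans (by rfl)
  have e_4_8 : bmat T (σ 4) (σ 8) = 0 := (hσ 4 8 (by decide)).trans (by rfl)
  have e_5_0 : bmat T (σ 5) (σ 0) = 0 := (hσ 5 0 (by decide)).trans (by rfl)
  have e_5_1 : bmat T (σ 5) (σ 1) = 0 := (hσ 5 1 (by decide)).trans (by rfl)
  have e_5_2 : bmat T (σ 5) (σ 2) = 0 := (hσ 5 2 (by decide)).trans (by rfl)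
  have e_5_3 : bmat T (σ 5) (σ 3) = 0 := (hσ 5 3 (by decide)).trans (by rfl)
  have e_5_4 : bmat T (σ 5) (σ 4) = 1 := (hσ 5 4 (by decide)).trans (by rfl)
  have e_5_5 : bmat T (σ 5) (σ 5) = -2 := (ofType T h2).diag (σ 5)
  have e_5_6 : bmat T (σ 5) (σ 6) = 1 := (hσ 5 6 (by decide)).trans (by rfl)
  have e_5_7 : bmat T (σ 5) (σ 7) = 0 := (hσ 5 7 (by decide)).trans (by rfl)
  have e_5_8 : bmat T (σ 5) (σ 8) = 0 := (hσ 5 8 (by decide)).trans (by rfl)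
  have e_6_0 : bmat T (σ 6) (σ 0) = 0 := (hσ 6 0 (by decide)).trans (by rfl)
  have e_6_1 : bmat T (σ 6) (σ 1) = 0 := (hσ 6 1 (by decide)).trans (by rfl)
  have e_6_2 : bmat T (σ 6) (σ 2) = 0 := (hσ 6 2 (by decide)).trans (by rfl)
  have e_6_3 : bmat T (σ 6) (σ 3) = 0 := (hσ 6 3 (by decide)).trans (by rfl)
  have e_6_4 : bmat T (σ 6) (σ 4) = 0 := (hσ 6 4 (by decide)).trans (by rfl)
  have e_6_5 : bmat T (σ 6) (σ 5) = 1 := (hσ 6 5 (by decide)).trans (by rfl)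
  have e_6_6 : bmat T (σ 6) (σ 6) = -2 := (ofType T h2).diag (σ 6)
  have e_6_7 : bmat T (σ 6) (σ 7) = 1 := (hσ 6 7 (by decide)).trans (by rfl)
  have e_6_8 : bmat T (σ 6) (σ 8) = 0 := (hσ 6 8 (by decide)).trans (by rfl)
  have e_7_0 : bmat T (σ 7) (σ 0) = 0 := (hσ 7 0 (by decide)).trans (by rfl)
  have e_7_1 : bmat T (σ 7) (σ 1) = 0 := (hσ 7 1 (by decide)).trans (by rfl)
  have e_7_2 : bmat T (σ 7) (σ 2) = 0 := (hσ 7 2 (by decide)).trans (by rfl)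
  have e_7_3 : bmat T (σ 7) (σ 3) = 0 := (hσ 7 3 (by decide)).trans (by rfl)
  have e_7_4 : bmat T (σ 7) (σ 4) = 0 := (hσ 7 4 (by decide)).trans (by rfl)
  have e_7_5 : bmat T (σ 7) (σ 5) = 0 := (hσ 7 5 (by decide)).trans (by rfl)
  have e_7_6 : bmat T (σ 7) (σ 6) = 1 := (hσ 7 6 (by decide)).trans (by rfl)
  have e_7_7 : bmat T (σ 7) (σ 7) = -2 := (ofType T h2).diag (σ 7)
  have e_7_8 : bmat T (σ 7) (σ 8) = 2 := (hσ 7 8 (by decide)).trans (by rfl)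
  have e_8_0 : bmat T (σ 8) (σ 0) = 0 := (hσ 8 0 (by decide)).trans (by rfl)
  have e_8_1 : bmat T (σ 8) (σ 1) = 0 := (hσ 8 1 (by decide)).trans (by rfl)
  have e_8_2 : bmat T (σ 8) (σ 2) = 0 := (hσ 8 2 (by decide)).trans (by rfl)
  have e_8_3 : bmat T (σ 8) (σ 3) = 0 := (hσ 8 3 (by decide)).trans (by rfl)
  have e_8_4 : bmat T (σ 8) (σ 4) = 0 := (hσ 8 4 (by decide)).trans (by rfl)
  have e_8_5 : bmat T (σ 8) (σ 5) = 0 := (hσ 8 5 (by decide)).trans (by rfl)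
  have e_8_6 : bmat T (σ 8) (σ 6) = 0 := (hσ 8 6 (by decide)).trans (by rfl)
  have e_8_7 : bmat T (σ 8) (σ 7) = 1 := (hσ 8 7 (by decide)).trans (by rfl)
  have e_8_8 : bmat T (σ 8) (σ 8) = -2 := (ofType T h2).diag (σ 8)
  have r_0 := row_reindex T h2 σ 0
  rw [sum_fin9, e_0_0, e_0_1, e_0_2, e_0_3, e_0_4, e_0_5, e_0_6, e_0_7, e_0_8] at r_0
  have r_1 := row_reindex T h2 σ 1
  rw [sum_fin9, e_1_0, e_1_1, e_1_2, e_1_3, e_1_4, e_1_5, e_1_6, e_1_7, e_1_8] at r_1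
  have r_2 := row_reindex T h2 σ 2
  rw [sum_fin9, e_2_0, e_2_1, e_2_2, e_2_3, e_2_4, e_2_5, e_2_6, e_2_7, e_2_8] at r_2
  have r_3 := row_reindex T h2 σ 3
  rw [sum_fin9, e_3_0, e_3_1, e_3_2, e_3_3, e_3_4, e_3_5, e_3_6, e_3_7, e_3_8] at r_3
  have r_4 := row_reindex T h2 σ 4
  rw [sum_fin9, e_4_0, e_4_1, e_4_2, e_4_3, e_4_4, e_4_5, e_4_6, e_4_7, e_4_8] at r_4
  have r_5 := row_reindex T h2 σ 5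
  rw [sum_fin9, e_5_0, e_5_1, e_5_2, e_5_3, e_5_4, e_5_5, e_5_6, e_5_7, e_5_8] at r_5
  have r_6 := row_reindex T h2 σ 6
  rw [sum_fin9, e_6_0, e_6_1, e_6_2, e_6_3, e_6_4, e_6_5, e_6_6, e_6_7, e_6_8] at r_6
  have r_7 := row_reindex T h2 σ 7
  rw [sum_fin9, e_7_0, e_7_1, e_7_2, e_7_3, e_7_4, e_7_5, e_7_6, e_7_7, e_7_8] at r_7
  have r_8 := row_reindex T h2 σ 8
  rw [sum_fin9, e_8_0, e_8_1, e_8_2, e_8_3, e_8_4, e_8_5, e_8_6, e_8_7, e_8_8] at r_8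
  have hM_0 : T.m (σ 0) = 2 * T.m (σ 8) := by omega
  have hM_1 : T.m (σ 1) = 2 * T.m (σ 8) := by omega
  have hM_2 : T.m (σ 2) = 2 * T.m (σ 8) := by omega
  have hM_3 : T.m (σ 3) = 2 * T.m (σ 8) := by omega
  have hM_4 : T.m (σ 4) = 2 * T.m (σ 8) := by omega
  have hM_5 : T.m (σ 5) = 2 * T.m (σ 8) := by omega
  have hM_6 : T.m (σ 6) = 2 * T.m (σ 8) := by omega
  have hM_7 : T.m (σ 7) = 2 * T.m (σ 8) := by omega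
  have hM_8 : T.m (σ 8) = T.m (σ 8) := by omega
  have s_0_1 := symz_bmat T (σ 0) (σ 1)
  rw [e_0_1, e_1_0] at s_0_1
  have s_1_2 := symz_bmat T (σ 1) (σ 2)
  rw [e_1_2, e_2_1] at s_1_2
  have s_2_3 := symz_bmat T (σ 2) (σ 3)
  rw [e_2_3, e_3_2] at s_2_3
  have s_3_4 := symz_bmat T (σ 3) (σ 4)
  rw [e_3_4, e_4_3] at s_3_4
  have s_4_5 := symz_bmat T (σ 4) (σ 5)
  rw [e_4_5, e_5_4] at s_4_5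
  have s_5_6 := symz_bmat T (σ 5) (σ 6)
  rw [e_5_6, e_6_5] at s_5_6
  have s_6_7 := symz_bmat T (σ 6) (σ 7)
  rw [e_6_7, e_7_6] at s_6_7
  have s_7_8 := symz_bmat T (σ 7) (σ 8)
  rw [e_7_8, e_8_7] at s_7_8
  have hW_0 : T.w (σ 0) = T.w (σ 0) := by omega
  have hW_1 : T.w (σ 1) = 2 * T.w (σ 0) := by omega
  have hW_2 : T.w (σ 2) = 2 * T.w (σ 0) := by omega
  have hW_3 : T.w (σ 3) = 2 * T.w (σ 0) := by omega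
  have hW_4 : T.w (σ 4) = 2 * T.w (σ 0) := by omega
  have hW_5 : T.w (σ 5) = 2 * T.w (σ 0) := by omega
  have hW_6 : T.w (σ 6) = 2 * T.w (σ 0) := by omega
  have hW_7 : T.w (σ 7) = 2 * T.w (σ 0) := by omega
  have hW_8 : T.w (σ 8) = 4 * T.w (σ 0) := by omega
  refine ⟨?_, ?_, ?_, ?_, ?_, ?_, ?_, ?_, ?_, ?_, ?_, ?_, ?_, ?_, ?_, ?_, ?_, ?_, ?_, ?_, ?_, ?_, ?_, ?_, ?_, ?_, ?_, ?_, ?_, ?_, ?_, ?_, ?_, ?_, ?_, ?_, ?_, ?_, ?_, ?_, ?_, ?_, ?_, ?_, ?_, ?_, ?_, ?_, ?_, ?_, ?_, ?_, ?_, ?_, ?_, ?_, ?_, ?_, ?_, ?_, ?_, ?_, ?_⟩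
  · exact hM_0
  · exact hM_1
  · exact hM_2
  · exact hM_3
  · exact hM_4
  · exact hM_5
  · exact hM_6
  · exact hM_7
  · exact hM_8
  · exact hW_0
  · exact hW_1
  · exact hW_2
  · exact hW_3
  · exact hW_4
  · exact hW_5
  · exact hW_6
  · exact hW_7
  · exact hW_8
  · rw [(h2 (σ 0)).2] <;> omega
  · rw [a_eq T (σ 0) (σ 1), e_0_1] <;> omega
  · rw [a_eq T (σ 0) (σ 2), e_0_2] <;> omega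
  · rw [a_eq T (σ 0) (σ 3), e_0_3] <;> omega
  · rw [a_eq T (σ 0) (σ 4), e_0_4] <;> omega
  · rw [a_eq T (σ 0) (σ 5), e_0_5] <;> omega
  · rw [a_eq T (σ 0) (σ 6), e_0_6] <;> omega
  · rw [a_eq T (σ 0) (σ 7), e_0_7] <;> omega
  · rw [a_eq T (σ 0) (σ 8), e_0_8] <;> omega
  · rw [(h2 (σ 1)).2] <;> omega
  · rw [a_eq T (σ 1) (σ 2), e_1_2] <;> omega
  · rw [a_eq T (σ 1) (σ 3), e_1_3] <;> omega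
  · rw [a_eq T (σ 1) (σ 4), e_1_4] <;> omega
  · rw [a_eq T (σ 1) (σ 5), e_1_5] <;> omega
  · rw [a_eq T (σ 1) (σ 6), e_1_6] <;> omega
  · rw [a_eq T (σ 1) (σ 7), e_1_7] <;> omega
  · rw [a_eq T (σ 1) (σ 8), e_1_8] <;> omega
  · rw [(h2 (σ 2)).2] <;> omega
  · rw [a_eq T (σ 2) (σ 3), e_2_3] <;> omega
  · rw [a_eq T (σ 2) (σ 4), e_2_4] <;> omega
  · rw [a_eq T (σ 2) (σ 5), e_2_5] <;> omega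
  · rw [a_eq T (σ 2) (σ 6), e_2_6] <;> omega
  · rw [a_eq T (σ 2) (σ 7), e_2_7] <;> omega
  · rw [a_eq T (σ 2) (σ 8), e_2_8] <;> omega
  · rw [(h2 (σ 3)).2] <;> omega
  · rw [a_eq T (σ 3) (σ 4), e_3_4] <;> omega
  · rw [a_eq T (σ 3) (σ 5), e_3_5] <;> omega
  · rw [a_eq T (σ 3) (σ 6), e_3_6] <;> omega
  · rw [a_eq T (σ 3) (σ 7), e_3_7] <;> omega
  · rw [a_eq T (σ 3) (σ 8), e_3_8] <;> omega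
  · rw [(h2 (σ 4)).2] <;> omega
  · rw [a_eq T (σ 4) (σ 5), e_4_5] <;> omega
  · rw [a_eq T (σ 4) (σ 6), e_4_6] <;> omega
  · rw [a_eq T (σ 4) (σ 7), e_4_7] <;> omega
  · rw [a_eq T (σ 4) (σ 8), e_4_8] <;> omega
  · rw [(h2 (σ 5)).2] <;> omega
  · rw [a_eq T (σ 5) (σ 6), e_5_6] <;> omega
  · rw [a_eq T (σ 5) (σ 7), e_5_7] <;> omega
  · rw [a_eq T (σ 5) (σ 8), e_5_8] <;> omega
  · rw [(h2 (σ 6)).2] <;> omega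
  · rw [a_eq T (σ 6) (σ 7), e_6_7] <;> omega
  · rw [a_eq T (σ 6) (σ 8), e_6_8] <;> omega
  · rw [(h2 (σ 7)).2] <;> omega
  · rw [a_eq T (σ 7) (σ 8), e_7_8] <;> omega
  · rw [(h2 (σ 8)).2] <;> omega

theorem case9_2 (T : Models.NumericalType 9) (h2 : ∀ i, T.IsMinusTwo i) (σ : Equiv.Perm (Fin 9))
    (hσ : ∀ i j : Fin 9, i ≠ j → bmat T (σ i) (σ j) = (canonEnt N9.canon 2 i.val j.val : ℤ))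
    (m w : ℤ) (hm : m = T.m (σ 0)) (hw : w = T.w (σ 0)) :
    (T.m (σ 0) = m ∧ T.m (σ 1) = m ∧ T.m (σ 2) = m ∧ T.m (σ 3) = m ∧ T.m (σ 4) = m ∧ T.m (σ 5) = m ∧ T.m (σ 6) = m ∧ T.m (σ 7) = m ∧ T.m (σ 8) = m ∧ T.w (σ 0) = w ∧ T.w (σ 1) = 2 * w ∧ T.w (σ 2) = 2 * w ∧ T.w (σ 3) = 2 * w ∧ T.w (σ 4) = 2 * w ∧ T.w (σ 5) = 2 * w ∧ T.w (σ 6) = 2 * w ∧ T.w (σ 7) = 2 * w ∧ T.w (σ 8) = w ∧ T.a (σ 0) (σ 0) = -2 * w ∧ T.a (σ 0) (σ 1) = 2 * w ∧ T.a (σ 0) (σ 2) = 0 ∧ T.a (σ 0) (σ 3) = 0 ∧ T.a (σ 0) (σ 4) = 0 ∧ T.a (σ 0) (σ 5) = 0 ∧ T.a (σ 0) (σ 6) = 0 ∧ T.a (σ 0) (σ 7) = 0 ∧ T.a (σ 0) (σ 8) = 0 ∧ T.a (σ 1) (σ 1) = -4 * w ∧ T.a (σ 1) (σ 2) = 2 * w ∧ T.a (σ 1) (σ 3) = 0 ∧ T.a (σ 1) (σ 4) = 0 ∧ T.a (σ 1) (σ 5) = 0 ∧ T.a (σ 1) (σ 6) = 0 ∧ T.a (σ 1) (σ 7) = 0 ∧ T.a (σ 1) (σ 8) = 0 ∧ T.a (σ 2)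 (σ 2) = -4 * w ∧ T.a (σ 2) (σ 3) = 2 * w ∧ T.a (σ 2) (σ 4) = 0 ∧ T.a (σ 2) (σ 5) = 0 ∧ T.a (σ 2) (σ 6) = 0 ∧ T.a (σ 2) (σ 7) = 0 ∧ T.a (σ 2) (σ 8) = 0 ∧ T.a (σ 3) (σ 3) = -4 * w ∧ T.a (σ 3) (σ 4) = 2 * w ∧ T.a (σ 3) (σ 5) = 0 ∧ T.a (σ 3) (σ 6) = 0 ∧ T.a (σ 3) (σ 7) = 0 ∧ T.a (σ 3) (σ 8) = 0 ∧ T.a (σ 4) (σ 4) = -4 * w ∧ T.a (σ 4) (σ 5) = 2 * w ∧ T.a (σ 4) (σ 6) = 0 ∧ T.a (σ 4) (σ 7) = 0 ∧ T.a (σ 4) (σ 8) = 0 ∧ T.a (σ 5) (σ 5) = -4 * w ∧ T.a (σ 5) (σ 6) = 2 * w ∧ T.a (σ 5) (σ 7) = 0 ∧ T.a (σ 5) (σ 8) = 0 ∧ T.a (σ 6) (σ 6) = -4 * w ∧ T.a (σ 6) (σ 7) = 2 * w ∧ T.a (σ 6) (σ 8) = 0 ∧ T.a (σ 7) (σ 7) = -4 * w ∧ T.a (σ 7) (σ 8) = 2 * w ∧ T.a (σ 8) (σ 8) = -2 * w) := by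
  subst hm hw
  have e_0_0 : bmat T (σ 0) (σ 0) = -2 := (ofType T h2).diag (σ 0)
  have e_0_1 : bmat T (σ 0) (σ 1) = 2 := (hσ 0 1 (by decide)).trans (by rfl)
  have e_0_2 : bmat T (σ 0) (σ 2) = 0 := (hσ 0 2 (by decide)).trans (by rfl)
  have e_0_3 : bmat T (σ 0) (σ 3) = 0 := (hσ 0 3 (by decide)).trans (by rfl)
  have e_0_4 : bmat T (σ 0) (σ 4) = 0 := (hσ 0 4 (by decide)).trans (by rfl)
  have e_0_5 : bmat T (σ 0) (σ 5) = 0 := (hσ 0 5 (by decide)).trans (by rfl)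
  have e_0_6 : bmat T (σ 0) (σ 6) = 0 := (hσ 0 6 (by decide)).trans (by rfl)
  have e_0_7 : bmat T (σ 0) (σ 7) = 0 := (hσ 0 7 (by decide)).trans (by rfl)
  have e_0_8 : bmat T (σ 0) (σ 8) = 0 := (hσ 0 8 (by decide)).trans (by rfl)
  have e_1_0 : bmat T (σ 1) (σ 0) = 1 := (hσ 1 0 (by decide)).trans (by rfl)
  have e_1_1 : bmat T (σ 1) (σ 1) = -2 := (ofType T h2).diag (σ 1)
  have e_1_2 : bmat T (σ 1) (σ 2) = 1 := (hσ 1 2 (by decide)).trans (by rfl)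
  have e_1_3 : bmat T (σ 1) (σ 3) = 0 := (hσ 1 3 (by decide)).trans (by rfl)
  have e_1_4 : bmat T (σ 1) (σ 4) = 0 := (hσ 1 4 (by decide)).trans (by rfl)
  have e_1_5 : bmat T (σ 1) (σ 5) = 0 := (hσ 1 5 (by decide)).trans (by rfl)
  have e_1_6 : bmat T (σ 1) (σ 6) = 0 := (hσ 1 6 (by decide)).trans (by rfl)
  have e_1_7 : bmat T (σ 1) (σ 7) = 0 := (hσ 1 7 (by decide)).trans (by rfl)
  have e_1_8 : bmat T (σ 1) (σ 8) = 0 := (hσ 1 8 (by decide)).trans (by rfl)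
  have e_2_0 : bmat T (σ 2) (σ 0) = 0 := (hσ 2 0 (by decide)).trans (by rfl)
  have e_2_1 : bmat T (σ 2) (σ 1) = 1 := (hσ 2 1 (by decide)).trans (by rfl)
  have e_2_2 : bmat T (σ 2) (σ 2) = -2 := (ofType T h2).diag (σ 2)
  have e_2_3 : bmat T (σ 2) (σ 3) = 1 := (hσ 2 3 (by decide)).trans (by rfl)
  have e_2_4 : bmat T (σ 2) (σ 4) = 0 := (hσ 2 4 (by decide)).trans (by rfl)
  have e_2_5 : bmat T (σ 2) (σ 5) = 0 := (hσ 2 5 (by decide)).trans (by rfl)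
  have e_2_6 : bmat T (σ 2) (σ 6) = 0 := (hσ 2 6 (by decide)).trans (by rfl)
  have e_2_7 : bmat T (σ 2) (σ 7) = 0 := (hσ 2 7 (by decide)).trans (by rfl)
  have e_2_8 : bmat T (σ 2) (σ 8) = 0 := (hσ 2 8 (by decide)).trans (by rfl)
  have e_3_0 : bmat T (σ 3) (σ 0) = 0 := (hσ 3 0 (by decide)).trans (by rfl)
  have e_3_1 : bmat T (σ 3) (σ 1) = 0 := (hσ 3 1 (by decide)).trans (by rfl)
  have e_3_2 : bmat T (σ 3) (σ 2) = 1 := (hσ 3 2 (by decide)).trans (by rfl)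
  have e_3_3 : bmat T (σ 3) (σ 3) = -2 := (ofType T h2).diag (σ 3)
  have e_3_4 : bmat T (σ 3) (σ 4) = 1 := (hσ 3 4 (by decide)).trans (by rfl)
  have e_3_5 : bmat T (σ 3) (σ 5) = 0 := (hσ 3 5 (by decide)).trans (by rfl)
  have e_3_6 : bmat T (σ 3) (σ 6) = 0 := (hσ 3 6 (by decide)).trans (by rfl)
  have e_3_7 : bmat T (σ 3) (σ 7) = 0 := (hσ 3 7 (by decide)).trans (by rfl)
  have e_3_8 : bmat T (σ 3) (σ 8) = 0 := (hσ 3 8 (by decide)).trans (by rfl)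
  have e_4_0 : bmat T (σ 4) (σ 0) = 0 := (hσ 4 0 (by decide)).trans (by rfl)
  have e_4_1 : bmat T (σ 4) (σ 1) = 0 := (hσ 4 1 (by decide)).trans (by rfl)
  have e_4_2 : bmat T (σ 4) (σ 2) = 0 := (hσ 4 2 (by decide)).trans (by rfl)
  have e_4_3 : bmat T (σ 4) (σ 3) = 1 := (hσ 4 3 (by decide)).trans (by rfl)
  have e_4_4 : bmat T (σ 4) (σ 4) = -2 := (ofType T h2).diag (σ 4)
  have e_4_5 : bmat T (σ 4) (σ 5) = 1 := (hσ 4 5 (by decide)).trans (by rfl)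
  have e_4_6 : bmat T (σ 4) (σ 6) = 0 := (hσ 4 6 (by decide)).trans (by rfl)
  have e_4_7 : bmat T (σ 4) (σ 7) = 0 := (hσ 4 7 (by decide)).trans (by rfl)
  have e_4_8 : bmat T (σ 4) (σ 8) = 0 := (hσ 4 8 (by decide)).trans (by rfl)
  have e_5_0 : bmat T (σ 5) (σ 0) = 0 := (hσ 5 0 (by decide)).trans (by rfl)
  have e_5_1 : bmat T (σ 5) (σ 1) = 0 := (hσ 5 1 (by decide)).trans (by rfl)
  have e_5_2 : bmat T (σ 5) (σ 2) = 0 := (hσ 5 2 (by decide)).trans (by rfl)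
  have e_5_3 : bmat T (σ 5) (σ 3) = 0 := (hσ 5 3 (by decide)).trans (by rfl)
  have e_5_4 : bmat T (σ 5) (σ 4) = 1 := (hσ 5 4 (by decide)).trans (by rfl)
  have e_5_5 : bmat T (σ 5) (σ 5) = -2 := (ofType T h2).diag (σ 5)
  have e_5_6 : bmat T (σ 5) (σ 6) = 1 := (hσ 5 6 (by decide)).trans (by rfl)
  have e_5_7 : bmat T (σ 5) (σ 7) = 0 := (hσ 5 7 (by decide)).trans (by rfl)
  have e_5_8 : bmat T (σ 5) (σ 8) = 0 := (hσ 5 8 (by decide)).trans (by rfl)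
  have e_6_0 : bmat T (σ 6) (σ 0) = 0 := (hσ 6 0 (by decide)).trans (by rfl)
  have e_6_1 : bmat T (σ 6) (σ 1) = 0 := (hσ 6 1 (by decide)).trans (by rfl)
  have e_6_2 : bmat T (σ 6) (σ 2) = 0 := (hσ 6 2 (by decide)).trans (by rfl)
  have e_6_3 : bmat T (σ 6) (σ 3) = 0 := (hσ 6 3 (by decide)).trans (by rfl)
  have e_6_4 : bmat T (σ 6) (σ 4) = 0 := (hσ 6 4 (by decide)).trans (by rfl)
  have e_6_5 : bmat T (σ 6) (σ 5) = 1 := (hσ 6 5 (by decide)).trans (by rfl)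
  have e_6_6 : bmat T (σ 6) (σ 6) = -2 := (ofType T h2).diag (σ 6)
  have e_6_7 : bmat T (σ 6) (σ 7) = 1 := (hσ 6 7 (by decide)).trans (by rfl)
  have e_6_8 : bmat T (σ 6) (σ 8) = 0 := (hσ 6 8 (by decide)).trans (by rfl)
  have e_7_0 : bmat T (σ 7) (σ 0) = 0 := (hσ 7 0 (by decide)).trans (by rfl)
  have e_7_1 : bmat T (σ 7) (σ 1) = 0 := (hσ 7 1 (by decide)).trans (by rfl)
  have e_7_2 : bmat T (σ 7) (σ 2) = 0 := (hσ 7 2 (by decide)).trans (by rfl)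
  have e_7_3 : bmat T (σ 7) (σ 3) = 0 := (hσ 7 3 (by decide)).trans (by rfl)
  have e_7_4 : bmat T (σ 7) (σ 4) = 0 := (hσ 7 4 (by decide)).trans (by rfl)
  have e_7_5 : bmat T (σ 7) (σ 5) = 0 := (hσ 7 5 (by decide)).trans (by rfl)
  have e_7_6 : bmat T (σ 7) (σ 6) = 1 := (hσ 7 6 (by decide)).trans (by rfl)
  have e_7_7 : bmat T (σ 7) (σ 7) = -2 := (ofType T h2).diag (σ 7)
  have e_7_8 : bmat T (σ 7) (σ 8) = 1 := (hσ 7 8 (by decide)).trans (by rfl)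
  have e_8_0 : bmat T (σ 8) (σ 0) = 0 := (hσ 8 0 (by decide)).trans (by rfl)
  have e_8_1 : bmat T (σ 8) (σ 1) = 0 := (hσ 8 1 (by decide)).trans (by rfl)
  have e_8_2 : bmat T (σ 8) (σ 2) = 0 := (hσ 8 2 (by decide)).trans (by rfl)
  have e_8_3 : bmat T (σ 8) (σ 3) = 0 := (hσ 8 3 (by decide)).trans (by rfl)
  have e_8_4 : bmat T (σ 8) (σ 4) = 0 := (hσ 8 4 (by decide)).trans (by rfl)
  have e_8_5 : bmat T (σ 8) (σ 5) = 0 := (hσ 8 5 (by decide)).trans (by rfl)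
  have e_8_6 : bmat T (σ 8) (σ 6) = 0 := (hσ 8 6 (by decide)).trans (by rfl)
  have e_8_7 : bmat T (σ 8) (σ 7) = 2 := (hσ 8 7 (by decide)).trans (by rfl)
  have e_8_8 : bmat T (σ 8) (σ 8) = -2 := (ofType T h2).diag (σ 8)
  have r_0 := row_reindex T h2 σ 0
  rw [sum_fin9, e_0_0, e_0_1, e_0_2, e_0_3, e_0_4, e_0_5, e_0_6, e_0_7, e_0_8] at r_0
  have r_1 := row_reindex T h2 σ 1
  rw [sum_fin9, e_1_0, e_1_1, e_1_2, e_1_3, e_1_4, e_1_5, e_1_6, e_1_7, e_1_8] at r_1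
  have r_2 := row_reindex T h2 σ 2
  rw [sum_fin9, e_2_0, e_2_1, e_2_2, e_2_3, e_2_4, e_2_5, e_2_6, e_2_7, e_2_8] at r_2
  have r_3 := row_reindex T h2 σ 3
  rw [sum_fin9, e_3_0, e_3_1, e_3_2, e_3_3, e_3_4, e_3_5, e_3_6, e_3_7, e_3_8] at r_3
  have r_4 := row_reindex T h2 σ 4
  rw [sum_fin9, e_4_0, e_4_1, e_4_2, e_4_3, e_4_4, e_4_5, e_4_6, e_4_7, e_4_8] at r_4
  have r_5 := row_reindex T h2 σ 5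
  rw [sum_fin9, e_5_0, e_5_1, e_5_2, e_5_3, e_5_4, e_5_5, e_5_6, e_5_7, e_5_8] at r_5
  have r_6 := row_reindex T h2 σ 6
  rw [sum_fin9, e_6_0, e_6_1, e_6_2, e_6_3, e_6_4, e_6_5, e_6_6, e_6_7, e_6_8] at r_6
  have r_7 := row_reindex T h2 σ 7
  rw [sum_fin9, e_7_0, e_7_1, e_7_2, e_7_3, e_7_4, e_7_5, e_7_6, e_7_7, e_7_8] at r_7
  have r_8 := row_reindex T h2 σ 8
  rw [sum_fin9, e_8_0, e_8_1, e_8_2, e_8_3, e_8_4, e_8_5, e_8_6, e_8_7, e_8_8] at r_8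
  have hM_0 : T.m (σ 0) = T.m (σ 0) := by omega
  have hM_1 : T.m (σ 1) = T.m (σ 0) := by omega
  have hM_2 : T.m (σ 2) = T.m (σ 0) := by omega
  have hM_3 : T.m (σ 3) = T.m (σ 0) := by omega
  have hM_4 : T.m (σ 4) = T.m (σ 0) := by omega
  have hM_5 : T.m (σ 5) = T.m (σ 0) := by omega
  have hM_6 : T.m (σ 6) = T.m (σ 0) := by omega
  have hM_7 : T.m (σ 7) = T.m (σ 0) := by omega
  have hM_8 : T.m (σ 8) = T.m (σ 0) := by omega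
  have s_0_1 := symz_bmat T (σ 0) (σ 1)
  rw [e_0_1, e_1_0] at s_0_1
  have s_1_2 := symz_bmat T (σ 1) (σ 2)
  rw [e_1_2, e_2_1] at s_1_2
  have s_2_3 := symz_bmat T (σ 2) (σ 3)
  rw [e_2_3, e_3_2] at s_2_3
  have s_3_4 := symz_bmat T (σ 3) (σ 4)
  rw [e_3_4, e_4_3] at s_3_4
  have s_4_5 := symz_bmat T (σ 4) (σ 5)
  rw [e_4_5, e_5_4] at s_4_5
  have s_5_6 := symz_bmat T (σ 5) (σ 6)
  rw [e_5_6, e_6_5] at s_5_6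
  have s_6_7 := symz_bmat T (σ 6) (σ 7)
  rw [e_6_7, e_7_6] at s_6_7
  have s_7_8 := symz_bmat T (σ 7) (σ 8)
  rw [e_7_8, e_8_7] at s_7_8
  have hW_0 : T.w (σ 0) = T.w (σ 0) := by omega
  have hW_1 : T.w (σ 1) = 2 * T.w (σ 0) := by omega
  have hW_2 : T.w (σ 2) = 2 * T.w (σ 0) := by omega
  have hW_3 : T.w (σ 3) = 2 * T.w (σ 0) := by omega
  have hW_4 : T.w (σ 4) = 2 * T.w (σ 0) := by omega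
  have hW_5 : T.w (σ 5) = 2 * T.w (σ 0) := by omega
  have hW_6 : T.w (σ 6) = 2 * T.w (σ 0) := by omega
  have hW_7 : T.w (σ 7) = 2 * T.w (σ 0) := by omega
  have hW_8 : T.w (σ 8) = T.w (σ 0) := by omega
  refine ⟨?_, ?_, ?_, ?_, ?_, ?_, ?_, ?_, ?_, ?_, ?_, ?_, ?_, ?_, ?_, ?_, ?_, ?_, ?_, ?_, ?_, ?_, ?_, ?_, ?_, ?_, ?_, ?_, ?_, ?_, ?_, ?_, ?_, ?_, ?_, ?_, ?_, ?_, ?_, ?_, ?_, ?_, ?_, ?_, ?_, ?_, ?_, ?_, ?_, ?_, ?_, ?_, ?_, ?_, ?_, ?_, ?_, ?_, ?_, ?_, ?_, ?_, ?_⟩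
  · exact hM_0
  · exact hM_1
  · exact hM_2
  · exact hM_3
  · exact hM_4
  · exact hM_5
  · exact hM_6
  · exact hM_7
  · exact hM_8
  · exact hW_0
  · exact hW_1
  · exact hW_2
  · exact hW_3
  · exact hW_4
  · exact hW_5
  · exact hW_6
  · exact hW_7
  · exact hW_8
  · rw [(h2 (σ 0)).2] <;> omega
  · rw [a_eq T (σ 0) (σ 1), e_0_1] <;> omega
  · rw [a_eq T (σ 0) (σ 2), e_0_2] <;> omega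
  · rw [a_eq T (σ 0) (σ 3), e_0_3] <;> omega
  · rw [a_eq T (σ 0) (σ 4), e_0_4] <;> omega
  · rw [a_eq T (σ 0) (σ 5), e_0_5] <;> omega
  · rw [a_eq T (σ 0) (σ 6), e_0_6] <;> omega
  · rw [a_eq T (σ 0) (σ 7), e_0_7] <;> omega
  · rw [a_eq T (σ 0) (σ 8), e_0_8] <;> omega
  · rw [(h2 (σ 1)).2] <;> omega
  · rw [a_eq T (σ 1) (σ 2), e_1_2] <;> omega
  · rw [a_eq T (σ 1) (σ 3), e_1_3] <;> omega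
  · rw [a_eq T (σ 1) (σ 4), e_1_4] <;> omega
  · rw [a_eq T (σ 1) (σ 5), e_1_5] <;> omega
  · rw [a_eq T (σ 1) (σ 6), e_1_6] <;> omega
  · rw [a_eq T (σ 1) (σ 7), e_1_7] <;> omega
  · rw [a_eq T (σ 1) (σ 8), e_1_8] <;> omega
  · rw [(h2 (σ 2)).2] <;> omega
  · rw [a_eq T (σ 2) (σ 3), e_2_3] <;> omega
  · rw [a_eq T (σ 2) (σ 4), e_2_4] <;> omega
  · rw [a_eq T (σ 2) (σ 5), e_2_5] <;> omega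
  · rw [a_eq T (σ 2) (σ 6), e_2_6] <;> omega
  · rw [a_eq T (σ 2) (σ 7), e_2_7] <;> omega
  · rw [a_eq T (σ 2) (σ 8), e_2_8] <;> omega
  · rw [(h2 (σ 3)).2] <;> omega
  · rw [a_eq T (σ 3) (σ 4), e_3_4] <;> omega
  · rw [a_eq T (σ 3) (σ 5), e_3_5] <;> omega
  · rw [a_eq T (σ 3) (σ 6), e_3_6] <;> omega
  · rw [a_eq T (σ 3) (σ 7), e_3_7] <;> omega
  · rw [a_eq T (σ 3) (σ 8), e_3_8] <;> omega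
  · rw [(h2 (σ 4)).2] <;> omega
  · rw [a_eq T (σ 4) (σ 5), e_4_5] <;> omega
  · rw [a_eq T (σ 4) (σ 6), e_4_6] <;> omega
  · rw [a_eq T (σ 4) (σ 7), e_4_7] <;> omega
  · rw [a_eq T (σ 4) (σ 8), e_4_8] <;> omega
  · rw [(h2 (σ 5)).2] <;> omega
  · rw [a_eq T (σ 5) (σ 6), e_5_6] <;> omega
  · rw [a_eq T (σ 5) (σ 7), e_5_7] <;> omega
  · rw [a_eq T (σ 5) (σ 8), e_5_8] <;> omega
  · rw [(h2 (σ 6)).2] <;> omega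
  · rw [a_eq T (σ 6) (σ 7), e_6_7] <;> omega
  · rw [a_eq T (σ 6) (σ 8), e_6_8] <;> omega
  · rw [(h2 (σ 7)).2] <;> omega
  · rw [a_eq T (σ 7) (σ 8), e_7_8] <;> omega
  · rw [(h2 (σ 8)).2] <;> omega

theorem case9_3 (T : Models.NumericalType 9) (h2 : ∀ i, T.IsMinusTwo i) (σ : Equiv.Perm (Fin 9))
    (hσ : ∀ i j : Fin 9, i ≠ j → bmat T (σ i) (σ j) = (canonEnt N9.canon 3 i.val j.val : ℤ))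
    (m w : ℤ) (hm : m = T.m (σ 0)) (hw : w = T.w (σ 1)) :
    (T.m (σ 0) = m ∧ T.m (σ 1) = 2 * m ∧ T.m (σ 2) = 2 * m ∧ T.m (σ 3) = 2 * m ∧ T.m (σ 4) = 2 * m ∧ T.m (σ 5) = 2 * m ∧ T.m (σ 6) = 2 * m ∧ T.m (σ 7) = 2 * m ∧ T.m (σ 8) = m ∧ T.w (σ 0) = 2 * w ∧ T.w (σ 1) = w ∧ T.w (σ 2) = w ∧ T.w (σ 3) = w ∧ T.w (σ 4) = w ∧ T.w (σ 5) = w ∧ T.w (σ 6) = w ∧ T.w (σ 7) = w ∧ T.w (σ 8) = 2 * w ∧ T.a (σ 0) (σ 0) = -4 * w ∧ T.a (σ 0) (σ 1) = 2 * w ∧ T.a (σ 0) (σ 2) = 0 ∧ T.a (σ 0) (σ 3) = 0 ∧ T.a (σ 0) (σ 4) = 0 ∧ T.a (σ 0) (σ 5) = 0 ∧ T.a (σ 0) (σ 6) = 0 ∧ T.a (σ 0) (σ 7) = 0 ∧ T.a (σ 0) (σ 8) = 0 ∧ T.a (σ 1) (σ 1) = -2 * w ∧ T.a (σ 1) (σ 2) = w ∧ T.a (σ 1) (σ 3) = 0 ∧ T.a (σ 1) (σ 4) = 0 ∧ T.a (σ 1) (σ 5) = 0 ∧ T.a (σ 1) (σ 6) = 0 ∧ T.a (σ 1) (σ 7) = 0 ∧ T.a (σ 1) (σ 8) = 0 ∧ T.a (σ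 2) (σ 2) = -2 * w ∧ T.a (σ 2) (σ 3) = w ∧ T.a (σ 2) (σ 4) = 0 ∧ T.a (σ 2) (σ 5) = 0 ∧ T.a (σ 2) (σ 6) = 0 ∧ T.a (σ 2) (σ 7) = 0 ∧ T.a (σ 2) (σ 8) = 0 ∧ T.a (σ 3) (σ 3) = -2 * w ∧ T.a (σ 3) (σ 4) = w ∧ T.a (σ 3) (σ 5) = 0 ∧ T.a (σ 3) (σ 6) = 0 ∧ T.a (σ 3) (σ 7) = 0 ∧ T.a (σ 3) (σ 8) = 0 ∧ T.a (σ 4) (σ 4) = -2 * w ∧ T.a (σ 4) (σ 5) = w ∧ T.a (σ 4) (σ 6) = 0 ∧ T.a (σ 4) (σ 7) = 0 ∧ T.a (σ 4) (σ 8) = 0 ∧ T.a (σ 5) (σ 5) = -2 * w ∧ T.a (σ 5) (σ 6) = w ∧ T.a (σ 5) (σ 7) = 0 ∧ T.a (σ 5) (σ 8) = 0 ∧ T.a (σ 6) (σ 6) = -2 * w ∧ T.a (σ 6) (σ 7) = w ∧ T.a (σ 6) (σ 8) = 0 ∧ T.a (σ 7) (σ 7) = -2 * w ∧ T.a (σ 7) (σ 8) = 2 * w ∧ T.a (σ 8) (σ 8) = -4 * w) := by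
  subst hm hw
  have e_0_0 : bmat T (σ 0) (σ 0) = -2 := (ofType T h2).diag (σ 0)
  have e_0_1 : bmat T (σ 0) (σ 1) = 1 := (hσ 0 1 (by decide)).trans (by rfl)
  have e_0_2 : bmat T (σ 0) (σ 2) = 0 := (hσ 0 2 (by decide)).trans (by rfl)
  have e_0_3 : bmat T (σ 0) (σ 3) = 0 := (hσ 0 3 (by decide)).trans (by rfl)
  have e_0_4 : bmat T (σ 0) (σ 4) = 0 := (hσ 0 4 (by decide)).trans (by rfl)
  have e_0_5 : bmat T (σ 0) (σ 5) = 0 := (hσ 0 5 (by decide)).trans (by rfl)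
  have e_0_6 : bmat T (σ 0) (σ 6) = 0 := (hσ 0 6 (by decide)).trans (by rfl)
  have e_0_7 : bmat T (σ 0) (σ 7) = 0 := (hσ 0 7 (by decide)).trans (by rfl)
  have e_0_8 : bmat T (σ 0) (σ 8) = 0 := (hσ 0 8 (by decide)).trans (by rfl)
  have e_1_0 : bmat T (σ 1) (σ 0) = 2 := (hσ 1 0 (by decide)).trans (by rfl)
  have e_1_1 : bmat T (σ 1) (σ 1) = -2 := (ofType T h2).diag (σ 1)
  have e_1_2 : bmat T (σ 1) (σ 2) = 1 := (hσ 1 2 (by decide)).trans (by rfl)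
  have e_1_3 : bmat T (σ 1) (σ 3) = 0 := (hσ 1 3 (by decide)).trans (by rfl)
  have e_1_4 : bmat T (σ 1) (σ 4) = 0 := (hσ 1 4 (by decide)).trans (by rfl)
  have e_1_5 : bmat T (σ 1) (σ 5) = 0 := (hσ 1 5 (by decide)).trans (by rfl)
  have e_1_6 : bmat T (σ 1) (σ 6) = 0 := (hσ 1 6 (by decide)).trans (by rfl)
  have e_1_7 : bmat T (σ 1) (σ 7) = 0 := (hσ 1 7 (by decide)).trans (by rfl)
  have e_1_8 : bmat T (σ 1) (σ 8) = 0 := (hσ 1 8 (by decide)).trans (by rfl)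
  have e_2_0 : bmat T (σ 2) (σ 0) = 0 := (hσ 2 0 (by decide)).trans (by rfl)
  have e_2_1 : bmat T (σ 2) (σ 1) = 1 := (hσ 2 1 (by decide)).trans (by rfl)
  have e_2_2 : bmat T (σ 2) (σ 2) = -2 := (ofType T h2).diag (σ 2)
  have e_2_3 : bmat T (σ 2) (σ 3) = 1 := (hσ 2 3 (by decide)).trans (by rfl)
  have e_2_4 : bmat T (σ 2) (σ 4) = 0 := (hσ 2 4 (by decide)).trans (by rfl)
  have e_2_5 : bmat T (σ 2) (σ 5) = 0 := (hσ 2 5 (by decide)).trans (by rfl)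
  have e_2_6 : bmat T (σ 2) (σ 6) = 0 := (hσ 2 6 (by decide)).trans (by rfl)
  have e_2_7 : bmat T (σ 2) (σ 7) = 0 := (hσ 2 7 (by decide)).trans (by rfl)
  have e_2_8 : bmat T (σ 2) (σ 8) = 0 := (hσ 2 8 (by decide)).trans (by rfl)
  have e_3_0 : bmat T (σ 3) (σ 0) = 0 := (hσ 3 0 (by decide)).trans (by rfl)
  have e_3_1 : bmat T (σ 3) (σ 1) = 0 := (hσ 3 1 (by decide)).trans (by rfl)
  have e_3_2 : bmat T (σ 3) (σ 2) = 1 := (hσ 3 2 (by decide)).trans (by rfl)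
  have e_3_3 : bmat T (σ 3) (σ 3) = -2 := (ofType T h2).diag (σ 3)
  have e_3_4 : bmat T (σ 3) (σ 4) = 1 := (hσ 3 4 (by decide)).trans (by rfl)
  have e_3_5 : bmat T (σ 3) (σ 5) = 0 := (hσ 3 5 (by decide)).trans (by rfl)
  have e_3_6 : bmat T (σ 3) (σ 6) = 0 := (hσ 3 6 (by decide)).trans (by rfl)
  have e_3_7 : bmat T (σ 3) (σ 7) = 0 := (hσ 3 7 (by decide)).trans (by rfl)
  have e_3_8 : bmat T (σ 3) (σ 8) = 0 := (hσ 3 8 (by decide)).trans (by rfl)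
  have e_4_0 : bmat T (σ 4) (σ 0) = 0 := (hσ 4 0 (by decide)).trans (by rfl)
  have e_4_1 : bmat T (σ 4) (σ 1) = 0 := (hσ 4 1 (by decide)).trans (by rfl)
  have e_4_2 : bmat T (σ 4) (σ 2) = 0 := (hσ 4 2 (by decide)).trans (by rfl)
  have e_4_3 : bmat T (σ 4) (σ 3) = 1 := (hσ 4 3 (by decide)).trans (by rfl)
  have e_4_4 : bmat T (σ 4) (σ 4) = -2 := (ofType T h2).diag (σ 4)
  have e_4_5 : bmat T (σ 4) (σ 5) = 1 := (hσ 4 5 (by decide)).trans (by rfl)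
  have e_4_6 : bmat T (σ 4) (σ 6) = 0 := (hσ 4 6 (by decide)).trans (by rfl)
  have e_4_7 : bmat T (σ 4) (σ 7) = 0 := (hσ 4 7 (by decide)).trans (by rfl)
  have e_4_8 : bmat T (σ 4) (σ 8) = 0 := (hσ 4 8 (by decide)).trans (by rfl)
  have e_5_0 : bmat T (σ 5) (σ 0) = 0 := (hσ 5 0 (by decide)).trans (by rfl)
  have e_5_1 : bmat T (σ 5) (σ 1) = 0 := (hσ 5 1 (by decide)).trans (by rfl)
  have e_5_2 : bmat T (σ 5) (σ 2) = 0 := (hσ 5 2 (by decide)).trans (by rfl)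
  have e_5_3 : bmat T (σ 5) (σ 3) = 0 := (hσ 5 3 (by decide)).trans (by rfl)
  have e_5_4 : bmat T (σ 5) (σ 4) = 1 := (hσ 5 4 (by decide)).trans (by rfl)
  have e_5_5 : bmat T (σ 5) (σ 5) = -2 := (ofType T h2).diag (σ 5)
  have e_5_6 : bmat T (σ 5) (σ 6) = 1 := (hσ 5 6 (by decide)).trans (by rfl)
  have e_5_7 : bmat T (σ 5) (σ 7) = 0 := (hσ 5 7 (by decide)).trans (by rfl)
  have e_5_8 : bmat T (σ 5) (σ 8) = 0 := (hσ 5 8 (by decide)).trans (by rfl)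
  have e_6_0 : bmat T (σ 6) (σ 0) = 0 := (hσ 6 0 (by decide)).trans (by rfl)
  have e_6_1 : bmat T (σ 6) (σ 1) = 0 := (hσ 6 1 (by decide)).trans (by rfl)
  have e_6_2 : bmat T (σ 6) (σ 2) = 0 := (hσ 6 2 (by decide)).trans (by rfl)
  have e_6_3 : bmat T (σ 6) (σ 3) = 0 := (hσ 6 3 (by decide)).trans (by rfl)
  have e_6_4 : bmat T (σ 6) (σ 4) = 0 := (hσ 6 4 (by decide)).trans (by rfl)
  have e_6_5 : bmat T (σ 6) (σ 5) = 1 := (hσ 6 5 (by decide)).trans (by rfl)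
  have e_6_6 : bmat T (σ 6) (σ 6) = -2 := (ofType T h2).diag (σ 6)
  have e_6_7 : bmat T (σ 6) (σ 7) = 1 := (hσ 6 7 (by decide)).trans (by rfl)
  have e_6_8 : bmat T (σ 6) (σ 8) = 0 := (hσ 6 8 (by decide)).trans (by rfl)
  have e_7_0 : bmat T (σ 7) (σ 0) = 0 := (hσ 7 0 (by decide)).trans (by rfl)
  have e_7_1 : bmat T (σ 7) (σ 1) = 0 := (hσ 7 1 (by decide)).trans (by rfl)
  have e_7_2 : bmat T (σ 7) (σ 2) = 0 := (hσ 7 2 (by decide)).trans (by rfl)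
  have e_7_3 : bmat T (σ 7) (σ 3) = 0 := (hσ 7 3 (by decide)).trans (by rfl)
  have e_7_4 : bmat T (σ 7) (σ 4) = 0 := (hσ 7 4 (by decide)).trans (by rfl)
  have e_7_5 : bmat T (σ 7) (σ 5) = 0 := (hσ 7 5 (by decide)).trans (by rfl)
  have e_7_6 : bmat T (σ 7) (σ 6) = 1 := (hσ 7 6 (by decide)).trans (by rfl)
  have e_7_7 : bmat T (σ 7) (σ 7) = -2 := (ofType T h2).diag (σ 7)
  have e_7_8 : bmat T (σ 7) (σ 8) = 2 := (hσ 7 8 (by decide)).trans (by rfl)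
  have e_8_0 : bmat T (σ 8) (σ 0) = 0 := (hσ 8 0 (by decide)).trans (by rfl)
  have e_8_1 : bmat T (σ 8) (σ 1) = 0 := (hσ 8 1 (by decide)).trans (by rfl)
  have e_8_2 : bmat T (σ 8) (σ 2) = 0 := (hσ 8 2 (by decide)).trans (by rfl)
  have e_8_3 : bmat T (σ 8) (σ 3) = 0 := (hσ 8 3 (by decide)).trans (by rfl)
  have e_8_4 : bmat T (σ 8) (σ 4) = 0 := (hσ 8 4 (by decide)).trans (by rfl)
  have e_8_5 : bmat T (σ 8) (σ 5) = 0 := (hσ 8 5 (by decide)).trans (by rfl)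
  have e_8_6 : bmat T (σ 8) (σ 6) = 0 := (hσ 8 6 (by decide)).trans (by rfl)
  have e_8_7 : bmat T (σ 8) (σ 7) = 1 := (hσ 8 7 (by decide)).trans (by rfl)
  have e_8_8 : bmat T (σ 8) (σ 8) = -2 := (ofType T h2).diag (σ 8)
  have r_0 := row_reindex T h2 σ 0
  rw [sum_fin9, e_0_0, e_0_1, e_0_2, e_0_3, e_0_4, e_0_5, e_0_6, e_0_7, e_0_8] at r_0
  have r_1 := row_reindex T h2 σ 1
  rw [sum_fin9, e_1_0, e_1_1, e_1_2, e_1_3, e_1_4, e_1_5, e_1_6, e_1_7, e_1_8] at r_1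
  have r_2 := row_reindex T h2 σ 2
  rw [sum_fin9, e_2_0, e_2_1, e_2_2, e_2_3, e_2_4, e_2_5, e_2_6, e_2_7, e_2_8] at r_2
  have r_3 := row_reindex T h2 σ 3
  rw [sum_fin9, e_3_0, e_3_1, e_3_2, e_3_3, e_3_4, e_3_5, e_3_6, e_3_7, e_3_8] at r_3
  have r_4 := row_reindex T h2 σ 4
  rw [sum_fin9, e_4_0, e_4_1, e_4_2, e_4_3, e_4_4, e_4_5, e_4_6, e_4_7, e_4_8] at r_4
  have r_5 := row_reindex T h2 σ 5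
  rw [sum_fin9, e_5_0, e_5_1, e_5_2, e_5_3, e_5_4, e_5_5, e_5_6, e_5_7, e_5_8] at r_5
  have r_6 := row_reindex T h2 σ 6
  rw [sum_fin9, e_6_0, e_6_1, e_6_2, e_6_3, e_6_4, e_6_5, e_6_6, e_6_7, e_6_8] at r_6
  have r_7 := row_reindex T h2 σ 7
  rw [sum_fin9, e_7_0, e_7_1, e_7_2, e_7_3, e_7_4, e_7_5, e_7_6, e_7_7, e_7_8] at r_7
  have r_8 := row_reindex T h2 σ 8
  rw [sum_fin9, e_8_0, e_8_1, e_8_2, e_8_3, e_8_4, e_8_5, e_8_6, e_8_7, e_8_8] at r_8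
  have hM_0 : T.m (σ 0) = T.m (σ 0) := by omega
  have hM_1 : T.m (σ 1) = 2 * T.m (σ 0) := by omega
  have hM_2 : T.m (σ 2) = 2 * T.m (σ 0) := by omega
  have hM_3 : T.m (σ 3) = 2 * T.m (σ 0) := by omega
  have hM_4 : T.m (σ 4) = 2 * T.m (σ 0) := by omega
  have hM_5 : T.m (σ 5) = 2 * T.m (σ 0) := by omega
  have hM_6 : T.m (σ 6) = 2 * T.m (σ 0) := by omega
  have hM_7 : T.m (σ 7) = 2 * T.m (σ 0) := by omega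
  have hM_8 : T.m (σ 8) = T.m (σ 0) := by omega
  have s_0_1 := symz_bmat T (σ 0) (σ 1)
  rw [e_0_1, e_1_0] at s_0_1
  have s_1_2 := symz_bmat T (σ 1) (σ 2)
  rw [e_1_2, e_2_1] at s_1_2
  have s_2_3 := symz_bmat T (σ 2) (σ 3)
  rw [e_2_3, e_3_2] at s_2_3
  have s_3_4 := symz_bmat T (σ 3) (σ 4)
  rw [e_3_4, e_4_3] at s_3_4
  have s_4_5 := symz_bmat T (σ 4) (σ 5)
  rw [e_4_5, e_5_4] at s_4_5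
  have s_5_6 := symz_bmat T (σ 5) (σ 6)
  rw [e_5_6, e_6_5] at s_5_6
  have s_6_7 := symz_bmat T (σ 6) (σ 7)
  rw [e_6_7, e_7_6] at s_6_7
  have s_7_8 := symz_bmat T (σ 7) (σ 8)
  rw [e_7_8, e_8_7] at s_7_8
  have hW_0 : T.w (σ 0) = 2 * T.w (σ 1) := by omega
  have hW_1 : T.w (σ 1) = T.w (σ 1) := by omega
  have hW_2 : T.w (σ 2) = T.w (σ 1) := by omega
  have hW_3 : T.w (σ 3) = T.w (σ 1) := by omega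
  have hW_4 : T.w (σ 4) = T.w (σ 1) := by omega
  have hW_5 : T.w (σ 5) = T.w (σ 1) := by omega
  have hW_6 : T.w (σ 6) = T.w (σ 1) := by omega
  have hW_7 : T.w (σ 7) = T.w (σ 1) := by omega
  have hW_8 : T.w (σ 8) = 2 * T.w (σ 1) := by omega
  refine ⟨?_, ?_, ?_, ?_, ?_, ?_, ?_, ?_, ?_, ?_, ?_, ?_, ?_, ?_, ?_, ?_, ?_, ?_, ?_, ?_, ?_, ?_, ?_, ?_, ?_, ?_, ?_, ?_, ?_, ?_, ?_, ?_, ?_, ?_, ?_, ?_, ?_, ?_, ?_, ?_, ?_, ?_, ?_, ?_, ?_, ?_, ?_, ?_, ?_, ?_, ?_, ?_, ?_, ?_, ?_, ?_, ?_, ?_, ?_, ?_, ?_, ?_, ?_⟩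
  · exact hM_0
  · exact hM_1
  · exact hM_2
  · exact hM_3
  · exact hM_4
  · exact hM_5
  · exact hM_6
  · exact hM_7
  · exact hM_8
  · exact hW_0
  · exact hW_1
  · exact hW_2
  · exact hW_3
  · exact hW_4
  · exact hW_5
  · exact hW_6
  · exact hW_7
  · exact hW_8
  · rw [(h2 (σ 0)).2] <;> omega
  · rw [a_eq T (σ 0) (σ 1), e_0_1] <;> omega
  · rw [a_eq T (σ 0) (σ 2), e_0_2] <;> omega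
  · rw [a_eq T (σ 0) (σ 3), e_0_3] <;> omega
  · rw [a_eq T (σ 0) (σ 4), e_0_4] <;> omega
  · rw [a_eq T (σ 0) (σ 5), e_0_5] <;> omega
  · rw [a_eq T (σ 0) (σ 6), e_0_6] <;> omega
  · rw [a_eq T (σ 0) (σ 7), e_0_7] <;> omega
  · rw [a_eq T (σ 0) (σ 8), e_0_8] <;> omega
  · rw [(h2 (σ 1)).2] <;> omega
  · rw [a_eq T (σ 1) (σ 2), e_1_2] <;> omega
  · rw [a_eq T (σ 1) (σ 3), e_1_3] <;> omega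
  · rw [a_eq T (σ 1) (σ 4), e_1_4] <;> omega
  · rw [a_eq T (σ 1) (σ 5), e_1_5] <;> omega
  · rw [a_eq T (σ 1) (σ 6), e_1_6] <;> omega
  · rw [a_eq T (σ 1) (σ 7), e_1_7] <;> omega
  · rw [a_eq T (σ 1) (σ 8), e_1_8] <;> omega
  · rw [(h2 (σ 2)).2] <;> omega
  · rw [a_eq T (σ 2) (σ 3), e_2_3] <;> omega
  · rw [a_eq T (σ 2) (σ 4), e_2_4] <;> omega
  · rw [a_eq T (σ 2) (σ 5), e_2_5] <;> omega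
  · rw [a_eq T (σ 2) (σ 6), e_2_6] <;> omega
  · rw [a_eq T (σ 2) (σ 7), e_2_7] <;> omega
  · rw [a_eq T (σ 2) (σ 8), e_2_8] <;> omega
  · rw [(h2 (σ 3)).2] <;> omega
  · rw [a_eq T (σ 3) (σ 4), e_3_4] <;> omega
  · rw [a_eq T (σ 3) (σ 5), e_3_5] <;> omega
  · rw [a_eq T (σ 3) (σ 6), e_3_6] <;> omega
  · rw [a_eq T (σ 3) (σ 7), e_3_7] <;> omega
  · rw [a_eq T (σ 3) (σ 8), e_3_8] <;> omega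
  · rw [(h2 (σ 4)).2] <;> omega
  · rw [a_eq T (σ 4) (σ 5), e_4_5] <;> omega
  · rw [a_eq T (σ 4) (σ 6), e_4_6] <;> omega
  · rw [a_eq T (σ 4) (σ 7), e_4_7] <;> omega
  · rw [a_eq T (σ 4) (σ 8), e_4_8] <;> omega
  · rw [(h2 (σ 5)).2] <;> omega
  · rw [a_eq T (σ 5) (σ 6), e_5_6] <;> omega
  · rw [a_eq T (σ 5) (σ 7), e_5_7] <;> omega
  · rw [a_eq T (σ 5) (σ 8), e_5_8] <;> omega
  · rw [(h2 (σ 6)).2] <;> omega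
  · rw [a_eq T (σ 6) (σ 7), e_6_7] <;> omega
  · rw [a_eq T (σ 6) (σ 8), e_6_8] <;> omega
  · rw [(h2 (σ 7)).2] <;> omega
  · rw [a_eq T (σ 7) (σ 8), e_7_8] <;> omega
  · rw [(h2 (σ 8)).2] <;> omega

theorem case9_4 (T : Models.NumericalType 9) (h2 : ∀ i, T.IsMinusTwo i) (σ : Equiv.Perm (Fin 9))
    (hσ : ∀ i j : Fin 9, i ≠ j → bmat T (σ i) (σ j) = (canonEnt N9.canon 4 i.val j.val : ℤ))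
    (m w : ℤ) (hm : m = T.m (σ 0)) (hw : w = T.w (σ 1)) :
    (T.m (σ 0) = m ∧ T.m (σ 1) = 2 * m ∧ T.m (σ 2) = 2 * m ∧ T.m (σ 3) = 2 * m ∧ T.m (σ 4) = 2 * m ∧ T.m (σ 5) = 2 * m ∧ T.m (σ 6) = 2 * m ∧ T.m (σ 7) = m ∧ T.m (σ 8) = m ∧ T.w (σ 0) = 2 * w ∧ T.w (σ 1) = w ∧ T.w (σ 2) = w ∧ T.w (σ 3) = w ∧ T.w (σ 4) = w ∧ T.w (σ 5) = w ∧ T.w (σ 6) = w ∧ T.w (σ 7) = w ∧ T.w (σ 8) = w ∧ T.a (σ 0) (σ 0) = -4 * w ∧ T.a (σ 0) (σ 1) = 2 * w ∧ T.a (σ 0) (σ 2) = 0 ∧ T.a (σ 0) (σ 3) = 0 ∧ T.a (σ 0) (σ 4) = 0 ∧ T.a (σ 0) (σ 5) = 0 ∧ T.a (σ 0) (σ 6) = 0 ∧ T.a (σ 0) (σ 7) = 0 ∧ T.a (σ 0) (σ 8) = 0 ∧ T.a (σ 1) (σ 1) = -2 * w ∧ T.a (σ 1) (σ 2) = w ∧ T.a (σ 1) (σ 3) = 0 ∧ T.a (σ 1) (σ 4) = 0 ∧ T.a (σ 1) (σ 5) = 0 ∧ T.a (σ 1) (σ 6) = 0 ∧ T.a (σ 1) (σ 7) = 0 ∧ T.a (σ 1) (σ 8) = 0 ∧ T.a (σ 2) (σ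 2) = -2 * w ∧ T.a (σ 2) (σ 3) = w ∧ T.a (σ 2) (σ 4) = 0 ∧ T.a (σ 2) (σ 5) = 0 ∧ T.a (σ 2) (σ 6) = 0 ∧ T.a (σ 2) (σ 7) = 0 ∧ T.a (σ 2) (σ 8) = 0 ∧ T.a (σ 3) (σ 3) = -2 * w ∧ T.a (σ 3) (σ 4) = w ∧ T.a (σ 3) (σ 5) = 0 ∧ T.a (σ 3) (σ 6) = 0 ∧ T.a (σ 3) (σ 7) = 0 ∧ T.a (σ 3) (σ 8) = 0 ∧ T.a (σ 4) (σ 4) = -2 * w ∧ T.a (σ 4) (σ 5) = w ∧ T.a (σ 4) (σ 6) = 0 ∧ T.a (σ 4) (σ 7) = 0 ∧ T.a (σ 4) (σ 8) = 0 ∧ T.a (σ 5) (σ 5) = -2 * w ∧ T.a (σ 5) (σ 6) = w ∧ T.a (σ 5) (σ 7) = 0 ∧ T.a (σ 5) (σ 8) = 0 ∧ T.a (σ 6) (σ 6) = -2 * w ∧ T.a (σ 6) (σ 7) = w ∧ T.a (σ 6) (σ 8) = w ∧ T.a (σ 7) (σ 7) = -2 * w ∧ T.a (σ 7) (σ 8) = 0 ∧ T.a (σ 8) (σ 8) = -2 * w) := by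
  subst hm hw
  have e_0_0 : bmat T (σ 0) (σ 0) = -2 := (ofType T h2).diag (σ 0)
  have e_0_1 : bmat T (σ 0) (σ 1) = 1 := (hσ 0 1 (by decide)).trans (by rfl)
  have e_0_2 : bmat T (σ 0) (σ 2) = 0 := (hσ 0 2 (by decide)).trans (by rfl)
  have e_0_3 : bmat T (σ 0) (σ 3) = 0 := (hσ 0 3 (by decide)).trans (by rfl)
  have e_0_4 : bmat T (σ 0) (σ 4) = 0 := (hσ 0 4 (by decide)).trans (by rfl)
  have e_0_5 : bmat T (σ 0) (σ 5) = 0 := (hσ 0 5 (by decide)).trans (by rfl)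
  have e_0_6 : bmat T (σ 0) (σ 6) = 0 := (hσ 0 6 (by decide)).trans (by rfl)
  have e_0_7 : bmat T (σ 0) (σ 7) = 0 := (hσ 0 7 (by decide)).trans (by rfl)
  have e_0_8 : bmat T (σ 0) (σ 8) = 0 := (hσ 0 8 (by decide)).trans (by rfl)
  have e_1_0 : bmat T (σ 1) (σ 0) = 2 := (hσ 1 0 (by decide)).trans (by rfl)
  have e_1_1 : bmat T (σ 1) (σ 1) = -2 := (ofType T h2).diag (σ 1)
  have e_1_2 : bmat T (σ 1) (σ 2) = 1 := (hσ 1 2 (by decide)).trans (by rfl)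
  have e_1_3 : bmat T (σ 1) (σ 3) = 0 := (hσ 1 3 (by decide)).trans (by rfl)
  have e_1_4 : bmat T (σ 1) (σ 4) = 0 := (hσ 1 4 (by decide)).trans (by rfl)
  have e_1_5 : bmat T (σ 1) (σ 5) = 0 := (hσ 1 5 (by decide)).trans (by rfl)
  have e_1_6 : bmat T (σ 1) (σ 6) = 0 := (hσ 1 6 (by decide)).trans (by rfl)
  have e_1_7 : bmat T (σ 1) (σ 7) = 0 := (hσ 1 7 (by decide)).trans (by rfl)
  have e_1_8 : bmat T (σ 1) (σ 8) = 0 := (hσ 1 8 (by decide)).trans (by rfl)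
  have e_2_0 : bmat T (σ 2) (σ 0) = 0 := (hσ 2 0 (by decide)).trans (by rfl)
  have e_2_1 : bmat T (σ 2) (σ 1) = 1 := (hσ 2 1 (by decide)).trans (by rfl)
  have e_2_2 : bmat T (σ 2) (σ 2) = -2 := (ofType T h2).diag (σ 2)
  have e_2_3 : bmat T (σ 2) (σ 3) = 1 := (hσ 2 3 (by decide)).trans (by rfl)
  have e_2_4 : bmat T (σ 2) (σ 4) = 0 := (hσ 2 4 (by decide)).trans (by rfl)
  have e_2_5 : bmat T (σ 2) (σ 5) = 0 := (hσ 2 5 (by decide)).trans (by rfl)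
  have e_2_6 : bmat T (σ 2) (σ 6) = 0 := (hσ 2 6 (by decide)).trans (by rfl)
  have e_2_7 : bmat T (σ 2) (σ 7) = 0 := (hσ 2 7 (by decide)).trans (by rfl)
  have e_2_8 : bmat T (σ 2) (σ 8) = 0 := (hσ 2 8 (by decide)).trans (by rfl)
  have e_3_0 : bmat T (σ 3) (σ 0) = 0 := (hσ 3 0 (by decide)).trans (by rfl)
  have e_3_1 : bmat T (σ 3) (σ 1) = 0 := (hσ 3 1 (by decide)).trans (by rfl)
  have e_3_2 : bmat T (σ 3) (σ 2) = 1 := (hσ 3 2 (by decide)).trans (by rfl)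
  have e_3_3 : bmat T (σ 3) (σ 3) = -2 := (ofType T h2).diag (σ 3)
  have e_3_4 : bmat T (σ 3) (σ 4) = 1 := (hσ 3 4 (by decide)).trans (by rfl)
  have e_3_5 : bmat T (σ 3) (σ 5) = 0 := (hσ 3 5 (by decide)).trans (by rfl)
  have e_3_6 : bmat T (σ 3) (σ 6) = 0 := (hσ 3 6 (by decide)).trans (by rfl)
  have e_3_7 : bmat T (σ 3) (σ 7) = 0 := (hσ 3 7 (by decide)).trans (by rfl)
  have e_3_8 : bmat T (σ 3) (σ 8) = 0 := (hσ 3 8 (by decide)).trans (by rfl)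
  have e_4_0 : bmat T (σ 4) (σ 0) = 0 := (hσ 4 0 (by decide)).trans (by rfl)
  have e_4_1 : bmat T (σ 4) (σ 1) = 0 := (hσ 4 1 (by decide)).trans (by rfl)
  have e_4_2 : bmat T (σ 4) (σ 2) = 0 := (hσ 4 2 (by decide)).trans (by rfl)
  have e_4_3 : bmat T (σ 4) (σ 3) = 1 := (hσ 4 3 (by decide)).trans (by rfl)
  have e_4_4 : bmat T (σ 4) (σ 4) = -2 := (ofType T h2).diag (σ 4)
  have e_4_5 : bmat T (σ 4) (σ 5) = 1 := (hσ 4 5 (by decide)).trans (by rfl)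
  have e_4_6 : bmat T (σ 4) (σ 6) = 0 := (hσ 4 6 (by decide)).trans (by rfl)
  have e_4_7 : bmat T (σ 4) (σ 7) = 0 := (hσ 4 7 (by decide)).trans (by rfl)
  have e_4_8 : bmat T (σ 4) (σ 8) = 0 := (hσ 4 8 (by decide)).trans (by rfl)
  have e_5_0 : bmat T (σ 5) (σ 0) = 0 := (hσ 5 0 (by decide)).trans (by rfl)
  have e_5_1 : bmat T (σ 5) (σ 1) = 0 := (hσ 5 1 (by decide)).trans (by rfl)
  have e_5_2 : bmat T (σ 5) (σ 2) = 0 := (hσ 5 2 (by decide)).trans (by rfl)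
  have e_5_3 : bmat T (σ 5) (σ 3) = 0 := (hσ 5 3 (by decide)).trans (by rfl)
  have e_5_4 : bmat T (σ 5) (σ 4) = 1 := (hσ 5 4 (by decide)).trans (by rfl)
  have e_5_5 : bmat T (σ 5) (σ 5) = -2 := (ofType T h2).diag (σ 5)
  have e_5_6 : bmat T (σ 5) (σ 6) = 1 := (hσ 5 6 (by decide)).trans (by rfl)
  have e_5_7 : bmat T (σ 5) (σ 7) = 0 := (hσ 5 7 (by decide)).trans (by rfl)
  have e_5_8 : bmat T (σ 5) (σ 8) = 0 := (hσ 5 8 (by decide)).trans (by rfl)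
  have e_6_0 : bmat T (σ 6) (σ 0) = 0 := (hσ 6 0 (by decide)).trans (by rfl)
  have e_6_1 : bmat T (σ 6) (σ 1) = 0 := (hσ 6 1 (by decide)).trans (by rfl)
  have e_6_2 : bmat T (σ 6) (σ 2) = 0 := (hσ 6 2 (by decide)).trans (by rfl)
  have e_6_3 : bmat T (σ 6) (σ 3) = 0 := (hσ 6 3 (by decide)).trans (by rfl)
  have e_6_4 : bmat T (σ 6) (σ 4) = 0 := (hσ 6 4 (by decide)).trans (by rfl)
  have e_6_5 : bmat T (σ 6) (σ 5) = 1 := (hσ 6 5 (by decide)).trans (by rfl)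
  have e_6_6 : bmat T (σ 6) (σ 6) = -2 := (ofType T h2).diag (σ 6)
  have e_6_7 : bmat T (σ 6) (σ 7) = 1 := (hσ 6 7 (by decide)).trans (by rfl)
  have e_6_8 : bmat T (σ 6) (σ 8) = 1 := (hσ 6 8 (by decide)).trans (by rfl)
  have e_7_0 : bmat T (σ 7) (σ 0) = 0 := (hσ 7 0 (by decide)).trans (by rfl)
  have e_7_1 : bmat T (σ 7) (σ 1) = 0 := (hσ 7 1 (by decide)).trans (by rfl)
  have e_7_2 : bmat T (σ 7) (σ 2) = 0 := (hσ 7 2 (by decide)).trans (by rfl)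
  have e_7_3 : bmat T (σ 7) (σ 3) = 0 := (hσ 7 3 (by decide)).trans (by rfl)
  have e_7_4 : bmat T (σ 7) (σ 4) = 0 := (hσ 7 4 (by decide)).trans (by rfl)
  have e_7_5 : bmat T (σ 7) (σ 5) = 0 := (hσ 7 5 (by decide)).trans (by rfl)
  have e_7_6 : bmat T (σ 7) (σ 6) = 1 := (hσ 7 6 (by decide)).trans (by rfl)
  have e_7_7 : bmat T (σ 7) (σ 7) = -2 := (ofType T h2).diag (σ 7)
  have e_7_8 : bmat T (σ 7) (σ 8) = 0 := (hσ 7 8 (by decide)).trans (by rfl)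
  have e_8_0 : bmat T (σ 8) (σ 0) = 0 := (hσ 8 0 (by decide)).trans (by rfl)
  have e_8_1 : bmat T (σ 8) (σ 1) = 0 := (hσ 8 1 (by decide)).trans (by rfl)
  have e_8_2 : bmat T (σ 8) (σ 2) = 0 := (hσ 8 2 (by decide)).trans (by rfl)
  have e_8_3 : bmat T (σ 8) (σ 3) = 0 := (hσ 8 3 (by decide)).trans (by rfl)
  have e_8_4 : bmat T (σ 8) (σ 4) = 0 := (hσ 8 4 (by decide)).trans (by rfl)
  have e_8_5 : bmat T (σ 8) (σ 5) = 0 := (hσ 8 5 (by decide)).trans (by rfl)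
  have e_8_6 : bmat T (σ 8) (σ 6) = 1 := (hσ 8 6 (by decide)).trans (by rfl)
  have e_8_7 : bmat T (σ 8) (σ 7) = 0 := (hσ 8 7 (by decide)).trans (by rfl)
  have e_8_8 : bmat T (σ 8) (σ 8) = -2 := (ofType T h2).diag (σ 8)
  have r_0 := row_reindex T h2 σ 0
  rw [sum_fin9, e_0_0, e_0_1, e_0_2, e_0_3, e_0_4, e_0_5, e_0_6, e_0_7, e_0_8] at r_0
  have r_1 := row_reindex T h2 σ 1
  rw [sum_fin9, e_1_0, e_1_1, e_1_2, e_1_3, e_1_4, e_1_5, e_1_6, e_1_7, e_1_8] at r_1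
  have r_2 := row_reindex T h2 σ 2
  rw [sum_fin9, e_2_0, e_2_1, e_2_2, e_2_3, e_2_4, e_2_5, e_2_6, e_2_7, e_2_8] at r_2
  have r_3 := row_reindex T h2 σ 3
  rw [sum_fin9, e_3_0, e_3_1, e_3_2, e_3_3, e_3_4, e_3_5, e_3_6, e_3_7, e_3_8] at r_3
  have r_4 := row_reindex T h2 σ 4
  rw [sum_fin9, e_4_0, e_4_1, e_4_2, e_4_3, e_4_4, e_4_5, e_4_6, e_4_7, e_4_8] at r_4
  have r_5 := row_reindex T h2 σ 5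
  rw [sum_fin9, e_5_0, e_5_1, e_5_2, e_5_3, e_5_4, e_5_5, e_5_6, e_5_7, e_5_8] at r_5
  have r_6 := row_reindex T h2 σ 6
  rw [sum_fin9, e_6_0, e_6_1, e_6_2, e_6_3, e_6_4, e_6_5, e_6_6, e_6_7, e_6_8] at r_6
  have r_7 := row_reindex T h2 σ 7
  rw [sum_fin9, e_7_0, e_7_1, e_7_2, e_7_3, e_7_4, e_7_5, e_7_6, e_7_7, e_7_8] at r_7
  have r_8 := row_reindex T h2 σ 8
  rw [sum_fin9, e_8_0, e_8_1, e_8_2, e_8_3, e_8_4, e_8_5, e_8_6, e_8_7, e_8_8] at r_8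
  have hM_0 : T.m (σ 0) = T.m (σ 0) := by omega
  have hM_1 : T.m (σ 1) = 2 * T.m (σ 0) := by omega
  have hM_2 : T.m (σ 2) = 2 * T.m (σ 0) := by omega
  have hM_3 : T.m (σ 3) = 2 * T.m (σ 0) := by omega
  have hM_4 : T.m (σ 4) = 2 * T.m (σ 0) := by omega
  have hM_5 : T.m (σ 5) = 2 * T.m (σ 0) := by omega
  have hM_6 : T.m (σ 6) = 2 * T.m (σ 0) := by omega
  have hM_7 : T.m (σ 7) = T.m (σ 0) := by omega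
  have hM_8 : T.m (σ 8) = T.m (σ 0) := by omega
  have s_0_1 := symz_bmat T (σ 0) (σ 1)
  rw [e_0_1, e_1_0] at s_0_1
  have s_1_2 := symz_bmat T (σ 1) (σ 2)
  rw [e_1_2, e_2_1] at s_1_2
  have s_2_3 := symz_bmat T (σ 2) (σ 3)
  rw [e_2_3, e_3_2] at s_2_3
  have s_3_4 := symz_bmat T (σ 3) (σ 4)
  rw [e_3_4, e_4_3] at s_3_4
  have s_4_5 := symz_bmat T (σ 4) (σ 5)
  rw [e_4_5, e_5_4] at s_4_5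
  have s_5_6 := symz_bmat T (σ 5) (σ 6)
  rw [e_5_6, e_6_5] at s_5_6
  have s_6_7 := symz_bmat T (σ 6) (σ 7)
  rw [e_6_7, e_7_6] at s_6_7
  have s_6_8 := symz_bmat T (σ 6) (σ 8)
  rw [e_6_8, e_8_6] at s_6_8
  have hW_0 : T.w (σ 0) = 2 * T.w (σ 1) := by omega
  have hW_1 : T.w (σ 1) = T.w (σ 1) := by omega
  have hW_2 : T.w (σ 2) = T.w (σ 1) := by omega
  have hW_3 : T.w (σ 3) = T.w (σ 1) := by omega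
  have hW_4 : T.w (σ 4) = T.w (σ 1) := by omega
  have hW_5 : T.w (σ 5) = T.w (σ 1) := by omega
  have hW_6 : T.w (σ 6) = T.w (σ 1) := by omega
  have hW_7 : T.w (σ 7) = T.w (σ 1) := by omega
  have hW_8 : T.w (σ 8) = T.w (σ 1) := by omega
  refine ⟨?_, ?_, ?_, ?_, ?_, ?_, ?_, ?_, ?_, ?_, ?_, ?_, ?_, ?_, ?_, ?_, ?_, ?_, ?_, ?_, ?_, ?_, ?_, ?_, ?_, ?_, ?_, ?_, ?_, ?_, ?_, ?_, ?_, ?_, ?_, ?_, ?_, ?_, ?_, ?_, ?_, ?_, ?_, ?_, ?_, ?_, ?_, ?_, ?_, ?_, ?_, ?_, ?_, ?_, ?_, ?_, ?_, ?_, ?_, ?_, ?_, ?_, ?_⟩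
  · exact hM_0
  · exact hM_1
  · exact hM_2
  · exact hM_3
  · exact hM_4
  · exact hM_5
  · exact hM_6
  · exact hM_7
  · exact hM_8
  · exact hW_0
  · exact hW_1
  · exact hW_2
  · exact hW_3
  · exact hW_4
  · exact hW_5
  · exact hW_6
  · exact hW_7
  · exact hW_8
  · rw [(h2 (σ 0)).2] <;> omega
  · rw [a_eq T (σ 0) (σ 1), e_0_1] <;> omega
  · rw [a_eq T (σ 0) (σ 2), e_0_2] <;> omega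
  · rw [a_eq T (σ 0) (σ 3), e_0_3] <;> omega
  · rw [a_eq T (σ 0) (σ 4), e_0_4] <;> omega
  · rw [a_eq T (σ 0) (σ 5), e_0_5] <;> omega
  · rw [a_eq T (σ 0) (σ 6), e_0_6] <;> omega
  · rw [a_eq T (σ 0) (σ 7), e_0_7] <;> omega
  · rw [a_eq T (σ 0) (σ 8), e_0_8] <;> omega
  · rw [(h2 (σ 1)).2] <;> omega
  · rw [a_eq T (σ 1) (σ 2), e_1_2] <;> omega
  · rw [a_eq T (σ 1) (σ 3), e_1_3] <;> omega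
  · rw [a_eq T (σ 1) (σ 4), e_1_4] <;> omega
  · rw [a_eq T (σ 1) (σ 5), e_1_5] <;> omega
  · rw [a_eq T (σ 1) (σ 6), e_1_6] <;> omega
  · rw [a_eq T (σ 1) (σ 7), e_1_7] <;> omega
  · rw [a_eq T (σ 1) (σ 8), e_1_8] <;> omega
  · rw [(h2 (σ 2)).2] <;> omega
  · rw [a_eq T (σ 2) (σ 3), e_2_3] <;> omega
  · rw [a_eq T (σ 2) (σ 4), e_2_4] <;> omega
  · rw [a_eq T (σ 2) (σ 5), e_2_5] <;> omega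
  · rw [a_eq T (σ 2) (σ 6), e_2_6] <;> omega
  · rw [a_eq T (σ 2) (σ 7), e_2_7] <;> omega
  · rw [a_eq T (σ 2) (σ 8), e_2_8] <;> omega
  · rw [(h2 (σ 3)).2] <;> omega
  · rw [a_eq T (σ 3) (σ 4), e_3_4] <;> omega
  · rw [a_eq T (σ 3) (σ 5), e_3_5] <;> omega
  · rw [a_eq T (σ 3) (σ 6), e_3_6] <;> omega
  · rw [a_eq T (σ 3) (σ 7), e_3_7] <;> omega
  · rw [a_eq T (σ 3) (σ 8), e_3_8] <;> omega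
  · rw [(h2 (σ 4)).2] <;> omega
  · rw [a_eq T (σ 4) (σ 5), e_4_5] <;> omega
  · rw [a_eq T (σ 4) (σ 6), e_4_6] <;> omega
  · rw [a_eq T (σ 4) (σ 7), e_4_7] <;> omega
  · rw [a_eq T (σ 4) (σ 8), e_4_8] <;> omega
  · rw [(h2 (σ 5)).2] <;> omega
  · rw [a_eq T (σ 5) (σ 6), e_5_6] <;> omega
  · rw [a_eq T (σ 5) (σ 7), e_5_7] <;> omega
  · rw [a_eq T (σ 5) (σ 8), e_5_8] <;> omega
  · rw [(h2 (σ 6)).2] <;> omega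
  · rw [a_eq T (σ 6) (σ 7), e_6_7] <;> omega
  · rw [a_eq T (σ 6) (σ 8), e_6_8] <;> omega
  · rw [(h2 (σ 7)).2] <;> omega
  · rw [a_eq T (σ 7) (σ 8), e_7_8] <;> omega
  · rw [(h2 (σ 8)).2] <;> omega

theorem case9_5 (T : Models.NumericalType 9) (h2 : ∀ i, T.IsMinusTwo i) (σ : Equiv.Perm (Fin 9))
    (hσ : ∀ i j : Fin 9, i ≠ j → bmat T (σ i) (σ j) = (canonEnt N9.canon 5 i.val j.val : ℤ))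
    (m w : ℤ) (hm : m = T.m (σ 7)) (hw : w = T.w (σ 0)) :
    (T.m (σ 0) = 2 * m ∧ T.m (σ 1) = 2 * m ∧ T.m (σ 2) = 2 * m ∧ T.m (σ 3) = 2 * m ∧ T.m (σ 4) = 2 * m ∧ T.m (σ 5) = 2 * m ∧ T.m (σ 6) = 2 * m ∧ T.m (σ 7) = m ∧ T.m (σ 8) = m ∧ T.w (σ 0) = w ∧ T.w (σ 1) = 2 * w ∧ T.w (σ 2) = 2 * w ∧ T.w (σ 3) = 2 * w ∧ T.w (σ 4) = 2 * w ∧ T.w (σ 5) = 2 * w ∧ T.w (σ 6) = 2 * w ∧ T.w (σ 7) = 2 * w ∧ T.w (σ 8) = 2 * w ∧ T.a (σ 0) (σ 0) = -2 * w ∧ T.a (σ 0) (σ 1) = 2 * w ∧ T.a (σ 0) (σ 2) = 0 ∧ T.a (σ 0) (σ 3) = 0 ∧ T.a (σ 0) (σ 4) = 0 ∧ T.a (σ 0) (σ 5) = 0 ∧ T.a (σ 0) (σ 6) = 0 ∧ T.a (σ 0) (σ 7) = 0 ∧ T.a (σ 0) (σ 8) = 0 ∧ T.a (σ 1) (σ 1) = -4 * w ∧ T.a (σ 1) (σ 2) = 2 * w ∧ T.a (σ 1) (σ 3) = 0 ∧ T.a (σ 1) (σ 4) = 0 ∧ T.a (σ 1) (σ 5) = 0 ∧ T.a (σ 1) (σ 6) = 0 ∧ T.a (σ 1) (σ 7) = 0 ∧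 T.a (σ 1) (σ 8) = 0 ∧ T.a (σ 2) (σ 2) = -4 * w ∧ T.a (σ 2) (σ 3) = 2 * w ∧ T.a (σ 2) (σ 4) = 0 ∧ T.a (σ 2) (σ 5) = 0 ∧ T.a (σ 2) (σ 6) = 0 ∧ T.a (σ 2) (σ 7) = 0 ∧ T.a (σ 2) (σ 8) = 0 ∧ T.a (σ 3) (σ 3) = -4 * w ∧ T.a (σ 3) (σ 4) = 2 * w ∧ T.a (σ 3) (σ 5) = 0 ∧ T.a (σ 3) (σ 6) = 0 ∧ T.a (σ 3) (σ 7) = 0 ∧ T.a (σ 3) (σ 8) = 0 ∧ T.a (σ 4) (σ 4) = -4 * w ∧ T.a (σ 4) (σ 5) = 2 * w ∧ T.a (σ 4) (σ 6) = 0 ∧ T.a (σ 4) (σ 7) = 0 ∧ T.a (σ 4) (σ 8) = 0 ∧ T.a (σ 5) (σ 5) = -4 * w ∧ T.a (σ 5) (σ 6) = 2 * w ∧ T.a (σ 5) (σ 7) = 0 ∧ T.a (σ 5) (σ 8) = 0 ∧ T.a (σ 6) (σ 6) = -4 * w ∧ T.a (σ 6) (σ 7) = 2 * w ∧ T.a (σ 6) (σ 8) = 2 * w ∧ T.a (σ 7) (σ 7) = -4 * w ∧ T.a (σ 7) (σ 8) = 0 ∧ T.a (σ 8) (σ 8) = -4 * w) := by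
  subst hm hw
  have e_0_0 : bmat T (σ 0) (σ 0) = -2 := (ofType T h2).diag (σ 0)
  have e_0_1 : bmat T (σ 0) (σ 1) = 2 := (hσ 0 1 (by decide)).trans (by rfl)
  have e_0_2 : bmat T (σ 0) (σ 2) = 0 := (hσ 0 2 (by decide)).trans (by rfl)
  have e_0_3 : bmat T (σ 0) (σ 3) = 0 := (hσ 0 3 (by decide)).trans (by rfl)
  have e_0_4 : bmat T (σ 0) (σ 4) = 0 := (hσ 0 4 (by decide)).trans (by rfl)
  have e_0_5 : bmat T (σ 0) (σ 5) = 0 := (hσ 0 5 (by decide)).trans (by rfl)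
  have e_0_6 : bmat T (σ 0) (σ 6) = 0 := (hσ 0 6 (by decide)).trans (by rfl)
  have e_0_7 : bmat T (σ 0) (σ 7) = 0 := (hσ 0 7 (by decide)).trans (by rfl)
  have e_0_8 : bmat T (σ 0) (σ 8) = 0 := (hσ 0 8 (by decide)).trans (by rfl)
  have e_1_0 : bmat T (σ 1) (σ 0) = 1 := (hσ 1 0 (by decide)).trans (by rfl)
  have e_1_1 : bmat T (σ 1) (σ 1) = -2 := (ofType T h2).diag (σ 1)
  have e_1_2 : bmat T (σ 1) (σ 2) = 1 := (hσ 1 2 (by decide)).trans (by rfl)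
  have e_1_3 : bmat T (σ 1) (σ 3) = 0 := (hσ 1 3 (by decide)).trans (by rfl)
  have e_1_4 : bmat T (σ 1) (σ 4) = 0 := (hσ 1 4 (by decide)).trans (by rfl)
  have e_1_5 : bmat T (σ 1) (σ 5) = 0 := (hσ 1 5 (by decide)).trans (by rfl)
  have e_1_6 : bmat T (σ 1) (σ 6) = 0 := (hσ 1 6 (by decide)).trans (by rfl)
  have e_1_7 : bmat T (σ 1) (σ 7) = 0 := (hσ 1 7 (by decide)).trans (by rfl)
  have e_1_8 : bmat T (σ 1) (σ 8) = 0 := (hσ 1 8 (by decide)).trans (by rfl)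
  have e_2_0 : bmat T (σ 2) (σ 0) = 0 := (hσ 2 0 (by decide)).trans (by rfl)
  have e_2_1 : bmat T (σ 2) (σ 1) = 1 := (hσ 2 1 (by decide)).trans (by rfl)
  have e_2_2 : bmat T (σ 2) (σ 2) = -2 := (ofType T h2).diag (σ 2)
  have e_2_3 : bmat T (σ 2) (σ 3) = 1 := (hσ 2 3 (by decide)).trans (by rfl)
  have e_2_4 : bmat T (σ 2) (σ 4) = 0 := (hσ 2 4 (by decide)).trans (by rfl)
  have e_2_5 : bmat T (σ 2) (σ 5) = 0 := (hσ 2 5 (by decide)).trans (by rfl)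
  have e_2_6 : bmat T (σ 2) (σ 6) = 0 := (hσ 2 6 (by decide)).trans (by rfl)
  have e_2_7 : bmat T (σ 2) (σ 7) = 0 := (hσ 2 7 (by decide)).trans (by rfl)
  have e_2_8 : bmat T (σ 2) (σ 8) = 0 := (hσ 2 8 (by decide)).trans (by rfl)
  have e_3_0 : bmat T (σ 3) (σ 0) = 0 := (hσ 3 0 (by decide)).trans (by rfl)
  have e_3_1 : bmat T (σ 3) (σ 1) = 0 := (hσ 3 1 (by decide)).trans (by rfl)
  have e_3_2 : bmat T (σ 3) (σ 2) = 1 := (hσ 3 2 (by decide)).trans (by rfl)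
  have e_3_3 : bmat T (σ 3) (σ 3) = -2 := (ofType T h2).diag (σ 3)
  have e_3_4 : bmat T (σ 3) (σ 4) = 1 := (hσ 3 4 (by decide)).trans (by rfl)
  have e_3_5 : bmat T (σ 3) (σ 5) = 0 := (hσ 3 5 (by decide)).trans (by rfl)
  have e_3_6 : bmat T (σ 3) (σ 6) = 0 := (hσ 3 6 (by decide)).trans (by rfl)
  have e_3_7 : bmat T (σ 3) (σ 7) = 0 := (hσ 3 7 (by decide)).trans (by rfl)
  have e_3_8 : bmat T (σ 3) (σ 8) = 0 := (hσ 3 8 (by decide)).trans (by rfl)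
  have e_4_0 : bmat T (σ 4) (σ 0) = 0 := (hσ 4 0 (by decide)).trans (by rfl)
  have e_4_1 : bmat T (σ 4) (σ 1) = 0 := (hσ 4 1 (by decide)).trans (by rfl)
  have e_4_2 : bmat T (σ 4) (σ 2) = 0 := (hσ 4 2 (by decide)).trans (by rfl)
  have e_4_3 : bmat T (σ 4) (σ 3) = 1 := (hσ 4 3 (by decide)).trans (by rfl)
  have e_4_4 : bmat T (σ 4) (σ 4) = -2 := (ofType T h2).diag (σ 4)
  have e_4_5 : bmat T (σ 4) (σ 5) = 1 := (hσ 4 5 (by decide)).trans (by rfl)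
  have e_4_6 : bmat T (σ 4) (σ 6) = 0 := (hσ 4 6 (by decide)).trans (by rfl)
  have e_4_7 : bmat T (σ 4) (σ 7) = 0 := (hσ 4 7 (by decide)).trans (by rfl)
  have e_4_8 : bmat T (σ 4) (σ 8) = 0 := (hσ 4 8 (by decide)).trans (by rfl)
  have e_5_0 : bmat T (σ 5) (σ 0) = 0 := (hσ 5 0 (by decide)).trans (by rfl)
  have e_5_1 : bmat T (σ 5) (σ 1) = 0 := (hσ 5 1 (by decide)).trans (by rfl)
  have e_5_2 : bmat T (σ 5) (σ 2) = 0 := (hσ 5 2 (by decide)).trans (by rfl)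
  have e_5_3 : bmat T (σ 5) (σ 3) = 0 := (hσ 5 3 (by decide)).trans (by rfl)
  have e_5_4 : bmat T (σ 5) (σ 4) = 1 := (hσ 5 4 (by decide)).trans (by rfl)
  have e_5_5 : bmat T (σ 5) (σ 5) = -2 := (ofType T h2).diag (σ 5)
  have e_5_6 : bmat T (σ 5) (σ 6) = 1 := (hσ 5 6 (by decide)).trans (by rfl)
  have e_5_7 : bmat T (σ 5) (σ 7) = 0 := (hσ 5 7 (by decide)).trans (by rfl)
  have e_5_8 : bmat T (σ 5) (σ 8) = 0 := (hσ 5 8 (by decide)).trans (by rfl)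
  have e_6_0 : bmat T (σ 6) (σ 0) = 0 := (hσ 6 0 (by decide)).trans (by rfl)
  have e_6_1 : bmat T (σ 6) (σ 1) = 0 := (hσ 6 1 (by decide)).trans (by rfl)
  have e_6_2 : bmat T (σ 6) (σ 2) = 0 := (hσ 6 2 (by decide)).trans (by rfl)
  have e_6_3 : bmat T (σ 6) (σ 3) = 0 := (hσ 6 3 (by decide)).trans (by rfl)
  have e_6_4 : bmat T (σ 6) (σ 4) = 0 := (hσ 6 4 (by decide)).trans (by rfl)
  have e_6_5 : bmat T (σ 6) (σ 5) = 1 := (hσ 6 5 (by decide)).trans (by rfl)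
  have e_6_6 : bmat T (σ 6) (σ 6) = -2 := (ofType T h2).diag (σ 6)
  have e_6_7 : bmat T (σ 6) (σ 7) = 1 := (hσ 6 7 (by decide)).trans (by rfl)
  have e_6_8 : bmat T (σ 6) (σ 8) = 1 := (hσ 6 8 (by decide)).trans (by rfl)
  have e_7_0 : bmat T (σ 7) (σ 0) = 0 := (hσ 7 0 (by decide)).trans (by rfl)
  have e_7_1 : bmat T (σ 7) (σ 1) = 0 := (hσ 7 1 (by decide)).trans (by rfl)
  have e_7_2 : bmat T (σ 7) (σ 2) = 0 := (hσ 7 2 (by decide)).trans (by rfl)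
  have e_7_3 : bmat T (σ 7) (σ 3) = 0 := (hσ 7 3 (by decide)).trans (by rfl)
  have e_7_4 : bmat T (σ 7) (σ 4) = 0 := (hσ 7 4 (by decide)).trans (by rfl)
  have e_7_5 : bmat T (σ 7) (σ 5) = 0 := (hσ 7 5 (by decide)).trans (by rfl)
  have e_7_6 : bmat T (σ 7) (σ 6) = 1 := (hσ 7 6 (by decide)).trans (by rfl)
  have e_7_7 : bmat T (σ 7) (σ 7) = -2 := (ofType T h2).diag (σ 7)
  have e_7_8 : bmat T (σ 7) (σ 8) = 0 := (hσ 7 8 (by decide)).trans (by rfl)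
  have e_8_0 : bmat T (σ 8) (σ 0) = 0 := (hσ 8 0 (by decide)).trans (by rfl)
  have e_8_1 : bmat T (σ 8) (σ 1) = 0 := (hσ 8 1 (by decide)).trans (by rfl)
  have e_8_2 : bmat T (σ 8) (σ 2) = 0 := (hσ 8 2 (by decide)).trans (by rfl)
  have e_8_3 : bmat T (σ 8) (σ 3) = 0 := (hσ 8 3 (by decide)).trans (by rfl)
  have e_8_4 : bmat T (σ 8) (σ 4) = 0 := (hσ 8 4 (by decide)).trans (by rfl)
  have e_8_5 : bmat T (σ 8) (σ 5) = 0 := (hσ 8 5 (by decide)).trans (by rfl)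
  have e_8_6 : bmat T (σ 8) (σ 6) = 1 := (hσ 8 6 (by decide)).trans (by rfl)
  have e_8_7 : bmat T (σ 8) (σ 7) = 0 := (hσ 8 7 (by decide)).trans (by rfl)
  have e_8_8 : bmat T (σ 8) (σ 8) = -2 := (ofType T h2).diag (σ 8)
  have r_0 := row_reindex T h2 σ 0
  rw [sum_fin9, e_0_0, e_0_1, e_0_2, e_0_3, e_0_4, e_0_5, e_0_6, e_0_7, e_0_8] at r_0
  have r_1 := row_reindex T h2 σ 1
  rw [sum_fin9, e_1_0, e_1_1, e_1_2, e_1_3, e_1_4, e_1_5, e_1_6, e_1_7, e_1_8] at r_1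
  have r_2 := row_reindex T h2 σ 2
  rw [sum_fin9, e_2_0, e_2_1, e_2_2, e_2_3, e_2_4, e_2_5, e_2_6, e_2_7, e_2_8] at r_2
  have r_3 := row_reindex T h2 σ 3
  rw [sum_fin9, e_3_0, e_3_1, e_3_2, e_3_3, e_3_4, e_3_5, e_3_6, e_3_7, e_3_8] at r_3
  have r_4 := row_reindex T h2 σ 4
  rw [sum_fin9, e_4_0, e_4_1, e_4_2, e_4_3, e_4_4, e_4_5, e_4_6, e_4_7, e_4_8] at r_4
  have r_5 := row_reindex T h2 σ 5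
  rw [sum_fin9, e_5_0, e_5_1, e_5_2, e_5_3, e_5_4, e_5_5, e_5_6, e_5_7, e_5_8] at r_5
  have r_6 := row_reindex T h2 σ 6
  rw [sum_fin9, e_6_0, e_6_1, e_6_2, e_6_3, e_6_4, e_6_5, e_6_6, e_6_7, e_6_8] at r_6
  have r_7 := row_reindex T h2 σ 7
  rw [sum_fin9, e_7_0, e_7_1, e_7_2, e_7_3, e_7_4, e_7_5, e_7_6, e_7_7, e_7_8] at r_7
  have r_8 := row_reindex T h2 σ 8
  rw [sum_fin9, e_8_0, e_8_1, e_8_2, e_8_3, e_8_4, e_8_5, e_8_6, e_8_7, e_8_8] at r_8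
  have hM_0 : T.m (σ 0) = 2 * T.m (σ 7) := by omega
  have hM_1 : T.m (σ 1) = 2 * T.m (σ 7) := by omega
  have hM_2 : T.m (σ 2) = 2 * T.m (σ 7) := by omega
  have hM_3 : T.m (σ 3) = 2 * T.m (σ 7) := by omega
  have hM_4 : T.m (σ 4) = 2 * T.m (σ 7) := by omega
  have hM_5 : T.m (σ 5) = 2 * T.m (σ 7) := by omega
  have hM_6 : T.m (σ 6) = 2 * T.m (σ 7) := by omega
  have hM_7 : T.m (σ 7) = T.m (σ 7) := by omega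
  have hM_8 : T.m (σ 8) = T.m (σ 7) := by omega
  have s_0_1 := symz_bmat T (σ 0) (σ 1)
  rw [e_0_1, e_1_0] at s_0_1
  have s_1_2 := symz_bmat T (σ 1) (σ 2)
  rw [e_1_2, e_2_1] at s_1_2
  have s_2_3 := symz_bmat T (σ 2) (σ 3)
  rw [e_2_3, e_3_2] at s_2_3
  have s_3_4 := symz_bmat T (σ 3) (σ 4)
  rw [e_3_4, e_4_3] at s_3_4
  have s_4_5 := symz_bmat T (σ 4) (σ 5)
  rw [e_4_5, e_5_4] at s_4_5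
  have s_5_6 := symz_bmat T (σ 5) (σ 6)
  rw [e_5_6, e_6_5] at s_5_6
  have s_6_7 := symz_bmat T (σ 6) (σ 7)
  rw [e_6_7, e_7_6] at s_6_7
  have s_6_8 := symz_bmat T (σ 6) (σ 8)
  rw [e_6_8, e_8_6] at s_6_8
  have hW_0 : T.w (σ 0) = T.w (σ 0) := by omega
  have hW_1 : T.w (σ 1) = 2 * T.w (σ 0) := by omega
  have hW_2 : T.w (σ 2) = 2 * T.w (σ 0) := by omega
  have hW_3 : T.w (σ 3) = 2 * T.w (σ 0) := by omega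
  have hW_4 : T.w (σ 4) = 2 * T.w (σ 0) := by omega
  have hW_5 : T.w (σ 5) = 2 * T.w (σ 0) := by omega
  have hW_6 : T.w (σ 6) = 2 * T.w (σ 0) := by omega
  have hW_7 : T.w (σ 7) = 2 * T.w (σ 0) := by omega
  have hW_8 : T.w (σ 8) = 2 * T.w (σ 0) := by omega
  refine ⟨?_, ?_, ?_, ?_, ?_, ?_, ?_, ?_, ?_, ?_, ?_, ?_, ?_, ?_, ?_, ?_, ?_, ?_, ?_, ?_, ?_, ?_, ?_, ?_, ?_, ?_, ?_, ?_, ?_, ?_, ?_, ?_, ?_, ?_, ?_, ?_, ?_, ?_, ?_, ?_, ?_, ?_, ?_, ?_, ?_, ?_, ?_, ?_, ?_, ?_, ?_, ?_, ?_, ?_, ?_, ?_, ?_, ?_, ?_, ?_, ?_, ?_, ?_⟩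
  · exact hM_0
  · exact hM_1
  · exact hM_2
  · exact hM_3
  · exact hM_4
  · exact hM_5
  · exact hM_6
  · exact hM_7
  · exact hM_8
  · exact hW_0
  · exact hW_1
  · exact hW_2
  · exact hW_3
  · exact hW_4
  · exact hW_5
  · exact hW_6
  · exact hW_7
  · exact hW_8
  · rw [(h2 (σ 0)).2] <;> omega
  · rw [a_eq T (σ 0) (σ 1), e_0_1] <;> omega
  · rw [a_eq T (σ 0) (σ 2), e_0_2] <;> omega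
  · rw [a_eq T (σ 0) (σ 3), e_0_3] <;> omega
  · rw [a_eq T (σ 0) (σ 4), e_0_4] <;> omega
  · rw [a_eq T (σ 0) (σ 5), e_0_5] <;> omega
  · rw [a_eq T (σ 0) (σ 6), e_0_6] <;> omega
  · rw [a_eq T (σ 0) (σ 7), e_0_7] <;> omega
  · rw [a_eq T (σ 0) (σ 8), e_0_8] <;> omega
  · rw [(h2 (σ 1)).2] <;> omega
  · rw [a_eq T (σ 1) (σ 2), e_1_2] <;> omega
  · rw [a_eq T (σ 1) (σ 3), e_1_3] <;> omega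
  · rw [a_eq T (σ 1) (σ 4), e_1_4] <;> omega
  · rw [a_eq T (σ 1) (σ 5), e_1_5] <;> omega
  · rw [a_eq T (σ 1) (σ 6), e_1_6] <;> omega
  · rw [a_eq T (σ 1) (σ 7), e_1_7] <;> omega
  · rw [a_eq T (σ 1) (σ 8), e_1_8] <;> omega
  · rw [(h2 (σ 2)).2] <;> omega
  · rw [a_eq T (σ 2) (σ 3), e_2_3] <;> omega
  · rw [a_eq T (σ 2) (σ 4), e_2_4] <;> omega
  · rw [a_eq T (σ 2) (σ 5), e_2_5] <;> omega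
  · rw [a_eq T (σ 2) (σ 6), e_2_6] <;> omega
  · rw [a_eq T (σ 2) (σ 7), e_2_7] <;> omega
  · rw [a_eq T (σ 2) (σ 8), e_2_8] <;> omega
  · rw [(h2 (σ 3)).2] <;> omega
  · rw [a_eq T (σ 3) (σ 4), e_3_4] <;> omega
  · rw [a_eq T (σ 3) (σ 5), e_3_5] <;> omega
  · rw [a_eq T (σ 3) (σ 6), e_3_6] <;> omega
  · rw [a_eq T (σ 3) (σ 7), e_3_7] <;> omega
  · rw [a_eq T (σ 3) (σ 8), e_3_8] <;> omega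
  · rw [(h2 (σ 4)).2] <;> omega
  · rw [a_eq T (σ 4) (σ 5), e_4_5] <;> omega
  · rw [a_eq T (σ 4) (σ 6), e_4_6] <;> omega
  · rw [a_eq T (σ 4) (σ 7), e_4_7] <;> omega
  · rw [a_eq T (σ 4) (σ 8), e_4_8] <;> omega
  · rw [(h2 (σ 5)).2] <;> omega
  · rw [a_eq T (σ 5) (σ 6), e_5_6] <;> omega
  · rw [a_eq T (σ 5) (σ 7), e_5_7] <;> omega
  · rw [a_eq T (σ 5) (σ 8), e_5_8] <;> omega
  · rw [(h2 (σ 6)).2] <;> omega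
  · rw [a_eq T (σ 6) (σ 7), e_6_7] <;> omega
  · rw [a_eq T (σ 6) (σ 8), e_6_8] <;> omega
  · rw [(h2 (σ 7)).2] <;> omega
  · rw [a_eq T (σ 7) (σ 8), e_7_8] <;> omega
  · rw [(h2 (σ 8)).2] <;> omega

theorem case9_6 (T : Models.NumericalType 9) (h2 : ∀ i, T.IsMinusTwo i) (σ : Equiv.Perm (Fin 9))
    (hσ : ∀ i j : Fin 9, i ≠ j → bmat T (σ i) (σ j) = (canonEnt N9.canon 6 i.val j.val : ℤ))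
    (m w : ℤ) (hm : m = T.m (σ 0)) (hw : w = T.w (σ 0)) :
    (T.m (σ 0) = m ∧ T.m (σ 1) = m ∧ T.m (σ 2) = 2 * m ∧ T.m (σ 3) = 2 * m ∧ T.m (σ 4) = 2 * m ∧ T.m (σ 5) = 2 * m ∧ T.m (σ 6) = 2 * m ∧ T.m (σ 7) = m ∧ T.m (σ 8) = m ∧ T.w (σ 0) = w ∧ T.w (σ 1) = w ∧ T.w (σ 2) = w ∧ T.w (σ 3) = w ∧ T.w (σ 4) = w ∧ T.w (σ 5) = w ∧ T.w (σ 6) = w ∧ T.w (σ 7) = w ∧ T.w (σ 8) = w ∧ T.a (σ 0) (σ 0) = -2 * w ∧ T.a (σ 0) (σ 1) = 0 ∧ T.a (σ 0) (σ 2) = w ∧ T.a (σ 0) (σ 3) = 0 ∧ T.a (σ 0) (σ 4) = 0 ∧ T.a (σ 0) (σ 5) = 0 ∧ T.a (σ 0) (σ 6) = 0 ∧ T.a (σ 0) (σ 7) = 0 ∧ T.a (σ 0) (σ 8) = 0 ∧ T.a (σ 1) (σ 1) = -2 * w ∧ T.a (σ 1) (σ 2) = w ∧ T.a (σ 1) (σ 3) = 0 ∧ T.a (σ 1) (σ 4) = 0 ∧ T.a (σ 1) (σ 5) = 0 ∧ T.a (σ 1) (σ 6) = 0 ∧ T.a (σ 1) (σ 7) = 0 ∧ T.a (σ 1) (σ 8) = 0 ∧ T.a (σ 2) (σ 2) = -2 * w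 ∧ T.a (σ 2) (σ 3) = w ∧ T.a (σ 2) (σ 4) = 0 ∧ T.a (σ 2) (σ 5) = 0 ∧ T.a (σ 2) (σ 6) = 0 ∧ T.a (σ 2) (σ 7) = 0 ∧ T.a (σ 2) (σ 8) = 0 ∧ T.a (σ 3) (σ 3) = -2 * w ∧ T.a (σ 3) (σ 4) = w ∧ T.a (σ 3) (σ 5) = 0 ∧ T.a (σ 3) (σ 6) = 0 ∧ T.a (σ 3) (σ 7) = 0 ∧ T.a (σ 3) (σ 8) = 0 ∧ T.a (σ 4) (σ 4) = -2 * w ∧ T.a (σ 4) (σ 5) = w ∧ T.a (σ 4) (σ 6) = 0 ∧ T.a (σ 4) (σ 7) = 0 ∧ T.a (σ 4) (σ 8) = 0 ∧ T.a (σ 5) (σ 5) = -2 * w ∧ T.a (σ 5) (σ 6) = w ∧ T.a (σ 5) (σ 7) = 0 ∧ T.a (σ 5) (σ 8) = 0 ∧ T.a (σ 6) (σ 6) = -2 * w ∧ T.a (σ 6) (σ 7) = w ∧ T.a (σ 6) (σ 8) = w ∧ T.a (σ 7) (σ 7) = -2 * w ∧ T.a (σ 7) (σ 8) = 0 ∧ T.a (σ 8) (σ 8) = -2 * w) := by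
  subst hm hw
  have e_0_0 : bmat T (σ 0) (σ 0) = -2 := (ofType T h2).diag (σ 0)
  have e_0_1 : bmat T (σ 0) (σ 1) = 0 := (hσ 0 1 (by decide)).trans (by rfl)
  have e_0_2 : bmat T (σ 0) (σ 2) = 1 := (hσ 0 2 (by decide)).trans (by rfl)
  have e_0_3 : bmat T (σ 0) (σ 3) = 0 := (hσ 0 3 (by decide)).trans (by rfl)
  have e_0_4 : bmat T (σ 0) (σ 4) = 0 := (hσ 0 4 (by decide)).trans (by rfl)
  have e_0_5 : bmat T (σ 0) (σ 5) = 0 := (hσ 0 5 (by decide)).trans (by rfl)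
  have e_0_6 : bmat T (σ 0) (σ 6) = 0 := (hσ 0 6 (by decide)).trans (by rfl)
  have e_0_7 : bmat T (σ 0) (σ 7) = 0 := (hσ 0 7 (by decide)).trans (by rfl)
  have e_0_8 : bmat T (σ 0) (σ 8) = 0 := (hσ 0 8 (by decide)).trans (by rfl)
  have e_1_0 : bmat T (σ 1) (σ 0) = 0 := (hσ 1 0 (by decide)).trans (by rfl)
  have e_1_1 : bmat T (σ 1) (σ 1) = -2 := (ofType T h2).diag (σ 1)
  have e_1_2 : bmat T (σ 1) (σ 2) = 1 := (hσ 1 2 (by decide)).trans (by rfl)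
  have e_1_3 : bmat T (σ 1) (σ 3) = 0 := (hσ 1 3 (by decide)).trans (by rfl)
  have e_1_4 : bmat T (σ 1) (σ 4) = 0 := (hσ 1 4 (by decide)).trans (by rfl)
  have e_1_5 : bmat T (σ 1) (σ 5) = 0 := (hσ 1 5 (by decide)).trans (by rfl)
  have e_1_6 : bmat T (σ 1) (σ 6) = 0 := (hσ 1 6 (by decide)).trans (by rfl)
  have e_1_7 : bmat T (σ 1) (σ 7) = 0 := (hσ 1 7 (by decide)).trans (by rfl)
  have e_1_8 : bmat T (σ 1) (σ 8) = 0 := (hσ 1 8 (by decide)).trans (by rfl)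
  have e_2_0 : bmat T (σ 2) (σ 0) = 1 := (hσ 2 0 (by decide)).trans (by rfl)
  have e_2_1 : bmat T (σ 2) (σ 1) = 1 := (hσ 2 1 (by decide)).trans (by rfl)
  have e_2_2 : bmat T (σ 2) (σ 2) = -2 := (ofType T h2).diag (σ 2)
  have e_2_3 : bmat T (σ 2) (σ 3) = 1 := (hσ 2 3 (by decide)).trans (by rfl)
  have e_2_4 : bmat T (σ 2) (σ 4) = 0 := (hσ 2 4 (by decide)).trans (by rfl)
  have e_2_5 : bmat T (σ 2) (σ 5) = 0 := (hσ 2 5 (by decide)).trans (by rfl)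
  have e_2_6 : bmat T (σ 2) (σ 6) = 0 := (hσ 2 6 (by decide)).trans (by rfl)
  have e_2_7 : bmat T (σ 2) (σ 7) = 0 := (hσ 2 7 (by decide)).trans (by rfl)
  have e_2_8 : bmat T (σ 2) (σ 8) = 0 := (hσ 2 8 (by decide)).trans (by rfl)
  have e_3_0 : bmat T (σ 3) (σ 0) = 0 := (hσ 3 0 (by decide)).trans (by rfl)
  have e_3_1 : bmat T (σ 3) (σ 1) = 0 := (hσ 3 1 (by decide)).trans (by rfl)
  have e_3_2 : bmat T (σ 3) (σ 2) = 1 := (hσ 3 2 (by decide)).trans (by rfl)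
  have e_3_3 : bmat T (σ 3) (σ 3) = -2 := (ofType T h2).diag (σ 3)
  have e_3_4 : bmat T (σ 3) (σ 4) = 1 := (hσ 3 4 (by decide)).trans (by rfl)
  have e_3_5 : bmat T (σ 3) (σ 5) = 0 := (hσ 3 5 (by decide)).trans (by rfl)
  have e_3_6 : bmat T (σ 3) (σ 6) = 0 := (hσ 3 6 (by decide)).trans (by rfl)
  have e_3_7 : bmat T (σ 3) (σ 7) = 0 := (hσ 3 7 (by decide)).trans (by rfl)
  have e_3_8 : bmat T (σ 3) (σ 8) = 0 := (hσ 3 8 (by decide)).trans (by rfl)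
  have e_4_0 : bmat T (σ 4) (σ 0) = 0 := (hσ 4 0 (by decide)).trans (by rfl)
  have e_4_1 : bmat T (σ 4) (σ 1) = 0 := (hσ 4 1 (by decide)).trans (by rfl)
  have e_4_2 : bmat T (σ 4) (σ 2) = 0 := (hσ 4 2 (by decide)).trans (by rfl)
  have e_4_3 : bmat T (σ 4) (σ 3) = 1 := (hσ 4 3 (by decide)).trans (by rfl)
  have e_4_4 : bmat T (σ 4) (σ 4) = -2 := (ofType T h2).diag (σ 4)
  have e_4_5 : bmat T (σ 4) (σ 5) = 1 := (hσ 4 5 (by decide)).trans (by rfl)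
  have e_4_6 : bmat T (σ 4) (σ 6) = 0 := (hσ 4 6 (by decide)).trans (by rfl)
  have e_4_7 : bmat T (σ 4) (σ 7) = 0 := (hσ 4 7 (by decide)).trans (by rfl)
  have e_4_8 : bmat T (σ 4) (σ 8) = 0 := (hσ 4 8 (by decide)).trans (by rfl)
  have e_5_0 : bmat T (σ 5) (σ 0) = 0 := (hσ 5 0 (by decide)).trans (by rfl)
  have e_5_1 : bmat T (σ 5) (σ 1) = 0 := (hσ 5 1 (by decide)).trans (by rfl)
  have e_5_2 : bmat T (σ 5) (σ 2) = 0 := (hσ 5 2 (by decide)).trans (by rfl)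
  have e_5_3 : bmat T (σ 5) (σ 3) = 0 := (hσ 5 3 (by decide)).trans (by rfl)
  have e_5_4 : bmat T (σ 5) (σ 4) = 1 := (hσ 5 4 (by decide)).trans (by rfl)
  have e_5_5 : bmat T (σ 5) (σ 5) = -2 := (ofType T h2).diag (σ 5)
  have e_5_6 : bmat T (σ 5) (σ 6) = 1 := (hσ 5 6 (by decide)).trans (by rfl)
  have e_5_7 : bmat T (σ 5) (σ 7) = 0 := (hσ 5 7 (by decide)).trans (by rfl)
  have e_5_8 : bmat T (σ 5) (σ 8) = 0 := (hσ 5 8 (by decide)).trans (by rfl)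
  have e_6_0 : bmat T (σ 6) (σ 0) = 0 := (hσ 6 0 (by decide)).trans (by rfl)
  have e_6_1 : bmat T (σ 6) (σ 1) = 0 := (hσ 6 1 (by decide)).trans (by rfl)
  have e_6_2 : bmat T (σ 6) (σ 2) = 0 := (hσ 6 2 (by decide)).trans (by rfl)
  have e_6_3 : bmat T (σ 6) (σ 3) = 0 := (hσ 6 3 (by decide)).trans (by rfl)
  have e_6_4 : bmat T (σ 6) (σ 4) = 0 := (hσ 6 4 (by decide)).trans (by rfl)
  have e_6_5 : bmat T (σ 6) (σ 5) = 1 := (hσ 6 5 (by decide)).trans (by rfl)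
  have e_6_6 : bmat T (σ 6) (σ 6) = -2 := (ofType T h2).diag (σ 6)
  have e_6_7 : bmat T (σ 6) (σ 7) = 1 := (hσ 6 7 (by decide)).trans (by rfl)
  have e_6_8 : bmat T (σ 6) (σ 8) = 1 := (hσ 6 8 (by decide)).trans (by rfl)
  have e_7_0 : bmat T (σ 7) (σ 0) = 0 := (hσ 7 0 (by decide)).trans (by rfl)
  have e_7_1 : bmat T (σ 7) (σ 1) = 0 := (hσ 7 1 (by decide)).trans (by rfl)
  have e_7_2 : bmat T (σ 7) (σ 2) = 0 := (hσ 7 2 (by decide)).trans (by rfl)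
  have e_7_3 : bmat T (σ 7) (σ 3) = 0 := (hσ 7 3 (by decide)).trans (by rfl)
  have e_7_4 : bmat T (σ 7) (σ 4) = 0 := (hσ 7 4 (by decide)).trans (by rfl)
  have e_7_5 : bmat T (σ 7) (σ 5) = 0 := (hσ 7 5 (by decide)).trans (by rfl)
  have e_7_6 : bmat T (σ 7) (σ 6) = 1 := (hσ 7 6 (by decide)).trans (by rfl)
  have e_7_7 : bmat T (σ 7) (σ 7) = -2 := (ofType T h2).diag (σ 7)
  have e_7_8 : bmat T (σ 7) (σ 8) = 0 := (hσ 7 8 (by decide)).trans (by rfl)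
  have e_8_0 : bmat T (σ 8) (σ 0) = 0 := (hσ 8 0 (by decide)).trans (by rfl)
  have e_8_1 : bmat T (σ 8) (σ 1) = 0 := (hσ 8 1 (by decide)).trans (by rfl)
  have e_8_2 : bmat T (σ 8) (σ 2) = 0 := (hσ 8 2 (by decide)).trans (by rfl)
  have e_8_3 : bmat T (σ 8) (σ 3) = 0 := (hσ 8 3 (by decide)).trans (by rfl)
  have e_8_4 : bmat T (σ 8) (σ 4) = 0 := (hσ 8 4 (by decide)).trans (by rfl)
  have e_8_5 : bmat T (σ 8) (σ 5) = 0 := (hσ 8 5 (by decide)).trans (by rfl)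
  have e_8_6 : bmat T (σ 8) (σ 6) = 1 := (hσ 8 6 (by decide)).trans (by rfl)
  have e_8_7 : bmat T (σ 8) (σ 7) = 0 := (hσ 8 7 (by decide)).trans (by rfl)
  have e_8_8 : bmat T (σ 8) (σ 8) = -2 := (ofType T h2).diag (σ 8)
  have r_0 := row_reindex T h2 σ 0
  rw [sum_fin9, e_0_0, e_0_1, e_0_2, e_0_3, e_0_4, e_0_5, e_0_6, e_0_7, e_0_8] at r_0
  have r_1 := row_reindex T h2 σ 1
  rw [sum_fin9, e_1_0, e_1_1, e_1_2, e_1_3, e_1_4, e_1_5, e_1_6, e_1_7, e_1_8] at r_1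
  have r_2 := row_reindex T h2 σ 2
  rw [sum_fin9, e_2_0, e_2_1, e_2_2, e_2_3, e_2_4, e_2_5, e_2_6, e_2_7, e_2_8] at r_2
  have r_3 := row_reindex T h2 σ 3
  rw [sum_fin9, e_3_0, e_3_1, e_3_2, e_3_3, e_3_4, e_3_5, e_3_6, e_3_7, e_3_8] at r_3
  have r_4 := row_reindex T h2 σ 4
  rw [sum_fin9, e_4_0, e_4_1, e_4_2, e_4_3, e_4_4, e_4_5, e_4_6, e_4_7, e_4_8] at r_4
  have r_5 := row_reindex T h2 σ 5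
  rw [sum_fin9, e_5_0, e_5_1, e_5_2, e_5_3, e_5_4, e_5_5, e_5_6, e_5_7, e_5_8] at r_5
  have r_6 := row_reindex T h2 σ 6
  rw [sum_fin9, e_6_0, e_6_1, e_6_2, e_6_3, e_6_4, e_6_5, e_6_6, e_6_7, e_6_8] at r_6
  have r_7 := row_reindex T h2 σ 7
  rw [sum_fin9, e_7_0, e_7_1, e_7_2, e_7_3, e_7_4, e_7_5, e_7_6, e_7_7, e_7_8] at r_7
  have r_8 := row_reindex T h2 σ 8
  rw [sum_fin9, e_8_0, e_8_1, e_8_2, e_8_3, e_8_4, e_8_5, e_8_6, e_8_7, e_8_8] at r_8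
  have hM_0 : T.m (σ 0) = T.m (σ 0) := by omega
  have hM_1 : T.m (σ 1) = T.m (σ 0) := by omega
  have hM_2 : T.m (σ 2) = 2 * T.m (σ 0) := by omega
  have hM_3 : T.m (σ 3) = 2 * T.m (σ 0) := by omega
  have hM_4 : T.m (σ 4) = 2 * T.m (σ 0) := by omega
  have hM_5 : T.m (σ 5) = 2 * T.m (σ 0) := by omega
  have hM_6 : T.m (σ 6) = 2 * T.m (σ 0) := by omega
  have hM_7 : T.m (σ 7) = T.m (σ 0) := by omega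
  have hM_8 : T.m (σ 8) = T.m (σ 0) := by omega
  have s_0_2 := symz_bmat T (σ 0) (σ 2)
  rw [e_0_2, e_2_0] at s_0_2
  have s_1_2 := symz_bmat T (σ 1) (σ 2)
  rw [e_1_2, e_2_1] at s_1_2
  have s_2_3 := symz_bmat T (σ 2) (σ 3)
  rw [e_2_3, e_3_2] at s_2_3
  have s_3_4 := symz_bmat T (σ 3) (σ 4)
  rw [e_3_4, e_4_3] at s_3_4
  have s_4_5 := symz_bmat T (σ 4) (σ 5)
  rw [e_4_5, e_5_4] at s_4_5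
  have s_5_6 := symz_bmat T (σ 5) (σ 6)
  rw [e_5_6, e_6_5] at s_5_6
  have s_6_7 := symz_bmat T (σ 6) (σ 7)
  rw [e_6_7, e_7_6] at s_6_7
  have s_6_8 := symz_bmat T (σ 6) (σ 8)
  rw [e_6_8, e_8_6] at s_6_8
  have hW_0 : T.w (σ 0) = T.w (σ 0) := by omega
  have hW_1 : T.w (σ 1) = T.w (σ 0) := by omega
  have hW_2 : T.w (σ 2) = T.w (σ 0) := by omega
  have hW_3 : T.w (σ 3) = T.w (σ 0) := by omega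
  have hW_4 : T.w (σ 4) = T.w (σ 0) := by omega
  have hW_5 : T.w (σ 5) = T.w (σ 0) := by omega
  have hW_6 : T.w (σ 6) = T.w (σ 0) := by omega
  have hW_7 : T.w (σ 7) = T.w (σ 0) := by omega
  have hW_8 : T.w (σ 8) = T.w (σ 0) := by omega
  refine ⟨?_, ?_, ?_, ?_, ?_, ?_, ?_, ?_, ?_, ?_, ?_, ?_, ?_, ?_, ?_, ?_, ?_, ?_, ?_, ?_, ?_, ?_, ?_, ?_, ?_, ?_, ?_, ?_, ?_, ?_, ?_, ?_, ?_, ?_, ?_, ?_, ?_, ?_, ?_, ?_, ?_, ?_, ?_, ?_, ?_, ?_, ?_, ?_, ?_, ?_, ?_, ?_, ?_, ?_, ?_, ?_, ?_, ?_, ?_, ?_, ?_, ?_, ?_⟩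
  · exact hM_0
  · exact hM_1
  · exact hM_2
  · exact hM_3
  · exact hM_4
  · exact hM_5
  · exact hM_6
  · exact hM_7
  · exact hM_8
  · exact hW_0
  · exact hW_1
  · exact hW_2
  · exact hW_3
  · exact hW_4
  · exact hW_5
  · exact hW_6
  · exact hW_7
  · exact hW_8
  · rw [(h2 (σ 0)).2] <;> omega
  · rw [a_eq T (σ 0) (σ 1), e_0_1] <;> omega
  · rw [a_eq T (σ 0) (σ 2), e_0_2] <;> omega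
  · rw [a_eq T (σ 0) (σ 3), e_0_3] <;> omega
  · rw [a_eq T (σ 0) (σ 4), e_0_4] <;> omega
  · rw [a_eq T (σ 0) (σ 5), e_0_5] <;> omega
  · rw [a_eq T (σ 0) (σ 6), e_0_6] <;> omega
  · rw [a_eq T (σ 0) (σ 7), e_0_7] <;> omega
  · rw [a_eq T (σ 0) (σ 8), e_0_8] <;> omega
  · rw [(h2 (σ 1)).2] <;> omega
  · rw [a_eq T (σ 1) (σ 2), e_1_2] <;> omega
  · rw [a_eq T (σ 1) (σ 3), e_1_3] <;> omega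
  · rw [a_eq T (σ 1) (σ 4), e_1_4] <;> omega
  · rw [a_eq T (σ 1) (σ 5), e_1_5] <;> omega
  · rw [a_eq T (σ 1) (σ 6), e_1_6] <;> omega
  · rw [a_eq T (σ 1) (σ 7), e_1_7] <;> omega
  · rw [a_eq T (σ 1) (σ 8), e_1_8] <;> omega
  · rw [(h2 (σ 2)).2] <;> omega
  · rw [a_eq T (σ 2) (σ 3), e_2_3] <;> omega
  · rw [a_eq T (σ 2) (σ 4), e_2_4] <;> omega
  · rw [a_eq T (σ 2) (σ 5), e_2_5] <;> omega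
  · rw [a_eq T (σ 2) (σ 6), e_2_6] <;> omega
  · rw [a_eq T (σ 2) (σ 7), e_2_7] <;> omega
  · rw [a_eq T (σ 2) (σ 8), e_2_8] <;> omega
  · rw [(h2 (σ 3)).2] <;> omega
  · rw [a_eq T (σ 3) (σ 4), e_3_4] <;> omega
  · rw [a_eq T (σ 3) (σ 5), e_3_5] <;> omega
  · rw [a_eq T (σ 3) (σ 6), e_3_6] <;> omega
  · rw [a_eq T (σ 3) (σ 7), e_3_7] <;> omega
  · rw [a_eq T (σ 3) (σ 8), e_3_8] <;> omega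
  · rw [(h2 (σ 4)).2] <;> omega
  · rw [a_eq T (σ 4) (σ 5), e_4_5] <;> omega
  · rw [a_eq T (σ 4) (σ 6), e_4_6] <;> omega
  · rw [a_eq T (σ 4) (σ 7), e_4_7] <;> omega
  · rw [a_eq T (σ 4) (σ 8), e_4_8] <;> omega
  · rw [(h2 (σ 5)).2] <;> omega
  · rw [a_eq T (σ 5) (σ 6), e_5_6] <;> omega
  · rw [a_eq T (σ 5) (σ 7), e_5_7] <;> omega
  · rw [a_eq T (σ 5) (σ 8), e_5_8] <;> omega
  · rw [(h2 (σ 6)).2] <;> omega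
  · rw [a_eq T (σ 6) (σ 7), e_6_7] <;> omega
  · rw [a_eq T (σ 6) (σ 8), e_6_8] <;> omega
  · rw [(h2 (σ 7)).2] <;> omega
  · rw [a_eq T (σ 7) (σ 8), e_7_8] <;> omega
  · rw [(h2 (σ 8)).2] <;> omega

theorem case9_7 (T : Models.NumericalType 9) (h2 : ∀ i, T.IsMinusTwo i) (σ : Equiv.Perm (Fin 9))
    (hσ : ∀ i j : Fin 9, i ≠ j → bmat T (σ i) (σ j) = (canonEnt N9.canon 7 i.val j.val : ℤ))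
    (m w : ℤ) (hm : m = T.m (σ 0)) (hw : w = T.w (σ 0)) :
    (T.m (σ 0) = m ∧ T.m (σ 1) = 2 * m ∧ T.m (σ 2) = 3 * m ∧ T.m (σ 3) = 4 * m ∧ T.m (σ 4) = 5 * m ∧ T.m (σ 5) = 6 * m ∧ T.m (σ 6) = 4 * m ∧ T.m (σ 7) = 2 * m ∧ T.m (σ 8) = 3 * m ∧ T.w (σ 0) = w ∧ T.w (σ 1) = w ∧ T.w (σ 2) = w ∧ T.w (σ 3) = w ∧ T.w (σ 4) = w ∧ T.w (σ 5) = w ∧ T.w (σ 6) = w ∧ T.w (σ 7) = w ∧ T.w (σ 8) = w ∧ T.a (σ 0) (σ 0) = -2 * w ∧ T.a (σ 0) (σ 1) = w ∧ T.a (σ 0) (σ 2) = 0 ∧ T.a (σ 0) (σ 3) = 0 ∧ T.a (σ 0) (σ 4) = 0 ∧ T.a (σ 0) (σ 5) = 0 ∧ T.a (σ 0) (σ 6) = 0 ∧ T.a (σ 0) (σ 7) = 0 ∧ T.a (σ 0) (σ 8) = 0 ∧ T.a (σ 1) (σ 1) = -2 * w ∧ T.a (σ 1) (σ 2) = w ∧ T.a (σ 1) (σ 3) = 0 ∧ T.a (σ 1) (σ 4) = 0 ∧ T.a (σ 1) (σ 5) = 0 ∧ T.a (σ 1) (σ 6) = 0 ∧ T.a (σ 1) (σ 7) = 0 ∧ T.a (σ 1) (σ 8) = 0 ∧ T.a (σ 2) (σ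 2) = -2 * w ∧ T.a (σ 2) (σ 3) = w ∧ T.a (σ 2) (σ 4) = 0 ∧ T.a (σ 2) (σ 5) = 0 ∧ T.a (σ 2) (σ 6) = 0 ∧ T.a (σ 2) (σ 7) = 0 ∧ T.a (σ 2) (σ 8) = 0 ∧ T.a (σ 3) (σ 3) = -2 * w ∧ T.a (σ 3) (σ 4) = w ∧ T.a (σ 3) (σ 5) = 0 ∧ T.a (σ 3) (σ 6) = 0 ∧ T.a (σ 3) (σ 7) = 0 ∧ T.a (σ 3) (σ 8) = 0 ∧ T.a (σ 4) (σ 4) = -2 * w ∧ T.a (σ 4) (σ 5) = w ∧ T.a (σ 4) (σ 6) = 0 ∧ T.a (σ 4) (σ 7) = 0 ∧ T.a (σ 4) (σ 8) = 0 ∧ T.a (σ 5) (σ 5) = -2 * w ∧ T.a (σ 5) (σ 6) = w ∧ T.a (σ 5) (σ 7) = 0 ∧ T.a (σ 5) (σ 8) = w ∧ T.a (σ 6) (σ 6) = -2 * w ∧ T.a (σ 6) (σ 7) = w ∧ T.a (σ 6) (σ 8) = 0 ∧ T.a (σ 7) (σ 7) = -2 * w ∧ T.a (σ 7) (σ 8) = 0 ∧ T.a (σ 8) (σ 8) = -2 * w) := by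
  subst hm hw
  have e_0_0 : bmat T (σ 0) (σ 0) = -2 := (ofType T h2).diag (σ 0)
  have e_0_1 : bmat T (σ 0) (σ 1) = 1 := (hσ 0 1 (by decide)).trans (by rfl)
  have e_0_2 : bmat T (σ 0) (σ 2) = 0 := (hσ 0 2 (by decide)).trans (by rfl)
  have e_0_3 : bmat T (σ 0) (σ 3) = 0 := (hσ 0 3 (by decide)).trans (by rfl)
  have e_0_4 : bmat T (σ 0) (σ 4) = 0 := (hσ 0 4 (by decide)).trans (by rfl)
  have e_0_5 : bmat T (σ 0) (σ 5) = 0 := (hσ 0 5 (by decide)).trans (by rfl)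
  have e_0_6 : bmat T (σ 0) (σ 6) = 0 := (hσ 0 6 (by decide)).trans (by rfl)
  have e_0_7 : bmat T (σ 0) (σ 7) = 0 := (hσ 0 7 (by decide)).trans (by rfl)
  have e_0_8 : bmat T (σ 0) (σ 8) = 0 := (hσ 0 8 (by decide)).trans (by rfl)
  have e_1_0 : bmat T (σ 1) (σ 0) = 1 := (hσ 1 0 (by decide)).trans (by rfl)
  have e_1_1 : bmat T (σ 1) (σ 1) = -2 := (ofType T h2).diag (σ 1)
  have e_1_2 : bmat T (σ 1) (σ 2) = 1 := (hσ 1 2 (by decide)).trans (by rfl)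
  have e_1_3 : bmat T (σ 1) (σ 3) = 0 := (hσ 1 3 (by decide)).trans (by rfl)
  have e_1_4 : bmat T (σ 1) (σ 4) = 0 := (hσ 1 4 (by decide)).trans (by rfl)
  have e_1_5 : bmat T (σ 1) (σ 5) = 0 := (hσ 1 5 (by decide)).trans (by rfl)
  have e_1_6 : bmat T (σ 1) (σ 6) = 0 := (hσ 1 6 (by decide)).trans (by rfl)
  have e_1_7 : bmat T (σ 1) (σ 7) = 0 := (hσ 1 7 (by decide)).trans (by rfl)
  have e_1_8 : bmat T (σ 1) (σ 8) = 0 := (hσ 1 8 (by decide)).trans (by rfl)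
  have e_2_0 : bmat T (σ 2) (σ 0) = 0 := (hσ 2 0 (by decide)).trans (by rfl)
  have e_2_1 : bmat T (σ 2) (σ 1) = 1 := (hσ 2 1 (by decide)).trans (by rfl)
  have e_2_2 : bmat T (σ 2) (σ 2) = -2 := (ofType T h2).diag (σ 2)
  have e_2_3 : bmat T (σ 2) (σ 3) = 1 := (hσ 2 3 (by decide)).trans (by rfl)
  have e_2_4 : bmat T (σ 2) (σ 4) = 0 := (hσ 2 4 (by decide)).trans (by rfl)
  have e_2_5 : bmat T (σ 2) (σ 5) = 0 := (hσ 2 5 (by decide)).trans (by rfl)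
  have e_2_6 : bmat T (σ 2) (σ 6) = 0 := (hσ 2 6 (by decide)).trans (by rfl)
  have e_2_7 : bmat T (σ 2) (σ 7) = 0 := (hσ 2 7 (by decide)).trans (by rfl)
  have e_2_8 : bmat T (σ 2) (σ 8) = 0 := (hσ 2 8 (by decide)).trans (by rfl)
  have e_3_0 : bmat T (σ 3) (σ 0) = 0 := (hσ 3 0 (by decide)).trans (by rfl)
  have e_3_1 : bmat T (σ 3) (σ 1) = 0 := (hσ 3 1 (by decide)).trans (by rfl)
  have e_3_2 : bmat T (σ 3) (σ 2) = 1 := (hσ 3 2 (by decide)).trans (by rfl)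
  have e_3_3 : bmat T (σ 3) (σ 3) = -2 := (ofType T h2).diag (σ 3)
  have e_3_4 : bmat T (σ 3) (σ 4) = 1 := (hσ 3 4 (by decide)).trans (by rfl)
  have e_3_5 : bmat T (σ 3) (σ 5) = 0 := (hσ 3 5 (by decide)).trans (by rfl)
  have e_3_6 : bmat T (σ 3) (σ 6) = 0 := (hσ 3 6 (by decide)).trans (by rfl)
  have e_3_7 : bmat T (σ 3) (σ 7) = 0 := (hσ 3 7 (by decide)).trans (by rfl)
  have e_3_8 : bmat T (σ 3) (σ 8) = 0 := (hσ 3 8 (by decide)).trans (by rfl)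
  have e_4_0 : bmat T (σ 4) (σ 0) = 0 := (hσ 4 0 (by decide)).trans (by rfl)
  have e_4_1 : bmat T (σ 4) (σ 1) = 0 := (hσ 4 1 (by decide)).trans (by rfl)
  have e_4_2 : bmat T (σ 4) (σ 2) = 0 := (hσ 4 2 (by decide)).trans (by rfl)
  have e_4_3 : bmat T (σ 4) (σ 3) = 1 := (hσ 4 3 (by decide)).trans (by rfl)
  have e_4_4 : bmat T (σ 4) (σ 4) = -2 := (ofType T h2).diag (σ 4)
  have e_4_5 : bmat T (σ 4) (σ 5) = 1 := (hσ 4 5 (by decide)).trans (by rfl)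
  have e_4_6 : bmat T (σ 4) (σ 6) = 0 := (hσ 4 6 (by decide)).trans (by rfl)
  have e_4_7 : bmat T (σ 4) (σ 7) = 0 := (hσ 4 7 (by decide)).trans (by rfl)
  have e_4_8 : bmat T (σ 4) (σ 8) = 0 := (hσ 4 8 (by decide)).trans (by rfl)
  have e_5_0 : bmat T (σ 5) (σ 0) = 0 := (hσ 5 0 (by decide)).trans (by rfl)
  have e_5_1 : bmat T (σ 5) (σ 1) = 0 := (hσ 5 1 (by decide)).trans (by rfl)
  have e_5_2 : bmat T (σ 5) (σ 2) = 0 := (hσ 5 2 (by decide)).trans (by rfl)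
  have e_5_3 : bmat T (σ 5) (σ 3) = 0 := (hσ 5 3 (by decide)).trans (by rfl)
  have e_5_4 : bmat T (σ 5) (σ 4) = 1 := (hσ 5 4 (by decide)).trans (by rfl)
  have e_5_5 : bmat T (σ 5) (σ 5) = -2 := (ofType T h2).diag (σ 5)
  have e_5_6 : bmat T (σ 5) (σ 6) = 1 := (hσ 5 6 (by decide)).trans (by rfl)
  have e_5_7 : bmat T (σ 5) (σ 7) = 0 := (hσ 5 7 (by decide)).trans (by rfl)
  have e_5_8 : bmat T (σ 5) (σ 8) = 1 := (hσ 5 8 (by decide)).trans (by rfl)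
  have e_6_0 : bmat T (σ 6) (σ 0) = 0 := (hσ 6 0 (by decide)).trans (by rfl)
  have e_6_1 : bmat T (σ 6) (σ 1) = 0 := (hσ 6 1 (by decide)).trans (by rfl)
  have e_6_2 : bmat T (σ 6) (σ 2) = 0 := (hσ 6 2 (by decide)).trans (by rfl)
  have e_6_3 : bmat T (σ 6) (σ 3) = 0 := (hσ 6 3 (by decide)).trans (by rfl)
  have e_6_4 : bmat T (σ 6) (σ 4) = 0 := (hσ 6 4 (by decide)).trans (by rfl)
  have e_6_5 : bmat T (σ 6) (σ 5) = 1 := (hσ 6 5 (by decide)).trans (by rfl)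
  have e_6_6 : bmat T (σ 6) (σ 6) = -2 := (ofType T h2).diag (σ 6)
  have e_6_7 : bmat T (σ 6) (σ 7) = 1 := (hσ 6 7 (by decide)).trans (by rfl)
  have e_6_8 : bmat T (σ 6) (σ 8) = 0 := (hσ 6 8 (by decide)).trans (by rfl)
  have e_7_0 : bmat T (σ 7) (σ 0) = 0 := (hσ 7 0 (by decide)).trans (by rfl)
  have e_7_1 : bmat T (σ 7) (σ 1) = 0 := (hσ 7 1 (by decide)).trans (by rfl)
  have e_7_2 : bmat T (σ 7) (σ 2) = 0 := (hσ 7 2 (by decide)).trans (by rfl)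
  have e_7_3 : bmat T (σ 7) (σ 3) = 0 := (hσ 7 3 (by decide)).trans (by rfl)
  have e_7_4 : bmat T (σ 7) (σ 4) = 0 := (hσ 7 4 (by decide)).trans (by rfl)
  have e_7_5 : bmat T (σ 7) (σ 5) = 0 := (hσ 7 5 (by decide)).trans (by rfl)
  have e_7_6 : bmat T (σ 7) (σ 6) = 1 := (hσ 7 6 (by decide)).trans (by rfl)
  have e_7_7 : bmat T (σ 7) (σ 7) = -2 := (ofType T h2).diag (σ 7)
  have e_7_8 : bmat T (σ 7) (σ 8) = 0 := (hσ 7 8 (by decide)).trans (by rfl)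
  have e_8_0 : bmat T (σ 8) (σ 0) = 0 := (hσ 8 0 (by decide)).trans (by rfl)
  have e_8_1 : bmat T (σ 8) (σ 1) = 0 := (hσ 8 1 (by decide)).trans (by rfl)
  have e_8_2 : bmat T (σ 8) (σ 2) = 0 := (hσ 8 2 (by decide)).trans (by rfl)
  have e_8_3 : bmat T (σ 8) (σ 3) = 0 := (hσ 8 3 (by decide)).trans (by rfl)
  have e_8_4 : bmat T (σ 8) (σ 4) = 0 := (hσ 8 4 (by decide)).trans (by rfl)
  have e_8_5 : bmat T (σ 8) (σ 5) = 1 := (hσ 8 5 (by decide)).trans (by rfl)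
  have e_8_6 : bmat T (σ 8) (σ 6) = 0 := (hσ 8 6 (by decide)).trans (by rfl)
  have e_8_7 : bmat T (σ 8) (σ 7) = 0 := (hσ 8 7 (by decide)).trans (by rfl)
  have e_8_8 : bmat T (σ 8) (σ 8) = -2 := (ofType T h2).diag (σ 8)
  have r_0 := row_reindex T h2 σ 0
  rw [sum_fin9, e_0_0, e_0_1, e_0_2, e_0_3, e_0_4, e_0_5, e_0_6, e_0_7, e_0_8] at r_0
  have r_1 := row_reindex T h2 σ 1
  rw [sum_fin9, e_1_0, e_1_1, e_1_2, e_1_3, e_1_4, e_1_5, e_1_6, e_1_7, e_1_8] at r_1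
  have r_2 := row_reindex T h2 σ 2
  rw [sum_fin9, e_2_0, e_2_1, e_2_2, e_2_3, e_2_4, e_2_5, e_2_6, e_2_7, e_2_8] at r_2
  have r_3 := row_reindex T h2 σ 3
  rw [sum_fin9, e_3_0, e_3_1, e_3_2, e_3_3, e_3_4, e_3_5, e_3_6, e_3_7, e_3_8] at r_3
  have r_4 := row_reindex T h2 σ 4
  rw [sum_fin9, e_4_0, e_4_1, e_4_2, e_4_3, e_4_4, e_4_5, e_4_6, e_4_7, e_4_8] at r_4
  have r_5 := row_reindex T h2 σ 5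
  rw [sum_fin9, e_5_0, e_5_1, e_5_2, e_5_3, e_5_4, e_5_5, e_5_6, e_5_7, e_5_8] at r_5
  have r_6 := row_reindex T h2 σ 6
  rw [sum_fin9, e_6_0, e_6_1, e_6_2, e_6_3, e_6_4, e_6_5, e_6_6, e_6_7, e_6_8] at r_6
  have r_7 := row_reindex T h2 σ 7
  rw [sum_fin9, e_7_0, e_7_1, e_7_2, e_7_3, e_7_4, e_7_5, e_7_6, e_7_7, e_7_8] at r_7
  have r_8 := row_reindex T h2 σ 8
  rw [sum_fin9, e_8_0, e_8_1, e_8_2, e_8_3, e_8_4, e_8_5, e_8_6, e_8_7, e_8_8] at r_8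
  have hM_0 : T.m (σ 0) = T.m (σ 0) := by omega
  have hM_1 : T.m (σ 1) = 2 * T.m (σ 0) := by omega
  have hM_2 : T.m (σ 2) = 3 * T.m (σ 0) := by omega
  have hM_3 : T.m (σ 3) = 4 * T.m (σ 0) := by omega
  have hM_4 : T.m (σ 4) = 5 * T.m (σ 0) := by omega
  have hM_5 : T.m (σ 5) = 6 * T.m (σ 0) := by omega
  have hM_6 : T.m (σ 6) = 4 * T.m (σ 0) := by omega
  have hM_7 : T.m (σ 7) = 2 * T.m (σ 0) := by omega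
  have hM_8 : T.m (σ 8) = 3 * T.m (σ 0) := by omega
  have s_0_1 := symz_bmat T (σ 0) (σ 1)
  rw [e_0_1, e_1_0] at s_0_1
  have s_1_2 := symz_bmat T (σ 1) (σ 2)
  rw [e_1_2, e_2_1] at s_1_2
  have s_2_3 := symz_bmat T (σ 2) (σ 3)
  rw [e_2_3, e_3_2] at s_2_3
  have s_3_4 := symz_bmat T (σ 3) (σ 4)
  rw [e_3_4, e_4_3] at s_3_4
  have s_4_5 := symz_bmat T (σ 4) (σ 5)
  rw [e_4_5, e_5_4] at s_4_5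
  have s_5_6 := symz_bmat T (σ 5) (σ 6)
  rw [e_5_6, e_6_5] at s_5_6
  have s_5_8 := symz_bmat T (σ 5) (σ 8)
  rw [e_5_8, e_8_5] at s_5_8
  have s_6_7 := symz_bmat T (σ 6) (σ 7)
  rw [e_6_7, e_7_6] at s_6_7
  have hW_0 : T.w (σ 0) = T.w (σ 0) := by omega
  have hW_1 : T.w (σ 1) = T.w (σ 0) := by omega
  have hW_2 : T.w (σ 2) = T.w (σ 0) := by omega
  have hW_3 : T.w (σ 3) = T.w (σ 0) := by omega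
  have hW_4 : T.w (σ 4) = T.w (σ 0) := by omega
  have hW_5 : T.w (σ 5) = T.w (σ 0) := by omega
  have hW_6 : T.w (σ 6) = T.w (σ 0) := by omega
  have hW_7 : T.w (σ 7) = T.w (σ 0) := by omega
  have hW_8 : T.w (σ 8) = T.w (σ 0) := by omega
  refine ⟨?_, ?_, ?_, ?_, ?_, ?_, ?_, ?_, ?_, ?_, ?_, ?_, ?_, ?_, ?_, ?_, ?_, ?_, ?_, ?_, ?_, ?_, ?_, ?_, ?_, ?_, ?_, ?_, ?_, ?_, ?_, ?_, ?_, ?_, ?_, ?_, ?_, ?_, ?_, ?_, ?_, ?_, ?_, ?_, ?_, ?_, ?_, ?_, ?_, ?_, ?_, ?_, ?_, ?_, ?_, ?_, ?_, ?_, ?_, ?_, ?_, ?_, ?_⟩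
  · exact hM_0
  · exact hM_1
  · exact hM_2
  · exact hM_3
  · exact hM_4
  · exact hM_5
  · exact hM_6
  · exact hM_7
  · exact hM_8
  · exact hW_0
  · exact hW_1
  · exact hW_2
  · exact hW_3
  · exact hW_4
  · exact hW_5
  · exact hW_6
  · exact hW_7
  · exact hW_8
  · rw [(h2 (σ 0)).2] <;> omega
  · rw [a_eq T (σ 0) (σ 1), e_0_1] <;> omega
  · rw [a_eq T (σ 0) (σ 2), e_0_2] <;> omega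
  · rw [a_eq T (σ 0) (σ 3), e_0_3] <;> omega
  · rw [a_eq T (σ 0) (σ 4), e_0_4] <;> omega
  · rw [a_eq T (σ 0) (σ 5), e_0_5] <;> omega
  · rw [a_eq T (σ 0) (σ 6), e_0_6] <;> omega
  · rw [a_eq T (σ 0) (σ 7), e_0_7] <;> omega
  · rw [a_eq T (σ 0) (σ 8), e_0_8] <;> omega
  · rw [(h2 (σ 1)).2] <;> omega
  · rw [a_eq T (σ 1) (σ 2), e_1_2] <;> omega
  · rw [a_eq T (σ 1) (σ 3), e_1_3] <;> omega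
  · rw [a_eq T (σ 1) (σ 4), e_1_4] <;> omega
  · rw [a_eq T (σ 1) (σ 5), e_1_5] <;> omega
  · rw [a_eq T (σ 1) (σ 6), e_1_6] <;> omega
  · rw [a_eq T (σ 1) (σ 7), e_1_7] <;> omega
  · rw [a_eq T (σ 1) (σ 8), e_1_8] <;> omega
  · rw [(h2 (σ 2)).2] <;> omega
  · rw [a_eq T (σ 2) (σ 3), e_2_3] <;> omega
  · rw [a_eq T (σ 2) (σ 4), e_2_4] <;> omega
  · rw [a_eq T (σ 2) (σ 5), e_2_5] <;> omega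
  · rw [a_eq T (σ 2) (σ 6), e_2_6] <;> omega
  · rw [a_eq T (σ 2) (σ 7), e_2_7] <;> omega
  · rw [a_eq T (σ 2) (σ 8), e_2_8] <;> omega
  · rw [(h2 (σ 3)).2] <;> omega
  · rw [a_eq T (σ 3) (σ 4), e_3_4] <;> omega
  · rw [a_eq T (σ 3) (σ 5), e_3_5] <;> omega
  · rw [a_eq T (σ 3) (σ 6), e_3_6] <;> omega
  · rw [a_eq T (σ 3) (σ 7), e_3_7] <;> omega
  · rw [a_eq T (σ 3) (σ 8), e_3_8] <;> omega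
  · rw [(h2 (σ 4)).2] <;> omega
  · rw [a_eq T (σ 4) (σ 5), e_4_5] <;> omega
  · rw [a_eq T (σ 4) (σ 6), e_4_6] <;> omega
  · rw [a_eq T (σ 4) (σ 7), e_4_7] <;> omega
  · rw [a_eq T (σ 4) (σ 8), e_4_8] <;> omega
  · rw [(h2 (σ 5)).2] <;> omega
  · rw [a_eq T (σ 5) (σ 6), e_5_6] <;> omega
  · rw [a_eq T (σ 5) (σ 7), e_5_7] <;> omega
  · rw [a_eq T (σ 5) (σ 8), e_5_8] <;> omega
  · rw [(h2 (σ 6)).2] <;> omega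
  · rw [a_eq T (σ 6) (σ 7), e_6_7] <;> omega
  · rw [a_eq T (σ 6) (σ 8), e_6_8] <;> omega
  · rw [(h2 (σ 7)).2] <;> omega
  · rw [a_eq T (σ 7) (σ 8), e_7_8] <;> omega
  · rw [(h2 (σ 8)).2] <;> omega

theorem main9 (T : Models.NumericalType 9) (hmin : T.IsMinimal) (hg : T.genus = 1) :
    (∀ i, T.g i = 0) ∧ ∃ (σ : Equiv.Perm (Fin 9)) (m w : ℤ),
      ((T.m (σ 0) = m ∧ T.m (σ 1) = m ∧ T.m (σ 2) = m ∧ T.m (σ 3) = m ∧ T.m (σ 4) = m ∧ T.m (σ 5) = m ∧ T.m (σ 6) = m ∧ T.m (σ 7) = m ∧ T.m (σ 8) = m ∧ T.w (σ 0) = w ∧ T.w (σ 1) = w ∧ T.w (σ 2) = w ∧ T.w (σ 3) = w ∧ T.w (σ 4) = w ∧ T.w (σ 5) = w ∧ T.w (σ 6) = w ∧ T.w (σ 7) = w ∧ T.w (σ 8) = w ∧ T.a (σ 0) (σ 0) = -2 * w ∧ T.a (σ 0) (σ 1) = w ∧ T.a (σ 0) (σ 2) = 0 ∧ T.a (σ 0) (σ 3) = 0 ∧ T.a (σ 0) (σ 4) = 0 ∧ T.a (σ 0) (σ 5) = 0 ∧ T.a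 (σ 0) (σ 6) = 0 ∧ T.a (σ 0) (σ 7) = 0 ∧ T.a (σ 0) (σ 8) = w ∧ T.a (σ 1) (σ 1) = -2 * w ∧ T.a (σ 1) (σ 2) = w ∧ T.a (σ 1) (σ 3) = 0 ∧ T.a (σ 1) (σ 4) = 0 ∧ T.a (σ 1) (σ 5) = 0 ∧ T.a (σ 1) (σ 6) = 0 ∧ T.a (σ 1) (σ 7) = 0 ∧ T.a (σ 1) (σ 8) = 0 ∧ T.a (σ 2) (σ 2) = -2 * w ∧ T.a (σ 2) (σ 3) = w ∧ T.a (σ 2) (σ 4) = 0 ∧ T.a (σ 2) (σ 5) = 0 ∧ T.a (σ 2) (σ 6) = 0 ∧ T.a (σ 2) (σ 7) = 0 ∧ T.a (σ 2) (σ 8) = 0 ∧ T.a (σ 3) (σ 3) = -2 * w ∧ T.a (σ 3) (σ 4) = w ∧ T.a (σ 3) (σ 5) = 0 ∧ T.a (σ 3) (σ 6) = 0 ∧ T.a (σ 3) (σ 7) = 0 ∧ T.a (σ 3) (σ 8) = 0 ∧ T.a (σ 4) (σ 4) = -2 * w ∧ T.a (σ 4) (σ 5) = w ∧ T.a (σ 4) (σ 6) = 0 ∧ T.a (σ 4) (σ 7) = 0 ∧ T.a (σ 4) (σ 8) = 0 ∧ T.a (σ 5) (σ 5) = -2 * w ∧ T.a (σ 5) (σ 6) = w ∧ T.a (σ 5) (σ 7) = 0 ∧ T.a (σ 5) (σ 8) = 0 ∧ T.a (σ 6) (σ 6) = -2 * w ∧ T.a (σ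 6) (σ 7) = w ∧ T.a (σ 6) (σ 8) = 0 ∧ T.a (σ 7) (σ 7) = -2 * w ∧ T.a (σ 7) (σ 8) = w ∧ T.a (σ 8) (σ 8) = -2 * w) ∨
      (T.m (σ 0) = 2 * m ∧ T.m (σ 1) = 2 * m ∧ T.m (σ 2) = 2 * m ∧ T.m (σ 3) = 2 * m ∧ T.m (σ 4) = 2 * m ∧ T.m (σ 5) = 2 * m ∧ T.m (σ 6) = 2 * m ∧ T.m (σ 7) = 2 * m ∧ T.m (σ 8) = m ∧ T.w (σ 0) = w ∧ T.w (σ 1) = 2 * w ∧ T.w (σ 2) = 2 * w ∧ T.w (σ 3) = 2 * w ∧ T.w (σ 4) = 2 * w ∧ T.w (σ 5) = 2 * w ∧ T.w (σ 6) = 2 * w ∧ T.w (σ 7) = 2 * w ∧ T.w (σ 8) = 4 * w ∧ T.a (σ 0) (σ 0) = -2 * w ∧ T.a (σ 0) (σ 1) = 2 * w ∧ T.a (σ 0) (σ 2) = 0 ∧ T.a (σ 0) (σ 3) = 0 ∧ T.a (σ 0) (σ 4) = 0 ∧ T.a (σ 0) (σ 5) = 0 ∧ T.a (σ 0) (σ 6) = 0 ∧ T.a (σ 0) (σ 7) = 0 ∧ T.a (σ 0) (σ 8) = 0 ∧ T.a (σ 1) (σ 1) = -4 * w ∧ T.a (σ 1) (σ 2) = 2 * w ∧ T.a (σ 1) (σ 3) = 0 ∧ T.a (σ 1) (σ 4) = 0 ∧ T.a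 (σ 1) (σ 5) = 0 ∧ T.a (σ 1) (σ 6) = 0 ∧ T.a (σ 1) (σ 7) = 0 ∧ T.a (σ 1) (σ 8) = 0 ∧ T.a (σ 2) (σ 2) = -4 * w ∧ T.a (σ 2) (σ 3) = 2 * w ∧ T.a (σ 2) (σ 4) = 0 ∧ T.a (σ 2) (σ 5) = 0 ∧ T.a (σ 2) (σ 6) = 0 ∧ T.a (σ 2) (σ 7) = 0 ∧ T.a (σ 2) (σ 8) = 0 ∧ T.a (σ 3) (σ 3) = -4 * w ∧ T.a (σ 3) (σ 4) = 2 * w ∧ T.a (σ 3) (σ 5) = 0 ∧ T.a (σ 3) (σ 6) = 0 ∧ T.a (σ 3) (σ 7) = 0 ∧ T.a (σ 3) (σ 8) = 0 ∧ T.a (σ 4) (σ 4) = -4 * w ∧ T.a (σ 4) (σ 5) = 2 * w ∧ T.a (σ 4) (σ 6) = 0 ∧ T.a (σ 4) (σ 7) = 0 ∧ T.a (σ 4) (σ 8) = 0 ∧ T.a (σ 5) (σ 5) = -4 * w ∧ T.a (σ 5) (σ 6) = 2 * w ∧ T.a (σ 5) (σ 7) = 0 ∧ T.a (σ 5) (σ 8) = 0 ∧ T.a (σ 6) (σ 6) = -4 * w ∧ T.a (σ 6) (σ 7) = 2 * w ∧ T.a (σ 6) (σ 8) = 0 ∧ T.a (σ 7) (σ 7) = -4 * w ∧ T.a (σ 7) (σ 8) = 4 * w ∧ T.a (σ 8) (σ 8) = -8 * w) ∨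
      (T.m (σ 0) = m ∧ T.m (σ 1) = m ∧ T.m (σ 2) = m ∧ T.m (σ 3) = m ∧ T.m (σ 4) = m ∧ T.m (σ 5) = m ∧ T.m (σ 6) = m ∧ T.m (σ 7) = m ∧ T.m (σ 8) = m ∧ T.w (σ 0) = w ∧ T.w (σ 1) = 2 * w ∧ T.w (σ 2) = 2 * w ∧ T.w (σ 3) = 2 * w ∧ T.w (σ 4) = 2 * w ∧ T.w (σ 5) = 2 * w ∧ T.w (σ 6) = 2 * w ∧ T.w (σ 7) = 2 * w ∧ T.w (σ 8) = w ∧ T.a (σ 0) (σ 0) = -2 * w ∧ T.a (σ 0) (σ 1) = 2 * w ∧ T.a (σ 0) (σ 2) = 0 ∧ T.a (σ 0) (σ 3) = 0 ∧ T.a (σ 0) (σ 4) = 0 ∧ T.a (σ 0) (σ 5) = 0 ∧ T.a (σ 0) (σ 6) = 0 ∧ T.a (σ 0) (σ 7) = 0 ∧ T.a (σ 0) (σ 8) = 0 ∧ T.a (σ 1) (σ 1) = -4 * w ∧ T.a (σ 1) (σ 2) = 2 * w ∧ T.a (σ 1) (σ 3) = 0 ∧ T.a (σ 1) (σ 4) = 0 ∧ T.a (σ 1) (σ 5) = 0 ∧ T.a (σ 1) (σ 6) = 0 ∧ T.a (σ 1) (σ 7) = 0 ∧ T.a (σ 1) (σ 8) = 0 ∧ T.a (σ 2) (σ 2) = -4 * w ∧ T.a (σ 2) (σ 3) = 2 * w ∧ T.a (σ 2) (σ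 4) = 0 ∧ T.a (σ 2) (σ 5) = 0 ∧ T.a (σ 2) (σ 6) = 0 ∧ T.a (σ 2) (σ 7) = 0 ∧ T.a (σ 2) (σ 8) = 0 ∧ T.a (σ 3) (σ 3) = -4 * w ∧ T.a (σ 3) (σ 4) = 2 * w ∧ T.a (σ 3) (σ 5) = 0 ∧ T.a (σ 3) (σ 6) = 0 ∧ T.a (σ 3) (σ 7) = 0 ∧ T.a (σ 3) (σ 8) = 0 ∧ T.a (σ 4) (σ 4) = -4 * w ∧ T.a (σ 4) (σ 5) = 2 * w ∧ T.a (σ 4) (σ 6) = 0 ∧ T.a (σ 4) (σ 7) = 0 ∧ T.a (σ 4) (σ 8) = 0 ∧ T.a (σ 5) (σ 5) = -4 * w ∧ T.a (σ 5) (σ 6) = 2 * w ∧ T.a (σ 5) (σ 7) = 0 ∧ T.a (σ 5) (σ 8) = 0 ∧ T.a (σ 6) (σ 6) = -4 * w ∧ T.a (σ 6) (σ 7) = 2 * w ∧ T.a (σ 6) (σ 8) = 0 ∧ T.a (σ 7) (σ 7) = -4 * w ∧ T.a (σ 7) (σ 8) = 2 * w ∧ T.a (σ 8) (σ 8) = -2 * w) ∨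
      (T.m (σ 0) = m ∧ T.m (σ 1) = 2 * m ∧ T.m (σ 2) = 2 * m ∧ T.m (σ 3) = 2 * m ∧ T.m (σ 4) = 2 * m ∧ T.m (σ 5) = 2 * m ∧ T.m (σ 6) = 2 * m ∧ T.m (σ 7) = 2 * m ∧ T.m (σ 8) = m ∧ T.w (σ 0) = 2 * w ∧ T.w (σ 1) = w ∧ T.w (σ 2) = w ∧ T.w (σ 3) = w ∧ T.w (σ 4) = w ∧ T.w (σ 5) = w ∧ T.w (σ 6) = w ∧ T.w (σ 7) = w ∧ T.w (σ 8) = 2 * w ∧ T.a (σ 0) (σ 0) = -4 * w ∧ T.a (σ 0) (σ 1) = 2 * w ∧ T.a (σ 0) (σ 2) = 0 ∧ T.a (σ 0) (σ 3) = 0 ∧ T.a (σ 0) (σ 4) = 0 ∧ T.a (σ 0) (σ 5) = 0 ∧ T.a (σ 0) (σ 6) = 0 ∧ T.a (σ 0) (σ 7) = 0 ∧ T.a (σ 0) (σ 8) = 0 ∧ T.a (σ 1) (σ 1) = -2 * w ∧ T.a (σ 1) (σ 2) = w ∧ T.a (σ 1) (σ 3) = 0 ∧ T.a (σ 1) (σ 4) = 0 ∧ T.a (σ 1) (σ 5) = 0 ∧ T.a (σ 1) (σ 6) = 0 ∧ T.a (σ 1) (σ 7) = 0 ∧ T.a (σ 1) (σ 8) = 0 ∧ T.a (σ 2) (σ 2) = -2 * w ∧ T.a (σ 2) (σ 3) = w ∧ T.a (σ 2) (σ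 4) = 0 ∧ T.a (σ 2) (σ 5) = 0 ∧ T.a (σ 2) (σ 6) = 0 ∧ T.a (σ 2) (σ 7) = 0 ∧ T.a (σ 2) (σ 8) = 0 ∧ T.a (σ 3) (σ 3) = -2 * w ∧ T.a (σ 3) (σ 4) = w ∧ T.a (σ 3) (σ 5) = 0 ∧ T.a (σ 3) (σ 6) = 0 ∧ T.a (σ 3) (σ 7) = 0 ∧ T.a (σ 3) (σ 8) = 0 ∧ T.a (σ 4) (σ 4) = -2 * w ∧ T.a (σ 4) (σ 5) = w ∧ T.a (σ 4) (σ 6) = 0 ∧ T.a (σ 4) (σ 7) = 0 ∧ T.a (σ 4) (σ 8) = 0 ∧ T.a (σ 5) (σ 5) = -2 * w ∧ T.a (σ 5) (σ 6) = w ∧ T.a (σ 5) (σ 7) = 0 ∧ T.a (σ 5) (σ 8) = 0 ∧ T.a (σ 6) (σ 6) = -2 * w ∧ T.a (σ 6) (σ 7) = w ∧ T.a (σ 6) (σ 8) = 0 ∧ T.a (σ 7) (σ 7) = -2 * w ∧ T.a (σ 7) (σ 8) = 2 * w ∧ T.a (σ 8) (σ 8) = -4 * w) ∨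
      (T.m (σ 0) = m ∧ T.m (σ 1) = 2 * m ∧ T.m (σ 2) = 2 * m ∧ T.m (σ 3) = 2 * m ∧ T.m (σ 4) = 2 * m ∧ T.m (σ 5) = 2 * m ∧ T.m (σ 6) = 2 * m ∧ T.m (σ 7) = m ∧ T.m (σ 8) = m ∧ T.w (σ 0) = 2 * w ∧ T.w (σ 1) = w ∧ T.w (σ 2) = w ∧ T.w (σ 3) = w ∧ T.w (σ 4) = w ∧ T.w (σ 5) = w ∧ T.w (σ 6) = w ∧ T.w (σ 7) = w ∧ T.w (σ 8) = w ∧ T.a (σ 0) (σ 0) = -4 * w ∧ T.a (σ 0) (σ 1) = 2 * w ∧ T.a (σ 0) (σ 2) = 0 ∧ T.a (σ 0) (σ 3) = 0 ∧ T.a (σ 0) (σ 4) = 0 ∧ T.a (σ 0) (σ 5) = 0 ∧ T.a (σ 0) (σ 6) = 0 ∧ T.a (σ 0) (σ 7) = 0 ∧ T.a (σ 0) (σ 8) = 0 ∧ T.a (σ 1) (σ 1) = -2 * w ∧ T.a (σ 1) (σ 2) = w ∧ T.a (σ 1) (σ 3) = 0 ∧ T.a (σ 1) (σ 4) = 0 ∧ T.a (σ 1) (σ 5) = 0 ∧ T.a (σ 1) (σ 6) = 0 ∧ T.a (σ 1) (σ 7) = 0 ∧ T.a (σ 1) (σ 8) = 0 ∧ T.a (σ 2) (σ 2) = -2 * w ∧ T.a (σ 2) (σ 3) = w ∧ T.a (σ 2) (σ 4) = 0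 ∧ T.a (σ 2) (σ 5) = 0 ∧ T.a (σ 2) (σ 6) = 0 ∧ T.a (σ 2) (σ 7) = 0 ∧ T.a (σ 2) (σ 8) = 0 ∧ T.a (σ 3) (σ 3) = -2 * w ∧ T.a (σ 3) (σ 4) = w ∧ T.a (σ 3) (σ 5) = 0 ∧ T.a (σ 3) (σ 6) = 0 ∧ T.a (σ 3) (σ 7) = 0 ∧ T.a (σ 3) (σ 8) = 0 ∧ T.a (σ 4) (σ 4) = -2 * w ∧ T.a (σ 4) (σ 5) = w ∧ T.a (σ 4) (σ 6) = 0 ∧ T.a (σ 4) (σ 7) = 0 ∧ T.a (σ 4) (σ 8) = 0 ∧ T.a (σ 5) (σ 5) = -2 * w ∧ T.a (σ 5) (σ 6) = w ∧ T.a (σ 5) (σ 7) = 0 ∧ T.a (σ 5) (σ 8) = 0 ∧ T.a (σ 6) (σ 6) = -2 * w ∧ T.a (σ 6) (σ 7) = w ∧ T.a (σ 6) (σ 8) = w ∧ T.a (σ 7) (σ 7) = -2 * w ∧ T.a (σ 7) (σ 8) = 0 ∧ T.a (σ 8) (σ 8) = -2 * w) ∨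
      (T.m (σ 0) = 2 * m ∧ T.m (σ 1) = 2 * m ∧ T.m (σ 2) = 2 * m ∧ T.m (σ 3) = 2 * m ∧ T.m (σ 4) = 2 * m ∧ T.m (σ 5) = 2 * m ∧ T.m (σ 6) = 2 * m ∧ T.m (σ 7) = m ∧ T.m (σ 8) = m ∧ T.w (σ 0) = w ∧ T.w (σ 1) = 2 * w ∧ T.w (σ 2) = 2 * w ∧ T.w (σ 3) = 2 * w ∧ T.w (σ 4) = 2 * w ∧ T.w (σ 5) = 2 * w ∧ T.w (σ 6) = 2 * w ∧ T.w (σ 7) = 2 * w ∧ T.w (σ 8) = 2 * w ∧ T.a (σ 0) (σ 0) = -2 * w ∧ T.a (σ 0) (σ 1) = 2 * w ∧ T.a (σ 0) (σ 2) = 0 ∧ T.a (σ 0) (σ 3) = 0 ∧ T.a (σ 0) (σ 4) = 0 ∧ T.a (σ 0) (σ 5) = 0 ∧ T.a (σ 0) (σ 6) = 0 ∧ T.a (σ 0) (σ 7) = 0 ∧ T.a (σ 0) (σ 8) = 0 ∧ T.a (σ 1) (σ 1) = -4 * w ∧ T.a (σ 1) (σ 2) = 2 * w ∧ T.a (σ 1) (σ 3) = 0 ∧ T.a (σ 1) (σ 4) = 0 ∧ T.a (σ 1) (σ 5) = 0 ∧ T.a (σ 1) (σ 6) = 0 ∧ T.a (σ 1) (σ 7) = 0 ∧ T.a (σ 1) (σ 8) = 0 ∧ T.a (σ 2) (σ 2) = -4 * w ∧ T.a (σ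 2) (σ 3) = 2 * w ∧ T.a (σ 2) (σ 4) = 0 ∧ T.a (σ 2) (σ 5) = 0 ∧ T.a (σ 2) (σ 6) = 0 ∧ T.a (σ 2) (σ 7) = 0 ∧ T.a (σ 2) (σ 8) = 0 ∧ T.a (σ 3) (σ 3) = -4 * w ∧ T.a (σ 3) (σ 4) = 2 * w ∧ T.a (σ 3) (σ 5) = 0 ∧ T.a (σ 3) (σ 6) = 0 ∧ T.a (σ 3) (σ 7) = 0 ∧ T.a (σ 3) (σ 8) = 0 ∧ T.a (σ 4) (σ 4) = -4 * w ∧ T.a (σ 4) (σ 5) = 2 * w ∧ T.a (σ 4) (σ 6) = 0 ∧ T.a (σ 4) (σ 7) = 0 ∧ T.a (σ 4) (σ 8) = 0 ∧ T.a (σ 5) (σ 5) = -4 * w ∧ T.a (σ 5) (σ 6) = 2 * w ∧ T.a (σ 5) (σ 7) = 0 ∧ T.a (σ 5) (σ 8) = 0 ∧ T.a (σ 6) (σ 6) = -4 * w ∧ T.a (σ 6) (σ 7) = 2 * w ∧ T.a (σ 6) (σ 8) = 2 * w ∧ T.a (σ 7) (σ 7) = -4 * w ∧ T.a (σ 7) (σ 8) = 0 ∧ T.a (σ 8) (σ 8) = -4 * w) ∨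
      (T.m (σ 0) = m ∧ T.m (σ 1) = m ∧ T.m (σ 2) = 2 * m ∧ T.m (σ 3) = 2 * m ∧ T.m (σ 4) = 2 * m ∧ T.m (σ 5) = 2 * m ∧ T.m (σ 6) = 2 * m ∧ T.m (σ 7) = m ∧ T.m (σ 8) = m ∧ T.w (σ 0) = w ∧ T.w (σ 1) = w ∧ T.w (σ 2) = w ∧ T.w (σ 3) = w ∧ T.w (σ 4) = w ∧ T.w (σ 5) = w ∧ T.w (σ 6) = w ∧ T.w (σ 7) = w ∧ T.w (σ 8) = w ∧ T.a (σ 0) (σ 0) = -2 * w ∧ T.a (σ 0) (σ 1) = 0 ∧ T.a (σ 0) (σ 2) = w ∧ T.a (σ 0) (σ 3) = 0 ∧ T.a (σ 0) (σ 4) = 0 ∧ T.a (σ 0) (σ 5) = 0 ∧ T.a (σ 0) (σ 6) = 0 ∧ T.a (σ 0) (σ 7) = 0 ∧ T.a (σ 0) (σ 8) = 0 ∧ T.a (σ 1) (σ 1) = -2 * w ∧ T.a (σ 1) (σ 2) = w ∧ T.a (σ 1) (σ 3) = 0 ∧ T.a (σ 1) (σ 4) = 0 ∧ T.a (σ 1) (σ 5) = 0 ∧ T.a (σ 1) (σ 6) = 0 ∧ T.a (σ 1) (σ 7) = 0 ∧ T.a (σ 1) (σ 8) = 0 ∧ T.a (σ 2) (σ 2) = -2 * w ∧ T.a (σ 2) (σ 3) = w ∧ T.a (σ 2) (σ 4) = 0 ∧ T.a (σ 2)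 (σ 5) = 0 ∧ T.a (σ 2) (σ 6) = 0 ∧ T.a (σ 2) (σ 7) = 0 ∧ T.a (σ 2) (σ 8) = 0 ∧ T.a (σ 3) (σ 3) = -2 * w ∧ T.a (σ 3) (σ 4) = w ∧ T.a (σ 3) (σ 5) = 0 ∧ T.a (σ 3) (σ 6) = 0 ∧ T.a (σ 3) (σ 7) = 0 ∧ T.a (σ 3) (σ 8) = 0 ∧ T.a (σ 4) (σ 4) = -2 * w ∧ T.a (σ 4) (σ 5) = w ∧ T.a (σ 4) (σ 6) = 0 ∧ T.a (σ 4) (σ 7) = 0 ∧ T.a (σ 4) (σ 8) = 0 ∧ T.a (σ 5) (σ 5) = -2 * w ∧ T.a (σ 5) (σ 6) = w ∧ T.a (σ 5) (σ 7) = 0 ∧ T.a (σ 5) (σ 8) = 0 ∧ T.a (σ 6) (σ 6) = -2 * w ∧ T.a (σ 6) (σ 7) = w ∧ T.a (σ 6) (σ 8) = w ∧ T.a (σ 7) (σ 7) = -2 * w ∧ T.a (σ 7) (σ 8) = 0 ∧ T.a (σ 8) (σ 8) = -2 * w) ∨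
      (T.m (σ 0) = m ∧ T.m (σ 1) = 2 * m ∧ T.m (σ 2) = 3 * m ∧ T.m (σ 3) = 4 * m ∧ T.m (σ 4) = 5 * m ∧ T.m (σ 5) = 6 * m ∧ T.m (σ 6) = 4 * m ∧ T.m (σ 7) = 2 * m ∧ T.m (σ 8) = 3 * m ∧ T.w (σ 0) = w ∧ T.w (σ 1) = w ∧ T.w (σ 2) = w ∧ T.w (σ 3) = w ∧ T.w (σ 4) = w ∧ T.w (σ 5) = w ∧ T.w (σ 6) = w ∧ T.w (σ 7) = w ∧ T.w (σ 8) = w ∧ T.a (σ 0) (σ 0) = -2 * w ∧ T.a (σ 0) (σ 1) = w ∧ T.a (σ 0) (σ 2) = 0 ∧ T.a (σ 0) (σ 3) = 0 ∧ T.a (σ 0) (σ 4) = 0 ∧ T.a (σ 0) (σ 5) = 0 ∧ T.a (σ 0) (σ 6) = 0 ∧ T.a (σ 0) (σ 7) = 0 ∧ T.a (σ 0) (σ 8) = 0 ∧ T.a (σ 1) (σ 1) = -2 * w ∧ T.a (σ 1) (σ 2) = w ∧ T.a (σ 1) (σ 3) = 0 ∧ T.a (σ 1) (σ 4) = 0 ∧ T.a (σ 1) (σ 5) = 0 ∧ T.a (σ 1) (σ 6) = 0 ∧ T.a (σ 1) (σ 7) = 0 ∧ T.a (σ 1) (σ 8) = 0 ∧ T.a (σ 2) (σ 2) = -2 * w ∧ T.a (σ 2) (σ 3) = w ∧ T.a (σ 2) (σ 4) = 0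 ∧ T.a (σ 2) (σ 5) = 0 ∧ T.a (σ 2) (σ 6) = 0 ∧ T.a (σ 2) (σ 7) = 0 ∧ T.a (σ 2) (σ 8) = 0 ∧ T.a (σ 3) (σ 3) = -2 * w ∧ T.a (σ 3) (σ 4) = w ∧ T.a (σ 3) (σ 5) = 0 ∧ T.a (σ 3) (σ 6) = 0 ∧ T.a (σ 3) (σ 7) = 0 ∧ T.a (σ 3) (σ 8) = 0 ∧ T.a (σ 4) (σ 4) = -2 * w ∧ T.a (σ 4) (σ 5) = w ∧ T.a (σ 4) (σ 6) = 0 ∧ T.a (σ 4) (σ 7) = 0 ∧ T.a (σ 4) (σ 8) = 0 ∧ T.a (σ 5) (σ 5) = -2 * w ∧ T.a (σ 5) (σ 6) = w ∧ T.a (σ 5) (σ 7) = 0 ∧ T.a (σ 5) (σ 8) = w ∧ T.a (σ 6) (σ 6) = -2 * w ∧ T.a (σ 6) (σ 7) = w ∧ T.a (σ 6) (σ 8) = 0 ∧ T.a (σ 7) (σ 7) = -2 * w ∧ T.a (σ 7) (σ 8) = 0 ∧ T.a (σ 8) (σ 8) = -2 * w)) := by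
  have h2 := nt_genus_one_minusTwo T (by norm_num) hmin hg
  refine ⟨fun i => (h2 i).1, ?_⟩
  obtain ⟨idx, hidx, σ, hσ⟩ := classify N9.canon N9.tree N9.tree_ok (ofType T h2) (by norm_num)
  have hidx' : idx < 8 := hidx
  interval_cases idx
  · exact ⟨σ, _, _, Or.inl (case9_0 T h2 σ hσ _ _ rfl rfl)⟩
  · exact ⟨σ, _, _, Or.inr (Or.inl (case9_1 T h2 σ hσ _ _ rfl rfl))⟩
  · exact ⟨σ, _, _, Or.inr (Or.inr (Or.inl (case9_2 T h2 σ hσ _ _ rfl rfl)))⟩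
  · exact ⟨σ, _, _, Or.inr (Or.inr (Or.inr (Or.inl (case9_3 T h2 σ hσ _ _ rfl rfl))))⟩
  · exact ⟨σ, _, _, Or.inr (Or.inr (Or.inr (Or.inr (Or.inl (case9_4 T h2 σ hσ _ _ rfl rfl)))))⟩
  · exact ⟨σ, _, _, Or.inr (Or.inr (Or.inr (Or.inr (Or.inr (Or.inl (case9_5 T h2 σ hσ _ _ rfl rfl))))))⟩
  · exact ⟨σ, _, _, Or.inr (Or.inr (Or.inr (Or.inr (Or.inr (Or.inr (Or.inl (case9_6 T h2 σ hσ _ _ rfl rfl)))))))⟩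
  · exact ⟨σ, _, _, Or.inr (Or.inr (Or.inr (Or.inr (Or.inr (Or.inr (Or.inr (case9_7 T h2 σ hσ _ _ rfl rfl)))))))⟩

end Groth.Agent.H79.Aff
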