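import Groth.Agent.H79.AffOrder

/-!
# A certificate checker for the classification of affine data

The pairs `(b j k, b k j)` with `j < k` are listed in the order `(0,1); (0,2), (1,2); (0,3), …`,
the pair `(j, k)` at position `tri k + j`.  A node of the search is the list `dec` of the
values decided so far.  A certificate tree tells the checker how to dispose of every node.
-/

set_option autoImplicit false
set_option linter.unusedVariables false

namespace Groth.Agent.H79.Aff

open Finset

abbrev PV := ℕ × ℕ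

def tri (k : ℕ) : ℕ := k * (k - 1) / 2

theorem tri_succ (k : ℕ) : tri (k + 1) = tri k + k := by
  unfold tri
  cases k with
  | zero => rfl
  | succ m =>
    have h : (m + 1 + 1) * (m + 1 + 1 - 1) = (m + 1) * (m + 1 - 1) + (m + 1) * 2 := by
      simp only [Nat.add_sub_cancel]
      ring
    rw [h, Nat.add_mul_div_right _ _ (by norm_num : 0 < 2)]

theorem tri_mono {a b : ℕ} (h : a ≤ b) : tri a ≤ tri b := by
  induction b with
  | zero =>
    have : a = 0 := by omega
    rw [this]
  | succ b ih =>
    rcases Nat.lt_or_ge a (b + 1) with h1 | h1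
    · have := ih (by omega)
      rw [tri_succ]
      omega
    · have : a = b + 1 := by omega
      rw [this]

theorem tri_pos_lt {j k m : ℕ} (hjk : j < k) (hkm : k < m) : tri k + j < tri m := by
  have h1 : tri (k + 1) ≤ tri m := tri_mono (by omega)
  rw [tri_succ] at h1
  omega

theorem tri_decode : ∀ (n t : ℕ), t < tri n → ∃ k j, j < k ∧ k < n ∧ tri k + j = t := by
  intro n
  induction n with
  | zero => intro t h; simp [tri] at h
  | succ n ih =>
    intro t h
    rw [tri_succ] at h
    by_cases h1 : t < tri n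
    · obtain ⟨k, j, hjk, hkn, e⟩ := ih t h1
      exact ⟨k, j, hjk, by omega, e⟩
    · exact ⟨n, t - tri n, by omega, by omega, by omega⟩

theorem tri_inj {j k j' k' : ℕ} (hjk : j < k) (hjk' : j' < k') (h : tri k + j = tri k' + j') :
    j = j' ∧ k = k' := by
  have key : ∀ {j k j' k' : ℕ}, j < k → j' < k' → tri k + j = tri k' + j' → ¬ k < k' := by
    intro j k j' k' hjk hjk' h hlt
    have h1 : tri (k + 1) ≤ tri k' := tri_mono (by omega)
    rw [tri_succ] at h1
    omega
  have h1 := key hjk hjk' h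
  have h2 := key hjk' hjk h.symm
  have hk : k = k' := by omega
  subst hk
  exact ⟨by omega, rfl⟩

/-- off-diagonal entry of the partial matrix given by the decided pairs -/
def entN (dec : List PV) (i j : ℕ) : ℕ :=
  if i < j then (dec.getD (tri j + i) (0, 0)).1 else (dec.getD (tri i + j) (0, 0)).2

def offN (n : ℕ) (dec : List PV) (c : List ℕ) (i : ℕ) : ℕ :=
  ((List.range n).map (fun j => if j = i then 0 else entN dec i j * c.getD j 0)).sum

def certOK (n : ℕ) (dec : List PV) (c : List ℕ) : Bool :=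
  (List.range n).all (fun i => decide (c.getD i 0 = 0) || decide (2 * c.getD i 0 ≤ offN n dec c i)) &&
  (((List.range n).any (fun i => decide (c.getD i 0 = 0)) &&
    (List.range n).any (fun i => decide (c.getD i 0 ≠ 0))) ||
   (List.range n).any (fun i => decide (2 * c.getD i 0 < offN n dec c i)))

def finOK (n : ℕ) (dec : List PV) (c : List ℕ) : Bool :=
  (List.range n).all (fun i => decide (offN n dec c i ≤ 2 * c.getD i 0)) &&
  (List.range n).any (fun i => decide (offN n dec c i < 2 * c.getD i 0))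

def canonEnt (canon : List (List (List ℕ))) (idx i j : ℕ) : ℕ :=
  ((canon.getD idx []).getD i []).getD j 0

def nodupB : List ℕ → Bool
  | [] => true
  | x :: xs => xs.all (fun y => decide (y ≠ x)) && nodupB xs

theorem nodupB_sound : ∀ l : List ℕ, nodupB l = true → l.Nodup := by
  intro l
  induction l with
  | nil => intro _; exact List.nodup_nil
  | cons x xs ih =>
    intro h
    simp only [nodupB, Bool.and_eq_true, List.all_eq_true, decide_eq_true_eq] at h
    rw [List.nodup_cons]
    refine ⟨fun hx => h.1 x hx rfl, ih h.2⟩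

def leafOK (n : ℕ) (canon : List (List (List ℕ))) (dec : List PV) (idx : ℕ) (τ : List ℕ) : Bool :=
  decide (idx < canon.length) && decide (τ.length = n) && τ.all (fun x => decide (x < n)) &&
  nodupB τ &&
  (List.range n).all (fun i => (List.range n).all (fun j =>
    decide (i = j) || decide (entN dec (τ.getD i 0) (τ.getD j 0) = canonEnt canon idx i j)))

def skipZOK (dec : List PV) (k : ℕ) : Bool :=
  decide (1 ≤ k) && decide (tri (k + 1) ≤ dec.length) &&
  (List.range k).all (fun j => decide (dec.getD (tri k + j) (0, 0) = (0, 0)))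

def skipBOK (dec : List PV) (k k' j : ℕ) : Bool :=
  decide (j < k') && decide (k' < k) && decide (tri k + j < dec.length) &&
  decide (dec.getD (tri k + j) (0, 0) ≠ (0, 0)) &&
  (List.range (j + 1)).all (fun j' => decide (dec.getD (tri k' + j') (0, 0) = (0, 0)))

def splitSOK (dec : List PV) (k k' j : ℕ) : Bool :=
  decide (j < k') && decide (k' < k) && decide (tri k + j = dec.length) &&
  (List.range (j + 1)).all (fun j' => decide (dec.getD (tri k' + j') (0, 0) = (0, 0)))

/-- certificate trees -/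
inductive HTree
  | cert (c : List ℕ)
  | fin (c : List ℕ)
  | leaf (idx : ℕ) (τ : List ℕ)
  | skipZ (k : ℕ)
  | skipB (k k' j : ℕ)
  | split (t0 t1 t2 t3 t4 t5 t6 t7 t8 : HTree)
  | splitA (t0 : HTree) (c : List ℕ)
  | splitB (t0 t1 : HTree) (c12 c21 : List ℕ)
  | splitS (t0 : HTree) (k k' j : ℕ)

def chk (n : ℕ) (canon : List (List (List ℕ))) : HTree → List PV → Bool
  | .cert c, dec => certOK n dec c
  | .fin c, dec => decide (dec.length = tri n) && finOK n dec c
  | .leaf idx τ, dec => decide (dec.length = tri n) && leafOK n canon dec idx τ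
  | .skipZ k, dec => decide (k < n) && skipZOK dec k
  | .skipB k k' j, dec => decide (k < n) && skipBOK dec k k' j
  | .split t0 t1 t2 t3 t4 t5 t6 t7 t8, dec =>
      decide (dec.length < tri n) &&
      chk n canon t0 (dec ++ [(0, 0)]) && chk n canon t1 (dec ++ [(1, 1)]) &&
      chk n canon t2 (dec ++ [(1, 2)]) && chk n canon t3 (dec ++ [(2, 1)]) &&
      chk n canon t4 (dec ++ [(1, 3)]) && chk n canon t5 (dec ++ [(3, 1)]) &&
      chk n canon t6 (dec ++ [(1, 4)]) && chk n canon t7 (dec ++ [(4, 1)]) &&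
      chk n canon t8 (dec ++ [(2, 2)])
  | .splitA t0 c, dec =>
      decide (dec.length < tri n) && chk n canon t0 (dec ++ [(0, 0)]) &&
      certOK n (dec ++ [(1, 1)]) c
  | .splitB t0 t1 c12 c21, dec =>
      decide (dec.length < tri n) && chk n canon t0 (dec ++ [(0, 0)]) &&
      chk n canon t1 (dec ++ [(1, 1)]) &&
      certOK n (dec ++ [(1, 2)]) c12 && certOK n (dec ++ [(2, 1)]) c21
  | .splitS t0 k k' j, dec =>
      decide (dec.length < tri n) && decide (k < n) && splitSOK dec k k' j &&
      chk n canon t0 (dec ++ [(0, 0)])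

/-! ### Semantics -/

variable {n : ℕ}

/-- the matrix `b` extended by zero to all natural indices -/
def AffData.bn (D : AffData n) (i j : ℕ) : ℤ :=
  if h : i < n ∧ j < n then D.b ⟨i, h.1⟩ ⟨j, h.2⟩ else 0

theorem AffData.bn_fin (D : AffData n) (i j : Fin n) : D.bn i.val j.val = D.b i j := by
  unfold AffData.bn
  rw [dif_pos ⟨i.isLt, j.isLt⟩]

/-- the value of the pair `(j, k)` -/
def AffData.pv (D : AffData n) (j k : ℕ) : PV := ((D.bn j k).toNat, (D.bn k j).toNat)

/-- the decided values are those of `D` -/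
def Ext (D : AffData n) (dec : List PV) : Prop :=
  ∀ j k : ℕ, j < k → k < n → tri k + j < dec.length → dec.getD (tri k + j) (0, 0) = D.pv j k

theorem ext_nil (D : AffData n) : Ext D [] := by
  intro j k _ _ h
  simp at h

theorem ext_snoc (D : AffData n) (dec : List PV) (hext : Ext D dec) {j k : ℕ} (hjk : j < k)
    (hkn : k < n) (hpos : tri k + j = dec.length) : Ext D (dec ++ [D.pv j k]) := by
  intro j' k' hjk' hkn' hlt
  rw [List.length_append, List.length_singleton] at hlt
  by_cases h : tri k' + j' < dec.length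
  · rw [List.getD_append _ _ _ _ h]
    exact hext j' k' hjk' hkn' h
  · have he : tri k' + j' = dec.length := by omega
    obtain ⟨rfl, rfl⟩ := tri_inj hjk' hjk (he.trans hpos.symm)
    rw [List.getD_append_right _ _ _ _ (by omega), he]
    simp

theorem entN_le (D : AffData n) (dec : List PV) (hext : Ext D dec) (i j : Fin n) (hij : i ≠ j) :
    (entN dec i.val j.val : ℤ) ≤ D.b i j := by
  have hij' : i.val ≠ j.val := fun h => hij (Fin.ext h)
  have hb := D.nonneg i j hij
  unfold entN
  by_cases h : i.val < j.val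
  · rw [if_pos h]
    by_cases hd : tri j.val + i.val < dec.length
    · rw [hext i.val j.val h j.isLt hd]
      simp only [AffData.pv, D.bn_fin]
      rw [Int.toNat_of_nonneg hb]
    · rw [List.getD_eq_default _ _ (by omega)]
      simpa using hb
  · rw [if_neg h]
    have h' : j.val < i.val := by omega
    by_cases hd : tri i.val + j.val < dec.length
    · rw [hext j.val i.val h' i.isLt hd]
      simp only [AffData.pv, D.bn_fin]
      rw [Int.toNat_of_nonneg hb]
    · rw [List.getD_eq_default _ _ (by omega)]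
      simpa using hb

theorem entN_eq (D : AffData n) (dec : List PV) (hext : Ext D dec) (hlen : dec.length = tri n)
    (i j : Fin n) (hij : i ≠ j) : (entN dec i.val j.val : ℤ) = D.b i j := by
  have hij' : i.val ≠ j.val := fun h => hij (Fin.ext h)
  have hb := D.nonneg i j hij
  unfold entN
  by_cases h : i.val < j.val
  · rw [if_pos h]
    have hd : tri j.val + i.val < dec.length := by rw [hlen]; exact tri_pos_lt h j.isLt
    rw [hext i.val j.val h j.isLt hd]
    simp only [AffData.pv, D.bn_fin]
    rw [Int.toNat_of_nonneg hb]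
  · rw [if_neg h]
    have h' : j.val < i.val := by omega
    have hd : tri i.val + j.val < dec.length := by rw [hlen]; exact tri_pos_lt h' i.isLt
    rw [hext j.val i.val h' i.isLt hd]
    simp only [AffData.pv, D.bn_fin]
    rw [Int.toNat_of_nonneg hb]

theorem sum_fin_eq_range (n : ℕ) (F : ℕ → ℤ) :
    ∑ j : Fin n, F j.val = ((List.range n).map F).sum := by
  rw [Fin.sum_univ_eq_sum_range (fun j => F j) n]
  induction n with
  | zero => simp
  | succ n ih =>
    rw [Finset.sum_range_succ, ih, List.range_succ, List.map_append, List.sum_append]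
    simp

theorem offN_cast (dec : List PV) (c : List ℕ) (i : Fin n) :
    ((offN n dec c i.val : ℕ) : ℤ) =
      AffData.off (fun i j : Fin n => (entN dec i.val j.val : ℤ)) (fun j => (c.getD j.val 0 : ℤ)) i := by
  unfold offN AffData.off
  rw [Nat.cast_list_sum, List.map_map]
  have hfun : (Nat.cast ∘ fun j => if j = i.val then 0 else entN dec i.val j * c.getD j 0) =
      (fun j => if j = i.val then (0 : ℤ) else (entN dec i.val j : ℤ) * (c.getD j 0 : ℤ)) := by
    funext j
    simp only [Function.comp]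
    split_ifs
    · rfl
    · push_cast
      rfl
  rw [hfun, ← sum_fin_eq_range]
  apply Finset.sum_congr rfl
  intro j _
  by_cases hj : j = i
  · subst hj
    simp
  · have hj' : j.val ≠ i.val := fun h => hj (Fin.ext h)
    rw [if_neg hj, if_neg hj']

theorem certOK_false' (D : AffData n) (dec : List PV)
    (hle : ∀ i j : Fin n, i ≠ j → (entN dec i.val j.val : ℤ) ≤ D.b i j) (c : List ℕ)
    (h : certOK n dec c = true) : False := by
  unfold certOK at h
  simp only [Bool.and_eq_true, Bool.or_eq_true, List.all_eq_true, List.any_eq_true,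
    List.mem_range, decide_eq_true_eq] at h
  obtain ⟨hrow, hstrict⟩ := h
  refine D.cert_false (fun i j : Fin n => (entN dec i.val j.val : ℤ))
    (fun i j hij => hle i j hij) (fun j => (c.getD j.val 0 : ℤ))
    (fun i => by positivity) ?_ ?_
  · intro i
    rw [← offN_cast]
    rcases hrow i.val i.isLt with h0 | h0
    · show 2 * ((c.getD i.val 0 : ℕ) : ℤ) ≤ _
      rw [h0]
      simp
    · exact_mod_cast h0
  · rcases hstrict with ⟨⟨k, hk, hk0⟩, ⟨k', hk', hk'0⟩⟩ | ⟨i, hi, hlt⟩
    · right
      refine ⟨⟨⟨k, hk⟩, ?_⟩, ⟨⟨k', hk'⟩, ?_⟩⟩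
      · show ((c.getD k 0 : ℕ) : ℤ) = 0
        rw [hk0]
        rfl
      · show ((c.getD k' 0 : ℕ) : ℤ) ≠ 0
        exact_mod_cast hk'0
    · left
      refine ⟨⟨i, hi⟩, ?_⟩
      rw [← offN_cast]
      exact_mod_cast hlt

theorem certOK_false (D : AffData n) (dec : List PV) (hext : Ext D dec) (c : List ℕ)
    (h : certOK n dec c = true) : False :=
  certOK_false' D dec (fun i j hij => entN_le D dec hext i j hij) c h

theorem entN_snoc_mono (dec : List PV) {x y x' y' : ℕ} (hx : x ≤ x') (hy : y ≤ y') (i j : ℕ) :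
    entN (dec ++ [(x, y)]) i j ≤ entN (dec ++ [(x', y')]) i j := by
  have key : ∀ t : ℕ, ((dec ++ [(x, y)]).getD t (0, 0)).1 ≤ ((dec ++ [(x', y')]).getD t (0, 0)).1 ∧
      ((dec ++ [(x, y)]).getD t (0, 0)).2 ≤ ((dec ++ [(x', y')]).getD t (0, 0)).2 := by
    intro t
    rcases Nat.lt_trichotomy t dec.length with h | h | h
    · rw [List.getD_append _ _ _ _ h, List.getD_append _ _ _ _ h]
      exact ⟨le_rfl, le_rfl⟩
    · rw [List.getD_append_right _ _ _ _ (by omega), List.getD_append_right _ _ _ _ (by omega), h]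
      simp [hx, hy]
    · rw [List.getD_eq_default _ _ (by simp; omega), List.getD_eq_default _ _ (by simp; omega)]
      exact ⟨le_rfl, le_rfl⟩
  unfold entN
  split_ifs
  · exact (key _).1
  · exact (key _).2

theorem snoc_le (D : AffData n) (dec : List PV) (hext : Ext D dec) {j k : ℕ} (hjk : j < k)
    (hkn : k < n) (hpos : tri k + j = dec.length) {x y : ℕ} (hx : x ≤ (D.pv j k).1)
    (hy : y ≤ (D.pv j k).2) (i' j' : Fin n) (hij : i' ≠ j') :
    (entN (dec ++ [(x, y)]) i'.val j'.val : ℤ) ≤ D.b i' j' := by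
  have hext' := ext_snoc D dec hext hjk hkn hpos
  have h1 := entN_le D _ hext' i' j' hij
  have h2 : entN (dec ++ [(x, y)]) i'.val j'.val ≤ entN (dec ++ [D.pv j k]) i'.val j'.val :=
    entN_snoc_mono dec hx hy _ _
  have h3 : (entN (dec ++ [(x, y)]) i'.val j'.val : ℤ) ≤ (entN (dec ++ [D.pv j k]) i'.val j'.val : ℤ) := by
    exact_mod_cast h2
  exact le_trans h3 h1

theorem off_congr (L L' : Fin n → Fin n → ℤ) (hL : ∀ i j, i ≠ j → L i j = L' i j)
    (c : Fin n → ℤ) (i : Fin n) : AffData.off L c i = AffData.off L' c i := by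
  unfold AffData.off
  apply Finset.sum_congr rfl
  intro j _
  by_cases hj : j = i
  · simp [hj]
  · rw [if_neg hj, if_neg hj, hL i j (Ne.symm hj)]

theorem finOK_false (D : AffData n) (dec : List PV) (hext : Ext D dec)
    (hlen : dec.length = tri n) (c : List ℕ) (h : finOK n dec c = true) : False := by
  unfold finOK at h
  simp only [Bool.and_eq_true, List.all_eq_true, List.any_eq_true,
    List.mem_range, decide_eq_true_eq] at h
  obtain ⟨hrow, ⟨i, hi, hlt⟩⟩ := h
  have hcongr := off_congr (fun i j : Fin n => (entN dec i.val j.val : ℤ)) D.b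
    (fun i j hij => entN_eq D dec hext hlen i j hij) (fun j => (c.getD j.val 0 : ℤ))
  refine D.fin_false (fun j => (c.getD j.val 0 : ℤ)) ?_ ?_
  · intro i
    rw [← hcongr, ← offN_cast]
    have := hrow i.val i.isLt
    exact_mod_cast this
  · refine ⟨⟨i, hi⟩, ?_⟩
    rw [← hcongr, ← offN_cast]
    exact_mod_cast hlt

/-- the conclusion: `b` is one of the canonical matrices up to a permutation -/
def Concl (n : ℕ) (canon : List (List (List ℕ))) (D : AffData n) : Prop :=
  ∃ idx, idx < canon.length ∧ ∃ τ : Equiv.Perm (Fin n),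
    ∀ i j : Fin n, i ≠ j → D.b (τ i) (τ j) = (canonEnt canon idx i.val j.val : ℤ)

theorem leafOK_concl (canon : List (List (List ℕ))) (D : AffData n) (dec : List PV)
    (hext : Ext D dec) (hlen : dec.length = tri n) (idx : ℕ) (τ : List ℕ)
    (h : leafOK n canon dec idx τ = true) : Concl n canon D := by
  unfold leafOK at h
  simp only [Bool.and_eq_true, Bool.or_eq_true, List.all_eq_true, List.mem_range,
    decide_eq_true_eq] at h
  obtain ⟨⟨⟨⟨hidx, hτlen⟩, hτlt⟩, hτnd⟩, hent⟩ := h
  have hnd := nodupB_sound τ hτnd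
  have hget : ∀ i : Fin n, τ.getD i.val 0 = τ[i.val]'(by rw [hτlen]; exact i.isLt) := fun i =>
    List.getD_eq_getElem _ _ _
  have hlt : ∀ i : Fin n, τ.getD i.val 0 < n := by
    intro i
    rw [hget]
    exact hτlt _ (List.getElem_mem _)
  let f : Fin n → Fin n := fun i => ⟨τ.getD i.val 0, hlt i⟩
  have hf : Function.Injective f := by
    intro i j hij
    have h1 : τ.getD i.val 0 = τ.getD j.val 0 := congrArg Fin.val hij
    rw [hget, hget] at h1
    exact Fin.ext ((List.Nodup.getElem_inj_iff hnd).mp h1)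
  let σ : Equiv.Perm (Fin n) := Equiv.ofBijective f (Finite.injective_iff_bijective.mp hf)
  refine ⟨idx, hidx, σ, ?_⟩
  intro i j hij
  have hσ : ∀ i, σ i = f i := fun i => rfl
  have hne : σ i ≠ σ j := fun h => hij (σ.injective h)
  rw [← entN_eq D dec hext hlen (σ i) (σ j) hne]
  have h1 := hent i.val i.isLt j.val j.isLt
  rcases h1 with h1 | h1
  · exact absurd (Fin.ext h1) hij
  · rw [hσ, hσ]
    show ((entN dec (τ.getD i.val 0) (τ.getD j.val 0) : ℕ) : ℤ) = _
    rw [h1]

theorem pv_eq_zero_iff (D : AffData n) {j k : ℕ} (hjk : j < k) (hkn : k < n) :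
    D.pv j k = (0, 0) ↔ D.b ⟨j, by omega⟩ ⟨k, hkn⟩ = 0 := by
  have hne : (⟨j, by omega⟩ : Fin n) ≠ ⟨k, hkn⟩ := fun h => by
    have := congrArg Fin.val h
    simp at this
    omega
  have h1 := D.nonneg _ _ hne
  have h2 := D.nonneg _ _ (Ne.symm hne)
  have hz := D.b_zero_iff ⟨j, by omega⟩ ⟨k, hkn⟩
  have e1 : D.bn j k = D.b ⟨j, by omega⟩ ⟨k, hkn⟩ := D.bn_fin ⟨j, by omega⟩ ⟨k, hkn⟩
  have e2 : D.bn k j = D.b ⟨k, hkn⟩ ⟨j, by omega⟩ := D.bn_fin ⟨k, hkn⟩ ⟨j, by omega⟩
  unfold AffData.pv
  rw [e1, e2, Prod.mk.injEq]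
  constructor
  · rintro ⟨h, _⟩
    have := Int.toNat_eq_zero.mp h
    omega
  · intro h
    rw [h, hz.mp h]
    simp

theorem skipZ_false (D : AffData n) (hbfs : D.IsBFS) (dec : List PV) (hext : Ext D dec) (k : ℕ)
    (hk : k < n) (h : skipZOK dec k = true) : False := by
  unfold skipZOK at h
  simp only [Bool.and_eq_true, List.all_eq_true, List.mem_range, decide_eq_true_eq] at h
  obtain ⟨⟨h1, hlen⟩, hall⟩ := h
  obtain ⟨j, hj, hb⟩ := hbfs.1 ⟨k, hk⟩ h1
  have hjk : j.val < k := hj
  have hd : tri k + j.val < dec.length := by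
    rw [tri_succ] at hlen
    omega
  have h2 := hext j.val k hjk hk hd
  rw [hall j.val hjk] at h2
  exact hb ((pv_eq_zero_iff D hjk hk).mp h2.symm)

theorem skipB_false (D : AffData n) (hbfs : D.IsBFS) (dec : List PV) (hext : Ext D dec)
    (k k' j : ℕ) (hk : k < n) (h : skipBOK dec k k' j = true) : False := by
  unfold skipBOK at h
  simp only [Bool.and_eq_true, List.all_eq_true, List.mem_range, decide_eq_true_eq] at h
  obtain ⟨⟨⟨⟨hjk', hk'k⟩, hd⟩, hnz⟩, hall⟩ := h
  have hjk : j < k := by omega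
  have h2 := hext j k hjk hk hd
  have hb : D.b ⟨j, by omega⟩ ⟨k, hk⟩ ≠ 0 := by
    intro h0
    apply hnz
    rw [h2]
    exact (pv_eq_zero_iff D hjk hk).mpr h0
  obtain ⟨j', hj', hb'⟩ := hbfs.2 ⟨j, by omega⟩ ⟨k', by omega⟩ ⟨k, hk⟩ hjk' hk'k hb
  have hj'j : j'.val ≤ j := hj'
  have hj'k' : j'.val < k' := by omega
  have hd' : tri k' + j'.val < dec.length := by
    have := tri_pos_lt hj'k' hk'k
    omega
  have h3 := hext j'.val k' hj'k' (by omega) hd'
  rw [hall j'.val (by omega)] at h3
  exact hb' ((pv_eq_zero_iff D hj'k' (by omega)).mp h3.symm)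

/-- the value of the next pair -/
theorem next_pair (D : AffData n) (dec : List PV) (hext : Ext D dec) (hlen : dec.length < tri n) :
    ∃ j k : ℕ, ∃ (hjk : j < k) (hkn : k < n), tri k + j = dec.length ∧ D.pv j k ∈ AffData.opts ∧
      Ext D (dec ++ [D.pv j k]) ∧
      (D.pv j k = (0, 0) ↔ D.b ⟨j, by omega⟩ ⟨k, hkn⟩ = 0) := by
  obtain ⟨k, j, hjk, hkn, hpos⟩ := tri_decode n dec.length hlen
  have hext' := ext_snoc D dec hext hjk hkn hpos
  have hne : (⟨j, by omega⟩ : Fin n) ≠ ⟨k, hkn⟩ := fun h => by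
    have := congrArg Fin.val h
    simp at this
    omega
  have hmem := D.pair_mem ⟨j, by omega⟩ ⟨k, hkn⟩ hne
  have hpv : D.pv j k = ((D.b ⟨j, by omega⟩ ⟨k, hkn⟩).toNat, (D.b ⟨k, hkn⟩ ⟨j, by omega⟩).toNat) := by
    unfold AffData.pv
    rw [D.bn_fin ⟨j, by omega⟩ ⟨k, hkn⟩, D.bn_fin ⟨k, hkn⟩ ⟨j, by omega⟩]
  rw [← hpv] at hmem
  exact ⟨j, k, hjk, hkn, hpos, hmem, hext', pv_eq_zero_iff D hjk hkn⟩

theorem chk_sound (canon : List (List (List ℕ))) (D : AffData n) (hbfs : D.IsBFS) :
    ∀ (t : HTree) (dec : List PV), chk n canon t dec = true → Ext D dec → Concl n canon D := by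
  intro t
  induction t with
  | cert c =>
    intro dec h hext
    exact (certOK_false D dec hext c h).elim
  | fin c =>
    intro dec h hext
    simp only [chk, Bool.and_eq_true, decide_eq_true_eq] at h
    exact (finOK_false D dec hext h.1 c h.2).elim
  | leaf idx τ =>
    intro dec h hext
    simp only [chk, Bool.and_eq_true, decide_eq_true_eq] at h
    exact leafOK_concl canon D dec hext h.1 idx τ h.2
  | skipZ k =>
    intro dec h hext
    simp only [chk, Bool.and_eq_true, decide_eq_true_eq] at h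
    exact (skipZ_false D hbfs dec hext k h.1 h.2).elim
  | skipB k k' j =>
    intro dec h hext
    simp only [chk, Bool.and_eq_true, decide_eq_true_eq] at h
    exact (skipB_false D hbfs dec hext k k' j h.1 h.2).elim
  | split t0 t1 t2 t3 t4 t5 t6 t7 t8 ih0 ih1 ih2 ih3 ih4 ih5 ih6 ih7 ih8 =>
    intro dec h hext
    simp only [chk, Bool.and_eq_true, decide_eq_true_eq] at h
    obtain ⟨⟨⟨⟨⟨⟨⟨⟨⟨hlen, h0⟩, h1⟩, h2⟩, h3⟩, h4⟩, h5⟩, h6⟩, h7⟩, h8⟩ := h
    obtain ⟨j, k, hjk, hkn, hpos, hmem, hext', _⟩ := next_pair D dec hext hlen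
    simp only [AffData.opts, List.mem_cons, List.mem_nil_iff, or_false] at hmem
    rcases hmem with e | e | e | e | e | e | e | e | e <;> rw [e] at hext'
    · exact ih0 _ h0 hext'
    · exact ih1 _ h1 hext'
    · exact ih2 _ h2 hext'
    · exact ih3 _ h3 hext'
    · exact ih4 _ h4 hext'
    · exact ih5 _ h5 hext'
    · exact ih6 _ h6 hext'
    · exact ih7 _ h7 hext'
    · exact ih8 _ h8 hext'
  | splitA t0 c ih0 =>
    intro dec h hext
    simp only [chk, Bool.and_eq_true, decide_eq_true_eq] at h
    obtain ⟨⟨hlen, h0⟩, hc⟩ := h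
    obtain ⟨j, k, hjk, hkn, hpos, hmem, hext', _⟩ := next_pair D dec hext hlen
    simp only [AffData.opts, List.mem_cons, List.mem_nil_iff, or_false] at hmem
    have hle : ∀ {x y : ℕ}, D.pv j k = (x, y) → 1 ≤ x → 1 ≤ y → False := by
      intro x y e hx hy
      refine certOK_false' D _ (fun i' j' hij => snoc_le D dec hext hjk hkn hpos ?_ ?_ i' j' hij) c hc
      · rw [e]; exact hx
      · rw [e]; exact hy
    rcases hmem with e | e | e | e | e | e | e | e | e
    · rw [e] at hext'
      exact ih0 _ h0 hext'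
    all_goals exact (hle e (by norm_num) (by norm_num)).elim
  | splitB t0 t1 c12 c21 ih0 ih1 =>
    intro dec h hext
    simp only [chk, Bool.and_eq_true, decide_eq_true_eq] at h
    obtain ⟨⟨⟨⟨hlen, h0⟩, h1⟩, hc12⟩, hc21⟩ := h
    obtain ⟨j, k, hjk, hkn, hpos, hmem, hext', _⟩ := next_pair D dec hext hlen
    simp only [AffData.opts, List.mem_cons, List.mem_nil_iff, or_false] at hmem
    have hle12 : ∀ {x y : ℕ}, D.pv j k = (x, y) → 1 ≤ x → 2 ≤ y → False := by
      intro x y e hx hy
      refine certOK_false' D _ (fun i' j' hij => snoc_le D dec hext hjk hkn hpos ?_ ?_ i' j' hij) c12 hc12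
      · rw [e]; exact hx
      · rw [e]; exact hy
    have hle21 : ∀ {x y : ℕ}, D.pv j k = (x, y) → 2 ≤ x → 1 ≤ y → False := by
      intro x y e hx hy
      refine certOK_false' D _ (fun i' j' hij => snoc_le D dec hext hjk hkn hpos ?_ ?_ i' j' hij) c21 hc21
      · rw [e]; exact hx
      · rw [e]; exact hy
    rcases hmem with e | e | e | e | e | e | e | e | e
    · rw [e] at hext'
      exact ih0 _ h0 hext'
    · rw [e] at hext'
      exact ih1 _ h1 hext'
    · exact (hle12 e (by norm_num) (by norm_num)).elim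
    · exact (hle21 e (by norm_num) (by norm_num)).elim
    · exact (hle12 e (by norm_num) (by norm_num)).elim
    · exact (hle21 e (by norm_num) (by norm_num)).elim
    · exact (hle12 e (by norm_num) (by norm_num)).elim
    · exact (hle21 e (by norm_num) (by norm_num)).elim
    · exact (hle12 e (by norm_num) (by norm_num)).elim
  | splitS t0 k k' j ih0 =>
    intro dec h hext
    simp only [chk, Bool.and_eq_true, decide_eq_true_eq] at h
    obtain ⟨⟨⟨hlen, hkn'⟩, hS⟩, h0⟩ := h
    unfold splitSOK at hS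
    simp only [Bool.and_eq_true, List.all_eq_true, List.mem_range, decide_eq_true_eq] at hS
    obtain ⟨⟨⟨hjk', hk'k⟩, hpos'⟩, hall⟩ := hS
    obtain ⟨j₀, k₀, hjk, hkn, hpos, hmem, hext', hzero⟩ := next_pair D dec hext hlen
    have hjk2 : j < k := by omega
    obtain ⟨rfl, rfl⟩ := tri_inj hjk2 hjk (hpos'.trans hpos.symm)
    by_cases hz : D.pv j k = (0, 0)
    · rw [hz] at hext'
      exact ih0 _ h0 hext'
    · exfalso
      have hb : D.b ⟨j, by omega⟩ ⟨k, hkn⟩ ≠ 0 := fun h0 => hz (hzero.mpr h0)
      obtain ⟨j', hj', hb'⟩ := hbfs.2 ⟨j, by omega⟩ ⟨k', by omega⟩ ⟨k, hkn⟩ hjk' hk'k hb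
      have hj'j : j'.val ≤ j := hj'
      have hj'k' : j'.val < k' := by omega
      have hd' : tri k' + j'.val < dec.length := by
        have := tri_pos_lt hj'k' hk'k
        omega
      have h3 := hext j'.val k' hj'k' (by omega) hd'
      rw [hall j'.val (by omega)] at h3
      exact hb' ((pv_eq_zero_iff D hj'k' (by omega)).mp h3.symm)

/-- Main soundness statement: if the checker accepts the tree at the root, every affine datum
is one of the canonical matrices up to a permutation. -/
theorem classify (canon : List (List (List ℕ))) (t : HTree) (h : chk n canon t [] = true)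
    (D : AffData n) (hn : 0 < n) :
    ∃ idx, idx < canon.length ∧ ∃ σ : Equiv.Perm (Fin n),
      ∀ i j : Fin n, i ≠ j → D.b (σ i) (σ j) = (canonEnt canon idx i.val j.val : ℤ) := by
  obtain ⟨σ, hσ⟩ := D.exists_bfs hn
  obtain ⟨idx, hidx, τ, hτ⟩ := chk_sound canon (D.reindex σ) hσ t [] h (ext_nil _)
  refine ⟨idx, hidx, τ.trans σ, ?_⟩
  intro i j hij
  exact hτ i j hij

/-! ### Auxiliary lemmas for the final case analysis -/

theorem row_reindex (T : Models.NumericalType n) (h2 : ∀ i, T.IsMinusTwo i)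
    (σ : Equiv.Perm (Fin n)) (i : Fin n) : ∑ j, bmat T (σ i) (σ j) * T.m (σ j) = 0 :=
  ((ofType T h2).reindex σ).row i

theorem symz_bmat (T : Models.NumericalType n) (i j : Fin n) :
    T.w i * bmat T i j = T.w j * bmat T j i := by
  rw [← a_eq, ← a_eq, nt_symm]

theorem sum_fin9 (f : Fin 9 → ℤ) :
    ∑ i, f i = f 0 + f 1 + f 2 + f 3 + f 4 + f 5 + f 6 + f 7 + f 8 := by
  rw [Fin.sum_univ_castSucc, Fin.sum_univ_eight]
  rfl

end Groth.Agent.H79.Aff
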