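import Groth.Agent.H79.AffCheck

/-! Certificate tree for the classification of affine data on 4 indices (generated). -/

set_option autoImplicit false

namespace Groth.Agent.H79.Aff.N4

open Groth.Agent.H79.Aff Groth.Agent.H79.Aff.HTree

def canon : List (List (List ℕ)) := [
  [[0, 1, 0, 1], [1, 0, 1, 0], [0, 1, 0, 1], [1, 0, 1, 0]],
  [[0, 2, 0, 0], [1, 0, 1, 0], [0, 1, 0, 2], [0, 0, 1, 0]],
  [[0, 2, 0, 0], [1, 0, 1, 0], [0, 1, 0, 1], [0, 0, 2, 0]],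
  [[0, 1, 0, 0], [2, 0, 1, 0], [0, 1, 0, 2], [0, 0, 1, 0]],
  [[0, 1, 1, 2], [1, 0, 0, 0], [1, 0, 0, 0], [1, 0, 0, 0]],
  [[0, 1, 1, 1], [1, 0, 0, 0], [1, 0, 0, 0], [2, 0, 0, 0]]
]

def t1 : HTree := split (skipZ 3) (fin [1, 2, 3, 4]) (fin [1, 2, 3, 4]) (fin [1, 2, 3, 2]) (cert [1, 2, 3, 4]) (cert [3, 6, 9, 4]) (cert [1, 2, 3, 4]) (cert [1, 2, 3, 1]) (cert [1, 2, 3, 2])
def t2 : HTree := splitA (fin [1, 2, 1, 2]) [3, 6, 5, 4]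
def t3 : HTree := splitA (leaf 5 [1, 0, 2, 3]) [3, 6, 5, 4]
def t4 : HTree := splitA (leaf 4 [1, 0, 2, 3]) [5, 10, 7, 4]
def t5 : HTree := split t1 t2 t3 t4 (cert [1, 2, 1, 2]) (cert [3, 6, 3, 2]) (cert [1, 2, 1, 2]) (cert [2, 4, 2, 1]) (cert [1, 2, 1, 1])
def t6 : HTree := splitS t5 3 2 0
def t7 : HTree := splitB (skipZ 3) (fin [1, 2, 3, 2]) [1, 2, 3, 2] [1, 2, 3, 1]
def t8 : HTree := splitA (leaf 5 [1, 0, 3, 2]) [3, 6, 7, 2]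
def t9 : HTree := splitB t7 t8 [1, 2, 2, 1] [2, 4, 4, 1]
def t10 : HTree := splitS t9 3 2 0
def t11 : HTree := splitB (skipZ 3) (fin [2, 4, 3, 2]) [2, 4, 3, 2] [2, 4, 3, 1]
def t12 : HTree := splitA (leaf 4 [1, 0, 3, 2]) [4, 8, 5, 2]
def t13 : HTree := splitB t11 t12 [1, 2, 1, 1] [2, 4, 2, 1]
def t14 : HTree := splitS t13 3 2 0
def t15 : HTree := split (skipZ 2) t6 t10 t14 (cert [1, 2, 3, 0]) (cert [1, 2, 1, 0]) (cert [1, 2, 3, 0]) (cert [4, 8, 3, 0]) (cert [2, 4, 3, 0])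
def t16 : HTree := split (skipZ 3) (fin [2, 1, 3, 4]) (fin [2, 1, 3, 4]) (fin [2, 1, 3, 2]) (cert [2, 1, 3, 4]) (cert [6, 3, 9, 4]) (cert [2, 1, 3, 4]) (cert [2, 1, 3, 1]) (cert [2, 1, 3, 2])
def t17 : HTree := splitB (fin [2, 3, 1, 4]) (leaf 0 [0, 1, 3, 2]) [1, 1, 1, 1] [6, 5, 7, 4]
def t18 : HTree := splitA (fin [2, 3, 1, 4]) [1, 1, 1, 1]
def t19 : HTree := splitA (fin [2, 3, 1, 2]) [6, 7, 5, 4]
def t20 : HTree := split t16 t17 t18 t19 (cert [2, 3, 1, 4]) (cert [6, 9, 3, 4]) (cert [2, 3, 1, 4]) (cert [2, 3, 1, 1]) (cert [2, 3, 1, 2])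
def t21 : HTree := splitA (fin [2, 1, 1, 2]) [6, 3, 5, 4]
def t22 : HTree := splitA t21 [6, 5, 3, 4]
def t23 : HTree := splitA (leaf 5 [0, 1, 2, 3]) [6, 3, 5, 4]
def t24 : HTree := splitA t23 [6, 5, 3, 4]
def t25 : HTree := splitA (leaf 4 [0, 1, 2, 3]) [10, 5, 7, 4]
def t26 : HTree := splitA t25 [10, 7, 5, 4]
def t27 : HTree := split t20 t22 t24 t26 (cert [2, 1, 1, 2]) (cert [6, 3, 3, 2]) (cert [2, 1, 1, 2]) (cert [4, 2, 2, 1]) (cert [2, 1, 1, 1])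
def t28 : HTree := splitA t27 [1, 1, 1, 0]
def t29 : HTree := splitB (skipZ 3) (fin [2, 1, 3, 2]) [2, 1, 3, 2] [2, 1, 3, 1]
def t30 : HTree := splitA (fin [1, 1, 1, 1]) [4, 3, 5, 2]
def t31 : HTree := splitA (leaf 2 [2, 0, 1, 3]) [4, 3, 5, 2]
def t32 : HTree := splitA (leaf 1 [2, 0, 1, 3]) [6, 5, 7, 2]
def t33 : HTree := split t29 t30 t31 t32 (cert [1, 1, 1, 1]) (cert [3, 3, 3, 1]) (cert [1, 1, 1, 1]) (cert [4, 4, 4, 1]) (cert [2, 2, 2, 1])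
def t34 : HTree := splitA (leaf 5 [0, 1, 3, 2]) [6, 3, 7, 2]
def t35 : HTree := splitA t34 [3, 2, 3, 1]
def t36 : HTree := splitB t33 t35 [2, 1, 2, 1] [4, 2, 4, 1]
def t37 : HTree := splitA t36 [1, 1, 1, 0]
def t38 : HTree := splitB (skipZ 3) (fin [4, 2, 3, 2]) [4, 2, 3, 2] [4, 2, 3, 1]
def t39 : HTree := splitA (fin [2, 2, 1, 2]) [3, 2, 2, 1]
def t40 : HTree := splitA (leaf 1 [3, 1, 0, 2]) [3, 2, 2, 1]
def t41 : HTree := splitA (leaf 3 [2, 0, 1, 3]) [8, 6, 5, 2]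
def t42 : HTree := split t38 t39 t40 t41 (cert [2, 2, 1, 2]) (cert [6, 6, 3, 2]) (cert [2, 2, 1, 2]) (cert [4, 4, 2, 1]) (cert [2, 2, 1, 1])
def t43 : HTree := splitA (leaf 4 [0, 1, 3, 2]) [8, 4, 5, 2]
def t44 : HTree := splitA t43 [6, 4, 3, 2]
def t45 : HTree := splitB t42 t44 [2, 1, 1, 1] [4, 2, 2, 1]
def t46 : HTree := splitA t45 [5, 4, 3, 0]
def t47 : HTree := split t15 t28 t37 t46 (cert [2, 1, 3, 0]) (cert [2, 1, 1, 0]) (cert [2, 1, 3, 0]) (cert [8, 4, 3, 0]) (cert [4, 2, 3, 0])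
def t48 : HTree := split (skipZ 3) (fin [1, 2, 2, 2]) (leaf 1 [3, 2, 1, 0]) (leaf 3 [0, 1, 2, 3]) (cert [1, 2, 2, 2]) (cert [3, 6, 6, 2]) (cert [1, 2, 2, 2]) (cert [2, 4, 4, 1]) (cert [1, 2, 2, 1])
def t49 : HTree := splitA (leaf 4 [1, 2, 3, 0]) [3, 6, 4, 2]
def t50 : HTree := splitB t48 t49 [1, 2, 1, 1] [2, 4, 2, 1]
def t51 : HTree := splitS t50 3 2 0
def t52 : HTree := splitB (skipZ 2) t51 [1, 2, 2, 0] [1, 2, 1, 0]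
def t53 : HTree := split (skipZ 3) (fin [1, 1, 1, 1]) (leaf 2 [1, 0, 2, 3]) (leaf 1 [1, 0, 2, 3]) (cert [1, 1, 1, 1]) (cert [3, 3, 3, 1]) (cert [1, 1, 1, 1]) (cert [4, 4, 4, 1]) (cert [2, 2, 2, 1])
def t54 : HTree := splitA (fin [2, 3, 1, 2]) [4, 5, 3, 2]
def t55 : HTree := splitB t53 t54 [2, 3, 1, 2] [2, 3, 1, 1]
def t56 : HTree := splitA (leaf 5 [0, 2, 3, 1]) [3, 3, 2, 1]
def t57 : HTree := splitA t56 [6, 7, 3, 2]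
def t58 : HTree := splitB t55 t57 [2, 2, 1, 1] [4, 4, 2, 1]
def t59 : HTree := splitA t58 [3, 4, 2, 0]
def t60 : HTree := splitB t52 t59 [1, 1, 1, 0] [2, 2, 1, 0]
def t61 : HTree := split (skipZ 3) (fin [1, 1, 1, 1]) (leaf 2 [0, 1, 2, 3]) (leaf 1 [0, 1, 2, 3]) (cert [1, 1, 1, 1]) (cert [3, 3, 3, 1]) (cert [1, 1, 1, 1]) (cert [4, 4, 4, 1]) (cert [2, 2, 2, 1])
def t62 : HTree := splitA (leaf 5 [1, 2, 3, 0]) [3, 3, 2, 1]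
def t63 : HTree := splitB t61 t62 [2, 2, 1, 1] [4, 4, 2, 1]
def t64 : HTree := splitS t63 3 2 0
def t65 : HTree := splitB (skipZ 2) t64 [1, 1, 1, 0] [2, 2, 1, 0]
def t66 : HTree := split (skipZ 3) (fin [2, 1, 2, 2]) (leaf 1 [3, 2, 0, 1]) (leaf 3 [1, 0, 2, 3]) (cert [2, 1, 2, 2]) (cert [6, 3, 6, 2]) (cert [2, 1, 2, 2]) (cert [4, 2, 4, 1]) (cert [2, 1, 2, 1])
def t67 : HTree := splitA (fin [4, 3, 2, 2]) [3, 2, 2, 1]
def t68 : HTree := splitB t66 t67 [4, 3, 2, 2] [4, 3, 2, 1]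
def t69 : HTree := splitA (leaf 4 [0, 2, 3, 1]) [6, 3, 4, 2]
def t70 : HTree := splitA t69 [8, 5, 4, 2]
def t71 : HTree := splitB t68 t70 [2, 1, 1, 1] [4, 2, 2, 1]
def t72 : HTree := splitA t71 [4, 3, 2, 0]
def t73 : HTree := splitB t65 t72 [2, 1, 2, 0] [2, 1, 1, 0]
def t74 : HTree := splitA (skipZ 2) [1, 2, 1, 0]
def t75 : HTree := splitA t74 [2, 3, 1, 0]
def t76 : HTree := splitA (skipZ 2) [3, 2, 1, 0]
def t77 : HTree := splitA t76 [2, 1, 1, 0]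
def t78 : HTree := split (skipZ 1) t47 t60 t73 t75 t77 (cert [1, 2, 0, 0]) (cert [2, 1, 0, 0]) (cert [1, 1, 0, 0])

def tree : HTree := t78

set_option maxRecDepth 100000 in
theorem tree_ok : chk 4 canon tree [] = true := by decide +kernel

end Groth.Agent.H79.Aff.N4
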