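import Groth.Agent.H79.AffCheck

/-! Certificate tree for the classification of affine data on 5 indices (generated). -/

set_option autoImplicit false

namespace Groth.Agent.H79.Aff.N5

open Groth.Agent.H79.Aff Groth.Agent.H79.Aff.HTree

def canon : List (List (List ℕ)) := [
  [[0, 1, 0, 0, 1], [1, 0, 1, 0, 0], [0, 1, 0, 1, 0], [0, 0, 1, 0, 1], [1, 0, 0, 1, 0]],
  [[0, 1, 0, 0, 0], [1, 0, 1, 0, 0], [0, 1, 0, 2, 0], [0, 0, 1, 0, 1], [0, 0, 0, 1, 0]],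
  [[0, 1, 0, 0, 0], [1, 0, 1, 0, 0], [0, 1, 0, 1, 0], [0, 0, 2, 0, 1], [0, 0, 0, 1, 0]],
  [[0, 2, 0, 0, 0], [1, 0, 1, 0, 0], [0, 1, 0, 1, 0], [0, 0, 1, 0, 2], [0, 0, 0, 1, 0]],
  [[0, 2, 0, 0, 0], [1, 0, 1, 0, 0], [0, 1, 0, 1, 0], [0, 0, 1, 0, 1], [0, 0, 0, 2, 0]],
  [[0, 1, 0, 0, 0], [2, 0, 1, 0, 0], [0, 1, 0, 1, 0], [0, 0, 1, 0, 2], [0, 0, 0, 1, 0]],
  [[0, 1, 1, 1, 1], [1, 0, 0, 0, 0], [1, 0, 0, 0, 0], [1, 0, 0, 0, 0], [1, 0, 0, 0, 0]],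
  [[0, 1, 0, 0, 0], [2, 0, 1, 0, 0], [0, 1, 0, 1, 1], [0, 0, 1, 0, 0], [0, 0, 1, 0, 0]],
  [[0, 2, 0, 0, 0], [1, 0, 1, 0, 0], [0, 1, 0, 1, 1], [0, 0, 1, 0, 0], [0, 0, 1, 0, 0]]
]

def t1 : HTree := split (skipZ 4) (fin [1, 2, 3, 4, 5]) (fin [1, 2, 3, 4, 5]) (fin [2, 4, 6, 8, 5]) (cert [1, 2, 3, 4, 5]) (cert [3, 6, 9, 12, 5]) (cert [1, 2, 3, 4, 5]) (cert [4, 8, 12, 16, 5]) (cert [2, 4, 6, 8, 5])
def t2 : HTree := splitA (fin [2, 4, 6, 3, 5]) [3, 6, 9, 7, 5]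
def t3 : HTree := splitB t1 t2 [2, 4, 6, 3, 5] [4, 8, 12, 6, 5]
def t4 : HTree := splitS t3 4 3 1
def t5 : HTree := splitS t4 4 2 0
def t6 : HTree := splitB (skipZ 4) (leaf 2 [0, 1, 2, 3, 4]) [1, 2, 3, 4, 2] [1, 2, 3, 4, 1]
def t7 : HTree := splitA t6 [1, 2, 3, 3, 1]
def t8 : HTree := splitS t7 4 3 1
def t9 : HTree := splitS t8 4 2 0
def t10 : HTree := splitB (skipZ 4) (leaf 1 [0, 1, 2, 3, 4]) [1, 2, 3, 2, 1] [2, 4, 6, 4, 1]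
def t11 : HTree := splitA t10 [2, 4, 6, 3, 2]
def t12 : HTree := splitS t11 4 3 1
def t13 : HTree := splitS t12 4 2 0
def t14 : HTree := split (skipZ 3) t5 t9 t13 (cert [1, 2, 3, 4, 0]) (cert [3, 6, 9, 4, 0]) (cert [1, 2, 3, 4, 0]) (cert [1, 2, 3, 1, 0]) (cert [1, 2, 3, 2, 0])
def t15 : HTree := split (skipZ 4) (fin [1, 2, 1, 2, 2]) (leaf 8 [4, 3, 1, 0, 2]) (leaf 7 [4, 3, 1, 0, 2]) (cert [1, 2, 1, 2, 2]) (cert [3, 6, 3, 6, 2]) (cert [1, 2, 1, 2, 2]) (cert [2, 4, 2, 4, 1]) (cert [1, 2, 1, 2, 1])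
def t16 : HTree := splitA (fin [1, 2, 2, 1, 2]) [2, 4, 3, 3, 2]
def t17 : HTree := splitA (leaf 8 [4, 2, 1, 0, 3]) [2, 4, 3, 3, 2]
def t18 : HTree := splitA (leaf 7 [4, 2, 1, 0, 3]) [3, 6, 5, 4, 2]
def t19 : HTree := split t15 t16 t17 t18 (cert [1, 2, 2, 1, 2]) (cert [3, 6, 6, 3, 2]) (cert [1, 2, 2, 1, 2]) (cert [2, 4, 4, 2, 1]) (cert [1, 2, 2, 1, 1])
def t20 : HTree := splitA (leaf 6 [1, 0, 2, 3, 4]) [3, 6, 3, 4, 2]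
def t21 : HTree := splitA t20 [3, 6, 4, 3, 2]
def t22 : HTree := splitB t19 t21 [1, 2, 1, 1, 1] [2, 4, 2, 2, 1]
def t23 : HTree := splitS t22 4 2 0
def t24 : HTree := splitA t23 [3, 6, 5, 4, 0]
def t25 : HTree := splitB t14 t24 [1, 2, 1, 2, 0] [1, 2, 1, 1, 0]
def t26 : HTree := splitS t25 3 2 0
def t27 : HTree := splitB (skipZ 4) (leaf 1 [4, 3, 2, 1, 0]) [1, 2, 3, 2, 1] [2, 4, 6, 4, 1]
def t28 : HTree := splitA t27 [2, 4, 6, 3, 1]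
def t29 : HTree := splitS t28 4 3 1
def t30 : HTree := splitS t29 4 2 0
def t31 : HTree := splitB (skipZ 3) t30 [1, 2, 3, 2, 0] [1, 2, 3, 1, 0]
def t32 : HTree := splitA t31 [1, 2, 2, 1, 0]
def t33 : HTree := splitS t32 3 2 0
def t34 : HTree := splitB (skipZ 4) (leaf 2 [4, 3, 2, 1, 0]) [2, 4, 3, 2, 1] [4, 8, 6, 4, 1]
def t35 : HTree := splitA t34 [4, 8, 6, 3, 1]
def t36 : HTree := splitS t35 4 3 1
def t37 : HTree := splitS t36 4 2 0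
def t38 : HTree := splitB (skipZ 3) t37 [2, 4, 3, 2, 0] [2, 4, 3, 1, 0]
def t39 : HTree := splitA t38 [1, 2, 1, 1, 0]
def t40 : HTree := splitS t39 3 2 0
def t41 : HTree := split (skipZ 2) t26 t33 t40 (cert [1, 2, 3, 0, 0]) (cert [1, 2, 1, 0, 0]) (cert [1, 2, 3, 0, 0]) (cert [4, 8, 3, 0, 0]) (cert [2, 4, 3, 0, 0])
def t42 : HTree := split (skipZ 4) (fin [2, 1, 3, 4, 5]) (fin [2, 1, 3, 4, 5]) (fin [4, 2, 6, 8, 5]) (cert [2, 1, 3, 4, 5]) (cert [6, 3, 9, 12, 5]) (cert [2, 1, 3, 4, 5]) (cert [8, 4, 12, 16, 5]) (cert [4, 2, 6, 8, 5])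
def t43 : HTree := splitA (fin [4, 2, 6, 3, 5]) [6, 3, 9, 7, 5]
def t44 : HTree := splitB t42 t43 [4, 2, 6, 3, 5] [8, 4, 12, 6, 5]
def t45 : HTree := splitS t44 4 3 1
def t46 : HTree := splitS t45 4 3 0
def t47 : HTree := splitB (skipZ 4) (leaf 2 [1, 0, 2, 3, 4]) [2, 1, 3, 4, 2] [2, 1, 3, 4, 1]
def t48 : HTree := splitA t47 [2, 1, 3, 3, 1]
def t49 : HTree := splitS t48 4 3 1
def t50 : HTree := splitS t49 4 3 0
def t51 : HTree := splitB (skipZ 4) (leaf 1 [1, 0, 2, 3, 4]) [2, 1, 3, 2, 1] [4, 2, 6, 4, 1]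
def t52 : HTree := splitA t51 [4, 2, 6, 3, 2]
def t53 : HTree := splitS t52 4 3 1
def t54 : HTree := splitS t53 4 3 0
def t55 : HTree := split (skipZ 3) t46 t50 t54 (cert [2, 1, 3, 4, 0]) (cert [6, 3, 9, 4, 0]) (cert [2, 1, 3, 4, 0]) (cert [2, 1, 3, 1, 0]) (cert [2, 1, 3, 2, 0])
def t56 : HTree := split (skipZ 4) (fin [2, 3, 1, 4, 5]) (fin [2, 3, 1, 4, 5]) (fin [4, 6, 2, 8, 5]) (cert [2, 3, 1, 4, 5]) (cert [6, 9, 3, 12, 5]) (cert [2, 3, 1, 4, 5]) (cert [8, 12, 4, 16, 5]) (cert [4, 6, 2, 8, 5])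
def t57 : HTree := splitB (fin [3, 2, 4, 1, 5]) (leaf 0 [0, 1, 3, 4, 2]) [1, 1, 1, 1, 1] [7, 8, 6, 9, 5]
def t58 : HTree := splitA (fin [3, 2, 4, 1, 5]) [1, 1, 1, 1, 1]
def t59 : HTree := splitA (fin [6, 4, 8, 2, 5]) [8, 7, 9, 6, 5]
def t60 : HTree := split t56 t57 t58 t59 (cert [3, 2, 4, 1, 5]) (cert [9, 6, 12, 3, 5]) (cert [3, 2, 4, 1, 5]) (cert [12, 8, 16, 4, 5]) (cert [6, 4, 8, 2, 5])
def t61 : HTree := splitA (fin [4, 6, 2, 3, 5]) [6, 9, 3, 7, 5]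
def t62 : HTree := splitA t61 [7, 8, 6, 4, 5]
def t63 : HTree := splitB t60 t62 [4, 6, 2, 3, 5] [8, 12, 4, 6, 5]
def t64 : HTree := splitS t63 4 3 0
def t65 : HTree := splitA t64 [1, 1, 1, 1, 0]
def t66 : HTree := splitB (skipZ 4) (leaf 2 [2, 0, 1, 3, 4]) [2, 3, 1, 4, 2] [2, 3, 1, 4, 1]
def t67 : HTree := splitA (fin [1, 1, 1, 1, 1]) [4, 5, 3, 6, 2]
def t68 : HTree := splitA (leaf 4 [3, 1, 0, 2, 4]) [4, 5, 3, 6, 2]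
def t69 : HTree := splitA (leaf 3 [3, 1, 0, 2, 4]) [6, 7, 5, 8, 2]
def t70 : HTree := split t66 t67 t68 t69 (cert [1, 1, 1, 1, 1]) (cert [3, 3, 3, 3, 1]) (cert [1, 1, 1, 1, 1]) (cert [4, 4, 4, 4, 1]) (cert [2, 2, 2, 2, 1])
def t71 : HTree := splitA t70 [2, 3, 1, 3, 1]
def t72 : HTree := splitS t71 4 3 0
def t73 : HTree := splitA t72 [1, 1, 1, 1, 0]
def t74 : HTree := splitB (skipZ 4) (leaf 1 [2, 0, 1, 3, 4]) [2, 3, 1, 2, 1] [4, 6, 2, 4, 1]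
def t75 : HTree := splitA (fin [2, 2, 2, 1, 2]) [6, 8, 4, 5, 2]
def t76 : HTree := splitA (leaf 3 [4, 2, 0, 1, 3]) [6, 8, 4, 5, 2]
def t77 : HTree := splitA (leaf 5 [3, 1, 0, 2, 4]) [4, 5, 3, 3, 1]
def t78 : HTree := split t74 t75 t76 t77 (cert [2, 2, 2, 1, 2]) (cert [6, 6, 6, 3, 2]) (cert [2, 2, 2, 1, 2]) (cert [4, 4, 4, 2, 1]) (cert [2, 2, 2, 1, 1])
def t79 : HTree := splitA t78 [4, 6, 2, 3, 2]
def t80 : HTree := splitS t79 4 3 0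
def t81 : HTree := splitA t80 [6, 7, 5, 4, 0]
def t82 : HTree := split t55 t65 t73 t81 (cert [2, 3, 1, 4, 0]) (cert [6, 9, 3, 4, 0]) (cert [2, 3, 1, 4, 0]) (cert [2, 3, 1, 1, 0]) (cert [2, 3, 1, 2, 0])
def t83 : HTree := split (skipZ 4) (fin [2, 1, 1, 2, 2]) (leaf 8 [4, 3, 0, 1, 2]) (leaf 7 [4, 3, 0, 1, 2]) (cert [2, 1, 1, 2, 2]) (cert [6, 3, 3, 6, 2]) (cert [2, 1, 1, 2, 2]) (cert [4, 2, 2, 4, 1]) (cert [2, 1, 1, 2, 1])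
def t84 : HTree := splitA (fin [2, 1, 2, 1, 2]) [4, 2, 3, 3, 2]
def t85 : HTree := splitA (leaf 8 [4, 2, 0, 1, 3]) [4, 2, 3, 3, 2]
def t86 : HTree := splitA (leaf 7 [4, 2, 0, 1, 3]) [6, 3, 5, 4, 2]
def t87 : HTree := split t83 t84 t85 t86 (cert [2, 1, 2, 1, 2]) (cert [6, 3, 6, 3, 2]) (cert [2, 1, 2, 1, 2]) (cert [4, 2, 4, 2, 1]) (cert [2, 1, 2, 1, 1])
def t88 : HTree := splitA (fin [2, 2, 1, 1, 2]) [4, 3, 2, 3, 2]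
def t89 : HTree := splitA t88 [4, 3, 3, 2, 2]
def t90 : HTree := splitA (leaf 8 [4, 1, 0, 2, 3]) [4, 3, 2, 3, 2]
def t91 : HTree := splitA t90 [4, 3, 3, 2, 2]
def t92 : HTree := splitA (leaf 7 [4, 1, 0, 2, 3]) [6, 5, 3, 4, 2]
def t93 : HTree := splitA t92 [6, 5, 4, 3, 2]
def t94 : HTree := split t87 t89 t91 t93 (cert [2, 2, 1, 1, 2]) (cert [6, 6, 3, 3, 2]) (cert [2, 2, 1, 1, 2]) (cert [4, 4, 2, 2, 1]) (cert [2, 2, 1, 1, 1])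
def t95 : HTree := splitA (leaf 6 [0, 1, 2, 3, 4]) [6, 3, 3, 4, 2]
def t96 : HTree := splitA t95 [6, 3, 4, 3, 2]
def t97 : HTree := splitA t96 [6, 4, 3, 3, 2]
def t98 : HTree := splitB t94 t97 [2, 1, 1, 1, 1] [4, 2, 2, 2, 1]
def t99 : HTree := splitA t98 [6, 3, 5, 4, 0]
def t100 : HTree := splitA t99 [6, 5, 3, 4, 0]
def t101 : HTree := splitB t82 t100 [2, 1, 1, 2, 0] [2, 1, 1, 1, 0]
def t102 : HTree := splitA t101 [1, 1, 1, 0, 0]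
def t103 : HTree := splitB (skipZ 4) (leaf 1 [4, 3, 2, 0, 1]) [2, 1, 3, 2, 1] [4, 2, 6, 4, 1]
def t104 : HTree := splitA t103 [4, 2, 6, 3, 1]
def t105 : HTree := splitS t104 4 3 1
def t106 : HTree := splitS t105 4 3 0
def t107 : HTree := splitB (skipZ 3) t106 [2, 1, 3, 2, 0] [2, 1, 3, 1, 0]
def t108 : HTree := split (skipZ 4) (fin [1, 1, 1, 1, 1]) (leaf 4 [2, 0, 1, 3, 4]) (leaf 3 [2, 0, 1, 3, 4]) (cert [1, 1, 1, 1, 1]) (cert [3, 3, 3, 3, 1]) (cert [1, 1, 1, 1, 1]) (cert [4, 4, 4, 4, 1]) (cert [2, 2, 2, 2, 1])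
def t109 : HTree := splitA (leaf 2 [3, 1, 0, 2, 4]) [5, 4, 6, 3, 2]
def t110 : HTree := splitB t108 t109 [3, 2, 4, 1, 2] [3, 2, 4, 1, 1]
def t111 : HTree := splitA (leaf 8 [2, 0, 1, 3, 4]) [3, 3, 3, 2, 1]
def t112 : HTree := splitA t111 [7, 6, 8, 3, 2]
def t113 : HTree := splitB t110 t112 [2, 2, 2, 1, 1] [4, 4, 4, 2, 1]
def t114 : HTree := splitS t113 4 3 0
def t115 : HTree := splitA t114 [4, 3, 5, 2, 0]
def t116 : HTree := splitB t107 t115 [1, 1, 1, 1, 0] [2, 2, 2, 1, 0]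
def t117 : HTree := splitA t116 [2, 1, 2, 1, 0]
def t118 : HTree := splitA t117 [1, 1, 1, 0, 0]
def t119 : HTree := splitB (skipZ 4) (leaf 2 [4, 3, 2, 0, 1]) [4, 2, 3, 2, 1] [8, 4, 6, 4, 1]
def t120 : HTree := splitA t119 [8, 4, 6, 3, 1]
def t121 : HTree := splitS t120 4 3 1
def t122 : HTree := splitS t121 4 3 0
def t123 : HTree := splitB (skipZ 3) t122 [4, 2, 3, 2, 0] [4, 2, 3, 1, 0]
def t124 : HTree := split (skipZ 4) (fin [2, 2, 1, 2, 2]) (leaf 3 [4, 3, 1, 0, 2]) (leaf 5 [2, 0, 1, 3, 4]) (cert [2, 2, 1, 2, 2]) (cert [6, 6, 3, 6, 2]) (cert [2, 2, 1, 2, 2]) (cert [4, 4, 2, 4, 1]) (cert [2, 2, 1, 2, 1])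
def t125 : HTree := splitA (leaf 1 [3, 1, 0, 2, 4]) [8, 6, 5, 4, 2]
def t126 : HTree := splitB t124 t125 [3, 2, 2, 1, 1] [6, 4, 4, 2, 1]
def t127 : HTree := splitA (leaf 7 [2, 0, 1, 3, 4]) [6, 6, 3, 4, 2]
def t128 : HTree := splitA t127 [5, 4, 3, 2, 1]
def t129 : HTree := splitB t126 t128 [2, 2, 1, 1, 1] [4, 4, 2, 2, 1]
def t130 : HTree := splitS t129 4 3 0
def t131 : HTree := splitA t130 [3, 2, 2, 1, 0]
def t132 : HTree := splitB t123 t131 [2, 2, 1, 2, 0] [2, 2, 1, 1, 0]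
def t133 : HTree := splitA t132 [2, 1, 1, 1, 0]
def t134 : HTree := splitA t133 [5, 4, 3, 0, 0]
def t135 : HTree := split t41 t102 t118 t134 (cert [2, 1, 3, 0, 0]) (cert [2, 1, 1, 0, 0]) (cert [2, 1, 3, 0, 0]) (cert [8, 4, 3, 0, 0]) (cert [4, 2, 3, 0, 0])
def t136 : HTree := split (skipZ 4) (fin [1, 2, 2, 2, 2]) (leaf 3 [4, 3, 2, 1, 0]) (leaf 5 [0, 1, 2, 3, 4]) (cert [1, 2, 2, 2, 2]) (cert [3, 6, 6, 6, 2]) (cert [1, 2, 2, 2, 2]) (cert [2, 4, 4, 4, 1]) (cert [1, 2, 2, 2, 1])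
def t137 : HTree := splitA (leaf 7 [0, 1, 2, 3, 4]) [3, 6, 6, 4, 2]
def t138 : HTree := splitB t136 t137 [1, 2, 2, 1, 1] [2, 4, 4, 2, 1]
def t139 : HTree := splitS t138 4 3 1
def t140 : HTree := splitS t139 4 2 0
def t141 : HTree := splitB (skipZ 3) t140 [1, 2, 2, 2, 0] [1, 2, 2, 1, 0]
def t142 : HTree := splitA t141 [1, 2, 1, 1, 0]
def t143 : HTree := splitS t142 3 2 0
def t144 : HTree := splitB (skipZ 2) t143 [1, 2, 2, 0, 0] [1, 2, 1, 0, 0]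
def t145 : HTree := split (skipZ 4) (fin [1, 1, 1, 1, 1]) (leaf 4 [1, 0, 2, 3, 4]) (leaf 3 [1, 0, 2, 3, 4]) (cert [1, 1, 1, 1, 1]) (cert [3, 3, 3, 3, 1]) (cert [1, 1, 1, 1, 1]) (cert [4, 4, 4, 4, 1]) (cert [2, 2, 2, 2, 1])
def t146 : HTree := splitA (leaf 8 [1, 0, 2, 3, 4]) [3, 3, 3, 2, 1]
def t147 : HTree := splitB t145 t146 [2, 2, 2, 1, 1] [4, 4, 4, 2, 1]
def t148 : HTree := splitS t147 4 3 1
def t149 : HTree := splitS t148 4 3 0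
def t150 : HTree := splitB (skipZ 3) t149 [1, 1, 1, 1, 0] [2, 2, 2, 1, 0]
def t151 : HTree := splitB (skipZ 4) (leaf 1 [4, 3, 1, 0, 2]) [2, 3, 1, 2, 1] [4, 6, 2, 4, 1]
def t152 : HTree := splitA (leaf 2 [4, 2, 0, 1, 3]) [5, 7, 3, 4, 1]
def t153 : HTree := splitB t151 t152 [3, 4, 2, 2, 1] [6, 8, 4, 4, 1]
def t154 : HTree := splitA t153 [4, 6, 2, 3, 1]
def t155 : HTree := splitS t154 4 3 0
def t156 : HTree := splitA t155 [4, 5, 3, 2, 0]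
def t157 : HTree := splitB t150 t156 [2, 3, 1, 2, 0] [2, 3, 1, 1, 0]
def t158 : HTree := splitA t157 [2, 2, 1, 1, 0]
def t159 : HTree := splitA t158 [3, 4, 2, 0, 0]
def t160 : HTree := splitB t144 t159 [1, 1, 1, 0, 0] [2, 2, 1, 0, 0]
def t161 : HTree := split (skipZ 4) (fin [1, 1, 1, 1, 1]) (leaf 4 [0, 1, 2, 3, 4]) (leaf 3 [0, 1, 2, 3, 4]) (cert [1, 1, 1, 1, 1]) (cert [3, 3, 3, 3, 1]) (cert [1, 1, 1, 1, 1]) (cert [4, 4, 4, 4, 1]) (cert [2, 2, 2, 2, 1])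
def t162 : HTree := splitA (leaf 8 [0, 1, 2, 3, 4]) [3, 3, 3, 2, 1]
def t163 : HTree := splitB t161 t162 [2, 2, 2, 1, 1] [4, 4, 4, 2, 1]
def t164 : HTree := splitS t163 4 3 1
def t165 : HTree := splitS t164 4 2 0
def t166 : HTree := splitB (skipZ 3) t165 [1, 1, 1, 1, 0] [2, 2, 2, 1, 0]
def t167 : HTree := splitA t166 [2, 2, 1, 1, 0]
def t168 : HTree := splitS t167 3 2 0
def t169 : HTree := splitB (skipZ 2) t168 [1, 1, 1, 0, 0] [2, 2, 1, 0, 0]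
def t170 : HTree := split (skipZ 4) (fin [2, 1, 2, 2, 2]) (leaf 3 [4, 3, 2, 0, 1]) (leaf 5 [1, 0, 2, 3, 4]) (cert [2, 1, 2, 2, 2]) (cert [6, 3, 6, 6, 2]) (cert [2, 1, 2, 2, 2]) (cert [4, 2, 4, 4, 1]) (cert [2, 1, 2, 2, 1])
def t171 : HTree := splitA (leaf 7 [1, 0, 2, 3, 4]) [6, 3, 6, 4, 2]
def t172 : HTree := splitB t170 t171 [2, 1, 2, 1, 1] [4, 2, 4, 2, 1]
def t173 : HTree := splitS t172 4 3 1
def t174 : HTree := splitS t173 4 3 0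
def t175 : HTree := splitB (skipZ 3) t174 [2, 1, 2, 2, 0] [2, 1, 2, 1, 0]
def t176 : HTree := splitB (skipZ 4) (leaf 2 [4, 3, 1, 0, 2]) [4, 3, 2, 2, 1] [8, 6, 4, 4, 1]
def t177 : HTree := splitA (leaf 1 [4, 2, 0, 1, 3]) [7, 5, 4, 3, 1]
def t178 : HTree := splitB t176 t177 [3, 2, 2, 1, 1] [6, 4, 4, 2, 1]
def t179 : HTree := splitA t178 [8, 6, 4, 3, 1]
def t180 : HTree := splitS t179 4 3 0
def t181 : HTree := splitA t180 [3, 2, 2, 1, 0]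
def t182 : HTree := splitB t175 t181 [4, 3, 2, 2, 0] [4, 3, 2, 1, 0]
def t183 : HTree := splitA t182 [2, 1, 1, 1, 0]
def t184 : HTree := splitA t183 [4, 3, 2, 0, 0]
def t185 : HTree := splitB t169 t184 [2, 1, 2, 0, 0] [2, 1, 1, 0, 0]
def t186 : HTree := splitA (skipZ 2) [1, 2, 1, 0, 0]
def t187 : HTree := splitA t186 [2, 3, 1, 0, 0]
def t188 : HTree := splitA (skipZ 2) [3, 2, 1, 0, 0]
def t189 : HTree := splitA t188 [2, 1, 1, 0, 0]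
def t190 : HTree := split (skipZ 1) t135 t160 t185 t187 t189 (cert [1, 2, 0, 0, 0]) (cert [2, 1, 0, 0, 0]) (cert [1, 1, 0, 0, 0])

def tree : HTree := t190

set_option maxRecDepth 100000 in
theorem tree_ok : chk 5 canon tree [] = true := by decide +kernel

end Groth.Agent.H79.Aff.N5
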