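import Groth.Agent.H79.AffCheck

/-! Certificate tree for the classification of affine data on 6 indices (generated). -/

set_option autoImplicit false

namespace Groth.Agent.H79.Aff.N6

open Groth.Agent.H79.Aff Groth.Agent.H79.Aff.HTree

def canon : List (List (List ℕ)) := [
  [[0, 1, 0, 0, 0, 1], [1, 0, 1, 0, 0, 0], [0, 1, 0, 1, 0, 0], [0, 0, 1, 0, 1, 0], [0, 0, 0, 1, 0, 1], [1, 0, 0, 0, 1, 0]],
  [[0, 2, 0, 0, 0, 0], [1, 0, 1, 0, 0, 0], [0, 1, 0, 1, 0, 0], [0, 0, 1, 0, 1, 0], [0, 0, 0, 1, 0, 2], [0, 0, 0, 0, 1, 0]],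
  [[0, 2, 0, 0, 0, 0], [1, 0, 1, 0, 0, 0], [0, 1, 0, 1, 0, 0], [0, 0, 1, 0, 1, 0], [0, 0, 0, 1, 0, 1], [0, 0, 0, 0, 2, 0]],
  [[0, 1, 0, 0, 0, 0], [2, 0, 1, 0, 0, 0], [0, 1, 0, 1, 0, 0], [0, 0, 1, 0, 1, 0], [0, 0, 0, 1, 0, 2], [0, 0, 0, 0, 1, 0]],
  [[0, 1, 0, 0, 0, 0], [2, 0, 1, 0, 0, 0], [0, 1, 0, 1, 0, 0], [0, 0, 1, 0, 1, 1], [0, 0, 0, 1, 0, 0], [0, 0, 0, 1, 0, 0]],
  [[0, 2, 0, 0, 0, 0], [1, 0, 1, 0, 0, 0], [0, 1, 0, 1, 0, 0], [0, 0, 1, 0, 1, 1], [0, 0, 0, 1, 0, 0], [0, 0, 0, 1, 0, 0]],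
  [[0, 0, 1, 0, 0, 0], [0, 0, 1, 0, 0, 0], [1, 1, 0, 1, 0, 0], [0, 0, 1, 0, 1, 1], [0, 0, 0, 1, 0, 0], [0, 0, 0, 1, 0, 0]]
]

def t1 : HTree := split (skipZ 5) (fin [1, 2, 3, 4, 5, 6]) (fin [1, 2, 3, 4, 5, 6]) (fin [1, 2, 3, 4, 5, 3]) (cert [1, 2, 3, 4, 5, 6]) (cert [1, 2, 3, 4, 5, 2]) (cert [1, 2, 3, 4, 5, 6]) (cert [2, 4, 6, 8, 10, 3]) (cert [1, 2, 3, 4, 5, 3])
def t2 : HTree := splitA (fin [1, 2, 3, 4, 2, 3]) [1, 2, 3, 4, 3, 2]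
def t3 : HTree := splitB t1 t2 [1, 2, 3, 4, 2, 3] [2, 4, 6, 8, 4, 3]
def t4 : HTree := splitS t3 5 4 2
def t5 : HTree := splitS t4 5 3 1
def t6 : HTree := splitS t5 5 2 0
def t7 : HTree := splitA (skipZ 5) [1, 2, 3, 4, 5, 2]
def t8 : HTree := splitA t7 [1, 2, 3, 4, 4, 1]
def t9 : HTree := splitS t8 5 4 2
def t10 : HTree := splitS t9 5 3 1
def t11 : HTree := splitS t10 5 2 0
def t12 : HTree := splitA (skipZ 5) [2, 4, 6, 8, 5, 2]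
def t13 : HTree := splitA t12 [1, 2, 3, 4, 2, 1]
def t14 : HTree := splitS t13 5 4 2
def t15 : HTree := splitS t14 5 3 1
def t16 : HTree := splitS t15 5 2 0
def t17 : HTree := split (skipZ 4) t6 t11 t16 (cert [1, 2, 3, 4, 5, 0]) (cert [3, 6, 9, 12, 5, 0]) (cert [1, 2, 3, 4, 5, 0]) (cert [4, 8, 12, 16, 5, 0]) (cert [2, 4, 6, 8, 5, 0])
def t18 : HTree := splitB (skipZ 5) (fin [2, 4, 6, 3, 5, 4]) [2, 4, 6, 3, 5, 4] [2, 4, 6, 3, 5, 2]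
def t19 : HTree := splitA (fin [2, 4, 6, 5, 3, 4]) [1, 2, 3, 2, 2, 1]
def t20 : HTree := splitB t18 t19 [2, 4, 6, 5, 3, 4] [2, 4, 6, 5, 3, 2]
def t21 : HTree := splitA t20 [2, 4, 6, 3, 3, 2]
def t22 : HTree := splitS t21 5 3 1
def t23 : HTree := splitS t22 5 2 0
def t24 : HTree := splitA t23 [3, 6, 9, 7, 5, 0]
def t25 : HTree := splitB t17 t24 [2, 4, 6, 3, 5, 0] [4, 8, 12, 6, 5, 0]
def t26 : HTree := splitS t25 4 3 1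
def t27 : HTree := splitS t26 4 2 0
def t28 : HTree := splitA (skipZ 4) [1, 2, 3, 4, 2, 0]
def t29 : HTree := splitA t28 [1, 2, 3, 3, 1, 0]
def t30 : HTree := splitS t29 4 3 1
def t31 : HTree := splitS t30 4 2 0
def t32 : HTree := splitA (skipZ 4) [1, 2, 3, 2, 1, 0]
def t33 : HTree := splitA t32 [2, 4, 6, 3, 2, 0]
def t34 : HTree := splitS t33 4 3 1
def t35 : HTree := splitS t34 4 2 0
def t36 : HTree := split (skipZ 3) t27 t31 t35 (cert [1, 2, 3, 4, 0, 0]) (cert [3, 6, 9, 4, 0, 0]) (cert [1, 2, 3, 4, 0, 0]) (cert [1, 2, 3, 1, 0, 0]) (cert [1, 2, 3, 2, 0, 0])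
def t37 : HTree := split (skipZ 5) (fin [1, 2, 1, 2, 2, 2]) (leaf 5 [5, 4, 3, 1, 0, 2]) (leaf 4 [5, 4, 3, 1, 0, 2]) (cert [1, 2, 1, 2, 2, 2]) (cert [3, 6, 3, 6, 6, 2]) (cert [1, 2, 1, 2, 2, 2]) (cert [2, 4, 2, 4, 4, 1]) (cert [1, 2, 1, 2, 2, 1])
def t38 : HTree := splitA (leaf 6 [0, 2, 1, 3, 4, 5]) [3, 6, 3, 6, 4, 2]
def t39 : HTree := splitB t37 t38 [1, 2, 1, 2, 1, 1] [2, 4, 2, 4, 2, 1]
def t40 : HTree := splitS t39 5 4 2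
def t41 : HTree := splitS t40 5 4 1
def t42 : HTree := splitS t41 5 2 0
def t43 : HTree := splitB (skipZ 4) t42 [1, 2, 1, 2, 2, 0] [1, 2, 1, 2, 1, 0]
def t44 : HTree := split (skipZ 5) (fin [1, 2, 2, 1, 2, 2]) (leaf 5 [5, 4, 2, 1, 0, 3]) (leaf 4 [5, 4, 2, 1, 0, 3]) (cert [1, 2, 2, 1, 2, 2]) (cert [3, 6, 6, 3, 6, 2]) (cert [1, 2, 2, 1, 2, 2]) (cert [2, 4, 4, 2, 4, 1]) (cert [1, 2, 2, 1, 2, 1])
def t45 : HTree := splitA (fin [3, 6, 4, 5, 2, 4]) [5, 10, 8, 7, 6, 4]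
def t46 : HTree := splitB t44 t45 [3, 6, 4, 5, 2, 4] [3, 6, 4, 5, 2, 2]
def t47 : HTree := splitA (leaf 6 [0, 3, 1, 2, 4, 5]) [3, 6, 6, 3, 4, 2]
def t48 : HTree := splitA t47 [7, 14, 12, 9, 6, 4]
def t49 : HTree := splitB t46 t48 [1, 2, 2, 1, 1, 1] [2, 4, 4, 2, 2, 1]
def t50 : HTree := splitS t49 5 4 1
def t51 : HTree := splitS t50 5 2 0
def t52 : HTree := splitA t51 [2, 4, 3, 3, 2, 0]
def t53 : HTree := splitB t43 t52 [1, 2, 2, 1, 2, 0] [1, 2, 2, 1, 1, 0]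
def t54 : HTree := splitA t53 [1, 2, 1, 1, 1, 0]
def t55 : HTree := splitS t54 4 2 0
def t56 : HTree := splitA t55 [3, 6, 5, 4, 0, 0]
def t57 : HTree := splitB t36 t56 [1, 2, 1, 2, 0, 0] [1, 2, 1, 1, 0, 0]
def t58 : HTree := splitS t57 3 2 0
def t59 : HTree := splitA (skipZ 4) [1, 2, 3, 2, 1, 0]
def t60 : HTree := splitA t59 [2, 4, 6, 3, 1, 0]
def t61 : HTree := splitS t60 4 3 1
def t62 : HTree := splitS t61 4 2 0
def t63 : HTree := splitB (skipZ 3) t62 [1, 2, 3, 2, 0, 0] [1, 2, 3, 1, 0, 0]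
def t64 : HTree := splitA t63 [1, 2, 2, 1, 0, 0]
def t65 : HTree := splitS t64 3 2 0
def t66 : HTree := splitA (skipZ 4) [2, 4, 3, 2, 1, 0]
def t67 : HTree := splitA t66 [4, 8, 6, 3, 1, 0]
def t68 : HTree := splitS t67 4 3 1
def t69 : HTree := splitS t68 4 2 0
def t70 : HTree := splitB (skipZ 3) t69 [2, 4, 3, 2, 0, 0] [2, 4, 3, 1, 0, 0]
def t71 : HTree := splitA t70 [1, 2, 1, 1, 0, 0]
def t72 : HTree := splitS t71 3 2 0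
def t73 : HTree := split (skipZ 2) t58 t65 t72 (cert [1, 2, 3, 0, 0, 0]) (cert [1, 2, 1, 0, 0, 0]) (cert [1, 2, 3, 0, 0, 0]) (cert [4, 8, 3, 0, 0, 0]) (cert [2, 4, 3, 0, 0, 0])
def t74 : HTree := split (skipZ 5) (fin [2, 1, 3, 4, 5, 6]) (fin [2, 1, 3, 4, 5, 6]) (fin [2, 1, 3, 4, 5, 3]) (cert [2, 1, 3, 4, 5, 6]) (cert [2, 1, 3, 4, 5, 2]) (cert [2, 1, 3, 4, 5, 6]) (cert [4, 2, 6, 8, 10, 3]) (cert [2, 1, 3, 4, 5, 3])
def t75 : HTree := splitA (fin [2, 1, 3, 4, 2, 3]) [2, 1, 3, 4, 3, 2]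
def t76 : HTree := splitB t74 t75 [2, 1, 3, 4, 2, 3] [4, 2, 6, 8, 4, 3]
def t77 : HTree := splitS t76 5 4 2
def t78 : HTree := splitS t77 5 3 1
def t79 : HTree := splitS t78 5 3 0
def t80 : HTree := splitA (skipZ 5) [2, 1, 3, 4, 5, 2]
def t81 : HTree := splitA t80 [2, 1, 3, 4, 4, 1]
def t82 : HTree := splitS t81 5 4 2
def t83 : HTree := splitS t82 5 3 1
def t84 : HTree := splitS t83 5 3 0
def t85 : HTree := splitA (skipZ 5) [4, 2, 6, 8, 5, 2]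
def t86 : HTree := splitA t85 [2, 1, 3, 4, 2, 1]
def t87 : HTree := splitS t86 5 4 2
def t88 : HTree := splitS t87 5 3 1
def t89 : HTree := splitS t88 5 3 0
def t90 : HTree := split (skipZ 4) t79 t84 t89 (cert [2, 1, 3, 4, 5, 0]) (cert [6, 3, 9, 12, 5, 0]) (cert [2, 1, 3, 4, 5, 0]) (cert [8, 4, 12, 16, 5, 0]) (cert [4, 2, 6, 8, 5, 0])
def t91 : HTree := splitB (skipZ 5) (fin [4, 2, 6, 3, 5, 4]) [4, 2, 6, 3, 5, 4] [4, 2, 6, 3, 5, 2]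
def t92 : HTree := splitA (fin [4, 2, 6, 5, 3, 4]) [2, 1, 3, 2, 2, 1]
def t93 : HTree := splitB t91 t92 [4, 2, 6, 5, 3, 4] [4, 2, 6, 5, 3, 2]
def t94 : HTree := splitA t93 [4, 2, 6, 3, 3, 2]
def t95 : HTree := splitS t94 5 3 1
def t96 : HTree := splitS t95 5 3 0
def t97 : HTree := splitA t96 [6, 3, 9, 7, 5, 0]
def t98 : HTree := splitB t90 t97 [4, 2, 6, 3, 5, 0] [8, 4, 12, 6, 5, 0]
def t99 : HTree := splitS t98 4 3 1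
def t100 : HTree := splitS t99 4 3 0
def t101 : HTree := splitA (skipZ 4) [2, 1, 3, 4, 2, 0]
def t102 : HTree := splitA t101 [2, 1, 3, 3, 1, 0]
def t103 : HTree := splitS t102 4 3 1
def t104 : HTree := splitS t103 4 3 0
def t105 : HTree := splitA (skipZ 4) [2, 1, 3, 2, 1, 0]
def t106 : HTree := splitA t105 [4, 2, 6, 3, 2, 0]
def t107 : HTree := splitS t106 4 3 1
def t108 : HTree := splitS t107 4 3 0
def t109 : HTree := split (skipZ 3) t100 t104 t108 (cert [2, 1, 3, 4, 0, 0]) (cert [6, 3, 9, 4, 0, 0]) (cert [2, 1, 3, 4, 0, 0]) (cert [2, 1, 3, 1, 0, 0]) (cert [2, 1, 3, 2, 0, 0])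
def t110 : HTree := split (skipZ 5) (fin [2, 3, 1, 4, 5, 6]) (fin [2, 3, 1, 4, 5, 6]) (fin [2, 3, 1, 4, 5, 3]) (cert [2, 3, 1, 4, 5, 6]) (cert [2, 3, 1, 4, 5, 2]) (cert [2, 3, 1, 4, 5, 6]) (cert [4, 6, 2, 8, 10, 3]) (cert [2, 3, 1, 4, 5, 3])
def t111 : HTree := splitA (fin [2, 3, 1, 4, 2, 3]) [2, 3, 1, 4, 3, 2]
def t112 : HTree := splitB t110 t111 [2, 3, 1, 4, 2, 3] [4, 6, 2, 8, 4, 3]
def t113 : HTree := splitS t112 5 4 2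
def t114 : HTree := splitS t113 5 4 1
def t115 : HTree := splitS t114 5 3 0
def t116 : HTree := splitA (skipZ 5) [2, 3, 1, 4, 5, 2]
def t117 : HTree := splitA t116 [2, 3, 1, 4, 4, 1]
def t118 : HTree := splitS t117 5 4 2
def t119 : HTree := splitS t118 5 4 1
def t120 : HTree := splitS t119 5 3 0
def t121 : HTree := splitA (skipZ 5) [4, 6, 2, 8, 5, 2]
def t122 : HTree := splitA t121 [2, 3, 1, 4, 2, 1]
def t123 : HTree := splitS t122 5 4 2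
def t124 : HTree := splitS t123 5 4 1
def t125 : HTree := splitS t124 5 3 0
def t126 : HTree := split (skipZ 4) t115 t120 t125 (cert [2, 3, 1, 4, 5, 0]) (cert [6, 9, 3, 12, 5, 0]) (cert [2, 3, 1, 4, 5, 0]) (cert [8, 12, 4, 16, 5, 0]) (cert [4, 6, 2, 8, 5, 0])
def t127 : HTree := split (skipZ 5) (fin [3, 2, 4, 1, 5, 6]) (fin [3, 2, 4, 1, 5, 6]) (fin [3, 2, 4, 1, 5, 3]) (cert [3, 2, 4, 1, 5, 6]) (cert [3, 2, 4, 1, 5, 2]) (cert [3, 2, 4, 1, 5, 6]) (cert [6, 4, 8, 2, 10, 3]) (cert [3, 2, 4, 1, 5, 3])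
def t128 : HTree := splitB (fin [3, 4, 2, 5, 1, 6]) (leaf 0 [0, 1, 3, 5, 4, 2]) [1, 1, 1, 1, 1, 1] [9, 8, 10, 7, 11, 6]
def t129 : HTree := splitA (fin [3, 4, 2, 5, 1, 6]) [1, 1, 1, 1, 1, 1]
def t130 : HTree := splitA (fin [3, 4, 2, 5, 1, 3]) [9, 10, 8, 11, 7, 6]
def t131 : HTree := split t127 t128 t129 t130 (cert [3, 4, 2, 5, 1, 6]) (cert [3, 4, 2, 5, 1, 2]) (cert [3, 4, 2, 5, 1, 6]) (cert [6, 8, 4, 10, 2, 3]) (cert [3, 4, 2, 5, 1, 3])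
def t132 : HTree := splitA (fin [3, 2, 4, 1, 2, 3]) [3, 2, 4, 1, 3, 2]
def t133 : HTree := splitA t132 [9, 8, 10, 7, 5, 6]
def t134 : HTree := splitB t131 t133 [3, 2, 4, 1, 2, 3] [6, 4, 8, 2, 4, 3]
def t135 : HTree := splitS t134 5 4 1
def t136 : HTree := splitS t135 5 3 0
def t137 : HTree := splitA t136 [1, 1, 1, 1, 1, 0]
def t138 : HTree := splitA (skipZ 5) [3, 2, 4, 1, 5, 2]
def t139 : HTree := splitA (fin [1, 1, 1, 1, 1, 1]) [5, 4, 6, 3, 7, 2]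
def t140 : HTree := splitA (leaf 2 [4, 2, 0, 1, 3, 5]) [5, 4, 6, 3, 7, 2]
def t141 : HTree := splitA (leaf 1 [4, 2, 0, 1, 3, 5]) [7, 6, 8, 5, 9, 2]
def t142 : HTree := split t138 t139 t140 t141 (cert [1, 1, 1, 1, 1, 1]) (cert [3, 3, 3, 3, 3, 1]) (cert [1, 1, 1, 1, 1, 1]) (cert [4, 4, 4, 4, 4, 1]) (cert [2, 2, 2, 2, 2, 1])
def t143 : HTree := splitA t142 [3, 2, 4, 1, 4, 1]
def t144 : HTree := splitS t143 5 4 1
def t145 : HTree := splitS t144 5 3 0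
def t146 : HTree := splitA t145 [1, 1, 1, 1, 1, 0]
def t147 : HTree := splitA (skipZ 5) [6, 4, 8, 2, 5, 2]
def t148 : HTree := splitA (fin [2, 2, 2, 2, 1, 2]) [4, 3, 5, 2, 3, 1]
def t149 : HTree := splitA (leaf 1 [5, 3, 1, 0, 2, 4]) [4, 3, 5, 2, 3, 1]
def t150 : HTree := splitA (leaf 3 [4, 2, 0, 1, 3, 5]) [10, 8, 12, 6, 7, 2]
def t151 : HTree := split t147 t148 t149 t150 (cert [2, 2, 2, 2, 1, 2]) (cert [6, 6, 6, 6, 3, 2]) (cert [2, 2, 2, 2, 1, 2]) (cert [4, 4, 4, 4, 2, 1]) (cert [2, 2, 2, 2, 1, 1])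
def t152 : HTree := splitA t151 [3, 2, 4, 1, 2, 1]
def t153 : HTree := splitS t152 5 4 1
def t154 : HTree := splitS t153 5 3 0
def t155 : HTree := splitA t154 [8, 7, 9, 6, 5, 0]
def t156 : HTree := split t126 t137 t146 t155 (cert [3, 2, 4, 1, 5, 0]) (cert [9, 6, 12, 3, 5, 0]) (cert [3, 2, 4, 1, 5, 0]) (cert [12, 8, 16, 4, 5, 0]) (cert [6, 4, 8, 2, 5, 0])
def t157 : HTree := splitB (skipZ 5) (fin [4, 6, 2, 3, 5, 4]) [4, 6, 2, 3, 5, 4] [4, 6, 2, 3, 5, 2]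
def t158 : HTree := splitA (fin [4, 6, 2, 5, 3, 4]) [2, 3, 1, 2, 2, 1]
def t159 : HTree := splitB t157 t158 [4, 6, 2, 5, 3, 4] [4, 6, 2, 5, 3, 2]
def t160 : HTree := splitA (fin [2, 2, 2, 1, 1, 2]) [8, 10, 6, 5, 7, 4]
def t161 : HTree := splitA t160 [8, 10, 6, 7, 5, 4]
def t162 : HTree := splitA (leaf 5 [5, 2, 0, 1, 3, 4]) [8, 10, 6, 5, 7, 4]
def t163 : HTree := splitA t162 [8, 10, 6, 7, 5, 4]
def t164 : HTree := splitA (leaf 4 [5, 2, 0, 1, 3, 4]) [12, 14, 10, 7, 9, 4]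
def t165 : HTree := splitA t164 [12, 14, 10, 9, 7, 4]
def t166 : HTree := split t159 t161 t163 t165 (cert [2, 2, 2, 1, 1, 2]) (cert [6, 6, 6, 3, 3, 2]) (cert [2, 2, 2, 1, 1, 2]) (cert [4, 4, 4, 2, 2, 1]) (cert [2, 2, 2, 1, 1, 1])
def t167 : HTree := splitA t166 [4, 6, 2, 3, 3, 2]
def t168 : HTree := splitS t167 5 3 0
def t169 : HTree := splitA t168 [6, 9, 3, 7, 5, 0]
def t170 : HTree := splitA t169 [7, 8, 6, 4, 5, 0]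
def t171 : HTree := splitB t156 t170 [4, 6, 2, 3, 5, 0] [8, 12, 4, 6, 5, 0]
def t172 : HTree := splitS t171 4 3 0
def t173 : HTree := splitA t172 [1, 1, 1, 1, 0, 0]
def t174 : HTree := splitA (skipZ 4) [2, 3, 1, 4, 2, 0]
def t175 : HTree := split (skipZ 5) (fin [1, 1, 1, 1, 1, 1]) (leaf 2 [3, 1, 0, 2, 4, 5]) (leaf 1 [3, 1, 0, 2, 4, 5]) (cert [1, 1, 1, 1, 1, 1]) (cert [3, 3, 3, 3, 3, 1]) (cert [1, 1, 1, 1, 1, 1]) (cert [4, 4, 4, 4, 4, 1]) (cert [2, 2, 2, 2, 2, 1])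
def t176 : HTree := splitA t175 [3, 4, 2, 5, 1, 2]
def t177 : HTree := splitA (leaf 5 [3, 1, 0, 2, 4, 5]) [3, 3, 3, 3, 2, 1]
def t178 : HTree := splitA t177 [7, 8, 6, 9, 3, 2]
def t179 : HTree := splitB t176 t178 [2, 2, 2, 2, 1, 1] [4, 4, 4, 4, 2, 1]
def t180 : HTree := splitS t179 5 4 1
def t181 : HTree := splitS t180 5 3 0
def t182 : HTree := splitA t181 [4, 5, 3, 6, 2, 0]
def t183 : HTree := splitB t174 t182 [1, 1, 1, 1, 1, 0] [2, 2, 2, 2, 1, 0]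
def t184 : HTree := splitA t183 [2, 3, 1, 3, 1, 0]
def t185 : HTree := splitS t184 4 3 0
def t186 : HTree := splitA t185 [1, 1, 1, 1, 0, 0]
def t187 : HTree := splitA (skipZ 4) [2, 3, 1, 2, 1, 0]
def t188 : HTree := split (skipZ 5) (fin [2, 2, 2, 1, 2, 2]) (leaf 1 [5, 4, 2, 0, 1, 3]) (leaf 3 [3, 1, 0, 2, 4, 5]) (cert [2, 2, 2, 1, 2, 2]) (cert [6, 6, 6, 3, 6, 2]) (cert [2, 2, 2, 1, 2, 2]) (cert [4, 4, 4, 2, 4, 1]) (cert [2, 2, 2, 1, 2, 1])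
def t189 : HTree := splitA t188 [6, 8, 4, 5, 2, 2]
def t190 : HTree := splitA (leaf 4 [3, 1, 0, 2, 4, 5]) [6, 6, 6, 3, 4, 2]
def t191 : HTree := splitA t190 [10, 12, 8, 7, 4, 2]
def t192 : HTree := splitB t189 t191 [2, 2, 2, 1, 1, 1] [4, 4, 4, 2, 2, 1]
def t193 : HTree := splitS t192 5 4 1
def t194 : HTree := splitS t193 5 3 0
def t195 : HTree := splitA t194 [6, 8, 4, 5, 2, 0]
def t196 : HTree := splitB t187 t195 [2, 2, 2, 1, 2, 0] [2, 2, 2, 1, 1, 0]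
def t197 : HTree := splitA t196 [4, 6, 2, 3, 2, 0]
def t198 : HTree := splitS t197 4 3 0
def t199 : HTree := splitA t198 [6, 7, 5, 4, 0, 0]
def t200 : HTree := split t109 t173 t186 t199 (cert [2, 3, 1, 4, 0, 0]) (cert [6, 9, 3, 4, 0, 0]) (cert [2, 3, 1, 4, 0, 0]) (cert [2, 3, 1, 1, 0, 0]) (cert [2, 3, 1, 2, 0, 0])
def t201 : HTree := split (skipZ 5) (fin [2, 1, 1, 2, 2, 2]) (leaf 5 [5, 4, 3, 0, 1, 2]) (leaf 4 [5, 4, 3, 0, 1, 2]) (cert [2, 1, 1, 2, 2, 2]) (cert [6, 3, 3, 6, 6, 2]) (cert [2, 1, 1, 2, 2, 2]) (cert [4, 2, 2, 4, 4, 1]) (cert [2, 1, 1, 2, 2, 1])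
def t202 : HTree := splitA (leaf 6 [1, 2, 0, 3, 4, 5]) [6, 3, 3, 6, 4, 2]
def t203 : HTree := splitB t201 t202 [2, 1, 1, 2, 1, 1] [4, 2, 2, 4, 2, 1]
def t204 : HTree := splitS t203 5 4 2
def t205 : HTree := splitS t204 5 4 1
def t206 : HTree := splitS t205 5 4 0
def t207 : HTree := splitB (skipZ 4) t206 [2, 1, 1, 2, 2, 0] [2, 1, 1, 2, 1, 0]
def t208 : HTree := split (skipZ 5) (fin [2, 1, 2, 1, 2, 2]) (leaf 5 [5, 4, 2, 0, 1, 3]) (leaf 4 [5, 4, 2, 0, 1, 3]) (cert [2, 1, 2, 1, 2, 2]) (cert [6, 3, 6, 3, 6, 2]) (cert [2, 1, 2, 1, 2, 2]) (cert [4, 2, 4, 2, 4, 1]) (cert [2, 1, 2, 1, 2, 1])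
def t209 : HTree := splitA (fin [6, 3, 4, 5, 2, 4]) [10, 5, 8, 7, 6, 4]
def t210 : HTree := splitB t208 t209 [6, 3, 4, 5, 2, 4] [6, 3, 4, 5, 2, 2]
def t211 : HTree := splitA (leaf 6 [1, 3, 0, 2, 4, 5]) [6, 3, 6, 3, 4, 2]
def t212 : HTree := splitA t211 [14, 7, 12, 9, 6, 4]
def t213 : HTree := splitB t210 t212 [2, 1, 2, 1, 1, 1] [4, 2, 4, 2, 2, 1]
def t214 : HTree := splitS t213 5 4 1
def t215 : HTree := splitS t214 5 4 0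
def t216 : HTree := splitA t215 [4, 2, 3, 3, 2, 0]
def t217 : HTree := splitB t207 t216 [2, 1, 2, 1, 2, 0] [2, 1, 2, 1, 1, 0]
def t218 : HTree := split (skipZ 5) (fin [2, 2, 1, 1, 2, 2]) (leaf 5 [5, 4, 1, 0, 2, 3]) (leaf 4 [5, 4, 1, 0, 2, 3]) (cert [2, 2, 1, 1, 2, 2]) (cert [6, 6, 3, 3, 6, 2]) (cert [2, 2, 1, 1, 2, 2]) (cert [4, 4, 2, 2, 4, 1]) (cert [2, 2, 1, 1, 2, 1])
def t219 : HTree := splitA (fin [6, 4, 3, 5, 2, 4]) [10, 8, 5, 7, 6, 4]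
def t220 : HTree := splitB t218 t219 [6, 4, 3, 5, 2, 4] [6, 4, 3, 5, 2, 2]
def t221 : HTree := splitA (fin [6, 4, 5, 3, 2, 4]) [10, 8, 7, 5, 6, 4]
def t222 : HTree := splitA t221 [3, 2, 2, 2, 1, 1]
def t223 : HTree := splitB t220 t222 [6, 4, 5, 3, 2, 4] [6, 4, 5, 3, 2, 2]
def t224 : HTree := splitA (leaf 6 [2, 3, 0, 1, 4, 5]) [6, 6, 3, 3, 4, 2]
def t225 : HTree := splitA t224 [14, 12, 7, 9, 6, 4]
def t226 : HTree := splitA t225 [14, 12, 9, 7, 6, 4]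
def t227 : HTree := splitB t223 t226 [2, 2, 1, 1, 1, 1] [4, 4, 2, 2, 2, 1]
def t228 : HTree := splitS t227 5 4 0
def t229 : HTree := splitA t228 [4, 3, 2, 3, 2, 0]
def t230 : HTree := splitA t229 [4, 3, 3, 2, 2, 0]
def t231 : HTree := splitB t217 t230 [2, 2, 1, 1, 2, 0] [2, 2, 1, 1, 1, 0]
def t232 : HTree := splitA t231 [2, 1, 1, 1, 1, 0]
def t233 : HTree := splitA t232 [6, 3, 5, 4, 0, 0]
def t234 : HTree := splitA t233 [6, 5, 3, 4, 0, 0]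
def t235 : HTree := splitB t200 t234 [2, 1, 1, 2, 0, 0] [2, 1, 1, 1, 0, 0]
def t236 : HTree := splitA t235 [1, 1, 1, 0, 0, 0]
def t237 : HTree := splitA (skipZ 4) [2, 1, 3, 2, 1, 0]
def t238 : HTree := splitA t237 [4, 2, 6, 3, 1, 0]
def t239 : HTree := splitS t238 4 3 1
def t240 : HTree := splitS t239 4 3 0
def t241 : HTree := splitB (skipZ 3) t240 [2, 1, 3, 2, 0, 0] [2, 1, 3, 1, 0, 0]
def t242 : HTree := split (skipZ 5) (fin [1, 1, 1, 1, 1, 1]) (leaf 2 [2, 0, 1, 3, 4, 5]) (leaf 1 [2, 0, 1, 3, 4, 5]) (cert [1, 1, 1, 1, 1, 1]) (cert [3, 3, 3, 3, 3, 1]) (cert [1, 1, 1, 1, 1, 1]) (cert [4, 4, 4, 4, 4, 1]) (cert [2, 2, 2, 2, 2, 1])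
def t243 : HTree := splitA (leaf 5 [2, 0, 1, 3, 4, 5]) [3, 3, 3, 3, 2, 1]
def t244 : HTree := splitB t242 t243 [2, 2, 2, 2, 1, 1] [4, 4, 4, 4, 2, 1]
def t245 : HTree := splitS t244 5 4 2
def t246 : HTree := splitS t245 5 4 1
def t247 : HTree := splitS t246 5 3 0
def t248 : HTree := splitB (skipZ 4) t247 [1, 1, 1, 1, 1, 0] [2, 2, 2, 2, 1, 0]
def t249 : HTree := splitA t248 [3, 2, 4, 1, 2, 0]
def t250 : HTree := splitA t249 [2, 2, 2, 1, 1, 0]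
def t251 : HTree := splitS t250 4 3 0
def t252 : HTree := splitA t251 [4, 3, 5, 2, 0, 0]
def t253 : HTree := splitB t241 t252 [1, 1, 1, 1, 0, 0] [2, 2, 2, 1, 0, 0]
def t254 : HTree := splitA t253 [2, 1, 2, 1, 0, 0]
def t255 : HTree := splitA t254 [1, 1, 1, 0, 0, 0]
def t256 : HTree := splitA (skipZ 4) [4, 2, 3, 2, 1, 0]
def t257 : HTree := splitA t256 [8, 4, 6, 3, 1, 0]
def t258 : HTree := splitS t257 4 3 1
def t259 : HTree := splitS t258 4 3 0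
def t260 : HTree := splitB (skipZ 3) t259 [4, 2, 3, 2, 0, 0] [4, 2, 3, 1, 0, 0]
def t261 : HTree := split (skipZ 5) (fin [2, 2, 1, 2, 2, 2]) (leaf 1 [5, 4, 3, 1, 0, 2]) (leaf 3 [2, 0, 1, 3, 4, 5]) (cert [2, 2, 1, 2, 2, 2]) (cert [6, 6, 3, 6, 6, 2]) (cert [2, 2, 1, 2, 2, 2]) (cert [4, 4, 2, 4, 4, 1]) (cert [2, 2, 1, 2, 2, 1])
def t262 : HTree := splitA (leaf 4 [2, 0, 1, 3, 4, 5]) [6, 6, 3, 6, 4, 2]
def t263 : HTree := splitB t261 t262 [2, 2, 1, 2, 1, 1] [4, 4, 2, 4, 2, 1]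
def t264 : HTree := splitS t263 5 4 2
def t265 : HTree := splitS t264 5 4 1
def t266 : HTree := splitS t265 5 3 0
def t267 : HTree := splitB (skipZ 4) t266 [2, 2, 1, 2, 2, 0] [2, 2, 1, 2, 1, 0]
def t268 : HTree := splitA t267 [3, 2, 2, 1, 1, 0]
def t269 : HTree := splitA t268 [2, 2, 1, 1, 1, 0]
def t270 : HTree := splitS t269 4 3 0
def t271 : HTree := splitA t270 [3, 2, 2, 1, 0, 0]
def t272 : HTree := splitB t260 t271 [2, 2, 1, 2, 0, 0] [2, 2, 1, 1, 0, 0]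
def t273 : HTree := splitA t272 [2, 1, 1, 1, 0, 0]
def t274 : HTree := splitA t273 [5, 4, 3, 0, 0, 0]
def t275 : HTree := split t73 t236 t255 t274 (cert [2, 1, 3, 0, 0, 0]) (cert [2, 1, 1, 0, 0, 0]) (cert [2, 1, 3, 0, 0, 0]) (cert [8, 4, 3, 0, 0, 0]) (cert [4, 2, 3, 0, 0, 0])
def t276 : HTree := split (skipZ 5) (fin [1, 2, 2, 2, 2, 2]) (leaf 1 [5, 4, 3, 2, 1, 0]) (leaf 3 [0, 1, 2, 3, 4, 5]) (cert [1, 2, 2, 2, 2, 2]) (cert [3, 6, 6, 6, 6, 2]) (cert [1, 2, 2, 2, 2, 2]) (cert [2, 4, 4, 4, 4, 1]) (cert [1, 2, 2, 2, 2, 1])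
def t277 : HTree := splitA (leaf 4 [0, 1, 2, 3, 4, 5]) [3, 6, 6, 6, 4, 2]
def t278 : HTree := splitB t276 t277 [1, 2, 2, 2, 1, 1] [2, 4, 4, 4, 2, 1]
def t279 : HTree := splitS t278 5 4 2
def t280 : HTree := splitS t279 5 3 1
def t281 : HTree := splitS t280 5 2 0
def t282 : HTree := splitB (skipZ 4) t281 [1, 2, 2, 2, 2, 0] [1, 2, 2, 2, 1, 0]
def t283 : HTree := splitA t282 [1, 2, 2, 1, 1, 0]
def t284 : HTree := splitS t283 4 3 1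
def t285 : HTree := splitS t284 4 2 0
def t286 : HTree := splitB (skipZ 3) t285 [1, 2, 2, 2, 0, 0] [1, 2, 2, 1, 0, 0]
def t287 : HTree := splitA t286 [1, 2, 1, 1, 0, 0]
def t288 : HTree := splitS t287 3 2 0
def t289 : HTree := splitB (skipZ 2) t288 [1, 2, 2, 0, 0, 0] [1, 2, 1, 0, 0, 0]
def t290 : HTree := split (skipZ 5) (fin [1, 1, 1, 1, 1, 1]) (leaf 2 [1, 0, 2, 3, 4, 5]) (leaf 1 [1, 0, 2, 3, 4, 5]) (cert [1, 1, 1, 1, 1, 1]) (cert [3, 3, 3, 3, 3, 1]) (cert [1, 1, 1, 1, 1, 1]) (cert [4, 4, 4, 4, 4, 1]) (cert [2, 2, 2, 2, 2, 1])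
def t291 : HTree := splitA (leaf 5 [1, 0, 2, 3, 4, 5]) [3, 3, 3, 3, 2, 1]
def t292 : HTree := splitB t290 t291 [2, 2, 2, 2, 1, 1] [4, 4, 4, 4, 2, 1]
def t293 : HTree := splitS t292 5 4 2
def t294 : HTree := splitS t293 5 3 1
def t295 : HTree := splitS t294 5 3 0
def t296 : HTree := splitB (skipZ 4) t295 [1, 1, 1, 1, 1, 0] [2, 2, 2, 2, 1, 0]
def t297 : HTree := splitA t296 [2, 2, 2, 1, 1, 0]
def t298 : HTree := splitS t297 4 3 1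
def t299 : HTree := splitS t298 4 3 0
def t300 : HTree := splitB (skipZ 3) t299 [1, 1, 1, 1, 0, 0] [2, 2, 2, 1, 0, 0]
def t301 : HTree := splitA (skipZ 4) [2, 3, 1, 2, 1, 0]
def t302 : HTree := splitA t301 [3, 4, 2, 2, 1, 0]
def t303 : HTree := splitA t302 [4, 6, 2, 3, 1, 0]
def t304 : HTree := splitS t303 4 3 0
def t305 : HTree := splitA t304 [4, 5, 3, 2, 0, 0]
def t306 : HTree := splitB t300 t305 [2, 3, 1, 2, 0, 0] [2, 3, 1, 1, 0, 0]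
def t307 : HTree := splitA t306 [2, 2, 1, 1, 0, 0]
def t308 : HTree := splitA t307 [3, 4, 2, 0, 0, 0]
def t309 : HTree := splitB t289 t308 [1, 1, 1, 0, 0, 0] [2, 2, 1, 0, 0, 0]
def t310 : HTree := split (skipZ 5) (fin [1, 1, 1, 1, 1, 1]) (leaf 2 [0, 1, 2, 3, 4, 5]) (leaf 1 [0, 1, 2, 3, 4, 5]) (cert [1, 1, 1, 1, 1, 1]) (cert [3, 3, 3, 3, 3, 1]) (cert [1, 1, 1, 1, 1, 1]) (cert [4, 4, 4, 4, 4, 1]) (cert [2, 2, 2, 2, 2, 1])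
def t311 : HTree := splitA (leaf 5 [0, 1, 2, 3, 4, 5]) [3, 3, 3, 3, 2, 1]
def t312 : HTree := splitB t310 t311 [2, 2, 2, 2, 1, 1] [4, 4, 4, 4, 2, 1]
def t313 : HTree := splitS t312 5 4 2
def t314 : HTree := splitS t313 5 3 1
def t315 : HTree := splitS t314 5 2 0
def t316 : HTree := splitB (skipZ 4) t315 [1, 1, 1, 1, 1, 0] [2, 2, 2, 2, 1, 0]
def t317 : HTree := splitA t316 [2, 2, 2, 1, 1, 0]
def t318 : HTree := splitS t317 4 3 1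
def t319 : HTree := splitS t318 4 2 0
def t320 : HTree := splitB (skipZ 3) t319 [1, 1, 1, 1, 0, 0] [2, 2, 2, 1, 0, 0]
def t321 : HTree := splitA t320 [2, 2, 1, 1, 0, 0]
def t322 : HTree := splitS t321 3 2 0
def t323 : HTree := splitB (skipZ 2) t322 [1, 1, 1, 0, 0, 0] [2, 2, 1, 0, 0, 0]
def t324 : HTree := split (skipZ 5) (fin [2, 1, 2, 2, 2, 2]) (leaf 1 [5, 4, 3, 2, 0, 1]) (leaf 3 [1, 0, 2, 3, 4, 5]) (cert [2, 1, 2, 2, 2, 2]) (cert [6, 3, 6, 6, 6, 2]) (cert [2, 1, 2, 2, 2, 2]) (cert [4, 2, 4, 4, 4, 1]) (cert [2, 1, 2, 2, 2, 1])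
def t325 : HTree := splitA (leaf 4 [1, 0, 2, 3, 4, 5]) [6, 3, 6, 6, 4, 2]
def t326 : HTree := splitB t324 t325 [2, 1, 2, 2, 1, 1] [4, 2, 4, 4, 2, 1]
def t327 : HTree := splitS t326 5 4 2
def t328 : HTree := splitS t327 5 3 1
def t329 : HTree := splitS t328 5 3 0
def t330 : HTree := splitB (skipZ 4) t329 [2, 1, 2, 2, 2, 0] [2, 1, 2, 2, 1, 0]
def t331 : HTree := splitA t330 [2, 1, 2, 1, 1, 0]
def t332 : HTree := splitS t331 4 3 1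
def t333 : HTree := splitS t332 4 3 0
def t334 : HTree := splitB (skipZ 3) t333 [2, 1, 2, 2, 0, 0] [2, 1, 2, 1, 0, 0]
def t335 : HTree := splitA (skipZ 4) [4, 3, 2, 2, 1, 0]
def t336 : HTree := splitA t335 [3, 2, 2, 1, 1, 0]
def t337 : HTree := splitA t336 [8, 6, 4, 3, 1, 0]
def t338 : HTree := splitS t337 4 3 0
def t339 : HTree := splitA t338 [3, 2, 2, 1, 0, 0]
def t340 : HTree := splitB t334 t339 [4, 3, 2, 2, 0, 0] [4, 3, 2, 1, 0, 0]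
def t341 : HTree := splitA t340 [2, 1, 1, 1, 0, 0]
def t342 : HTree := splitA t341 [4, 3, 2, 0, 0, 0]
def t343 : HTree := splitB t323 t342 [2, 1, 2, 0, 0, 0] [2, 1, 1, 0, 0, 0]
def t344 : HTree := splitA (skipZ 2) [1, 2, 1, 0, 0, 0]
def t345 : HTree := splitA t344 [2, 3, 1, 0, 0, 0]
def t346 : HTree := splitA (skipZ 2) [3, 2, 1, 0, 0, 0]
def t347 : HTree := splitA t346 [2, 1, 1, 0, 0, 0]
def t348 : HTree := split (skipZ 1) t275 t309 t343 t345 t347 (cert [1, 2, 0, 0, 0, 0]) (cert [2, 1, 0, 0, 0, 0]) (cert [1, 1, 0, 0, 0, 0])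

def tree : HTree := t348

set_option maxRecDepth 100000 in
theorem tree_ok : chk 6 canon tree [] = true := by decide +kernel

end Groth.Agent.H79.Aff.N6
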