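import Groth.Agent.H79.AffCheck

/-! Certificate tree for the classification of affine data on 7 indices (generated). -/

set_option autoImplicit false

namespace Groth.Agent.H79.Aff.N7

open Groth.Agent.H79.Aff Groth.Agent.H79.Aff.HTree

def canon : List (List (List ℕ)) := [
  [[0, 1, 0, 0, 0, 0, 1], [1, 0, 1, 0, 0, 0, 0], [0, 1, 0, 1, 0, 0, 0], [0, 0, 1, 0, 1, 0, 0], [0, 0, 0, 1, 0, 1, 0], [0, 0, 0, 0, 1, 0, 1], [1, 0, 0, 0, 0, 1, 0]],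
  [[0, 2, 0, 0, 0, 0, 0], [1, 0, 1, 0, 0, 0, 0], [0, 1, 0, 1, 0, 0, 0], [0, 0, 1, 0, 1, 0, 0], [0, 0, 0, 1, 0, 1, 0], [0, 0, 0, 0, 1, 0, 2], [0, 0, 0, 0, 0, 1, 0]],
  [[0, 2, 0, 0, 0, 0, 0], [1, 0, 1, 0, 0, 0, 0], [0, 1, 0, 1, 0, 0, 0], [0, 0, 1, 0, 1, 0, 0], [0, 0, 0, 1, 0, 1, 0], [0, 0, 0, 0, 1, 0, 1], [0, 0, 0, 0, 0, 2, 0]],
  [[0, 1, 0, 0, 0, 0, 0], [2, 0, 1, 0, 0, 0, 0], [0, 1, 0, 1, 0, 0, 0], [0, 0, 1, 0, 1, 0, 0], [0, 0, 0, 1, 0, 1, 0], [0, 0, 0, 0, 1, 0, 2], [0, 0, 0, 0, 0, 1, 0]],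
  [[0, 1, 0, 0, 0, 0, 0], [2, 0, 1, 0, 0, 0, 0], [0, 1, 0, 1, 0, 0, 0], [0, 0, 1, 0, 1, 0, 0], [0, 0, 0, 1, 0, 1, 1], [0, 0, 0, 0, 1, 0, 0], [0, 0, 0, 0, 1, 0, 0]],
  [[0, 2, 0, 0, 0, 0, 0], [1, 0, 1, 0, 0, 0, 0], [0, 1, 0, 1, 0, 0, 0], [0, 0, 1, 0, 1, 0, 0], [0, 0, 0, 1, 0, 1, 1], [0, 0, 0, 0, 1, 0, 0], [0, 0, 0, 0, 1, 0, 0]],
  [[0, 0, 1, 0, 0, 0, 0], [0, 0, 1, 0, 0, 0, 0], [1, 1, 0, 1, 0, 0, 0], [0, 0, 1, 0, 1, 0, 0], [0, 0, 0, 1, 0, 1, 1], [0, 0, 0, 0, 1, 0, 0], [0, 0, 0, 0, 1, 0, 0]],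
  [[0, 1, 0, 0, 0, 0, 0], [1, 0, 1, 0, 0, 0, 0], [0, 1, 0, 0, 1, 0, 1], [0, 0, 0, 0, 1, 0, 0], [0, 0, 1, 1, 0, 0, 0], [0, 0, 0, 0, 0, 0, 1], [0, 0, 1, 0, 0, 1, 0]]
]

def t1 : HTree := split (skipZ 6) (fin [1, 2, 3, 4, 5, 6, 7]) (fin [1, 2, 3, 4, 5, 6, 7]) (fin [2, 4, 6, 8, 10, 12, 7]) (cert [1, 2, 3, 4, 5, 6, 7]) (cert [3, 6, 9, 12, 15, 18, 7]) (cert [1, 2, 3, 4, 5, 6, 7]) (cert [4, 8, 12, 16, 20, 24, 7]) (cert [2, 4, 6, 8, 10, 12, 7])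
def t2 : HTree := splitA (fin [2, 4, 6, 8, 10, 5, 7]) [3, 6, 9, 12, 15, 11, 7]
def t3 : HTree := splitB t1 t2 [2, 4, 6, 8, 10, 5, 7] [4, 8, 12, 16, 20, 10, 7]
def t4 : HTree := splitS t3 6 5 3
def t5 : HTree := splitS t4 6 4 2
def t6 : HTree := splitS t5 6 3 1
def t7 : HTree := splitS t6 6 2 0
def t8 : HTree := splitA (skipZ 6) [1, 2, 3, 4, 5, 6, 2]
def t9 : HTree := splitA t8 [1, 2, 3, 4, 5, 5, 1]
def t10 : HTree := splitS t9 6 5 3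
def t11 : HTree := splitS t10 6 4 2
def t12 : HTree := splitS t11 6 3 1
def t13 : HTree := splitS t12 6 2 0
def t14 : HTree := splitA (skipZ 6) [1, 2, 3, 4, 5, 3, 1]
def t15 : HTree := splitA t14 [2, 4, 6, 8, 10, 5, 2]
def t16 : HTree := splitS t15 6 5 3
def t17 : HTree := splitS t16 6 4 2
def t18 : HTree := splitS t17 6 3 1
def t19 : HTree := splitS t18 6 2 0
def t20 : HTree := split (skipZ 5) t7 t13 t19 (cert [1, 2, 3, 4, 5, 6, 0]) (cert [1, 2, 3, 4, 5, 2, 0]) (cert [1, 2, 3, 4, 5, 6, 0]) (cert [2, 4, 6, 8, 10, 3, 0]) (cert [1, 2, 3, 4, 5, 3, 0])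
def t21 : HTree := splitB (skipZ 6) (fin [1, 2, 3, 4, 2, 3, 2]) [1, 2, 3, 4, 2, 3, 2] [1, 2, 3, 4, 2, 3, 1]
def t22 : HTree := splitA (fin [1, 2, 3, 4, 3, 2, 2]) [2, 4, 6, 8, 5, 5, 2]
def t23 : HTree := splitB t21 t22 [1, 2, 3, 4, 3, 2, 2] [1, 2, 3, 4, 3, 2, 1]
def t24 : HTree := splitA t23 [1, 2, 3, 4, 2, 2, 1]
def t25 : HTree := splitS t24 6 4 2
def t26 : HTree := splitS t25 6 3 1
def t27 : HTree := splitS t26 6 2 0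
def t28 : HTree := splitA t27 [1, 2, 3, 4, 3, 2, 0]
def t29 : HTree := splitB t20 t28 [1, 2, 3, 4, 2, 3, 0] [2, 4, 6, 8, 4, 3, 0]
def t30 : HTree := splitS t29 5 4 2
def t31 : HTree := splitS t30 5 3 1
def t32 : HTree := splitS t31 5 2 0
def t33 : HTree := splitA (skipZ 5) [1, 2, 3, 4, 5, 2, 0]
def t34 : HTree := splitA t33 [1, 2, 3, 4, 4, 1, 0]
def t35 : HTree := splitS t34 5 4 2
def t36 : HTree := splitS t35 5 3 1
def t37 : HTree := splitS t36 5 2 0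
def t38 : HTree := splitA (skipZ 5) [2, 4, 6, 8, 5, 2, 0]
def t39 : HTree := splitA t38 [1, 2, 3, 4, 2, 1, 0]
def t40 : HTree := splitS t39 5 4 2
def t41 : HTree := splitS t40 5 3 1
def t42 : HTree := splitS t41 5 2 0
def t43 : HTree := split (skipZ 4) t32 t37 t42 (cert [1, 2, 3, 4, 5, 0, 0]) (cert [3, 6, 9, 12, 5, 0, 0]) (cert [1, 2, 3, 4, 5, 0, 0]) (cert [4, 8, 12, 16, 5, 0, 0]) (cert [2, 4, 6, 8, 5, 0, 0])
def t44 : HTree := splitB (skipZ 6) (fin [2, 4, 6, 3, 5, 4, 3]) [2, 4, 6, 3, 5, 4, 3] [4, 8, 12, 6, 10, 8, 3]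
def t45 : HTree := splitA t44 [4, 8, 12, 6, 10, 5, 3]
def t46 : HTree := splitS t45 6 5 3
def t47 : HTree := splitS t46 6 5 2
def t48 : HTree := splitS t47 6 3 1
def t49 : HTree := splitS t48 6 2 0
def t50 : HTree := splitB (skipZ 5) t49 [2, 4, 6, 3, 5, 4, 0] [2, 4, 6, 3, 5, 2, 0]
def t51 : HTree := splitB (skipZ 6) (fin [2, 4, 6, 5, 3, 4, 3]) [2, 4, 6, 5, 3, 4, 3] [4, 8, 12, 10, 6, 8, 3]
def t52 : HTree := splitA (leaf 7 [0, 1, 2, 5, 3, 6, 4]) [5, 10, 15, 11, 9, 7, 3]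
def t53 : HTree := splitB t51 t52 [1, 2, 3, 2, 2, 1, 1] [2, 4, 6, 4, 4, 2, 1]
def t54 : HTree := splitA t53 [4, 8, 12, 10, 6, 5, 3]
def t55 : HTree := splitS t54 6 5 2
def t56 : HTree := splitS t55 6 3 1
def t57 : HTree := splitS t56 6 2 0
def t58 : HTree := splitA t57 [1, 2, 3, 2, 2, 1, 0]
def t59 : HTree := splitB t50 t58 [2, 4, 6, 5, 3, 4, 0] [2, 4, 6, 5, 3, 2, 0]
def t60 : HTree := splitA t59 [2, 4, 6, 3, 3, 2, 0]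
def t61 : HTree := splitS t60 5 3 1
def t62 : HTree := splitS t61 5 2 0
def t63 : HTree := splitA t62 [3, 6, 9, 7, 5, 0, 0]
def t64 : HTree := splitB t43 t63 [2, 4, 6, 3, 5, 0, 0] [4, 8, 12, 6, 5, 0, 0]
def t65 : HTree := splitS t64 4 3 1
def t66 : HTree := splitS t65 4 2 0
def t67 : HTree := splitA (skipZ 4) [1, 2, 3, 4, 2, 0, 0]
def t68 : HTree := splitA t67 [1, 2, 3, 3, 1, 0, 0]
def t69 : HTree := splitS t68 4 3 1
def t70 : HTree := splitS t69 4 2 0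
def t71 : HTree := splitA (skipZ 4) [1, 2, 3, 2, 1, 0, 0]
def t72 : HTree := splitA t71 [2, 4, 6, 3, 2, 0, 0]
def t73 : HTree := splitS t72 4 3 1
def t74 : HTree := splitS t73 4 2 0
def t75 : HTree := split (skipZ 3) t66 t70 t74 (cert [1, 2, 3, 4, 0, 0, 0]) (cert [3, 6, 9, 4, 0, 0, 0]) (cert [1, 2, 3, 4, 0, 0, 0]) (cert [1, 2, 3, 1, 0, 0, 0]) (cert [1, 2, 3, 2, 0, 0, 0])
def t76 : HTree := split (skipZ 6) (fin [1, 2, 1, 2, 2, 2, 2]) (leaf 5 [6, 5, 4, 3, 1, 0, 2]) (leaf 4 [6, 5, 4, 3, 1, 0, 2]) (cert [1, 2, 1, 2, 2, 2, 2]) (cert [3, 6, 3, 6, 6, 6, 2]) (cert [1, 2, 1, 2, 2, 2, 2]) (cert [2, 4, 2, 4, 4, 4, 1]) (cert [1, 2, 1, 2, 2, 2, 1])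
def t77 : HTree := splitA (leaf 6 [0, 2, 1, 3, 4, 5, 6]) [3, 6, 3, 6, 6, 4, 2]
def t78 : HTree := splitB t76 t77 [1, 2, 1, 2, 2, 1, 1] [2, 4, 2, 4, 4, 2, 1]
def t79 : HTree := splitS t78 6 5 3
def t80 : HTree := splitS t79 6 4 2
def t81 : HTree := splitS t80 6 4 1
def t82 : HTree := splitS t81 6 2 0
def t83 : HTree := splitB (skipZ 5) t82 [1, 2, 1, 2, 2, 2, 0] [1, 2, 1, 2, 2, 1, 0]
def t84 : HTree := splitA t83 [1, 2, 1, 2, 1, 1, 0]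
def t85 : HTree := splitS t84 5 4 2
def t86 : HTree := splitS t85 5 4 1
def t87 : HTree := splitS t86 5 2 0
def t88 : HTree := splitB (skipZ 4) t87 [1, 2, 1, 2, 2, 0, 0] [1, 2, 1, 2, 1, 0, 0]
def t89 : HTree := split (skipZ 6) (fin [1, 2, 2, 1, 2, 2, 2]) (leaf 5 [6, 5, 4, 2, 1, 0, 3]) (leaf 4 [6, 5, 4, 2, 1, 0, 3]) (cert [1, 2, 2, 1, 2, 2, 2]) (cert [3, 6, 6, 3, 6, 6, 2]) (cert [1, 2, 2, 1, 2, 2, 2]) (cert [2, 4, 4, 2, 4, 4, 1]) (cert [1, 2, 2, 1, 2, 2, 1])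
def t90 : HTree := splitA (leaf 6 [0, 3, 1, 2, 4, 5, 6]) [3, 6, 6, 3, 6, 4, 2]
def t91 : HTree := splitB t89 t90 [1, 2, 2, 1, 2, 1, 1] [2, 4, 4, 2, 4, 2, 1]
def t92 : HTree := splitS t91 6 5 3
def t93 : HTree := splitS t92 6 5 2
def t94 : HTree := splitS t93 6 4 1
def t95 : HTree := splitS t94 6 2 0
def t96 : HTree := splitB (skipZ 5) t95 [1, 2, 2, 1, 2, 2, 0] [1, 2, 2, 1, 2, 1, 0]
def t97 : HTree := splitB (skipZ 6) (fin [3, 6, 4, 5, 2, 4, 3]) [3, 6, 4, 5, 2, 4, 3] [6, 12, 8, 10, 4, 8, 3]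
def t98 : HTree := splitA (fin [3, 6, 5, 4, 4, 2, 3]) [2, 4, 3, 3, 2, 2, 1]
def t99 : HTree := splitB t97 t98 [3, 6, 5, 4, 4, 2, 3] [6, 12, 10, 8, 8, 4, 3]
def t100 : HTree := splitA t99 [6, 12, 8, 10, 4, 5, 3]
def t101 : HTree := splitS t100 6 5 2
def t102 : HTree := splitS t101 6 4 1
def t103 : HTree := splitS t102 6 2 0
def t104 : HTree := splitA t103 [5, 10, 8, 7, 6, 4, 0]
def t105 : HTree := splitB t96 t104 [3, 6, 4, 5, 2, 4, 0] [3, 6, 4, 5, 2, 2, 0]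
def t106 : HTree := splitA t105 [1, 2, 2, 1, 1, 1, 0]
def t107 : HTree := splitS t106 5 4 1
def t108 : HTree := splitS t107 5 2 0
def t109 : HTree := splitA t108 [2, 4, 3, 3, 2, 0, 0]
def t110 : HTree := splitB t88 t109 [1, 2, 2, 1, 2, 0, 0] [1, 2, 2, 1, 1, 0, 0]
def t111 : HTree := splitA t110 [1, 2, 1, 1, 1, 0, 0]
def t112 : HTree := splitS t111 4 2 0
def t113 : HTree := splitA t112 [3, 6, 5, 4, 0, 0, 0]
def t114 : HTree := splitB t75 t113 [1, 2, 1, 2, 0, 0, 0] [1, 2, 1, 1, 0, 0, 0]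
def t115 : HTree := splitS t114 3 2 0
def t116 : HTree := splitA (skipZ 4) [1, 2, 3, 2, 1, 0, 0]
def t117 : HTree := splitA t116 [2, 4, 6, 3, 1, 0, 0]
def t118 : HTree := splitS t117 4 3 1
def t119 : HTree := splitS t118 4 2 0
def t120 : HTree := splitB (skipZ 3) t119 [1, 2, 3, 2, 0, 0, 0] [1, 2, 3, 1, 0, 0, 0]
def t121 : HTree := splitA t120 [1, 2, 2, 1, 0, 0, 0]
def t122 : HTree := splitS t121 3 2 0
def t123 : HTree := splitA (skipZ 4) [2, 4, 3, 2, 1, 0, 0]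
def t124 : HTree := splitA t123 [4, 8, 6, 3, 1, 0, 0]
def t125 : HTree := splitS t124 4 3 1
def t126 : HTree := splitS t125 4 2 0
def t127 : HTree := splitB (skipZ 3) t126 [2, 4, 3, 2, 0, 0, 0] [2, 4, 3, 1, 0, 0, 0]
def t128 : HTree := splitA t127 [1, 2, 1, 1, 0, 0, 0]
def t129 : HTree := splitS t128 3 2 0
def t130 : HTree := split (skipZ 2) t115 t122 t129 (cert [1, 2, 3, 0, 0, 0, 0]) (cert [1, 2, 1, 0, 0, 0, 0]) (cert [1, 2, 3, 0, 0, 0, 0]) (cert [4, 8, 3, 0, 0, 0, 0]) (cert [2, 4, 3, 0, 0, 0, 0])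
def t131 : HTree := split (skipZ 6) (fin [2, 1, 3, 4, 5, 6, 7]) (fin [2, 1, 3, 4, 5, 6, 7]) (fin [4, 2, 6, 8, 10, 12, 7]) (cert [2, 1, 3, 4, 5, 6, 7]) (cert [6, 3, 9, 12, 15, 18, 7]) (cert [2, 1, 3, 4, 5, 6, 7]) (cert [8, 4, 12, 16, 20, 24, 7]) (cert [4, 2, 6, 8, 10, 12, 7])
def t132 : HTree := splitA (fin [4, 2, 6, 8, 10, 5, 7]) [6, 3, 9, 12, 15, 11, 7]
def t133 : HTree := splitB t131 t132 [4, 2, 6, 8, 10, 5, 7] [8, 4, 12, 16, 20, 10, 7]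
def t134 : HTree := splitS t133 6 5 3
def t135 : HTree := splitS t134 6 4 2
def t136 : HTree := splitS t135 6 3 1
def t137 : HTree := splitS t136 6 3 0
def t138 : HTree := splitA (skipZ 6) [2, 1, 3, 4, 5, 6, 2]
def t139 : HTree := splitA t138 [2, 1, 3, 4, 5, 5, 1]
def t140 : HTree := splitS t139 6 5 3
def t141 : HTree := splitS t140 6 4 2
def t142 : HTree := splitS t141 6 3 1
def t143 : HTree := splitS t142 6 3 0
def t144 : HTree := splitA (skipZ 6) [2, 1, 3, 4, 5, 3, 1]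
def t145 : HTree := splitA t144 [4, 2, 6, 8, 10, 5, 2]
def t146 : HTree := splitS t145 6 5 3
def t147 : HTree := splitS t146 6 4 2
def t148 : HTree := splitS t147 6 3 1
def t149 : HTree := splitS t148 6 3 0
def t150 : HTree := split (skipZ 5) t137 t143 t149 (cert [2, 1, 3, 4, 5, 6, 0]) (cert [2, 1, 3, 4, 5, 2, 0]) (cert [2, 1, 3, 4, 5, 6, 0]) (cert [4, 2, 6, 8, 10, 3, 0]) (cert [2, 1, 3, 4, 5, 3, 0])
def t151 : HTree := splitB (skipZ 6) (fin [2, 1, 3, 4, 2, 3, 2]) [2, 1, 3, 4, 2, 3, 2] [2, 1, 3, 4, 2, 3, 1]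
def t152 : HTree := splitA (fin [2, 1, 3, 4, 3, 2, 2]) [4, 2, 6, 8, 5, 5, 2]
def t153 : HTree := splitB t151 t152 [2, 1, 3, 4, 3, 2, 2] [2, 1, 3, 4, 3, 2, 1]
def t154 : HTree := splitA t153 [2, 1, 3, 4, 2, 2, 1]
def t155 : HTree := splitS t154 6 4 2
def t156 : HTree := splitS t155 6 3 1
def t157 : HTree := splitS t156 6 3 0
def t158 : HTree := splitA t157 [2, 1, 3, 4, 3, 2, 0]
def t159 : HTree := splitB t150 t158 [2, 1, 3, 4, 2, 3, 0] [4, 2, 6, 8, 4, 3, 0]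
def t160 : HTree := splitS t159 5 4 2
def t161 : HTree := splitS t160 5 3 1
def t162 : HTree := splitS t161 5 3 0
def t163 : HTree := splitA (skipZ 5) [2, 1, 3, 4, 5, 2, 0]
def t164 : HTree := splitA t163 [2, 1, 3, 4, 4, 1, 0]
def t165 : HTree := splitS t164 5 4 2
def t166 : HTree := splitS t165 5 3 1
def t167 : HTree := splitS t166 5 3 0
def t168 : HTree := splitA (skipZ 5) [4, 2, 6, 8, 5, 2, 0]
def t169 : HTree := splitA t168 [2, 1, 3, 4, 2, 1, 0]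
def t170 : HTree := splitS t169 5 4 2
def t171 : HTree := splitS t170 5 3 1
def t172 : HTree := splitS t171 5 3 0
def t173 : HTree := split (skipZ 4) t162 t167 t172 (cert [2, 1, 3, 4, 5, 0, 0]) (cert [6, 3, 9, 12, 5, 0, 0]) (cert [2, 1, 3, 4, 5, 0, 0]) (cert [8, 4, 12, 16, 5, 0, 0]) (cert [4, 2, 6, 8, 5, 0, 0])
def t174 : HTree := splitB (skipZ 6) (fin [4, 2, 6, 3, 5, 4, 3]) [4, 2, 6, 3, 5, 4, 3] [8, 4, 12, 6, 10, 8, 3]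
def t175 : HTree := splitA t174 [8, 4, 12, 6, 10, 5, 3]
def t176 : HTree := splitS t175 6 5 3
def t177 : HTree := splitS t176 6 5 2
def t178 : HTree := splitS t177 6 3 1
def t179 : HTree := splitS t178 6 3 0
def t180 : HTree := splitB (skipZ 5) t179 [4, 2, 6, 3, 5, 4, 0] [4, 2, 6, 3, 5, 2, 0]
def t181 : HTree := splitB (skipZ 6) (fin [4, 2, 6, 5, 3, 4, 3]) [4, 2, 6, 5, 3, 4, 3] [8, 4, 12, 10, 6, 8, 3]
def t182 : HTree := splitA (leaf 7 [1, 0, 2, 5, 3, 6, 4]) [10, 5, 15, 11, 9, 7, 3]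
def t183 : HTree := splitB t181 t182 [2, 1, 3, 2, 2, 1, 1] [4, 2, 6, 4, 4, 2, 1]
def t184 : HTree := splitA t183 [8, 4, 12, 10, 6, 5, 3]
def t185 : HTree := splitS t184 6 5 2
def t186 : HTree := splitS t185 6 3 1
def t187 : HTree := splitS t186 6 3 0
def t188 : HTree := splitA t187 [2, 1, 3, 2, 2, 1, 0]
def t189 : HTree := splitB t180 t188 [4, 2, 6, 5, 3, 4, 0] [4, 2, 6, 5, 3, 2, 0]
def t190 : HTree := splitA t189 [4, 2, 6, 3, 3, 2, 0]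
def t191 : HTree := splitS t190 5 3 1
def t192 : HTree := splitS t191 5 3 0
def t193 : HTree := splitA t192 [6, 3, 9, 7, 5, 0, 0]
def t194 : HTree := splitB t173 t193 [4, 2, 6, 3, 5, 0, 0] [8, 4, 12, 6, 5, 0, 0]
def t195 : HTree := splitS t194 4 3 1
def t196 : HTree := splitS t195 4 3 0
def t197 : HTree := splitA (skipZ 4) [2, 1, 3, 4, 2, 0, 0]
def t198 : HTree := splitA t197 [2, 1, 3, 3, 1, 0, 0]
def t199 : HTree := splitS t198 4 3 1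
def t200 : HTree := splitS t199 4 3 0
def t201 : HTree := splitA (skipZ 4) [2, 1, 3, 2, 1, 0, 0]
def t202 : HTree := splitA t201 [4, 2, 6, 3, 2, 0, 0]
def t203 : HTree := splitS t202 4 3 1
def t204 : HTree := splitS t203 4 3 0
def t205 : HTree := split (skipZ 3) t196 t200 t204 (cert [2, 1, 3, 4, 0, 0, 0]) (cert [6, 3, 9, 4, 0, 0, 0]) (cert [2, 1, 3, 4, 0, 0, 0]) (cert [2, 1, 3, 1, 0, 0, 0]) (cert [2, 1, 3, 2, 0, 0, 0])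
def t206 : HTree := split (skipZ 6) (fin [2, 3, 1, 4, 5, 6, 7]) (fin [2, 3, 1, 4, 5, 6, 7]) (fin [4, 6, 2, 8, 10, 12, 7]) (cert [2, 3, 1, 4, 5, 6, 7]) (cert [6, 9, 3, 12, 15, 18, 7]) (cert [2, 3, 1, 4, 5, 6, 7]) (cert [8, 12, 4, 16, 20, 24, 7]) (cert [4, 6, 2, 8, 10, 12, 7])
def t207 : HTree := splitA (fin [4, 6, 2, 8, 10, 5, 7]) [6, 9, 3, 12, 15, 11, 7]
def t208 : HTree := splitB t206 t207 [4, 6, 2, 8, 10, 5, 7] [8, 12, 4, 16, 20, 10, 7]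
def t209 : HTree := splitS t208 6 5 3
def t210 : HTree := splitS t209 6 4 2
def t211 : HTree := splitS t210 6 4 1
def t212 : HTree := splitS t211 6 3 0
def t213 : HTree := splitA (skipZ 6) [2, 3, 1, 4, 5, 6, 2]
def t214 : HTree := splitA t213 [2, 3, 1, 4, 5, 5, 1]
def t215 : HTree := splitS t214 6 5 3
def t216 : HTree := splitS t215 6 4 2
def t217 : HTree := splitS t216 6 4 1
def t218 : HTree := splitS t217 6 3 0
def t219 : HTree := splitA (skipZ 6) [2, 3, 1, 4, 5, 3, 1]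
def t220 : HTree := splitA t219 [4, 6, 2, 8, 10, 5, 2]
def t221 : HTree := splitS t220 6 5 3
def t222 : HTree := splitS t221 6 4 2
def t223 : HTree := splitS t222 6 4 1
def t224 : HTree := splitS t223 6 3 0
def t225 : HTree := split (skipZ 5) t212 t218 t224 (cert [2, 3, 1, 4, 5, 6, 0]) (cert [2, 3, 1, 4, 5, 2, 0]) (cert [2, 3, 1, 4, 5, 6, 0]) (cert [4, 6, 2, 8, 10, 3, 0]) (cert [2, 3, 1, 4, 5, 3, 0])
def t226 : HTree := splitB (skipZ 6) (fin [2, 3, 1, 4, 2, 3, 2]) [2, 3, 1, 4, 2, 3, 2] [2, 3, 1, 4, 2, 3, 1]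
def t227 : HTree := splitA (fin [2, 3, 1, 4, 3, 2, 2]) [4, 6, 2, 8, 5, 5, 2]
def t228 : HTree := splitB t226 t227 [2, 3, 1, 4, 3, 2, 2] [2, 3, 1, 4, 3, 2, 1]
def t229 : HTree := splitA t228 [2, 3, 1, 4, 2, 2, 1]
def t230 : HTree := splitS t229 6 4 2
def t231 : HTree := splitS t230 6 4 1
def t232 : HTree := splitS t231 6 3 0
def t233 : HTree := splitA t232 [2, 3, 1, 4, 3, 2, 0]
def t234 : HTree := splitB t225 t233 [2, 3, 1, 4, 2, 3, 0] [4, 6, 2, 8, 4, 3, 0]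
def t235 : HTree := splitS t234 5 4 2
def t236 : HTree := splitS t235 5 4 1
def t237 : HTree := splitS t236 5 3 0
def t238 : HTree := splitA (skipZ 5) [2, 3, 1, 4, 5, 2, 0]
def t239 : HTree := splitA t238 [2, 3, 1, 4, 4, 1, 0]
def t240 : HTree := splitS t239 5 4 2
def t241 : HTree := splitS t240 5 4 1
def t242 : HTree := splitS t241 5 3 0
def t243 : HTree := splitA (skipZ 5) [4, 6, 2, 8, 5, 2, 0]
def t244 : HTree := splitA t243 [2, 3, 1, 4, 2, 1, 0]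
def t245 : HTree := splitS t244 5 4 2
def t246 : HTree := splitS t245 5 4 1
def t247 : HTree := splitS t246 5 3 0
def t248 : HTree := split (skipZ 4) t237 t242 t247 (cert [2, 3, 1, 4, 5, 0, 0]) (cert [6, 9, 3, 12, 5, 0, 0]) (cert [2, 3, 1, 4, 5, 0, 0]) (cert [8, 12, 4, 16, 5, 0, 0]) (cert [4, 6, 2, 8, 5, 0, 0])
def t249 : HTree := split (skipZ 6) (fin [3, 2, 4, 1, 5, 6, 7]) (fin [3, 2, 4, 1, 5, 6, 7]) (fin [6, 4, 8, 2, 10, 12, 7]) (cert [3, 2, 4, 1, 5, 6, 7]) (cert [9, 6, 12, 3, 15, 18, 7]) (cert [3, 2, 4, 1, 5, 6, 7]) (cert [12, 8, 16, 4, 20, 24, 7]) (cert [6, 4, 8, 2, 10, 12, 7])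
def t250 : HTree := splitA (fin [6, 4, 8, 2, 10, 5, 7]) [9, 6, 12, 3, 15, 11, 7]
def t251 : HTree := splitB t249 t250 [6, 4, 8, 2, 10, 5, 7] [12, 8, 16, 4, 20, 10, 7]
def t252 : HTree := splitS t251 6 5 3
def t253 : HTree := splitS t252 6 5 2
def t254 : HTree := splitS t253 6 4 1
def t255 : HTree := splitS t254 6 3 0
def t256 : HTree := splitA (skipZ 6) [3, 2, 4, 1, 5, 6, 2]
def t257 : HTree := splitA t256 [3, 2, 4, 1, 5, 5, 1]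
def t258 : HTree := splitS t257 6 5 3
def t259 : HTree := splitS t258 6 5 2
def t260 : HTree := splitS t259 6 4 1
def t261 : HTree := splitS t260 6 3 0
def t262 : HTree := splitA (skipZ 6) [3, 2, 4, 1, 5, 3, 1]
def t263 : HTree := splitA t262 [6, 4, 8, 2, 10, 5, 2]
def t264 : HTree := splitS t263 6 5 3
def t265 : HTree := splitS t264 6 5 2
def t266 : HTree := splitS t265 6 4 1
def t267 : HTree := splitS t266 6 3 0
def t268 : HTree := split (skipZ 5) t255 t261 t267 (cert [3, 2, 4, 1, 5, 6, 0]) (cert [3, 2, 4, 1, 5, 2, 0]) (cert [3, 2, 4, 1, 5, 6, 0]) (cert [6, 4, 8, 2, 10, 3, 0]) (cert [3, 2, 4, 1, 5, 3, 0])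
def t269 : HTree := split (skipZ 6) (fin [3, 4, 2, 5, 1, 6, 7]) (fin [3, 4, 2, 5, 1, 6, 7]) (fin [6, 8, 4, 10, 2, 12, 7]) (cert [3, 4, 2, 5, 1, 6, 7]) (cert [9, 12, 6, 15, 3, 18, 7]) (cert [3, 4, 2, 5, 1, 6, 7]) (cert [12, 16, 8, 20, 4, 24, 7]) (cert [6, 8, 4, 10, 2, 12, 7])
def t270 : HTree := splitB (fin [4, 3, 5, 2, 6, 1, 7]) (leaf 0 [0, 1, 3, 5, 6, 4, 2]) [1, 1, 1, 1, 1, 1, 1] [10, 11, 9, 12, 8, 13, 7]
def t271 : HTree := splitA (fin [4, 3, 5, 2, 6, 1, 7]) [1, 1, 1, 1, 1, 1, 1]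
def t272 : HTree := splitA (fin [8, 6, 10, 4, 12, 2, 7]) [11, 10, 12, 9, 13, 8, 7]
def t273 : HTree := split t269 t270 t271 t272 (cert [4, 3, 5, 2, 6, 1, 7]) (cert [12, 9, 15, 6, 18, 3, 7]) (cert [4, 3, 5, 2, 6, 1, 7]) (cert [16, 12, 20, 8, 24, 4, 7]) (cert [8, 6, 10, 4, 12, 2, 7])
def t274 : HTree := splitA (fin [6, 8, 4, 10, 2, 5, 7]) [9, 12, 6, 15, 3, 11, 7]
def t275 : HTree := splitA t274 [10, 11, 9, 12, 8, 6, 7]
def t276 : HTree := splitB t273 t275 [6, 8, 4, 10, 2, 5, 7] [12, 16, 8, 20, 4, 10, 7]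
def t277 : HTree := splitS t276 6 5 2
def t278 : HTree := splitS t277 6 4 1
def t279 : HTree := splitS t278 6 3 0
def t280 : HTree := splitA t279 [1, 1, 1, 1, 1, 1, 0]
def t281 : HTree := splitA (skipZ 6) [3, 4, 2, 5, 1, 6, 2]
def t282 : HTree := splitA (fin [1, 1, 1, 1, 1, 1, 1]) [5, 6, 4, 7, 3, 8, 2]
def t283 : HTree := splitA (leaf 2 [5, 3, 1, 0, 2, 4, 6]) [5, 6, 4, 7, 3, 8, 2]
def t284 : HTree := splitA (leaf 1 [5, 3, 1, 0, 2, 4, 6]) [7, 8, 6, 9, 5, 10, 2]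
def t285 : HTree := split t281 t282 t283 t284 (cert [1, 1, 1, 1, 1, 1, 1]) (cert [3, 3, 3, 3, 3, 3, 1]) (cert [1, 1, 1, 1, 1, 1, 1]) (cert [4, 4, 4, 4, 4, 4, 1]) (cert [2, 2, 2, 2, 2, 2, 1])
def t286 : HTree := splitA t285 [3, 4, 2, 5, 1, 5, 1]
def t287 : HTree := splitS t286 6 5 2
def t288 : HTree := splitS t287 6 4 1
def t289 : HTree := splitS t288 6 3 0
def t290 : HTree := splitA t289 [1, 1, 1, 1, 1, 1, 0]
def t291 : HTree := splitA (skipZ 6) [3, 4, 2, 5, 1, 3, 1]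
def t292 : HTree := splitA (fin [2, 2, 2, 2, 2, 1, 2]) [8, 10, 6, 12, 4, 7, 2]
def t293 : HTree := splitA (leaf 1 [6, 4, 2, 0, 1, 3, 5]) [8, 10, 6, 12, 4, 7, 2]
def t294 : HTree := splitA (leaf 3 [5, 3, 1, 0, 2, 4, 6]) [5, 6, 4, 7, 3, 4, 1]
def t295 : HTree := split t291 t292 t293 t294 (cert [2, 2, 2, 2, 2, 1, 2]) (cert [6, 6, 6, 6, 6, 3, 2]) (cert [2, 2, 2, 2, 2, 1, 2]) (cert [4, 4, 4, 4, 4, 2, 1]) (cert [2, 2, 2, 2, 2, 1, 1])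
def t296 : HTree := splitA t295 [6, 8, 4, 10, 2, 5, 2]
def t297 : HTree := splitS t296 6 5 2
def t298 : HTree := splitS t297 6 4 1
def t299 : HTree := splitS t298 6 3 0
def t300 : HTree := splitA t299 [9, 10, 8, 11, 7, 6, 0]
def t301 : HTree := split t268 t280 t290 t300 (cert [3, 4, 2, 5, 1, 6, 0]) (cert [3, 4, 2, 5, 1, 2, 0]) (cert [3, 4, 2, 5, 1, 6, 0]) (cert [6, 8, 4, 10, 2, 3, 0]) (cert [3, 4, 2, 5, 1, 3, 0])
def t302 : HTree := splitB (skipZ 6) (fin [3, 2, 4, 1, 2, 3, 2]) [3, 2, 4, 1, 2, 3, 2] [3, 2, 4, 1, 2, 3, 1]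
def t303 : HTree := splitA (fin [3, 2, 4, 1, 3, 2, 2]) [6, 4, 8, 2, 5, 5, 2]
def t304 : HTree := splitB t302 t303 [3, 2, 4, 1, 3, 2, 2] [3, 2, 4, 1, 3, 2, 1]
def t305 : HTree := splitA (fin [2, 2, 2, 2, 1, 1, 2]) [5, 4, 6, 3, 3, 4, 2]
def t306 : HTree := splitA t305 [5, 4, 6, 3, 4, 3, 2]
def t307 : HTree := splitA (leaf 5 [6, 3, 1, 0, 2, 4, 5]) [5, 4, 6, 3, 3, 4, 2]
def t308 : HTree := splitA t307 [5, 4, 6, 3, 4, 3, 2]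
def t309 : HTree := splitA (leaf 4 [6, 3, 1, 0, 2, 4, 5]) [7, 6, 8, 5, 4, 5, 2]
def t310 : HTree := splitA t309 [7, 6, 8, 5, 5, 4, 2]
def t311 : HTree := split t304 t306 t308 t310 (cert [2, 2, 2, 2, 1, 1, 2]) (cert [6, 6, 6, 6, 3, 3, 2]) (cert [2, 2, 2, 2, 1, 1, 2]) (cert [4, 4, 4, 4, 2, 2, 1]) (cert [2, 2, 2, 2, 1, 1, 1])
def t312 : HTree := splitA t311 [3, 2, 4, 1, 2, 2, 1]
def t313 : HTree := splitS t312 6 4 1
def t314 : HTree := splitS t313 6 3 0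
def t315 : HTree := splitA t314 [3, 2, 4, 1, 3, 2, 0]
def t316 : HTree := splitA t315 [9, 8, 10, 7, 5, 6, 0]
def t317 : HTree := splitB t301 t316 [3, 2, 4, 1, 2, 3, 0] [6, 4, 8, 2, 4, 3, 0]
def t318 : HTree := splitS t317 5 4 1
def t319 : HTree := splitS t318 5 3 0
def t320 : HTree := splitA t319 [1, 1, 1, 1, 1, 0, 0]
def t321 : HTree := splitA (skipZ 5) [3, 2, 4, 1, 5, 2, 0]
def t322 : HTree := split (skipZ 6) (fin [1, 1, 1, 1, 1, 1, 1]) (leaf 2 [4, 2, 0, 1, 3, 5, 6]) (leaf 1 [4, 2, 0, 1, 3, 5, 6]) (cert [1, 1, 1, 1, 1, 1, 1]) (cert [3, 3, 3, 3, 3, 3, 1]) (cert [1, 1, 1, 1, 1, 1, 1]) (cert [4, 4, 4, 4, 4, 4, 1]) (cert [2, 2, 2, 2, 2, 2, 1])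
def t323 : HTree := splitA t322 [4, 3, 5, 2, 6, 1, 2]
def t324 : HTree := splitA (leaf 5 [4, 2, 0, 1, 3, 5, 6]) [3, 3, 3, 3, 3, 2, 1]
def t325 : HTree := splitA t324 [8, 7, 9, 6, 10, 3, 2]
def t326 : HTree := splitB t323 t325 [2, 2, 2, 2, 2, 1, 1] [4, 4, 4, 4, 4, 2, 1]
def t327 : HTree := splitS t326 6 5 2
def t328 : HTree := splitS t327 6 4 1
def t329 : HTree := splitS t328 6 3 0
def t330 : HTree := splitA t329 [5, 4, 6, 3, 7, 2, 0]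
def t331 : HTree := splitB t321 t330 [1, 1, 1, 1, 1, 1, 0] [2, 2, 2, 2, 2, 1, 0]
def t332 : HTree := splitA t331 [3, 2, 4, 1, 4, 1, 0]
def t333 : HTree := splitS t332 5 4 1
def t334 : HTree := splitS t333 5 3 0
def t335 : HTree := splitA t334 [1, 1, 1, 1, 1, 0, 0]
def t336 : HTree := splitA (skipZ 5) [6, 4, 8, 2, 5, 2, 0]
def t337 : HTree := split (skipZ 6) (fin [2, 2, 2, 2, 1, 2, 2]) (leaf 1 [6, 5, 3, 1, 0, 2, 4]) (leaf 3 [4, 2, 0, 1, 3, 5, 6]) (cert [2, 2, 2, 2, 1, 2, 2]) (cert [6, 6, 6, 6, 3, 6, 2]) (cert [2, 2, 2, 2, 1, 2, 2]) (cert [4, 4, 4, 4, 2, 4, 1]) (cert [2, 2, 2, 2, 1, 2, 1])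
def t338 : HTree := splitA t337 [4, 3, 5, 2, 3, 1, 1]
def t339 : HTree := splitA (leaf 4 [4, 2, 0, 1, 3, 5, 6]) [6, 6, 6, 6, 3, 4, 2]
def t340 : HTree := splitA t339 [6, 5, 7, 4, 4, 2, 1]
def t341 : HTree := splitB t338 t340 [2, 2, 2, 2, 1, 1, 1] [4, 4, 4, 4, 2, 2, 1]
def t342 : HTree := splitS t341 6 5 2
def t343 : HTree := splitS t342 6 4 1
def t344 : HTree := splitS t343 6 3 0
def t345 : HTree := splitA t344 [4, 3, 5, 2, 3, 1, 0]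
def t346 : HTree := splitB t336 t345 [2, 2, 2, 2, 1, 2, 0] [2, 2, 2, 2, 1, 1, 0]
def t347 : HTree := splitA t346 [3, 2, 4, 1, 2, 1, 0]
def t348 : HTree := splitS t347 5 4 1
def t349 : HTree := splitS t348 5 3 0
def t350 : HTree := splitA t349 [8, 7, 9, 6, 5, 0, 0]
def t351 : HTree := split t248 t320 t335 t350 (cert [3, 2, 4, 1, 5, 0, 0]) (cert [9, 6, 12, 3, 5, 0, 0]) (cert [3, 2, 4, 1, 5, 0, 0]) (cert [12, 8, 16, 4, 5, 0, 0]) (cert [6, 4, 8, 2, 5, 0, 0])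
def t352 : HTree := splitB (skipZ 6) (fin [4, 6, 2, 3, 5, 4, 3]) [4, 6, 2, 3, 5, 4, 3] [8, 12, 4, 6, 10, 8, 3]
def t353 : HTree := splitA t352 [8, 12, 4, 6, 10, 5, 3]
def t354 : HTree := splitS t353 6 5 3
def t355 : HTree := splitS t354 6 5 2
def t356 : HTree := splitS t355 6 5 1
def t357 : HTree := splitS t356 6 3 0
def t358 : HTree := splitB (skipZ 5) t357 [4, 6, 2, 3, 5, 4, 0] [4, 6, 2, 3, 5, 2, 0]
def t359 : HTree := splitB (skipZ 6) (fin [4, 6, 2, 5, 3, 4, 3]) [4, 6, 2, 5, 3, 4, 3] [8, 12, 4, 10, 6, 8, 3]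
def t360 : HTree := splitA (leaf 7 [2, 0, 1, 5, 3, 6, 4]) [10, 15, 5, 11, 9, 7, 3]
def t361 : HTree := splitB t359 t360 [2, 3, 1, 2, 2, 1, 1] [4, 6, 2, 4, 4, 2, 1]
def t362 : HTree := splitA t361 [8, 12, 4, 10, 6, 5, 3]
def t363 : HTree := splitS t362 6 5 2
def t364 : HTree := splitS t363 6 5 1
def t365 : HTree := splitS t364 6 3 0
def t366 : HTree := splitA t365 [2, 3, 1, 2, 2, 1, 0]
def t367 : HTree := splitB t358 t366 [4, 6, 2, 5, 3, 4, 0] [4, 6, 2, 5, 3, 2, 0]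
def t368 : HTree := split (skipZ 6) (fin [2, 2, 2, 1, 1, 2, 2]) (leaf 5 [6, 5, 2, 0, 1, 3, 4]) (leaf 4 [6, 5, 2, 0, 1, 3, 4]) (cert [2, 2, 2, 1, 1, 2, 2]) (cert [6, 6, 6, 3, 3, 6, 2]) (cert [2, 2, 2, 1, 1, 2, 2]) (cert [4, 4, 4, 2, 2, 4, 1]) (cert [2, 2, 2, 1, 1, 2, 1])
def t369 : HTree := splitA (fin [3, 4, 2, 2, 3, 1, 2]) [5, 6, 4, 3, 4, 3, 2]
def t370 : HTree := splitB t368 t369 [3, 4, 2, 2, 3, 1, 2] [3, 4, 2, 2, 3, 1, 1]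
def t371 : HTree := splitA (fin [3, 4, 2, 3, 2, 1, 2]) [5, 6, 4, 4, 3, 3, 2]
def t372 : HTree := splitA t371 [6, 8, 4, 5, 5, 2, 2]
def t373 : HTree := splitB t370 t372 [3, 4, 2, 3, 2, 1, 2] [3, 4, 2, 3, 2, 1, 1]
def t374 : HTree := splitA (leaf 6 [3, 4, 1, 0, 2, 5, 6]) [6, 6, 6, 3, 3, 4, 2]
def t375 : HTree := splitA t374 [7, 8, 6, 4, 5, 3, 2]
def t376 : HTree := splitA t375 [7, 8, 6, 5, 4, 3, 2]
def t377 : HTree := splitB t373 t376 [2, 2, 2, 1, 1, 1, 1] [4, 4, 4, 2, 2, 2, 1]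
def t378 : HTree := splitS t377 6 5 1
def t379 : HTree := splitS t378 6 3 0
def t380 : HTree := splitA t379 [8, 10, 6, 5, 7, 4, 0]
def t381 : HTree := splitA t380 [8, 10, 6, 7, 5, 4, 0]
def t382 : HTree := splitB t367 t381 [2, 2, 2, 1, 1, 2, 0] [2, 2, 2, 1, 1, 1, 0]
def t383 : HTree := splitA t382 [4, 6, 2, 3, 3, 2, 0]
def t384 : HTree := splitS t383 5 3 0
def t385 : HTree := splitA t384 [6, 9, 3, 7, 5, 0, 0]
def t386 : HTree := splitA t385 [7, 8, 6, 4, 5, 0, 0]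
def t387 : HTree := splitB t351 t386 [4, 6, 2, 3, 5, 0, 0] [8, 12, 4, 6, 5, 0, 0]
def t388 : HTree := splitS t387 4 3 0
def t389 : HTree := splitA t388 [1, 1, 1, 1, 0, 0, 0]
def t390 : HTree := splitA (skipZ 4) [2, 3, 1, 4, 2, 0, 0]
def t391 : HTree := split (skipZ 6) (fin [1, 1, 1, 1, 1, 1, 1]) (leaf 2 [3, 1, 0, 2, 4, 5, 6]) (leaf 1 [3, 1, 0, 2, 4, 5, 6]) (cert [1, 1, 1, 1, 1, 1, 1]) (cert [3, 3, 3, 3, 3, 3, 1]) (cert [1, 1, 1, 1, 1, 1, 1]) (cert [4, 4, 4, 4, 4, 4, 1]) (cert [2, 2, 2, 2, 2, 2, 1])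
def t392 : HTree := splitA (leaf 5 [3, 1, 0, 2, 4, 5, 6]) [3, 3, 3, 3, 3, 2, 1]
def t393 : HTree := splitB t391 t392 [2, 2, 2, 2, 2, 1, 1] [4, 4, 4, 4, 4, 2, 1]
def t394 : HTree := splitS t393 6 5 3
def t395 : HTree := splitS t394 6 5 2
def t396 : HTree := splitS t395 6 4 1
def t397 : HTree := splitS t396 6 3 0
def t398 : HTree := splitB (skipZ 5) t397 [1, 1, 1, 1, 1, 1, 0] [2, 2, 2, 2, 2, 1, 0]
def t399 : HTree := splitA t398 [3, 4, 2, 5, 1, 2, 0]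
def t400 : HTree := splitA t399 [2, 2, 2, 2, 1, 1, 0]
def t401 : HTree := splitS t400 5 4 1
def t402 : HTree := splitS t401 5 3 0
def t403 : HTree := splitA t402 [4, 5, 3, 6, 2, 0, 0]
def t404 : HTree := splitB t390 t403 [1, 1, 1, 1, 1, 0, 0] [2, 2, 2, 2, 1, 0, 0]
def t405 : HTree := splitA t404 [2, 3, 1, 3, 1, 0, 0]
def t406 : HTree := splitS t405 4 3 0
def t407 : HTree := splitA t406 [1, 1, 1, 1, 0, 0, 0]
def t408 : HTree := splitA (skipZ 4) [2, 3, 1, 2, 1, 0, 0]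
def t409 : HTree := split (skipZ 6) (fin [2, 2, 2, 1, 2, 2, 2]) (leaf 1 [6, 5, 4, 2, 0, 1, 3]) (leaf 3 [3, 1, 0, 2, 4, 5, 6]) (cert [2, 2, 2, 1, 2, 2, 2]) (cert [6, 6, 6, 3, 6, 6, 2]) (cert [2, 2, 2, 1, 2, 2, 2]) (cert [4, 4, 4, 2, 4, 4, 1]) (cert [2, 2, 2, 1, 2, 2, 1])
def t410 : HTree := splitA (leaf 4 [3, 1, 0, 2, 4, 5, 6]) [6, 6, 6, 3, 6, 4, 2]
def t411 : HTree := splitB t409 t410 [2, 2, 2, 1, 2, 1, 1] [4, 4, 4, 2, 4, 2, 1]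
def t412 : HTree := splitS t411 6 5 3
def t413 : HTree := splitS t412 6 5 2
def t414 : HTree := splitS t413 6 4 1
def t415 : HTree := splitS t414 6 3 0
def t416 : HTree := splitB (skipZ 5) t415 [2, 2, 2, 1, 2, 2, 0] [2, 2, 2, 1, 2, 1, 0]
def t417 : HTree := splitA t416 [6, 8, 4, 5, 2, 2, 0]
def t418 : HTree := splitA t417 [2, 2, 2, 1, 1, 1, 0]
def t419 : HTree := splitS t418 5 4 1
def t420 : HTree := splitS t419 5 3 0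
def t421 : HTree := splitA t420 [6, 8, 4, 5, 2, 0, 0]
def t422 : HTree := splitB t408 t421 [2, 2, 2, 1, 2, 0, 0] [2, 2, 2, 1, 1, 0, 0]
def t423 : HTree := splitA t422 [4, 6, 2, 3, 2, 0, 0]
def t424 : HTree := splitS t423 4 3 0
def t425 : HTree := splitA t424 [6, 7, 5, 4, 0, 0, 0]
def t426 : HTree := split t205 t389 t407 t425 (cert [2, 3, 1, 4, 0, 0, 0]) (cert [6, 9, 3, 4, 0, 0, 0]) (cert [2, 3, 1, 4, 0, 0, 0]) (cert [2, 3, 1, 1, 0, 0, 0]) (cert [2, 3, 1, 2, 0, 0, 0])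
def t427 : HTree := split (skipZ 6) (fin [2, 1, 1, 2, 2, 2, 2]) (leaf 5 [6, 5, 4, 3, 0, 1, 2]) (leaf 4 [6, 5, 4, 3, 0, 1, 2]) (cert [2, 1, 1, 2, 2, 2, 2]) (cert [6, 3, 3, 6, 6, 6, 2]) (cert [2, 1, 1, 2, 2, 2, 2]) (cert [4, 2, 2, 4, 4, 4, 1]) (cert [2, 1, 1, 2, 2, 2, 1])
def t428 : HTree := splitA (leaf 6 [1, 2, 0, 3, 4, 5, 6]) [6, 3, 3, 6, 6, 4, 2]
def t429 : HTree := splitB t427 t428 [2, 1, 1, 2, 2, 1, 1] [4, 2, 2, 4, 4, 2, 1]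
def t430 : HTree := splitS t429 6 5 3
def t431 : HTree := splitS t430 6 4 2
def t432 : HTree := splitS t431 6 4 1
def t433 : HTree := splitS t432 6 4 0
def t434 : HTree := splitB (skipZ 5) t433 [2, 1, 1, 2, 2, 2, 0] [2, 1, 1, 2, 2, 1, 0]
def t435 : HTree := splitA t434 [2, 1, 1, 2, 1, 1, 0]
def t436 : HTree := splitS t435 5 4 2
def t437 : HTree := splitS t436 5 4 1
def t438 : HTree := splitS t437 5 4 0
def t439 : HTree := splitB (skipZ 4) t438 [2, 1, 1, 2, 2, 0, 0] [2, 1, 1, 2, 1, 0, 0]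
def t440 : HTree := split (skipZ 6) (fin [2, 1, 2, 1, 2, 2, 2]) (leaf 5 [6, 5, 4, 2, 0, 1, 3]) (leaf 4 [6, 5, 4, 2, 0, 1, 3]) (cert [2, 1, 2, 1, 2, 2, 2]) (cert [6, 3, 6, 3, 6, 6, 2]) (cert [2, 1, 2, 1, 2, 2, 2]) (cert [4, 2, 4, 2, 4, 4, 1]) (cert [2, 1, 2, 1, 2, 2, 1])
def t441 : HTree := splitA (leaf 6 [1, 3, 0, 2, 4, 5, 6]) [6, 3, 6, 3, 6, 4, 2]
def t442 : HTree := splitB t440 t441 [2, 1, 2, 1, 2, 1, 1] [4, 2, 4, 2, 4, 2, 1]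
def t443 : HTree := splitS t442 6 5 3
def t444 : HTree := splitS t443 6 5 2
def t445 : HTree := splitS t444 6 4 1
def t446 : HTree := splitS t445 6 4 0
def t447 : HTree := splitB (skipZ 5) t446 [2, 1, 2, 1, 2, 2, 0] [2, 1, 2, 1, 2, 1, 0]
def t448 : HTree := splitB (skipZ 6) (fin [6, 3, 4, 5, 2, 4, 3]) [6, 3, 4, 5, 2, 4, 3] [12, 6, 8, 10, 4, 8, 3]
def t449 : HTree := splitA (fin [6, 3, 5, 4, 4, 2, 3]) [4, 2, 3, 3, 2, 2, 1]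
def t450 : HTree := splitB t448 t449 [6, 3, 5, 4, 4, 2, 3] [12, 6, 10, 8, 8, 4, 3]
def t451 : HTree := splitA t450 [12, 6, 8, 10, 4, 5, 3]
def t452 : HTree := splitS t451 6 5 2
def t453 : HTree := splitS t452 6 4 1
def t454 : HTree := splitS t453 6 4 0
def t455 : HTree := splitA t454 [10, 5, 8, 7, 6, 4, 0]
def t456 : HTree := splitB t447 t455 [6, 3, 4, 5, 2, 4, 0] [6, 3, 4, 5, 2, 2, 0]
def t457 : HTree := splitA t456 [2, 1, 2, 1, 1, 1, 0]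
def t458 : HTree := splitS t457 5 4 1
def t459 : HTree := splitS t458 5 4 0
def t460 : HTree := splitA t459 [4, 2, 3, 3, 2, 0, 0]
def t461 : HTree := splitB t439 t460 [2, 1, 2, 1, 2, 0, 0] [2, 1, 2, 1, 1, 0, 0]
def t462 : HTree := split (skipZ 6) (fin [2, 2, 1, 1, 2, 2, 2]) (leaf 5 [6, 5, 4, 1, 0, 2, 3]) (leaf 4 [6, 5, 4, 1, 0, 2, 3]) (cert [2, 2, 1, 1, 2, 2, 2]) (cert [6, 6, 3, 3, 6, 6, 2]) (cert [2, 2, 1, 1, 2, 2, 2]) (cert [4, 4, 2, 2, 4, 4, 1]) (cert [2, 2, 1, 1, 2, 2, 1])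
def t463 : HTree := splitA (leaf 6 [2, 3, 0, 1, 4, 5, 6]) [6, 6, 3, 3, 6, 4, 2]
def t464 : HTree := splitB t462 t463 [2, 2, 1, 1, 2, 1, 1] [4, 4, 2, 2, 4, 2, 1]
def t465 : HTree := splitS t464 6 5 3
def t466 : HTree := splitS t465 6 5 2
def t467 : HTree := splitS t466 6 5 1
def t468 : HTree := splitS t467 6 4 0
def t469 : HTree := splitB (skipZ 5) t468 [2, 2, 1, 1, 2, 2, 0] [2, 2, 1, 1, 2, 1, 0]
def t470 : HTree := splitB (skipZ 6) (fin [6, 4, 3, 5, 2, 4, 3]) [6, 4, 3, 5, 2, 4, 3] [12, 8, 6, 10, 4, 8, 3]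
def t471 : HTree := splitA (fin [6, 5, 3, 4, 4, 2, 3]) [4, 3, 2, 3, 2, 2, 1]
def t472 : HTree := splitB t470 t471 [6, 5, 3, 4, 4, 2, 3] [12, 10, 6, 8, 8, 4, 3]
def t473 : HTree := splitA t472 [12, 8, 6, 10, 4, 5, 3]
def t474 : HTree := splitS t473 6 5 2
def t475 : HTree := splitS t474 6 5 1
def t476 : HTree := splitS t475 6 4 0
def t477 : HTree := splitA t476 [10, 8, 5, 7, 6, 4, 0]
def t478 : HTree := splitB t469 t477 [6, 4, 3, 5, 2, 4, 0] [6, 4, 3, 5, 2, 2, 0]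
def t479 : HTree := splitB (skipZ 6) (fin [6, 4, 5, 3, 2, 4, 3]) [6, 4, 5, 3, 2, 4, 3] [12, 8, 10, 6, 4, 8, 3]
def t480 : HTree := splitA (fin [6, 5, 4, 3, 4, 2, 3]) [4, 3, 3, 2, 2, 2, 1]
def t481 : HTree := splitB t479 t480 [6, 5, 4, 3, 4, 2, 3] [12, 10, 8, 6, 8, 4, 3]
def t482 : HTree := splitA (leaf 7 [4, 1, 0, 5, 2, 6, 3]) [15, 10, 11, 9, 5, 7, 3]
def t483 : HTree := splitA t482 [15, 11, 10, 9, 7, 5, 3]
def t484 : HTree := splitB t481 t483 [3, 2, 2, 2, 1, 1, 1] [6, 4, 4, 4, 2, 2, 1]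
def t485 : HTree := splitA t484 [12, 8, 10, 6, 4, 5, 3]
def t486 : HTree := splitS t485 6 5 1
def t487 : HTree := splitS t486 6 4 0
def t488 : HTree := splitA t487 [10, 8, 7, 5, 6, 4, 0]
def t489 : HTree := splitA t488 [3, 2, 2, 2, 1, 1, 0]
def t490 : HTree := splitB t478 t489 [6, 4, 5, 3, 2, 4, 0] [6, 4, 5, 3, 2, 2, 0]
def t491 : HTree := splitA t490 [2, 2, 1, 1, 1, 1, 0]
def t492 : HTree := splitS t491 5 4 0
def t493 : HTree := splitA t492 [4, 3, 2, 3, 2, 0, 0]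
def t494 : HTree := splitA t493 [4, 3, 3, 2, 2, 0, 0]
def t495 : HTree := splitB t461 t494 [2, 2, 1, 1, 2, 0, 0] [2, 2, 1, 1, 1, 0, 0]
def t496 : HTree := splitA t495 [2, 1, 1, 1, 1, 0, 0]
def t497 : HTree := splitA t496 [6, 3, 5, 4, 0, 0, 0]
def t498 : HTree := splitA t497 [6, 5, 3, 4, 0, 0, 0]
def t499 : HTree := splitB t426 t498 [2, 1, 1, 2, 0, 0, 0] [2, 1, 1, 1, 0, 0, 0]
def t500 : HTree := splitA t499 [1, 1, 1, 0, 0, 0, 0]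
def t501 : HTree := splitA (skipZ 4) [2, 1, 3, 2, 1, 0, 0]
def t502 : HTree := splitA t501 [4, 2, 6, 3, 1, 0, 0]
def t503 : HTree := splitS t502 4 3 1
def t504 : HTree := splitS t503 4 3 0
def t505 : HTree := splitB (skipZ 3) t504 [2, 1, 3, 2, 0, 0, 0] [2, 1, 3, 1, 0, 0, 0]
def t506 : HTree := split (skipZ 6) (fin [1, 1, 1, 1, 1, 1, 1]) (leaf 2 [2, 0, 1, 3, 4, 5, 6]) (leaf 1 [2, 0, 1, 3, 4, 5, 6]) (cert [1, 1, 1, 1, 1, 1, 1]) (cert [3, 3, 3, 3, 3, 3, 1]) (cert [1, 1, 1, 1, 1, 1, 1]) (cert [4, 4, 4, 4, 4, 4, 1]) (cert [2, 2, 2, 2, 2, 2, 1])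
def t507 : HTree := splitA (leaf 5 [2, 0, 1, 3, 4, 5, 6]) [3, 3, 3, 3, 3, 2, 1]
def t508 : HTree := splitB t506 t507 [2, 2, 2, 2, 2, 1, 1] [4, 4, 4, 4, 4, 2, 1]
def t509 : HTree := splitS t508 6 5 3
def t510 : HTree := splitS t509 6 4 2
def t511 : HTree := splitS t510 6 4 1
def t512 : HTree := splitS t511 6 3 0
def t513 : HTree := splitB (skipZ 5) t512 [1, 1, 1, 1, 1, 1, 0] [2, 2, 2, 2, 2, 1, 0]
def t514 : HTree := splitA t513 [2, 2, 2, 2, 1, 1, 0]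
def t515 : HTree := splitS t514 5 4 2
def t516 : HTree := splitS t515 5 4 1
def t517 : HTree := splitS t516 5 3 0
def t518 : HTree := splitB (skipZ 4) t517 [1, 1, 1, 1, 1, 0, 0] [2, 2, 2, 2, 1, 0, 0]
def t519 : HTree := splitA t518 [3, 2, 4, 1, 2, 0, 0]
def t520 : HTree := splitA t519 [2, 2, 2, 1, 1, 0, 0]
def t521 : HTree := splitS t520 4 3 0
def t522 : HTree := splitA t521 [4, 3, 5, 2, 0, 0, 0]
def t523 : HTree := splitB t505 t522 [1, 1, 1, 1, 0, 0, 0] [2, 2, 2, 1, 0, 0, 0]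
def t524 : HTree := splitA t523 [2, 1, 2, 1, 0, 0, 0]
def t525 : HTree := splitA t524 [1, 1, 1, 0, 0, 0, 0]
def t526 : HTree := splitA (skipZ 4) [4, 2, 3, 2, 1, 0, 0]
def t527 : HTree := splitA t526 [8, 4, 6, 3, 1, 0, 0]
def t528 : HTree := splitS t527 4 3 1
def t529 : HTree := splitS t528 4 3 0
def t530 : HTree := splitB (skipZ 3) t529 [4, 2, 3, 2, 0, 0, 0] [4, 2, 3, 1, 0, 0, 0]
def t531 : HTree := split (skipZ 6) (fin [2, 2, 1, 2, 2, 2, 2]) (leaf 1 [6, 5, 4, 3, 1, 0, 2]) (leaf 3 [2, 0, 1, 3, 4, 5, 6]) (cert [2, 2, 1, 2, 2, 2, 2]) (cert [6, 6, 3, 6, 6, 6, 2]) (cert [2, 2, 1, 2, 2, 2, 2]) (cert [4, 4, 2, 4, 4, 4, 1]) (cert [2, 2, 1, 2, 2, 2, 1])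
def t532 : HTree := splitA (leaf 4 [2, 0, 1, 3, 4, 5, 6]) [6, 6, 3, 6, 6, 4, 2]
def t533 : HTree := splitB t531 t532 [2, 2, 1, 2, 2, 1, 1] [4, 4, 2, 4, 4, 2, 1]
def t534 : HTree := splitS t533 6 5 3
def t535 : HTree := splitS t534 6 4 2
def t536 : HTree := splitS t535 6 4 1
def t537 : HTree := splitS t536 6 3 0
def t538 : HTree := splitB (skipZ 5) t537 [2, 2, 1, 2, 2, 2, 0] [2, 2, 1, 2, 2, 1, 0]
def t539 : HTree := splitA t538 [2, 2, 1, 2, 1, 1, 0]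
def t540 : HTree := splitS t539 5 4 2
def t541 : HTree := splitS t540 5 4 1
def t542 : HTree := splitS t541 5 3 0
def t543 : HTree := splitB (skipZ 4) t542 [2, 2, 1, 2, 2, 0, 0] [2, 2, 1, 2, 1, 0, 0]
def t544 : HTree := splitA t543 [3, 2, 2, 1, 1, 0, 0]
def t545 : HTree := splitA t544 [2, 2, 1, 1, 1, 0, 0]
def t546 : HTree := splitS t545 4 3 0
def t547 : HTree := splitA t546 [3, 2, 2, 1, 0, 0, 0]
def t548 : HTree := splitB t530 t547 [2, 2, 1, 2, 0, 0, 0] [2, 2, 1, 1, 0, 0, 0]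
def t549 : HTree := splitA t548 [2, 1, 1, 1, 0, 0, 0]
def t550 : HTree := splitA t549 [5, 4, 3, 0, 0, 0, 0]
def t551 : HTree := split t130 t500 t525 t550 (cert [2, 1, 3, 0, 0, 0, 0]) (cert [2, 1, 1, 0, 0, 0, 0]) (cert [2, 1, 3, 0, 0, 0, 0]) (cert [8, 4, 3, 0, 0, 0, 0]) (cert [4, 2, 3, 0, 0, 0, 0])
def t552 : HTree := split (skipZ 6) (fin [1, 2, 2, 2, 2, 2, 2]) (leaf 1 [6, 5, 4, 3, 2, 1, 0]) (leaf 3 [0, 1, 2, 3, 4, 5, 6]) (cert [1, 2, 2, 2, 2, 2, 2]) (cert [3, 6, 6, 6, 6, 6, 2]) (cert [1, 2, 2, 2, 2, 2, 2]) (cert [2, 4, 4, 4, 4, 4, 1]) (cert [1, 2, 2, 2, 2, 2, 1])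
def t553 : HTree := splitA (leaf 4 [0, 1, 2, 3, 4, 5, 6]) [3, 6, 6, 6, 6, 4, 2]
def t554 : HTree := splitB t552 t553 [1, 2, 2, 2, 2, 1, 1] [2, 4, 4, 4, 4, 2, 1]
def t555 : HTree := splitS t554 6 5 3
def t556 : HTree := splitS t555 6 4 2
def t557 : HTree := splitS t556 6 3 1
def t558 : HTree := splitS t557 6 2 0
def t559 : HTree := splitB (skipZ 5) t558 [1, 2, 2, 2, 2, 2, 0] [1, 2, 2, 2, 2, 1, 0]
def t560 : HTree := splitA t559 [1, 2, 2, 2, 1, 1, 0]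
def t561 : HTree := splitS t560 5 4 2
def t562 : HTree := splitS t561 5 3 1
def t563 : HTree := splitS t562 5 2 0
def t564 : HTree := splitB (skipZ 4) t563 [1, 2, 2, 2, 2, 0, 0] [1, 2, 2, 2, 1, 0, 0]
def t565 : HTree := splitA t564 [1, 2, 2, 1, 1, 0, 0]
def t566 : HTree := splitS t565 4 3 1
def t567 : HTree := splitS t566 4 2 0
def t568 : HTree := splitB (skipZ 3) t567 [1, 2, 2, 2, 0, 0, 0] [1, 2, 2, 1, 0, 0, 0]
def t569 : HTree := splitA t568 [1, 2, 1, 1, 0, 0, 0]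
def t570 : HTree := splitS t569 3 2 0
def t571 : HTree := splitB (skipZ 2) t570 [1, 2, 2, 0, 0, 0, 0] [1, 2, 1, 0, 0, 0, 0]
def t572 : HTree := split (skipZ 6) (fin [1, 1, 1, 1, 1, 1, 1]) (leaf 2 [1, 0, 2, 3, 4, 5, 6]) (leaf 1 [1, 0, 2, 3, 4, 5, 6]) (cert [1, 1, 1, 1, 1, 1, 1]) (cert [3, 3, 3, 3, 3, 3, 1]) (cert [1, 1, 1, 1, 1, 1, 1]) (cert [4, 4, 4, 4, 4, 4, 1]) (cert [2, 2, 2, 2, 2, 2, 1])
def t573 : HTree := splitA (leaf 5 [1, 0, 2, 3, 4, 5, 6]) [3, 3, 3, 3, 3, 2, 1]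
def t574 : HTree := splitB t572 t573 [2, 2, 2, 2, 2, 1, 1] [4, 4, 4, 4, 4, 2, 1]
def t575 : HTree := splitS t574 6 5 3
def t576 : HTree := splitS t575 6 4 2
def t577 : HTree := splitS t576 6 3 1
def t578 : HTree := splitS t577 6 3 0
def t579 : HTree := splitB (skipZ 5) t578 [1, 1, 1, 1, 1, 1, 0] [2, 2, 2, 2, 2, 1, 0]
def t580 : HTree := splitA t579 [2, 2, 2, 2, 1, 1, 0]
def t581 : HTree := splitS t580 5 4 2
def t582 : HTree := splitS t581 5 3 1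
def t583 : HTree := splitS t582 5 3 0
def t584 : HTree := splitB (skipZ 4) t583 [1, 1, 1, 1, 1, 0, 0] [2, 2, 2, 2, 1, 0, 0]
def t585 : HTree := splitA t584 [2, 2, 2, 1, 1, 0, 0]
def t586 : HTree := splitS t585 4 3 1
def t587 : HTree := splitS t586 4 3 0
def t588 : HTree := splitB (skipZ 3) t587 [1, 1, 1, 1, 0, 0, 0] [2, 2, 2, 1, 0, 0, 0]
def t589 : HTree := splitA (skipZ 4) [2, 3, 1, 2, 1, 0, 0]
def t590 : HTree := splitA t589 [3, 4, 2, 2, 1, 0, 0]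
def t591 : HTree := splitA t590 [4, 6, 2, 3, 1, 0, 0]
def t592 : HTree := splitS t591 4 3 0
def t593 : HTree := splitA t592 [4, 5, 3, 2, 0, 0, 0]
def t594 : HTree := splitB t588 t593 [2, 3, 1, 2, 0, 0, 0] [2, 3, 1, 1, 0, 0, 0]
def t595 : HTree := splitA t594 [2, 2, 1, 1, 0, 0, 0]
def t596 : HTree := splitA t595 [3, 4, 2, 0, 0, 0, 0]
def t597 : HTree := splitB t571 t596 [1, 1, 1, 0, 0, 0, 0] [2, 2, 1, 0, 0, 0, 0]
def t598 : HTree := split (skipZ 6) (fin [1, 1, 1, 1, 1, 1, 1]) (leaf 2 [0, 1, 2, 3, 4, 5, 6]) (leaf 1 [0, 1, 2, 3, 4, 5, 6]) (cert [1, 1, 1, 1, 1, 1, 1]) (cert [3, 3, 3, 3, 3, 3, 1]) (cert [1, 1, 1, 1, 1, 1, 1]) (cert [4, 4, 4, 4, 4, 4, 1]) (cert [2, 2, 2, 2, 2, 2, 1])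
def t599 : HTree := splitA (leaf 5 [0, 1, 2, 3, 4, 5, 6]) [3, 3, 3, 3, 3, 2, 1]
def t600 : HTree := splitB t598 t599 [2, 2, 2, 2, 2, 1, 1] [4, 4, 4, 4, 4, 2, 1]
def t601 : HTree := splitS t600 6 5 3
def t602 : HTree := splitS t601 6 4 2
def t603 : HTree := splitS t602 6 3 1
def t604 : HTree := splitS t603 6 2 0
def t605 : HTree := splitB (skipZ 5) t604 [1, 1, 1, 1, 1, 1, 0] [2, 2, 2, 2, 2, 1, 0]
def t606 : HTree := splitA t605 [2, 2, 2, 2, 1, 1, 0]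
def t607 : HTree := splitS t606 5 4 2
def t608 : HTree := splitS t607 5 3 1
def t609 : HTree := splitS t608 5 2 0
def t610 : HTree := splitB (skipZ 4) t609 [1, 1, 1, 1, 1, 0, 0] [2, 2, 2, 2, 1, 0, 0]
def t611 : HTree := splitA t610 [2, 2, 2, 1, 1, 0, 0]
def t612 : HTree := splitS t611 4 3 1
def t613 : HTree := splitS t612 4 2 0
def t614 : HTree := splitB (skipZ 3) t613 [1, 1, 1, 1, 0, 0, 0] [2, 2, 2, 1, 0, 0, 0]
def t615 : HTree := splitA t614 [2, 2, 1, 1, 0, 0, 0]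
def t616 : HTree := splitS t615 3 2 0
def t617 : HTree := splitB (skipZ 2) t616 [1, 1, 1, 0, 0, 0, 0] [2, 2, 1, 0, 0, 0, 0]
def t618 : HTree := split (skipZ 6) (fin [2, 1, 2, 2, 2, 2, 2]) (leaf 1 [6, 5, 4, 3, 2, 0, 1]) (leaf 3 [1, 0, 2, 3, 4, 5, 6]) (cert [2, 1, 2, 2, 2, 2, 2]) (cert [6, 3, 6, 6, 6, 6, 2]) (cert [2, 1, 2, 2, 2, 2, 2]) (cert [4, 2, 4, 4, 4, 4, 1]) (cert [2, 1, 2, 2, 2, 2, 1])
def t619 : HTree := splitA (leaf 4 [1, 0, 2, 3, 4, 5, 6]) [6, 3, 6, 6, 6, 4, 2]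
def t620 : HTree := splitB t618 t619 [2, 1, 2, 2, 2, 1, 1] [4, 2, 4, 4, 4, 2, 1]
def t621 : HTree := splitS t620 6 5 3
def t622 : HTree := splitS t621 6 4 2
def t623 : HTree := splitS t622 6 3 1
def t624 : HTree := splitS t623 6 3 0
def t625 : HTree := splitB (skipZ 5) t624 [2, 1, 2, 2, 2, 2, 0] [2, 1, 2, 2, 2, 1, 0]
def t626 : HTree := splitA t625 [2, 1, 2, 2, 1, 1, 0]
def t627 : HTree := splitS t626 5 4 2
def t628 : HTree := splitS t627 5 3 1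
def t629 : HTree := splitS t628 5 3 0
def t630 : HTree := splitB (skipZ 4) t629 [2, 1, 2, 2, 2, 0, 0] [2, 1, 2, 2, 1, 0, 0]
def t631 : HTree := splitA t630 [2, 1, 2, 1, 1, 0, 0]
def t632 : HTree := splitS t631 4 3 1
def t633 : HTree := splitS t632 4 3 0
def t634 : HTree := splitB (skipZ 3) t633 [2, 1, 2, 2, 0, 0, 0] [2, 1, 2, 1, 0, 0, 0]
def t635 : HTree := splitA (skipZ 4) [4, 3, 2, 2, 1, 0, 0]
def t636 : HTree := splitA t635 [3, 2, 2, 1, 1, 0, 0]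
def t637 : HTree := splitA t636 [8, 6, 4, 3, 1, 0, 0]
def t638 : HTree := splitS t637 4 3 0
def t639 : HTree := splitA t638 [3, 2, 2, 1, 0, 0, 0]
def t640 : HTree := splitB t634 t639 [4, 3, 2, 2, 0, 0, 0] [4, 3, 2, 1, 0, 0, 0]
def t641 : HTree := splitA t640 [2, 1, 1, 1, 0, 0, 0]
def t642 : HTree := splitA t641 [4, 3, 2, 0, 0, 0, 0]
def t643 : HTree := splitB t617 t642 [2, 1, 2, 0, 0, 0, 0] [2, 1, 1, 0, 0, 0, 0]
def t644 : HTree := splitA (skipZ 2) [1, 2, 1, 0, 0, 0, 0]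
def t645 : HTree := splitA t644 [2, 3, 1, 0, 0, 0, 0]
def t646 : HTree := splitA (skipZ 2) [3, 2, 1, 0, 0, 0, 0]
def t647 : HTree := splitA t646 [2, 1, 1, 0, 0, 0, 0]
def t648 : HTree := split (skipZ 1) t551 t597 t643 t645 t647 (cert [1, 2, 0, 0, 0, 0, 0]) (cert [2, 1, 0, 0, 0, 0, 0]) (cert [1, 1, 0, 0, 0, 0, 0])

def tree : HTree := t648

set_option maxRecDepth 100000 in
theorem tree_ok : chk 7 canon tree [] = true := by decide +kernel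

end Groth.Agent.H79.Aff.N7
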