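import Groth.Agent.H79.AffCheck

/-! Certificate tree for the classification of affine data on 8 indices (generated). -/

set_option autoImplicit false

namespace Groth.Agent.H79.Aff.N8

open Groth.Agent.H79.Aff Groth.Agent.H79.Aff.HTree

def canon : List (List (List ℕ)) := [
  [[0, 1, 0, 0, 0, 0, 0, 1], [1, 0, 1, 0, 0, 0, 0, 0], [0, 1, 0, 1, 0, 0, 0, 0], [0, 0, 1, 0, 1, 0, 0, 0], [0, 0, 0, 1, 0, 1, 0, 0], [0, 0, 0, 0, 1, 0, 1, 0], [0, 0, 0, 0, 0, 1, 0, 1], [1, 0, 0, 0, 0, 0, 1, 0]],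
  [[0, 2, 0, 0, 0, 0, 0, 0], [1, 0, 1, 0, 0, 0, 0, 0], [0, 1, 0, 1, 0, 0, 0, 0], [0, 0, 1, 0, 1, 0, 0, 0], [0, 0, 0, 1, 0, 1, 0, 0], [0, 0, 0, 0, 1, 0, 1, 0], [0, 0, 0, 0, 0, 1, 0, 2], [0, 0, 0, 0, 0, 0, 1, 0]],
  [[0, 2, 0, 0, 0, 0, 0, 0], [1, 0, 1, 0, 0, 0, 0, 0], [0, 1, 0, 1, 0, 0, 0, 0], [0, 0, 1, 0, 1, 0, 0, 0], [0, 0, 0, 1, 0, 1, 0, 0], [0, 0, 0, 0, 1, 0, 1, 0], [0, 0, 0, 0, 0, 1, 0, 1], [0, 0, 0, 0, 0, 0, 2, 0]],
  [[0, 1, 0, 0, 0, 0, 0, 0], [2, 0, 1, 0, 0, 0, 0, 0], [0, 1, 0, 1, 0, 0, 0, 0], [0, 0, 1, 0, 1, 0, 0, 0], [0, 0, 0, 1, 0, 1, 0, 0], [0, 0, 0, 0, 1, 0, 1, 0], [0, 0, 0, 0, 0, 1, 0, 2], [0, 0, 0, 0, 0, 0, 1, 0]],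
  [[0, 1, 0, 0, 0, 0, 0, 0], [2, 0, 1, 0, 0, 0, 0, 0], [0, 1, 0, 1, 0, 0, 0, 0], [0, 0, 1, 0, 1, 0, 0, 0], [0, 0, 0, 1, 0, 1, 0, 0], [0, 0, 0, 0, 1, 0, 1, 1], [0, 0, 0, 0, 0, 1, 0, 0], [0, 0, 0, 0, 0, 1, 0, 0]],
  [[0, 2, 0, 0, 0, 0, 0, 0], [1, 0, 1, 0, 0, 0, 0, 0], [0, 1, 0, 1, 0, 0, 0, 0], [0, 0, 1, 0, 1, 0, 0, 0], [0, 0, 0, 1, 0, 1, 0, 0], [0, 0, 0, 0, 1, 0, 1, 1], [0, 0, 0, 0, 0, 1, 0, 0], [0, 0, 0, 0, 0, 1, 0, 0]],
  [[0, 0, 1, 0, 0, 0, 0, 0], [0, 0, 1, 0, 0, 0, 0, 0], [1, 1, 0, 1, 0, 0, 0, 0], [0, 0, 1, 0, 1, 0, 0, 0], [0, 0, 0, 1, 0, 1, 0, 0], [0, 0, 0, 0, 1, 0, 1, 1], [0, 0, 0, 0, 0, 1, 0, 0], [0, 0, 0, 0, 0, 1, 0, 0]],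
  [[0, 1, 0, 0, 0, 0, 0, 0], [1, 0, 1, 0, 0, 0, 0, 0], [0, 1, 0, 1, 0, 0, 0, 0], [0, 0, 1, 0, 1, 0, 0, 1], [0, 0, 0, 1, 0, 1, 0, 0], [0, 0, 0, 0, 1, 0, 1, 0], [0, 0, 0, 0, 0, 1, 0, 0], [0, 0, 0, 1, 0, 0, 0, 0]]
]

def t1 : HTree := split (skipZ 7) (fin [1, 2, 3, 4, 5, 6, 7, 8]) (fin [1, 2, 3, 4, 5, 6, 7, 8]) (fin [1, 2, 3, 4, 5, 6, 7, 4]) (cert [1, 2, 3, 4, 5, 6, 7, 8]) (cert [3, 6, 9, 12, 15, 18, 21, 8]) (cert [1, 2, 3, 4, 5, 6, 7, 8]) (cert [1, 2, 3, 4, 5, 6, 7, 2]) (cert [1, 2, 3, 4, 5, 6, 7, 4])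
def t2 : HTree := splitA (fin [1, 2, 3, 4, 5, 6, 3, 4]) [3, 6, 9, 12, 15, 18, 13, 8]
def t3 : HTree := splitB t1 t2 [1, 2, 3, 4, 5, 6, 3, 4] [1, 2, 3, 4, 5, 6, 3, 2]
def t4 : HTree := splitS t3 7 6 4
def t5 : HTree := splitS t4 7 5 3
def t6 : HTree := splitS t5 7 4 2
def t7 : HTree := splitS t6 7 3 1
def t8 : HTree := splitS t7 7 2 0
def t9 : HTree := splitA (skipZ 7) [1, 2, 3, 4, 5, 6, 7, 2]
def t10 : HTree := splitA t9 [1, 2, 3, 4, 5, 6, 6, 1]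
def t11 : HTree := splitS t10 7 6 4
def t12 : HTree := splitS t11 7 5 3
def t13 : HTree := splitS t12 7 4 2
def t14 : HTree := splitS t13 7 3 1
def t15 : HTree := splitS t14 7 2 0
def t16 : HTree := splitA (skipZ 7) [2, 4, 6, 8, 10, 12, 7, 2]
def t17 : HTree := splitA t16 [1, 2, 3, 4, 5, 6, 3, 1]
def t18 : HTree := splitS t17 7 6 4
def t19 : HTree := splitS t18 7 5 3
def t20 : HTree := splitS t19 7 4 2
def t21 : HTree := splitS t20 7 3 1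
def t22 : HTree := splitS t21 7 2 0
def t23 : HTree := split (skipZ 6) t8 t15 t22 (cert [1, 2, 3, 4, 5, 6, 7, 0]) (cert [3, 6, 9, 12, 15, 18, 7, 0]) (cert [1, 2, 3, 4, 5, 6, 7, 0]) (cert [4, 8, 12, 16, 20, 24, 7, 0]) (cert [2, 4, 6, 8, 10, 12, 7, 0])
def t24 : HTree := splitB (skipZ 7) (fin [2, 4, 6, 8, 10, 5, 7, 4]) [2, 4, 6, 8, 10, 5, 7, 4] [2, 4, 6, 8, 10, 5, 7, 2]
def t25 : HTree := splitA (fin [2, 4, 6, 8, 10, 7, 5, 4]) [1, 2, 3, 4, 5, 3, 3, 1]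
def t26 : HTree := splitB t24 t25 [2, 4, 6, 8, 10, 7, 5, 4] [2, 4, 6, 8, 10, 7, 5, 2]
def t27 : HTree := splitA t26 [2, 4, 6, 8, 10, 5, 5, 2]
def t28 : HTree := splitS t27 7 5 3
def t29 : HTree := splitS t28 7 4 2
def t30 : HTree := splitS t29 7 3 1
def t31 : HTree := splitS t30 7 2 0
def t32 : HTree := splitA t31 [3, 6, 9, 12, 15, 11, 7, 0]
def t33 : HTree := splitB t23 t32 [2, 4, 6, 8, 10, 5, 7, 0] [4, 8, 12, 16, 20, 10, 7, 0]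
def t34 : HTree := splitS t33 6 5 3
def t35 : HTree := splitS t34 6 4 2
def t36 : HTree := splitS t35 6 3 1
def t37 : HTree := splitS t36 6 2 0
def t38 : HTree := splitA (skipZ 6) [1, 2, 3, 4, 5, 6, 2, 0]
def t39 : HTree := splitA t38 [1, 2, 3, 4, 5, 5, 1, 0]
def t40 : HTree := splitS t39 6 5 3
def t41 : HTree := splitS t40 6 4 2
def t42 : HTree := splitS t41 6 3 1
def t43 : HTree := splitS t42 6 2 0
def t44 : HTree := splitA (skipZ 6) [1, 2, 3, 4, 5, 3, 1, 0]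
def t45 : HTree := splitA t44 [2, 4, 6, 8, 10, 5, 2, 0]
def t46 : HTree := splitS t45 6 5 3
def t47 : HTree := splitS t46 6 4 2
def t48 : HTree := splitS t47 6 3 1
def t49 : HTree := splitS t48 6 2 0
def t50 : HTree := split (skipZ 5) t37 t43 t49 (cert [1, 2, 3, 4, 5, 6, 0, 0]) (cert [1, 2, 3, 4, 5, 2, 0, 0]) (cert [1, 2, 3, 4, 5, 6, 0, 0]) (cert [2, 4, 6, 8, 10, 3, 0, 0]) (cert [1, 2, 3, 4, 5, 3, 0, 0])
def t51 : HTree := splitB (skipZ 7) (leaf 7 [0, 1, 2, 3, 5, 6, 7, 4]) [1, 2, 3, 4, 2, 3, 2, 1] [2, 4, 6, 8, 4, 6, 4, 1]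
def t52 : HTree := splitA t51 [2, 4, 6, 8, 4, 6, 3, 1]
def t53 : HTree := splitS t52 7 6 4
def t54 : HTree := splitS t53 7 6 3
def t55 : HTree := splitS t54 7 4 2
def t56 : HTree := splitS t55 7 3 1
def t57 : HTree := splitS t56 7 2 0
def t58 : HTree := splitB (skipZ 6) t57 [1, 2, 3, 4, 2, 3, 2, 0] [1, 2, 3, 4, 2, 3, 1, 0]
def t59 : HTree := splitB (skipZ 7) (leaf 7 [0, 1, 2, 3, 4, 6, 7, 5]) [1, 2, 3, 4, 3, 2, 2, 1] [2, 4, 6, 8, 6, 4, 4, 1]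
def t60 : HTree := splitA t59 [3, 6, 9, 12, 8, 7, 4, 2]
def t61 : HTree := splitA t60 [2, 4, 6, 8, 6, 4, 3, 1]
def t62 : HTree := splitS t61 7 6 3
def t63 : HTree := splitS t62 7 4 2
def t64 : HTree := splitS t63 7 3 1
def t65 : HTree := splitS t64 7 2 0
def t66 : HTree := splitA t65 [2, 4, 6, 8, 5, 5, 2, 0]
def t67 : HTree := splitB t58 t66 [1, 2, 3, 4, 3, 2, 2, 0] [1, 2, 3, 4, 3, 2, 1, 0]
def t68 : HTree := splitA t67 [1, 2, 3, 4, 2, 2, 1, 0]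
def t69 : HTree := splitS t68 6 4 2
def t70 : HTree := splitS t69 6 3 1
def t71 : HTree := splitS t70 6 2 0
def t72 : HTree := splitA t71 [1, 2, 3, 4, 3, 2, 0, 0]
def t73 : HTree := splitB t50 t72 [1, 2, 3, 4, 2, 3, 0, 0] [2, 4, 6, 8, 4, 3, 0, 0]
def t74 : HTree := splitS t73 5 4 2
def t75 : HTree := splitS t74 5 3 1
def t76 : HTree := splitS t75 5 2 0
def t77 : HTree := splitA (skipZ 5) [1, 2, 3, 4, 5, 2, 0, 0]
def t78 : HTree := splitA t77 [1, 2, 3, 4, 4, 1, 0, 0]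
def t79 : HTree := splitS t78 5 4 2
def t80 : HTree := splitS t79 5 3 1
def t81 : HTree := splitS t80 5 2 0
def t82 : HTree := splitA (skipZ 5) [2, 4, 6, 8, 5, 2, 0, 0]
def t83 : HTree := splitA t82 [1, 2, 3, 4, 2, 1, 0, 0]
def t84 : HTree := splitS t83 5 4 2
def t85 : HTree := splitS t84 5 3 1
def t86 : HTree := splitS t85 5 2 0
def t87 : HTree := split (skipZ 4) t76 t81 t86 (cert [1, 2, 3, 4, 5, 0, 0, 0]) (cert [3, 6, 9, 12, 5, 0, 0, 0]) (cert [1, 2, 3, 4, 5, 0, 0, 0]) (cert [4, 8, 12, 16, 5, 0, 0, 0]) (cert [2, 4, 6, 8, 5, 0, 0, 0])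
def t88 : HTree := splitB (skipZ 7) (fin [2, 4, 6, 3, 5, 4, 3, 2]) [2, 4, 6, 3, 5, 4, 3, 2] [2, 4, 6, 3, 5, 4, 3, 1]
def t89 : HTree := splitA t88 [2, 4, 6, 3, 5, 4, 2, 1]
def t90 : HTree := splitS t89 7 6 4
def t91 : HTree := splitS t90 7 5 3
def t92 : HTree := splitS t91 7 5 2
def t93 : HTree := splitS t92 7 3 1
def t94 : HTree := splitS t93 7 2 0
def t95 : HTree := splitB (skipZ 6) t94 [2, 4, 6, 3, 5, 4, 3, 0] [4, 8, 12, 6, 10, 8, 3, 0]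
def t96 : HTree := splitA t95 [4, 8, 12, 6, 10, 5, 3, 0]
def t97 : HTree := splitS t96 6 5 3
def t98 : HTree := splitS t97 6 5 2
def t99 : HTree := splitS t98 6 3 1
def t100 : HTree := splitS t99 6 2 0
def t101 : HTree := splitB (skipZ 5) t100 [2, 4, 6, 3, 5, 4, 0, 0] [2, 4, 6, 3, 5, 2, 0, 0]
def t102 : HTree := splitB (skipZ 7) (fin [2, 4, 6, 5, 3, 4, 3, 2]) [2, 4, 6, 5, 3, 4, 3, 2] [2, 4, 6, 5, 3, 4, 3, 1]
def t103 : HTree := splitA t102 [2, 4, 6, 5, 3, 4, 2, 1]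
def t104 : HTree := splitS t103 7 6 4
def t105 : HTree := splitS t104 7 6 3
def t106 : HTree := splitS t105 7 5 2
def t107 : HTree := splitS t106 7 3 1
def t108 : HTree := splitS t107 7 2 0
def t109 : HTree := splitB (skipZ 6) t108 [2, 4, 6, 5, 3, 4, 3, 0] [4, 8, 12, 10, 6, 8, 3, 0]
def t110 : HTree := splitA t109 [1, 2, 3, 2, 2, 1, 1, 0]
def t111 : HTree := splitA t110 [4, 8, 12, 10, 6, 5, 3, 0]
def t112 : HTree := splitS t111 6 5 2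
def t113 : HTree := splitS t112 6 3 1
def t114 : HTree := splitS t113 6 2 0
def t115 : HTree := splitA t114 [1, 2, 3, 2, 2, 1, 0, 0]
def t116 : HTree := splitB t101 t115 [2, 4, 6, 5, 3, 4, 0, 0] [2, 4, 6, 5, 3, 2, 0, 0]
def t117 : HTree := splitA t116 [2, 4, 6, 3, 3, 2, 0, 0]
def t118 : HTree := splitS t117 5 3 1
def t119 : HTree := splitS t118 5 2 0
def t120 : HTree := splitA t119 [3, 6, 9, 7, 5, 0, 0, 0]
def t121 : HTree := splitB t87 t120 [2, 4, 6, 3, 5, 0, 0, 0] [4, 8, 12, 6, 5, 0, 0, 0]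
def t122 : HTree := splitS t121 4 3 1
def t123 : HTree := splitS t122 4 2 0
def t124 : HTree := splitA (skipZ 4) [1, 2, 3, 4, 2, 0, 0, 0]
def t125 : HTree := splitA t124 [1, 2, 3, 3, 1, 0, 0, 0]
def t126 : HTree := splitS t125 4 3 1
def t127 : HTree := splitS t126 4 2 0
def t128 : HTree := splitA (skipZ 4) [1, 2, 3, 2, 1, 0, 0, 0]
def t129 : HTree := splitA t128 [2, 4, 6, 3, 2, 0, 0, 0]
def t130 : HTree := splitS t129 4 3 1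
def t131 : HTree := splitS t130 4 2 0
def t132 : HTree := split (skipZ 3) t123 t127 t131 (cert [1, 2, 3, 4, 0, 0, 0, 0]) (cert [3, 6, 9, 4, 0, 0, 0, 0]) (cert [1, 2, 3, 4, 0, 0, 0, 0]) (cert [1, 2, 3, 1, 0, 0, 0, 0]) (cert [1, 2, 3, 2, 0, 0, 0, 0])
def t133 : HTree := split (skipZ 7) (fin [1, 2, 1, 2, 2, 2, 2, 2]) (leaf 5 [7, 6, 5, 4, 3, 1, 0, 2]) (leaf 4 [7, 6, 5, 4, 3, 1, 0, 2]) (cert [1, 2, 1, 2, 2, 2, 2, 2]) (cert [3, 6, 3, 6, 6, 6, 6, 2]) (cert [1, 2, 1, 2, 2, 2, 2, 2]) (cert [2, 4, 2, 4, 4, 4, 4, 1]) (cert [1, 2, 1, 2, 2, 2, 2, 1])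
def t134 : HTree := splitA (leaf 6 [0, 2, 1, 3, 4, 5, 6, 7]) [3, 6, 3, 6, 6, 6, 4, 2]
def t135 : HTree := splitB t133 t134 [1, 2, 1, 2, 2, 2, 1, 1] [2, 4, 2, 4, 4, 4, 2, 1]
def t136 : HTree := splitS t135 7 6 4
def t137 : HTree := splitS t136 7 5 3
def t138 : HTree := splitS t137 7 4 2
def t139 : HTree := splitS t138 7 4 1
def t140 : HTree := splitS t139 7 2 0
def t141 : HTree := splitB (skipZ 6) t140 [1, 2, 1, 2, 2, 2, 2, 0] [1, 2, 1, 2, 2, 2, 1, 0]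
def t142 : HTree := splitA t141 [1, 2, 1, 2, 2, 1, 1, 0]
def t143 : HTree := splitS t142 6 5 3
def t144 : HTree := splitS t143 6 4 2
def t145 : HTree := splitS t144 6 4 1
def t146 : HTree := splitS t145 6 2 0
def t147 : HTree := splitB (skipZ 5) t146 [1, 2, 1, 2, 2, 2, 0, 0] [1, 2, 1, 2, 2, 1, 0, 0]
def t148 : HTree := splitA t147 [1, 2, 1, 2, 1, 1, 0, 0]
def t149 : HTree := splitS t148 5 4 2
def t150 : HTree := splitS t149 5 4 1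
def t151 : HTree := splitS t150 5 2 0
def t152 : HTree := splitB (skipZ 4) t151 [1, 2, 1, 2, 2, 0, 0, 0] [1, 2, 1, 2, 1, 0, 0, 0]
def t153 : HTree := split (skipZ 7) (fin [1, 2, 2, 1, 2, 2, 2, 2]) (leaf 5 [7, 6, 5, 4, 2, 1, 0, 3]) (leaf 4 [7, 6, 5, 4, 2, 1, 0, 3]) (cert [1, 2, 2, 1, 2, 2, 2, 2]) (cert [3, 6, 6, 3, 6, 6, 6, 2]) (cert [1, 2, 2, 1, 2, 2, 2, 2]) (cert [2, 4, 4, 2, 4, 4, 4, 1]) (cert [1, 2, 2, 1, 2, 2, 2, 1])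
def t154 : HTree := splitA (leaf 6 [0, 3, 1, 2, 4, 5, 6, 7]) [3, 6, 6, 3, 6, 6, 4, 2]
def t155 : HTree := splitB t153 t154 [1, 2, 2, 1, 2, 2, 1, 1] [2, 4, 4, 2, 4, 4, 2, 1]
def t156 : HTree := splitS t155 7 6 4
def t157 : HTree := splitS t156 7 5 3
def t158 : HTree := splitS t157 7 5 2
def t159 : HTree := splitS t158 7 4 1
def t160 : HTree := splitS t159 7 2 0
def t161 : HTree := splitB (skipZ 6) t160 [1, 2, 2, 1, 2, 2, 2, 0] [1, 2, 2, 1, 2, 2, 1, 0]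
def t162 : HTree := splitA t161 [1, 2, 2, 1, 2, 1, 1, 0]
def t163 : HTree := splitS t162 6 5 3
def t164 : HTree := splitS t163 6 5 2
def t165 : HTree := splitS t164 6 4 1
def t166 : HTree := splitS t165 6 2 0
def t167 : HTree := splitB (skipZ 5) t166 [1, 2, 2, 1, 2, 2, 0, 0] [1, 2, 2, 1, 2, 1, 0, 0]
def t168 : HTree := splitB (skipZ 7) (fin [3, 6, 4, 5, 2, 4, 3, 2]) [3, 6, 4, 5, 2, 4, 3, 2] [3, 6, 4, 5, 2, 4, 3, 1]
def t169 : HTree := splitA t168 [3, 6, 4, 5, 2, 4, 2, 1]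
def t170 : HTree := splitS t169 7 6 4
def t171 : HTree := splitS t170 7 6 3
def t172 : HTree := splitS t171 7 5 2
def t173 : HTree := splitS t172 7 4 1
def t174 : HTree := splitS t173 7 2 0
def t175 : HTree := splitB (skipZ 6) t174 [3, 6, 4, 5, 2, 4, 3, 0] [6, 12, 8, 10, 4, 8, 3, 0]
def t176 : HTree := splitB (skipZ 7) (fin [3, 6, 5, 4, 4, 2, 3, 2]) [3, 6, 5, 4, 4, 2, 3, 2] [3, 6, 5, 4, 4, 2, 3, 1]
def t177 : HTree := splitA (leaf 7 [6, 4, 2, 1, 3, 5, 7, 0]) [7, 14, 11, 10, 8, 6, 5, 2]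
def t178 : HTree := splitB t176 t177 [2, 4, 3, 3, 2, 2, 1, 1] [4, 8, 6, 6, 4, 4, 2, 1]
def t179 : HTree := splitA t178 [3, 6, 5, 4, 4, 2, 2, 1]
def t180 : HTree := splitS t179 7 6 3
def t181 : HTree := splitS t180 7 5 2
def t182 : HTree := splitS t181 7 4 1
def t183 : HTree := splitS t182 7 2 0
def t184 : HTree := splitA t183 [2, 4, 3, 3, 2, 2, 1, 0]
def t185 : HTree := splitB t175 t184 [3, 6, 5, 4, 4, 2, 3, 0] [6, 12, 10, 8, 8, 4, 3, 0]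
def t186 : HTree := splitA t185 [6, 12, 8, 10, 4, 5, 3, 0]
def t187 : HTree := splitS t186 6 5 2
def t188 : HTree := splitS t187 6 4 1
def t189 : HTree := splitS t188 6 2 0
def t190 : HTree := splitA t189 [5, 10, 8, 7, 6, 4, 0, 0]
def t191 : HTree := splitB t167 t190 [3, 6, 4, 5, 2, 4, 0, 0] [3, 6, 4, 5, 2, 2, 0, 0]
def t192 : HTree := splitA t191 [1, 2, 2, 1, 1, 1, 0, 0]
def t193 : HTree := splitS t192 5 4 1
def t194 : HTree := splitS t193 5 2 0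
def t195 : HTree := splitA t194 [2, 4, 3, 3, 2, 0, 0, 0]
def t196 : HTree := splitB t152 t195 [1, 2, 2, 1, 2, 0, 0, 0] [1, 2, 2, 1, 1, 0, 0, 0]
def t197 : HTree := splitA t196 [1, 2, 1, 1, 1, 0, 0, 0]
def t198 : HTree := splitS t197 4 2 0
def t199 : HTree := splitA t198 [3, 6, 5, 4, 0, 0, 0, 0]
def t200 : HTree := splitB t132 t199 [1, 2, 1, 2, 0, 0, 0, 0] [1, 2, 1, 1, 0, 0, 0, 0]
def t201 : HTree := splitS t200 3 2 0
def t202 : HTree := splitA (skipZ 4) [1, 2, 3, 2, 1, 0, 0, 0]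
def t203 : HTree := splitA t202 [2, 4, 6, 3, 1, 0, 0, 0]
def t204 : HTree := splitS t203 4 3 1
def t205 : HTree := splitS t204 4 2 0
def t206 : HTree := splitB (skipZ 3) t205 [1, 2, 3, 2, 0, 0, 0, 0] [1, 2, 3, 1, 0, 0, 0, 0]
def t207 : HTree := splitA t206 [1, 2, 2, 1, 0, 0, 0, 0]
def t208 : HTree := splitS t207 3 2 0
def t209 : HTree := splitA (skipZ 4) [2, 4, 3, 2, 1, 0, 0, 0]
def t210 : HTree := splitA t209 [4, 8, 6, 3, 1, 0, 0, 0]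
def t211 : HTree := splitS t210 4 3 1
def t212 : HTree := splitS t211 4 2 0
def t213 : HTree := splitB (skipZ 3) t212 [2, 4, 3, 2, 0, 0, 0, 0] [2, 4, 3, 1, 0, 0, 0, 0]
def t214 : HTree := splitA t213 [1, 2, 1, 1, 0, 0, 0, 0]
def t215 : HTree := splitS t214 3 2 0
def t216 : HTree := split (skipZ 2) t201 t208 t215 (cert [1, 2, 3, 0, 0, 0, 0, 0]) (cert [1, 2, 1, 0, 0, 0, 0, 0]) (cert [1, 2, 3, 0, 0, 0, 0, 0]) (cert [4, 8, 3, 0, 0, 0, 0, 0]) (cert [2, 4, 3, 0, 0, 0, 0, 0])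
def t217 : HTree := split (skipZ 7) (fin [2, 1, 3, 4, 5, 6, 7, 8]) (fin [2, 1, 3, 4, 5, 6, 7, 8]) (fin [2, 1, 3, 4, 5, 6, 7, 4]) (cert [2, 1, 3, 4, 5, 6, 7, 8]) (cert [6, 3, 9, 12, 15, 18, 21, 8]) (cert [2, 1, 3, 4, 5, 6, 7, 8]) (cert [2, 1, 3, 4, 5, 6, 7, 2]) (cert [2, 1, 3, 4, 5, 6, 7, 4])
def t218 : HTree := splitA (fin [2, 1, 3, 4, 5, 6, 3, 4]) [6, 3, 9, 12, 15, 18, 13, 8]
def t219 : HTree := splitB t217 t218 [2, 1, 3, 4, 5, 6, 3, 4] [2, 1, 3, 4, 5, 6, 3, 2]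
def t220 : HTree := splitS t219 7 6 4
def t221 : HTree := splitS t220 7 5 3
def t222 : HTree := splitS t221 7 4 2
def t223 : HTree := splitS t222 7 3 1
def t224 : HTree := splitS t223 7 3 0
def t225 : HTree := splitA (skipZ 7) [2, 1, 3, 4, 5, 6, 7, 2]
def t226 : HTree := splitA t225 [2, 1, 3, 4, 5, 6, 6, 1]
def t227 : HTree := splitS t226 7 6 4
def t228 : HTree := splitS t227 7 5 3
def t229 : HTree := splitS t228 7 4 2
def t230 : HTree := splitS t229 7 3 1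
def t231 : HTree := splitS t230 7 3 0
def t232 : HTree := splitA (skipZ 7) [4, 2, 6, 8, 10, 12, 7, 2]
def t233 : HTree := splitA t232 [2, 1, 3, 4, 5, 6, 3, 1]
def t234 : HTree := splitS t233 7 6 4
def t235 : HTree := splitS t234 7 5 3
def t236 : HTree := splitS t235 7 4 2
def t237 : HTree := splitS t236 7 3 1
def t238 : HTree := splitS t237 7 3 0
def t239 : HTree := split (skipZ 6) t224 t231 t238 (cert [2, 1, 3, 4, 5, 6, 7, 0]) (cert [6, 3, 9, 12, 15, 18, 7, 0]) (cert [2, 1, 3, 4, 5, 6, 7, 0]) (cert [8, 4, 12, 16, 20, 24, 7, 0]) (cert [4, 2, 6, 8, 10, 12, 7, 0])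
def t240 : HTree := splitB (skipZ 7) (fin [4, 2, 6, 8, 10, 5, 7, 4]) [4, 2, 6, 8, 10, 5, 7, 4] [4, 2, 6, 8, 10, 5, 7, 2]
def t241 : HTree := splitA (fin [4, 2, 6, 8, 10, 7, 5, 4]) [2, 1, 3, 4, 5, 3, 3, 1]
def t242 : HTree := splitB t240 t241 [4, 2, 6, 8, 10, 7, 5, 4] [4, 2, 6, 8, 10, 7, 5, 2]
def t243 : HTree := splitA t242 [4, 2, 6, 8, 10, 5, 5, 2]
def t244 : HTree := splitS t243 7 5 3
def t245 : HTree := splitS t244 7 4 2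
def t246 : HTree := splitS t245 7 3 1
def t247 : HTree := splitS t246 7 3 0
def t248 : HTree := splitA t247 [6, 3, 9, 12, 15, 11, 7, 0]
def t249 : HTree := splitB t239 t248 [4, 2, 6, 8, 10, 5, 7, 0] [8, 4, 12, 16, 20, 10, 7, 0]
def t250 : HTree := splitS t249 6 5 3
def t251 : HTree := splitS t250 6 4 2
def t252 : HTree := splitS t251 6 3 1
def t253 : HTree := splitS t252 6 3 0
def t254 : HTree := splitA (skipZ 6) [2, 1, 3, 4, 5, 6, 2, 0]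
def t255 : HTree := splitA t254 [2, 1, 3, 4, 5, 5, 1, 0]
def t256 : HTree := splitS t255 6 5 3
def t257 : HTree := splitS t256 6 4 2
def t258 : HTree := splitS t257 6 3 1
def t259 : HTree := splitS t258 6 3 0
def t260 : HTree := splitA (skipZ 6) [2, 1, 3, 4, 5, 3, 1, 0]
def t261 : HTree := splitA t260 [4, 2, 6, 8, 10, 5, 2, 0]
def t262 : HTree := splitS t261 6 5 3
def t263 : HTree := splitS t262 6 4 2
def t264 : HTree := splitS t263 6 3 1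
def t265 : HTree := splitS t264 6 3 0
def t266 : HTree := split (skipZ 5) t253 t259 t265 (cert [2, 1, 3, 4, 5, 6, 0, 0]) (cert [2, 1, 3, 4, 5, 2, 0, 0]) (cert [2, 1, 3, 4, 5, 6, 0, 0]) (cert [4, 2, 6, 8, 10, 3, 0, 0]) (cert [2, 1, 3, 4, 5, 3, 0, 0])
def t267 : HTree := splitB (skipZ 7) (leaf 7 [1, 0, 2, 3, 5, 6, 7, 4]) [2, 1, 3, 4, 2, 3, 2, 1] [4, 2, 6, 8, 4, 6, 4, 1]
def t268 : HTree := splitA t267 [4, 2, 6, 8, 4, 6, 3, 1]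
def t269 : HTree := splitS t268 7 6 4
def t270 : HTree := splitS t269 7 6 3
def t271 : HTree := splitS t270 7 4 2
def t272 : HTree := splitS t271 7 3 1
def t273 : HTree := splitS t272 7 3 0
def t274 : HTree := splitB (skipZ 6) t273 [2, 1, 3, 4, 2, 3, 2, 0] [2, 1, 3, 4, 2, 3, 1, 0]
def t275 : HTree := splitB (skipZ 7) (leaf 7 [1, 0, 2, 3, 4, 6, 7, 5]) [2, 1, 3, 4, 3, 2, 2, 1] [4, 2, 6, 8, 6, 4, 4, 1]
def t276 : HTree := splitA t275 [6, 3, 9, 12, 8, 7, 4, 2]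
def t277 : HTree := splitA t276 [4, 2, 6, 8, 6, 4, 3, 1]
def t278 : HTree := splitS t277 7 6 3
def t279 : HTree := splitS t278 7 4 2
def t280 : HTree := splitS t279 7 3 1
def t281 : HTree := splitS t280 7 3 0
def t282 : HTree := splitA t281 [4, 2, 6, 8, 5, 5, 2, 0]
def t283 : HTree := splitB t274 t282 [2, 1, 3, 4, 3, 2, 2, 0] [2, 1, 3, 4, 3, 2, 1, 0]
def t284 : HTree := splitA t283 [2, 1, 3, 4, 2, 2, 1, 0]
def t285 : HTree := splitS t284 6 4 2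
def t286 : HTree := splitS t285 6 3 1
def t287 : HTree := splitS t286 6 3 0
def t288 : HTree := splitA t287 [2, 1, 3, 4, 3, 2, 0, 0]
def t289 : HTree := splitB t266 t288 [2, 1, 3, 4, 2, 3, 0, 0] [4, 2, 6, 8, 4, 3, 0, 0]
def t290 : HTree := splitS t289 5 4 2
def t291 : HTree := splitS t290 5 3 1
def t292 : HTree := splitS t291 5 3 0
def t293 : HTree := splitA (skipZ 5) [2, 1, 3, 4, 5, 2, 0, 0]
def t294 : HTree := splitA t293 [2, 1, 3, 4, 4, 1, 0, 0]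
def t295 : HTree := splitS t294 5 4 2
def t296 : HTree := splitS t295 5 3 1
def t297 : HTree := splitS t296 5 3 0
def t298 : HTree := splitA (skipZ 5) [4, 2, 6, 8, 5, 2, 0, 0]
def t299 : HTree := splitA t298 [2, 1, 3, 4, 2, 1, 0, 0]
def t300 : HTree := splitS t299 5 4 2
def t301 : HTree := splitS t300 5 3 1
def t302 : HTree := splitS t301 5 3 0
def t303 : HTree := split (skipZ 4) t292 t297 t302 (cert [2, 1, 3, 4, 5, 0, 0, 0]) (cert [6, 3, 9, 12, 5, 0, 0, 0]) (cert [2, 1, 3, 4, 5, 0, 0, 0]) (cert [8, 4, 12, 16, 5, 0, 0, 0]) (cert [4, 2, 6, 8, 5, 0, 0, 0])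
def t304 : HTree := splitB (skipZ 7) (fin [4, 2, 6, 3, 5, 4, 3, 2]) [4, 2, 6, 3, 5, 4, 3, 2] [4, 2, 6, 3, 5, 4, 3, 1]
def t305 : HTree := splitA t304 [4, 2, 6, 3, 5, 4, 2, 1]
def t306 : HTree := splitS t305 7 6 4
def t307 : HTree := splitS t306 7 5 3
def t308 : HTree := splitS t307 7 5 2
def t309 : HTree := splitS t308 7 3 1
def t310 : HTree := splitS t309 7 3 0
def t311 : HTree := splitB (skipZ 6) t310 [4, 2, 6, 3, 5, 4, 3, 0] [8, 4, 12, 6, 10, 8, 3, 0]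
def t312 : HTree := splitA t311 [8, 4, 12, 6, 10, 5, 3, 0]
def t313 : HTree := splitS t312 6 5 3
def t314 : HTree := splitS t313 6 5 2
def t315 : HTree := splitS t314 6 3 1
def t316 : HTree := splitS t315 6 3 0
def t317 : HTree := splitB (skipZ 5) t316 [4, 2, 6, 3, 5, 4, 0, 0] [4, 2, 6, 3, 5, 2, 0, 0]
def t318 : HTree := splitB (skipZ 7) (fin [4, 2, 6, 5, 3, 4, 3, 2]) [4, 2, 6, 5, 3, 4, 3, 2] [4, 2, 6, 5, 3, 4, 3, 1]
def t319 : HTree := splitA t318 [4, 2, 6, 5, 3, 4, 2, 1]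
def t320 : HTree := splitS t319 7 6 4
def t321 : HTree := splitS t320 7 6 3
def t322 : HTree := splitS t321 7 5 2
def t323 : HTree := splitS t322 7 3 1
def t324 : HTree := splitS t323 7 3 0
def t325 : HTree := splitB (skipZ 6) t324 [4, 2, 6, 5, 3, 4, 3, 0] [8, 4, 12, 10, 6, 8, 3, 0]
def t326 : HTree := splitA t325 [2, 1, 3, 2, 2, 1, 1, 0]
def t327 : HTree := splitA t326 [8, 4, 12, 10, 6, 5, 3, 0]
def t328 : HTree := splitS t327 6 5 2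
def t329 : HTree := splitS t328 6 3 1
def t330 : HTree := splitS t329 6 3 0
def t331 : HTree := splitA t330 [2, 1, 3, 2, 2, 1, 0, 0]
def t332 : HTree := splitB t317 t331 [4, 2, 6, 5, 3, 4, 0, 0] [4, 2, 6, 5, 3, 2, 0, 0]
def t333 : HTree := splitA t332 [4, 2, 6, 3, 3, 2, 0, 0]
def t334 : HTree := splitS t333 5 3 1
def t335 : HTree := splitS t334 5 3 0
def t336 : HTree := splitA t335 [6, 3, 9, 7, 5, 0, 0, 0]
def t337 : HTree := splitB t303 t336 [4, 2, 6, 3, 5, 0, 0, 0] [8, 4, 12, 6, 5, 0, 0, 0]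
def t338 : HTree := splitS t337 4 3 1
def t339 : HTree := splitS t338 4 3 0
def t340 : HTree := splitA (skipZ 4) [2, 1, 3, 4, 2, 0, 0, 0]
def t341 : HTree := splitA t340 [2, 1, 3, 3, 1, 0, 0, 0]
def t342 : HTree := splitS t341 4 3 1
def t343 : HTree := splitS t342 4 3 0
def t344 : HTree := splitA (skipZ 4) [2, 1, 3, 2, 1, 0, 0, 0]
def t345 : HTree := splitA t344 [4, 2, 6, 3, 2, 0, 0, 0]
def t346 : HTree := splitS t345 4 3 1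
def t347 : HTree := splitS t346 4 3 0
def t348 : HTree := split (skipZ 3) t339 t343 t347 (cert [2, 1, 3, 4, 0, 0, 0, 0]) (cert [6, 3, 9, 4, 0, 0, 0, 0]) (cert [2, 1, 3, 4, 0, 0, 0, 0]) (cert [2, 1, 3, 1, 0, 0, 0, 0]) (cert [2, 1, 3, 2, 0, 0, 0, 0])
def t349 : HTree := split (skipZ 7) (fin [2, 3, 1, 4, 5, 6, 7, 8]) (fin [2, 3, 1, 4, 5, 6, 7, 8]) (fin [2, 3, 1, 4, 5, 6, 7, 4]) (cert [2, 3, 1, 4, 5, 6, 7, 8]) (cert [6, 9, 3, 12, 15, 18, 21, 8]) (cert [2, 3, 1, 4, 5, 6, 7, 8]) (cert [2, 3, 1, 4, 5, 6, 7, 2]) (cert [2, 3, 1, 4, 5, 6, 7, 4])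
def t350 : HTree := splitA (fin [2, 3, 1, 4, 5, 6, 3, 4]) [6, 9, 3, 12, 15, 18, 13, 8]
def t351 : HTree := splitB t349 t350 [2, 3, 1, 4, 5, 6, 3, 4] [2, 3, 1, 4, 5, 6, 3, 2]
def t352 : HTree := splitS t351 7 6 4
def t353 : HTree := splitS t352 7 5 3
def t354 : HTree := splitS t353 7 4 2
def t355 : HTree := splitS t354 7 4 1
def t356 : HTree := splitS t355 7 3 0
def t357 : HTree := splitA (skipZ 7) [2, 3, 1, 4, 5, 6, 7, 2]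
def t358 : HTree := splitA t357 [2, 3, 1, 4, 5, 6, 6, 1]
def t359 : HTree := splitS t358 7 6 4
def t360 : HTree := splitS t359 7 5 3
def t361 : HTree := splitS t360 7 4 2
def t362 : HTree := splitS t361 7 4 1
def t363 : HTree := splitS t362 7 3 0
def t364 : HTree := splitA (skipZ 7) [4, 6, 2, 8, 10, 12, 7, 2]
def t365 : HTree := splitA t364 [2, 3, 1, 4, 5, 6, 3, 1]
def t366 : HTree := splitS t365 7 6 4
def t367 : HTree := splitS t366 7 5 3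
def t368 : HTree := splitS t367 7 4 2
def t369 : HTree := splitS t368 7 4 1
def t370 : HTree := splitS t369 7 3 0
def t371 : HTree := split (skipZ 6) t356 t363 t370 (cert [2, 3, 1, 4, 5, 6, 7, 0]) (cert [6, 9, 3, 12, 15, 18, 7, 0]) (cert [2, 3, 1, 4, 5, 6, 7, 0]) (cert [8, 12, 4, 16, 20, 24, 7, 0]) (cert [4, 6, 2, 8, 10, 12, 7, 0])
def t372 : HTree := splitB (skipZ 7) (fin [4, 6, 2, 8, 10, 5, 7, 4]) [4, 6, 2, 8, 10, 5, 7, 4] [4, 6, 2, 8, 10, 5, 7, 2]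
def t373 : HTree := splitA (fin [4, 6, 2, 8, 10, 7, 5, 4]) [2, 3, 1, 4, 5, 3, 3, 1]
def t374 : HTree := splitB t372 t373 [4, 6, 2, 8, 10, 7, 5, 4] [4, 6, 2, 8, 10, 7, 5, 2]
def t375 : HTree := splitA t374 [4, 6, 2, 8, 10, 5, 5, 2]
def t376 : HTree := splitS t375 7 5 3
def t377 : HTree := splitS t376 7 4 2
def t378 : HTree := splitS t377 7 4 1
def t379 : HTree := splitS t378 7 3 0
def t380 : HTree := splitA t379 [6, 9, 3, 12, 15, 11, 7, 0]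
def t381 : HTree := splitB t371 t380 [4, 6, 2, 8, 10, 5, 7, 0] [8, 12, 4, 16, 20, 10, 7, 0]
def t382 : HTree := splitS t381 6 5 3
def t383 : HTree := splitS t382 6 4 2
def t384 : HTree := splitS t383 6 4 1
def t385 : HTree := splitS t384 6 3 0
def t386 : HTree := splitA (skipZ 6) [2, 3, 1, 4, 5, 6, 2, 0]
def t387 : HTree := splitA t386 [2, 3, 1, 4, 5, 5, 1, 0]
def t388 : HTree := splitS t387 6 5 3
def t389 : HTree := splitS t388 6 4 2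
def t390 : HTree := splitS t389 6 4 1
def t391 : HTree := splitS t390 6 3 0
def t392 : HTree := splitA (skipZ 6) [2, 3, 1, 4, 5, 3, 1, 0]
def t393 : HTree := splitA t392 [4, 6, 2, 8, 10, 5, 2, 0]
def t394 : HTree := splitS t393 6 5 3
def t395 : HTree := splitS t394 6 4 2
def t396 : HTree := splitS t395 6 4 1
def t397 : HTree := splitS t396 6 3 0
def t398 : HTree := split (skipZ 5) t385 t391 t397 (cert [2, 3, 1, 4, 5, 6, 0, 0]) (cert [2, 3, 1, 4, 5, 2, 0, 0]) (cert [2, 3, 1, 4, 5, 6, 0, 0]) (cert [4, 6, 2, 8, 10, 3, 0, 0]) (cert [2, 3, 1, 4, 5, 3, 0, 0])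
def t399 : HTree := splitB (skipZ 7) (leaf 7 [2, 0, 1, 3, 5, 6, 7, 4]) [2, 3, 1, 4, 2, 3, 2, 1] [4, 6, 2, 8, 4, 6, 4, 1]
def t400 : HTree := splitA t399 [4, 6, 2, 8, 4, 6, 3, 1]
def t401 : HTree := splitS t400 7 6 4
def t402 : HTree := splitS t401 7 6 3
def t403 : HTree := splitS t402 7 4 2
def t404 : HTree := splitS t403 7 4 1
def t405 : HTree := splitS t404 7 3 0
def t406 : HTree := splitB (skipZ 6) t405 [2, 3, 1, 4, 2, 3, 2, 0] [2, 3, 1, 4, 2, 3, 1, 0]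
def t407 : HTree := splitB (skipZ 7) (leaf 7 [2, 0, 1, 3, 4, 6, 7, 5]) [2, 3, 1, 4, 3, 2, 2, 1] [4, 6, 2, 8, 6, 4, 4, 1]
def t408 : HTree := splitA t407 [6, 9, 3, 12, 8, 7, 4, 2]
def t409 : HTree := splitA t408 [4, 6, 2, 8, 6, 4, 3, 1]
def t410 : HTree := splitS t409 7 6 3
def t411 : HTree := splitS t410 7 4 2
def t412 : HTree := splitS t411 7 4 1
def t413 : HTree := splitS t412 7 3 0
def t414 : HTree := splitA t413 [4, 6, 2, 8, 5, 5, 2, 0]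
def t415 : HTree := splitB t406 t414 [2, 3, 1, 4, 3, 2, 2, 0] [2, 3, 1, 4, 3, 2, 1, 0]
def t416 : HTree := splitA t415 [2, 3, 1, 4, 2, 2, 1, 0]
def t417 : HTree := splitS t416 6 4 2
def t418 : HTree := splitS t417 6 4 1
def t419 : HTree := splitS t418 6 3 0
def t420 : HTree := splitA t419 [2, 3, 1, 4, 3, 2, 0, 0]
def t421 : HTree := splitB t398 t420 [2, 3, 1, 4, 2, 3, 0, 0] [4, 6, 2, 8, 4, 3, 0, 0]
def t422 : HTree := splitS t421 5 4 2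
def t423 : HTree := splitS t422 5 4 1
def t424 : HTree := splitS t423 5 3 0
def t425 : HTree := splitA (skipZ 5) [2, 3, 1, 4, 5, 2, 0, 0]
def t426 : HTree := splitA t425 [2, 3, 1, 4, 4, 1, 0, 0]
def t427 : HTree := splitS t426 5 4 2
def t428 : HTree := splitS t427 5 4 1
def t429 : HTree := splitS t428 5 3 0
def t430 : HTree := splitA (skipZ 5) [4, 6, 2, 8, 5, 2, 0, 0]
def t431 : HTree := splitA t430 [2, 3, 1, 4, 2, 1, 0, 0]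
def t432 : HTree := splitS t431 5 4 2
def t433 : HTree := splitS t432 5 4 1
def t434 : HTree := splitS t433 5 3 0
def t435 : HTree := split (skipZ 4) t424 t429 t434 (cert [2, 3, 1, 4, 5, 0, 0, 0]) (cert [6, 9, 3, 12, 5, 0, 0, 0]) (cert [2, 3, 1, 4, 5, 0, 0, 0]) (cert [8, 12, 4, 16, 5, 0, 0, 0]) (cert [4, 6, 2, 8, 5, 0, 0, 0])
def t436 : HTree := split (skipZ 7) (fin [3, 2, 4, 1, 5, 6, 7, 8]) (fin [3, 2, 4, 1, 5, 6, 7, 8]) (fin [3, 2, 4, 1, 5, 6, 7, 4]) (cert [3, 2, 4, 1, 5, 6, 7, 8]) (cert [9, 6, 12, 3, 15, 18, 21, 8]) (cert [3, 2, 4, 1, 5, 6, 7, 8]) (cert [3, 2, 4, 1, 5, 6, 7, 2]) (cert [3, 2, 4, 1, 5, 6, 7, 4])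
def t437 : HTree := splitA (fin [3, 2, 4, 1, 5, 6, 3, 4]) [9, 6, 12, 3, 15, 18, 13, 8]
def t438 : HTree := splitB t436 t437 [3, 2, 4, 1, 5, 6, 3, 4] [3, 2, 4, 1, 5, 6, 3, 2]
def t439 : HTree := splitS t438 7 6 4
def t440 : HTree := splitS t439 7 5 3
def t441 : HTree := splitS t440 7 5 2
def t442 : HTree := splitS t441 7 4 1
def t443 : HTree := splitS t442 7 3 0
def t444 : HTree := splitA (skipZ 7) [3, 2, 4, 1, 5, 6, 7, 2]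
def t445 : HTree := splitA t444 [3, 2, 4, 1, 5, 6, 6, 1]
def t446 : HTree := splitS t445 7 6 4
def t447 : HTree := splitS t446 7 5 3
def t448 : HTree := splitS t447 7 5 2
def t449 : HTree := splitS t448 7 4 1
def t450 : HTree := splitS t449 7 3 0
def t451 : HTree := splitA (skipZ 7) [6, 4, 8, 2, 10, 12, 7, 2]
def t452 : HTree := splitA t451 [3, 2, 4, 1, 5, 6, 3, 1]
def t453 : HTree := splitS t452 7 6 4
def t454 : HTree := splitS t453 7 5 3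
def t455 : HTree := splitS t454 7 5 2
def t456 : HTree := splitS t455 7 4 1
def t457 : HTree := splitS t456 7 3 0
def t458 : HTree := split (skipZ 6) t443 t450 t457 (cert [3, 2, 4, 1, 5, 6, 7, 0]) (cert [9, 6, 12, 3, 15, 18, 7, 0]) (cert [3, 2, 4, 1, 5, 6, 7, 0]) (cert [12, 8, 16, 4, 20, 24, 7, 0]) (cert [6, 4, 8, 2, 10, 12, 7, 0])
def t459 : HTree := splitB (skipZ 7) (fin [6, 4, 8, 2, 10, 5, 7, 4]) [6, 4, 8, 2, 10, 5, 7, 4] [6, 4, 8, 2, 10, 5, 7, 2]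
def t460 : HTree := splitA (fin [6, 4, 8, 2, 10, 7, 5, 4]) [3, 2, 4, 1, 5, 3, 3, 1]
def t461 : HTree := splitB t459 t460 [6, 4, 8, 2, 10, 7, 5, 4] [6, 4, 8, 2, 10, 7, 5, 2]
def t462 : HTree := splitA t461 [6, 4, 8, 2, 10, 5, 5, 2]
def t463 : HTree := splitS t462 7 5 3
def t464 : HTree := splitS t463 7 5 2
def t465 : HTree := splitS t464 7 4 1
def t466 : HTree := splitS t465 7 3 0
def t467 : HTree := splitA t466 [9, 6, 12, 3, 15, 11, 7, 0]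
def t468 : HTree := splitB t458 t467 [6, 4, 8, 2, 10, 5, 7, 0] [12, 8, 16, 4, 20, 10, 7, 0]
def t469 : HTree := splitS t468 6 5 3
def t470 : HTree := splitS t469 6 5 2
def t471 : HTree := splitS t470 6 4 1
def t472 : HTree := splitS t471 6 3 0
def t473 : HTree := splitA (skipZ 6) [3, 2, 4, 1, 5, 6, 2, 0]
def t474 : HTree := splitA t473 [3, 2, 4, 1, 5, 5, 1, 0]
def t475 : HTree := splitS t474 6 5 3
def t476 : HTree := splitS t475 6 5 2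
def t477 : HTree := splitS t476 6 4 1
def t478 : HTree := splitS t477 6 3 0
def t479 : HTree := splitA (skipZ 6) [3, 2, 4, 1, 5, 3, 1, 0]
def t480 : HTree := splitA t479 [6, 4, 8, 2, 10, 5, 2, 0]
def t481 : HTree := splitS t480 6 5 3
def t482 : HTree := splitS t481 6 5 2
def t483 : HTree := splitS t482 6 4 1
def t484 : HTree := splitS t483 6 3 0
def t485 : HTree := split (skipZ 5) t472 t478 t484 (cert [3, 2, 4, 1, 5, 6, 0, 0]) (cert [3, 2, 4, 1, 5, 2, 0, 0]) (cert [3, 2, 4, 1, 5, 6, 0, 0]) (cert [6, 4, 8, 2, 10, 3, 0, 0]) (cert [3, 2, 4, 1, 5, 3, 0, 0])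
def t486 : HTree := split (skipZ 7) (fin [3, 4, 2, 5, 1, 6, 7, 8]) (fin [3, 4, 2, 5, 1, 6, 7, 8]) (fin [3, 4, 2, 5, 1, 6, 7, 4]) (cert [3, 4, 2, 5, 1, 6, 7, 8]) (cert [9, 12, 6, 15, 3, 18, 21, 8]) (cert [3, 4, 2, 5, 1, 6, 7, 8]) (cert [3, 4, 2, 5, 1, 6, 7, 2]) (cert [3, 4, 2, 5, 1, 6, 7, 4])
def t487 : HTree := splitA (fin [3, 4, 2, 5, 1, 6, 3, 4]) [9, 12, 6, 15, 3, 18, 13, 8]
def t488 : HTree := splitB t486 t487 [3, 4, 2, 5, 1, 6, 3, 4] [3, 4, 2, 5, 1, 6, 3, 2]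
def t489 : HTree := splitS t488 7 6 4
def t490 : HTree := splitS t489 7 6 3
def t491 : HTree := splitS t490 7 5 2
def t492 : HTree := splitS t491 7 4 1
def t493 : HTree := splitS t492 7 3 0
def t494 : HTree := splitA (skipZ 7) [3, 4, 2, 5, 1, 6, 7, 2]
def t495 : HTree := splitA t494 [3, 4, 2, 5, 1, 6, 6, 1]
def t496 : HTree := splitS t495 7 6 4
def t497 : HTree := splitS t496 7 6 3
def t498 : HTree := splitS t497 7 5 2
def t499 : HTree := splitS t498 7 4 1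
def t500 : HTree := splitS t499 7 3 0
def t501 : HTree := splitA (skipZ 7) [6, 8, 4, 10, 2, 12, 7, 2]
def t502 : HTree := splitA t501 [3, 4, 2, 5, 1, 6, 3, 1]
def t503 : HTree := splitS t502 7 6 4
def t504 : HTree := splitS t503 7 6 3
def t505 : HTree := splitS t504 7 5 2
def t506 : HTree := splitS t505 7 4 1
def t507 : HTree := splitS t506 7 3 0
def t508 : HTree := split (skipZ 6) t493 t500 t507 (cert [3, 4, 2, 5, 1, 6, 7, 0]) (cert [9, 12, 6, 15, 3, 18, 7, 0]) (cert [3, 4, 2, 5, 1, 6, 7, 0]) (cert [12, 16, 8, 20, 4, 24, 7, 0]) (cert [6, 8, 4, 10, 2, 12, 7, 0])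
def t509 : HTree := split (skipZ 7) (fin [4, 3, 5, 2, 6, 1, 7, 8]) (fin [4, 3, 5, 2, 6, 1, 7, 8]) (fin [4, 3, 5, 2, 6, 1, 7, 4]) (cert [4, 3, 5, 2, 6, 1, 7, 8]) (cert [12, 9, 15, 6, 18, 3, 21, 8]) (cert [4, 3, 5, 2, 6, 1, 7, 8]) (cert [4, 3, 5, 2, 6, 1, 7, 2]) (cert [4, 3, 5, 2, 6, 1, 7, 4])
def t510 : HTree := splitB (fin [4, 5, 3, 6, 2, 7, 1, 8]) (leaf 0 [0, 1, 3, 5, 7, 6, 4, 2]) [1, 1, 1, 1, 1, 1, 1, 1] [12, 11, 13, 10, 14, 9, 15, 8]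
def t511 : HTree := splitA (fin [4, 5, 3, 6, 2, 7, 1, 8]) [1, 1, 1, 1, 1, 1, 1, 1]
def t512 : HTree := splitA (fin [4, 5, 3, 6, 2, 7, 1, 4]) [12, 13, 11, 14, 10, 15, 9, 8]
def t513 : HTree := split t509 t510 t511 t512 (cert [4, 5, 3, 6, 2, 7, 1, 8]) (cert [12, 15, 9, 18, 6, 21, 3, 8]) (cert [4, 5, 3, 6, 2, 7, 1, 8]) (cert [4, 5, 3, 6, 2, 7, 1, 2]) (cert [4, 5, 3, 6, 2, 7, 1, 4])
def t514 : HTree := splitA (fin [4, 3, 5, 2, 6, 1, 3, 4]) [12, 9, 15, 6, 18, 3, 13, 8]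
def t515 : HTree := splitA t514 [12, 11, 13, 10, 14, 9, 7, 8]
def t516 : HTree := splitB t513 t515 [4, 3, 5, 2, 6, 1, 3, 4] [4, 3, 5, 2, 6, 1, 3, 2]
def t517 : HTree := splitS t516 7 6 3
def t518 : HTree := splitS t517 7 5 2
def t519 : HTree := splitS t518 7 4 1
def t520 : HTree := splitS t519 7 3 0
def t521 : HTree := splitA t520 [1, 1, 1, 1, 1, 1, 1, 0]
def t522 : HTree := splitA (skipZ 7) [4, 3, 5, 2, 6, 1, 7, 2]
def t523 : HTree := splitA (fin [1, 1, 1, 1, 1, 1, 1, 1]) [6, 5, 7, 4, 8, 3, 9, 2]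
def t524 : HTree := splitA (leaf 2 [6, 4, 2, 0, 1, 3, 5, 7]) [6, 5, 7, 4, 8, 3, 9, 2]
def t525 : HTree := splitA (leaf 1 [6, 4, 2, 0, 1, 3, 5, 7]) [8, 7, 9, 6, 10, 5, 11, 2]
def t526 : HTree := split t522 t523 t524 t525 (cert [1, 1, 1, 1, 1, 1, 1, 1]) (cert [3, 3, 3, 3, 3, 3, 3, 1]) (cert [1, 1, 1, 1, 1, 1, 1, 1]) (cert [4, 4, 4, 4, 4, 4, 4, 1]) (cert [2, 2, 2, 2, 2, 2, 2, 1])
def t527 : HTree := splitA t526 [4, 3, 5, 2, 6, 1, 6, 1]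
def t528 : HTree := splitS t527 7 6 3
def t529 : HTree := splitS t528 7 5 2
def t530 : HTree := splitS t529 7 4 1
def t531 : HTree := splitS t530 7 3 0
def t532 : HTree := splitA t531 [1, 1, 1, 1, 1, 1, 1, 0]
def t533 : HTree := splitA (skipZ 7) [8, 6, 10, 4, 12, 2, 7, 2]
def t534 : HTree := splitA (fin [2, 2, 2, 2, 2, 2, 1, 2]) [5, 4, 6, 3, 7, 2, 4, 1]
def t535 : HTree := splitA (leaf 1 [7, 5, 3, 1, 0, 2, 4, 6]) [5, 4, 6, 3, 7, 2, 4, 1]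
def t536 : HTree := splitA (leaf 3 [6, 4, 2, 0, 1, 3, 5, 7]) [12, 10, 14, 8, 16, 6, 9, 2]
def t537 : HTree := split t533 t534 t535 t536 (cert [2, 2, 2, 2, 2, 2, 1, 2]) (cert [6, 6, 6, 6, 6, 6, 3, 2]) (cert [2, 2, 2, 2, 2, 2, 1, 2]) (cert [4, 4, 4, 4, 4, 4, 2, 1]) (cert [2, 2, 2, 2, 2, 2, 1, 1])
def t538 : HTree := splitA t537 [4, 3, 5, 2, 6, 1, 3, 1]
def t539 : HTree := splitS t538 7 6 3
def t540 : HTree := splitS t539 7 5 2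
def t541 : HTree := splitS t540 7 4 1
def t542 : HTree := splitS t541 7 3 0
def t543 : HTree := splitA t542 [11, 10, 12, 9, 13, 8, 7, 0]
def t544 : HTree := split t508 t521 t532 t543 (cert [4, 3, 5, 2, 6, 1, 7, 0]) (cert [12, 9, 15, 6, 18, 3, 7, 0]) (cert [4, 3, 5, 2, 6, 1, 7, 0]) (cert [16, 12, 20, 8, 24, 4, 7, 0]) (cert [8, 6, 10, 4, 12, 2, 7, 0])
def t545 : HTree := splitB (skipZ 7) (fin [6, 8, 4, 10, 2, 5, 7, 4]) [6, 8, 4, 10, 2, 5, 7, 4] [6, 8, 4, 10, 2, 5, 7, 2]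
def t546 : HTree := splitA (fin [6, 8, 4, 10, 2, 7, 5, 4]) [3, 4, 2, 5, 1, 3, 3, 1]
def t547 : HTree := splitB t545 t546 [6, 8, 4, 10, 2, 7, 5, 4] [6, 8, 4, 10, 2, 7, 5, 2]
def t548 : HTree := splitA (fin [2, 2, 2, 2, 2, 1, 1, 2]) [10, 12, 8, 14, 6, 7, 9, 4]
def t549 : HTree := splitA t548 [10, 12, 8, 14, 6, 9, 7, 4]
def t550 : HTree := splitA (leaf 5 [7, 4, 2, 0, 1, 3, 5, 6]) [10, 12, 8, 14, 6, 7, 9, 4]
def t551 : HTree := splitA t550 [10, 12, 8, 14, 6, 9, 7, 4]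
def t552 : HTree := splitA (leaf 4 [7, 4, 2, 0, 1, 3, 5, 6]) [14, 16, 12, 18, 10, 9, 11, 4]
def t553 : HTree := splitA t552 [14, 16, 12, 18, 10, 11, 9, 4]
def t554 : HTree := split t547 t549 t551 t553 (cert [2, 2, 2, 2, 2, 1, 1, 2]) (cert [6, 6, 6, 6, 6, 3, 3, 2]) (cert [2, 2, 2, 2, 2, 1, 1, 2]) (cert [4, 4, 4, 4, 4, 2, 2, 1]) (cert [2, 2, 2, 2, 2, 1, 1, 1])
def t555 : HTree := splitA t554 [6, 8, 4, 10, 2, 5, 5, 2]
def t556 : HTree := splitS t555 7 5 2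
def t557 : HTree := splitS t556 7 4 1
def t558 : HTree := splitS t557 7 3 0
def t559 : HTree := splitA t558 [9, 12, 6, 15, 3, 11, 7, 0]
def t560 : HTree := splitA t559 [10, 11, 9, 12, 8, 6, 7, 0]
def t561 : HTree := splitB t544 t560 [6, 8, 4, 10, 2, 5, 7, 0] [12, 16, 8, 20, 4, 10, 7, 0]
def t562 : HTree := splitS t561 6 5 2
def t563 : HTree := splitS t562 6 4 1
def t564 : HTree := splitS t563 6 3 0
def t565 : HTree := splitA t564 [1, 1, 1, 1, 1, 1, 0, 0]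
def t566 : HTree := splitA (skipZ 6) [3, 4, 2, 5, 1, 6, 2, 0]
def t567 : HTree := split (skipZ 7) (fin [1, 1, 1, 1, 1, 1, 1, 1]) (leaf 2 [5, 3, 1, 0, 2, 4, 6, 7]) (leaf 1 [5, 3, 1, 0, 2, 4, 6, 7]) (cert [1, 1, 1, 1, 1, 1, 1, 1]) (cert [3, 3, 3, 3, 3, 3, 3, 1]) (cert [1, 1, 1, 1, 1, 1, 1, 1]) (cert [4, 4, 4, 4, 4, 4, 4, 1]) (cert [2, 2, 2, 2, 2, 2, 2, 1])
def t568 : HTree := splitA t567 [4, 5, 3, 6, 2, 7, 1, 2]
def t569 : HTree := splitA (leaf 5 [5, 3, 1, 0, 2, 4, 6, 7]) [3, 3, 3, 3, 3, 3, 2, 1]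
def t570 : HTree := splitA t569 [8, 9, 7, 10, 6, 11, 3, 2]
def t571 : HTree := splitB t568 t570 [2, 2, 2, 2, 2, 2, 1, 1] [4, 4, 4, 4, 4, 4, 2, 1]
def t572 : HTree := splitS t571 7 6 3
def t573 : HTree := splitS t572 7 5 2
def t574 : HTree := splitS t573 7 4 1
def t575 : HTree := splitS t574 7 3 0
def t576 : HTree := splitA t575 [5, 6, 4, 7, 3, 8, 2, 0]
def t577 : HTree := splitB t566 t576 [1, 1, 1, 1, 1, 1, 1, 0] [2, 2, 2, 2, 2, 2, 1, 0]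
def t578 : HTree := splitA t577 [3, 4, 2, 5, 1, 5, 1, 0]
def t579 : HTree := splitS t578 6 5 2
def t580 : HTree := splitS t579 6 4 1
def t581 : HTree := splitS t580 6 3 0
def t582 : HTree := splitA t581 [1, 1, 1, 1, 1, 1, 0, 0]
def t583 : HTree := splitA (skipZ 6) [3, 4, 2, 5, 1, 3, 1, 0]
def t584 : HTree := split (skipZ 7) (fin [2, 2, 2, 2, 2, 1, 2, 2]) (leaf 1 [7, 6, 4, 2, 0, 1, 3, 5]) (leaf 3 [5, 3, 1, 0, 2, 4, 6, 7]) (cert [2, 2, 2, 2, 2, 1, 2, 2]) (cert [6, 6, 6, 6, 6, 3, 6, 2]) (cert [2, 2, 2, 2, 2, 1, 2, 2]) (cert [4, 4, 4, 4, 4, 2, 4, 1]) (cert [2, 2, 2, 2, 2, 1, 2, 1])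
def t585 : HTree := splitA t584 [8, 10, 6, 12, 4, 7, 2, 2]
def t586 : HTree := splitA (leaf 4 [5, 3, 1, 0, 2, 4, 6, 7]) [6, 6, 6, 6, 6, 3, 4, 2]
def t587 : HTree := splitA t586 [12, 14, 10, 16, 8, 9, 4, 2]
def t588 : HTree := splitB t585 t587 [2, 2, 2, 2, 2, 1, 1, 1] [4, 4, 4, 4, 4, 2, 2, 1]
def t589 : HTree := splitS t588 7 6 3
def t590 : HTree := splitS t589 7 5 2
def t591 : HTree := splitS t590 7 4 1
def t592 : HTree := splitS t591 7 3 0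
def t593 : HTree := splitA t592 [8, 10, 6, 12, 4, 7, 2, 0]
def t594 : HTree := splitB t583 t593 [2, 2, 2, 2, 2, 1, 2, 0] [2, 2, 2, 2, 2, 1, 1, 0]
def t595 : HTree := splitA t594 [6, 8, 4, 10, 2, 5, 2, 0]
def t596 : HTree := splitS t595 6 5 2
def t597 : HTree := splitS t596 6 4 1
def t598 : HTree := splitS t597 6 3 0
def t599 : HTree := splitA t598 [9, 10, 8, 11, 7, 6, 0, 0]
def t600 : HTree := split t485 t565 t582 t599 (cert [3, 4, 2, 5, 1, 6, 0, 0]) (cert [3, 4, 2, 5, 1, 2, 0, 0]) (cert [3, 4, 2, 5, 1, 6, 0, 0]) (cert [6, 8, 4, 10, 2, 3, 0, 0]) (cert [3, 4, 2, 5, 1, 3, 0, 0])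
def t601 : HTree := splitB (skipZ 7) (leaf 7 [3, 1, 0, 2, 5, 6, 7, 4]) [3, 2, 4, 1, 2, 3, 2, 1] [6, 4, 8, 2, 4, 6, 4, 1]
def t602 : HTree := splitA t601 [6, 4, 8, 2, 4, 6, 3, 1]
def t603 : HTree := splitS t602 7 6 4
def t604 : HTree := splitS t603 7 6 3
def t605 : HTree := splitS t604 7 6 2
def t606 : HTree := splitS t605 7 4 1
def t607 : HTree := splitS t606 7 3 0
def t608 : HTree := splitB (skipZ 6) t607 [3, 2, 4, 1, 2, 3, 2, 0] [3, 2, 4, 1, 2, 3, 1, 0]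
def t609 : HTree := splitB (skipZ 7) (leaf 7 [3, 1, 0, 2, 4, 6, 7, 5]) [3, 2, 4, 1, 3, 2, 2, 1] [6, 4, 8, 2, 6, 4, 4, 1]
def t610 : HTree := splitA t609 [9, 6, 12, 3, 8, 7, 4, 2]
def t611 : HTree := splitA t610 [6, 4, 8, 2, 6, 4, 3, 1]
def t612 : HTree := splitS t611 7 6 3
def t613 : HTree := splitS t612 7 6 2
def t614 : HTree := splitS t613 7 4 1
def t615 : HTree := splitS t614 7 3 0
def t616 : HTree := splitA t615 [6, 4, 8, 2, 5, 5, 2, 0]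
def t617 : HTree := splitB t608 t616 [3, 2, 4, 1, 3, 2, 2, 0] [3, 2, 4, 1, 3, 2, 1, 0]
def t618 : HTree := split (skipZ 7) (fin [2, 2, 2, 2, 1, 1, 2, 2]) (leaf 5 [7, 6, 3, 1, 0, 2, 4, 5]) (leaf 4 [7, 6, 3, 1, 0, 2, 4, 5]) (cert [2, 2, 2, 2, 1, 1, 2, 2]) (cert [6, 6, 6, 6, 3, 3, 6, 2]) (cert [2, 2, 2, 2, 1, 1, 2, 2]) (cert [4, 4, 4, 4, 2, 2, 4, 1]) (cert [2, 2, 2, 2, 1, 1, 2, 1])
def t619 : HTree := splitA (fin [8, 6, 10, 4, 5, 7, 2, 4]) [12, 10, 14, 8, 7, 9, 6, 4]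
def t620 : HTree := splitB t618 t619 [8, 6, 10, 4, 5, 7, 2, 4] [8, 6, 10, 4, 5, 7, 2, 2]
def t621 : HTree := splitA (fin [8, 6, 10, 4, 7, 5, 2, 4]) [12, 10, 14, 8, 9, 7, 6, 4]
def t622 : HTree := splitA t621 [4, 3, 5, 2, 3, 3, 1, 1]
def t623 : HTree := splitB t620 t622 [8, 6, 10, 4, 7, 5, 2, 4] [8, 6, 10, 4, 7, 5, 2, 2]
def t624 : HTree := splitA (leaf 6 [4, 5, 2, 0, 1, 3, 6, 7]) [6, 6, 6, 6, 3, 3, 4, 2]
def t625 : HTree := splitA t624 [16, 14, 18, 12, 9, 11, 6, 4]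
def t626 : HTree := splitA t625 [16, 14, 18, 12, 11, 9, 6, 4]
def t627 : HTree := splitB t623 t626 [2, 2, 2, 2, 1, 1, 1, 1] [4, 4, 4, 4, 2, 2, 2, 1]
def t628 : HTree := splitS t627 7 6 2
def t629 : HTree := splitS t628 7 4 1
def t630 : HTree := splitS t629 7 3 0
def t631 : HTree := splitA t630 [5, 4, 6, 3, 3, 4, 2, 0]
def t632 : HTree := splitA t631 [5, 4, 6, 3, 4, 3, 2, 0]
def t633 : HTree := splitB t617 t632 [2, 2, 2, 2, 1, 1, 2, 0] [2, 2, 2, 2, 1, 1, 1, 0]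
def t634 : HTree := splitA t633 [3, 2, 4, 1, 2, 2, 1, 0]
def t635 : HTree := splitS t634 6 4 1
def t636 : HTree := splitS t635 6 3 0
def t637 : HTree := splitA t636 [3, 2, 4, 1, 3, 2, 0, 0]
def t638 : HTree := splitA t637 [9, 8, 10, 7, 5, 6, 0, 0]
def t639 : HTree := splitB t600 t638 [3, 2, 4, 1, 2, 3, 0, 0] [6, 4, 8, 2, 4, 3, 0, 0]
def t640 : HTree := splitS t639 5 4 1
def t641 : HTree := splitS t640 5 3 0
def t642 : HTree := splitA t641 [1, 1, 1, 1, 1, 0, 0, 0]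
def t643 : HTree := splitA (skipZ 5) [3, 2, 4, 1, 5, 2, 0, 0]
def t644 : HTree := split (skipZ 7) (fin [1, 1, 1, 1, 1, 1, 1, 1]) (leaf 2 [4, 2, 0, 1, 3, 5, 6, 7]) (leaf 1 [4, 2, 0, 1, 3, 5, 6, 7]) (cert [1, 1, 1, 1, 1, 1, 1, 1]) (cert [3, 3, 3, 3, 3, 3, 3, 1]) (cert [1, 1, 1, 1, 1, 1, 1, 1]) (cert [4, 4, 4, 4, 4, 4, 4, 1]) (cert [2, 2, 2, 2, 2, 2, 2, 1])
def t645 : HTree := splitA (leaf 5 [4, 2, 0, 1, 3, 5, 6, 7]) [3, 3, 3, 3, 3, 3, 2, 1]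
def t646 : HTree := splitB t644 t645 [2, 2, 2, 2, 2, 2, 1, 1] [4, 4, 4, 4, 4, 4, 2, 1]
def t647 : HTree := splitS t646 7 6 4
def t648 : HTree := splitS t647 7 6 3
def t649 : HTree := splitS t648 7 5 2
def t650 : HTree := splitS t649 7 4 1
def t651 : HTree := splitS t650 7 3 0
def t652 : HTree := splitB (skipZ 6) t651 [1, 1, 1, 1, 1, 1, 1, 0] [2, 2, 2, 2, 2, 2, 1, 0]
def t653 : HTree := splitA t652 [4, 3, 5, 2, 6, 1, 2, 0]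
def t654 : HTree := splitA t653 [2, 2, 2, 2, 2, 1, 1, 0]
def t655 : HTree := splitS t654 6 5 2
def t656 : HTree := splitS t655 6 4 1
def t657 : HTree := splitS t656 6 3 0
def t658 : HTree := splitA t657 [5, 4, 6, 3, 7, 2, 0, 0]
def t659 : HTree := splitB t643 t658 [1, 1, 1, 1, 1, 1, 0, 0] [2, 2, 2, 2, 2, 1, 0, 0]
def t660 : HTree := splitA t659 [3, 2, 4, 1, 4, 1, 0, 0]
def t661 : HTree := splitS t660 5 4 1
def t662 : HTree := splitS t661 5 3 0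
def t663 : HTree := splitA t662 [1, 1, 1, 1, 1, 0, 0, 0]
def t664 : HTree := splitA (skipZ 5) [6, 4, 8, 2, 5, 2, 0, 0]
def t665 : HTree := split (skipZ 7) (fin [2, 2, 2, 2, 1, 2, 2, 2]) (leaf 1 [7, 6, 5, 3, 1, 0, 2, 4]) (leaf 3 [4, 2, 0, 1, 3, 5, 6, 7]) (cert [2, 2, 2, 2, 1, 2, 2, 2]) (cert [6, 6, 6, 6, 3, 6, 6, 2]) (cert [2, 2, 2, 2, 1, 2, 2, 2]) (cert [4, 4, 4, 4, 2, 4, 4, 1]) (cert [2, 2, 2, 2, 1, 2, 2, 1])
def t666 : HTree := splitA (leaf 4 [4, 2, 0, 1, 3, 5, 6, 7]) [6, 6, 6, 6, 3, 6, 4, 2]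
def t667 : HTree := splitB t665 t666 [2, 2, 2, 2, 1, 2, 1, 1] [4, 4, 4, 4, 2, 4, 2, 1]
def t668 : HTree := splitS t667 7 6 4
def t669 : HTree := splitS t668 7 6 3
def t670 : HTree := splitS t669 7 5 2
def t671 : HTree := splitS t670 7 4 1
def t672 : HTree := splitS t671 7 3 0
def t673 : HTree := splitB (skipZ 6) t672 [2, 2, 2, 2, 1, 2, 2, 0] [2, 2, 2, 2, 1, 2, 1, 0]
def t674 : HTree := splitA t673 [4, 3, 5, 2, 3, 1, 1, 0]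
def t675 : HTree := splitA t674 [2, 2, 2, 2, 1, 1, 1, 0]
def t676 : HTree := splitS t675 6 5 2
def t677 : HTree := splitS t676 6 4 1
def t678 : HTree := splitS t677 6 3 0
def t679 : HTree := splitA t678 [4, 3, 5, 2, 3, 1, 0, 0]
def t680 : HTree := splitB t664 t679 [2, 2, 2, 2, 1, 2, 0, 0] [2, 2, 2, 2, 1, 1, 0, 0]
def t681 : HTree := splitA t680 [3, 2, 4, 1, 2, 1, 0, 0]
def t682 : HTree := splitS t681 5 4 1
def t683 : HTree := splitS t682 5 3 0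
def t684 : HTree := splitA t683 [8, 7, 9, 6, 5, 0, 0, 0]
def t685 : HTree := split t435 t642 t663 t684 (cert [3, 2, 4, 1, 5, 0, 0, 0]) (cert [9, 6, 12, 3, 5, 0, 0, 0]) (cert [3, 2, 4, 1, 5, 0, 0, 0]) (cert [12, 8, 16, 4, 5, 0, 0, 0]) (cert [6, 4, 8, 2, 5, 0, 0, 0])
def t686 : HTree := splitB (skipZ 7) (fin [4, 6, 2, 3, 5, 4, 3, 2]) [4, 6, 2, 3, 5, 4, 3, 2] [4, 6, 2, 3, 5, 4, 3, 1]
def t687 : HTree := splitA t686 [4, 6, 2, 3, 5, 4, 2, 1]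
def t688 : HTree := splitS t687 7 6 4
def t689 : HTree := splitS t688 7 5 3
def t690 : HTree := splitS t689 7 5 2
def t691 : HTree := splitS t690 7 5 1
def t692 : HTree := splitS t691 7 3 0
def t693 : HTree := splitB (skipZ 6) t692 [4, 6, 2, 3, 5, 4, 3, 0] [8, 12, 4, 6, 10, 8, 3, 0]
def t694 : HTree := splitA t693 [8, 12, 4, 6, 10, 5, 3, 0]
def t695 : HTree := splitS t694 6 5 3
def t696 : HTree := splitS t695 6 5 2
def t697 : HTree := splitS t696 6 5 1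
def t698 : HTree := splitS t697 6 3 0
def t699 : HTree := splitB (skipZ 5) t698 [4, 6, 2, 3, 5, 4, 0, 0] [4, 6, 2, 3, 5, 2, 0, 0]
def t700 : HTree := splitB (skipZ 7) (fin [4, 6, 2, 5, 3, 4, 3, 2]) [4, 6, 2, 5, 3, 4, 3, 2] [4, 6, 2, 5, 3, 4, 3, 1]
def t701 : HTree := splitA t700 [4, 6, 2, 5, 3, 4, 2, 1]
def t702 : HTree := splitS t701 7 6 4
def t703 : HTree := splitS t702 7 6 3
def t704 : HTree := splitS t703 7 5 2
def t705 : HTree := splitS t704 7 5 1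
def t706 : HTree := splitS t705 7 3 0
def t707 : HTree := splitB (skipZ 6) t706 [4, 6, 2, 5, 3, 4, 3, 0] [8, 12, 4, 10, 6, 8, 3, 0]
def t708 : HTree := splitA t707 [2, 3, 1, 2, 2, 1, 1, 0]
def t709 : HTree := splitA t708 [8, 12, 4, 10, 6, 5, 3, 0]
def t710 : HTree := splitS t709 6 5 2
def t711 : HTree := splitS t710 6 5 1
def t712 : HTree := splitS t711 6 3 0
def t713 : HTree := splitA t712 [2, 3, 1, 2, 2, 1, 0, 0]
def t714 : HTree := splitB t699 t713 [4, 6, 2, 5, 3, 4, 0, 0] [4, 6, 2, 5, 3, 2, 0, 0]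
def t715 : HTree := split (skipZ 7) (fin [2, 2, 2, 1, 1, 2, 2, 2]) (leaf 5 [7, 6, 5, 2, 0, 1, 3, 4]) (leaf 4 [7, 6, 5, 2, 0, 1, 3, 4]) (cert [2, 2, 2, 1, 1, 2, 2, 2]) (cert [6, 6, 6, 3, 3, 6, 6, 2]) (cert [2, 2, 2, 1, 1, 2, 2, 2]) (cert [4, 4, 4, 2, 2, 4, 4, 1]) (cert [2, 2, 2, 1, 1, 2, 2, 1])
def t716 : HTree := splitA (leaf 6 [3, 4, 1, 0, 2, 5, 6, 7]) [6, 6, 6, 3, 3, 6, 4, 2]
def t717 : HTree := splitB t715 t716 [2, 2, 2, 1, 1, 2, 1, 1] [4, 4, 4, 2, 2, 4, 2, 1]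
def t718 : HTree := splitS t717 7 6 4
def t719 : HTree := splitS t718 7 6 3
def t720 : HTree := splitS t719 7 6 2
def t721 : HTree := splitS t720 7 5 1
def t722 : HTree := splitS t721 7 3 0
def t723 : HTree := splitB (skipZ 6) t722 [2, 2, 2, 1, 1, 2, 2, 0] [2, 2, 2, 1, 1, 2, 1, 0]
def t724 : HTree := splitB (skipZ 7) (leaf 7 [5, 2, 0, 1, 4, 6, 7, 3]) [3, 4, 2, 2, 3, 1, 2, 1] [6, 8, 4, 4, 6, 2, 4, 1]
def t725 : HTree := splitA (fin [5, 6, 4, 3, 4, 3, 2, 2]) [11, 14, 8, 7, 10, 5, 6, 2]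
def t726 : HTree := splitB t724 t725 [5, 6, 4, 3, 4, 3, 2, 2] [5, 6, 4, 3, 4, 3, 2, 1]
def t727 : HTree := splitA t726 [6, 8, 4, 4, 6, 2, 3, 1]
def t728 : HTree := splitS t727 7 6 3
def t729 : HTree := splitS t728 7 6 2
def t730 : HTree := splitS t729 7 5 1
def t731 : HTree := splitS t730 7 3 0
def t732 : HTree := splitA t731 [5, 6, 4, 3, 4, 3, 2, 0]
def t733 : HTree := splitB t723 t732 [3, 4, 2, 2, 3, 1, 2, 0] [3, 4, 2, 2, 3, 1, 1, 0]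
def t734 : HTree := splitB (skipZ 7) (leaf 7 [5, 2, 0, 1, 3, 6, 7, 4]) [3, 4, 2, 3, 2, 1, 2, 1] [6, 8, 4, 6, 4, 2, 4, 1]
def t735 : HTree := splitA (fin [5, 6, 4, 4, 3, 3, 2, 2]) [11, 14, 8, 10, 7, 5, 6, 2]
def t736 : HTree := splitB t734 t735 [5, 6, 4, 4, 3, 3, 2, 2] [5, 6, 4, 4, 3, 3, 2, 1]
def t737 : HTree := splitA t736 [9, 12, 6, 8, 7, 3, 4, 2]
def t738 : HTree := splitA t737 [6, 8, 4, 6, 4, 2, 3, 1]
def t739 : HTree := splitS t738 7 6 2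
def t740 : HTree := splitS t739 7 5 1
def t741 : HTree := splitS t740 7 3 0
def t742 : HTree := splitA t741 [5, 6, 4, 4, 3, 3, 2, 0]
def t743 : HTree := splitA t742 [6, 8, 4, 5, 5, 2, 2, 0]
def t744 : HTree := splitB t733 t743 [3, 4, 2, 3, 2, 1, 2, 0] [3, 4, 2, 3, 2, 1, 1, 0]
def t745 : HTree := splitA t744 [2, 2, 2, 1, 1, 1, 1, 0]
def t746 : HTree := splitS t745 6 5 1
def t747 : HTree := splitS t746 6 3 0
def t748 : HTree := splitA t747 [8, 10, 6, 5, 7, 4, 0, 0]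
def t749 : HTree := splitA t748 [8, 10, 6, 7, 5, 4, 0, 0]
def t750 : HTree := splitB t714 t749 [2, 2, 2, 1, 1, 2, 0, 0] [2, 2, 2, 1, 1, 1, 0, 0]
def t751 : HTree := splitA t750 [4, 6, 2, 3, 3, 2, 0, 0]
def t752 : HTree := splitS t751 5 3 0
def t753 : HTree := splitA t752 [6, 9, 3, 7, 5, 0, 0, 0]
def t754 : HTree := splitA t753 [7, 8, 6, 4, 5, 0, 0, 0]
def t755 : HTree := splitB t685 t754 [4, 6, 2, 3, 5, 0, 0, 0] [8, 12, 4, 6, 5, 0, 0, 0]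
def t756 : HTree := splitS t755 4 3 0
def t757 : HTree := splitA t756 [1, 1, 1, 1, 0, 0, 0, 0]
def t758 : HTree := splitA (skipZ 4) [2, 3, 1, 4, 2, 0, 0, 0]
def t759 : HTree := split (skipZ 7) (fin [1, 1, 1, 1, 1, 1, 1, 1]) (leaf 2 [3, 1, 0, 2, 4, 5, 6, 7]) (leaf 1 [3, 1, 0, 2, 4, 5, 6, 7]) (cert [1, 1, 1, 1, 1, 1, 1, 1]) (cert [3, 3, 3, 3, 3, 3, 3, 1]) (cert [1, 1, 1, 1, 1, 1, 1, 1]) (cert [4, 4, 4, 4, 4, 4, 4, 1]) (cert [2, 2, 2, 2, 2, 2, 2, 1])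
def t760 : HTree := splitA (leaf 5 [3, 1, 0, 2, 4, 5, 6, 7]) [3, 3, 3, 3, 3, 3, 2, 1]
def t761 : HTree := splitB t759 t760 [2, 2, 2, 2, 2, 2, 1, 1] [4, 4, 4, 4, 4, 4, 2, 1]
def t762 : HTree := splitS t761 7 6 4
def t763 : HTree := splitS t762 7 5 3
def t764 : HTree := splitS t763 7 5 2
def t765 : HTree := splitS t764 7 4 1
def t766 : HTree := splitS t765 7 3 0
def t767 : HTree := splitB (skipZ 6) t766 [1, 1, 1, 1, 1, 1, 1, 0] [2, 2, 2, 2, 2, 2, 1, 0]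
def t768 : HTree := splitA t767 [2, 2, 2, 2, 2, 1, 1, 0]
def t769 : HTree := splitS t768 6 5 3
def t770 : HTree := splitS t769 6 5 2
def t771 : HTree := splitS t770 6 4 1
def t772 : HTree := splitS t771 6 3 0
def t773 : HTree := splitB (skipZ 5) t772 [1, 1, 1, 1, 1, 1, 0, 0] [2, 2, 2, 2, 2, 1, 0, 0]
def t774 : HTree := splitA t773 [3, 4, 2, 5, 1, 2, 0, 0]
def t775 : HTree := splitA t774 [2, 2, 2, 2, 1, 1, 0, 0]
def t776 : HTree := splitS t775 5 4 1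
def t777 : HTree := splitS t776 5 3 0
def t778 : HTree := splitA t777 [4, 5, 3, 6, 2, 0, 0, 0]
def t779 : HTree := splitB t758 t778 [1, 1, 1, 1, 1, 0, 0, 0] [2, 2, 2, 2, 1, 0, 0, 0]
def t780 : HTree := splitA t779 [2, 3, 1, 3, 1, 0, 0, 0]
def t781 : HTree := splitS t780 4 3 0
def t782 : HTree := splitA t781 [1, 1, 1, 1, 0, 0, 0, 0]
def t783 : HTree := splitA (skipZ 4) [2, 3, 1, 2, 1, 0, 0, 0]
def t784 : HTree := split (skipZ 7) (fin [2, 2, 2, 1, 2, 2, 2, 2]) (leaf 1 [7, 6, 5, 4, 2, 0, 1, 3]) (leaf 3 [3, 1, 0, 2, 4, 5, 6, 7]) (cert [2, 2, 2, 1, 2, 2, 2, 2]) (cert [6, 6, 6, 3, 6, 6, 6, 2]) (cert [2, 2, 2, 1, 2, 2, 2, 2]) (cert [4, 4, 4, 2, 4, 4, 4, 1]) (cert [2, 2, 2, 1, 2, 2, 2, 1])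
def t785 : HTree := splitA (leaf 4 [3, 1, 0, 2, 4, 5, 6, 7]) [6, 6, 6, 3, 6, 6, 4, 2]
def t786 : HTree := splitB t784 t785 [2, 2, 2, 1, 2, 2, 1, 1] [4, 4, 4, 2, 4, 4, 2, 1]
def t787 : HTree := splitS t786 7 6 4
def t788 : HTree := splitS t787 7 5 3
def t789 : HTree := splitS t788 7 5 2
def t790 : HTree := splitS t789 7 4 1
def t791 : HTree := splitS t790 7 3 0
def t792 : HTree := splitB (skipZ 6) t791 [2, 2, 2, 1, 2, 2, 2, 0] [2, 2, 2, 1, 2, 2, 1, 0]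
def t793 : HTree := splitA t792 [2, 2, 2, 1, 2, 1, 1, 0]
def t794 : HTree := splitS t793 6 5 3
def t795 : HTree := splitS t794 6 5 2
def t796 : HTree := splitS t795 6 4 1
def t797 : HTree := splitS t796 6 3 0
def t798 : HTree := splitB (skipZ 5) t797 [2, 2, 2, 1, 2, 2, 0, 0] [2, 2, 2, 1, 2, 1, 0, 0]
def t799 : HTree := splitA t798 [6, 8, 4, 5, 2, 2, 0, 0]
def t800 : HTree := splitA t799 [2, 2, 2, 1, 1, 1, 0, 0]
def t801 : HTree := splitS t800 5 4 1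
def t802 : HTree := splitS t801 5 3 0
def t803 : HTree := splitA t802 [6, 8, 4, 5, 2, 0, 0, 0]
def t804 : HTree := splitB t783 t803 [2, 2, 2, 1, 2, 0, 0, 0] [2, 2, 2, 1, 1, 0, 0, 0]
def t805 : HTree := splitA t804 [4, 6, 2, 3, 2, 0, 0, 0]
def t806 : HTree := splitS t805 4 3 0
def t807 : HTree := splitA t806 [6, 7, 5, 4, 0, 0, 0, 0]
def t808 : HTree := split t348 t757 t782 t807 (cert [2, 3, 1, 4, 0, 0, 0, 0]) (cert [6, 9, 3, 4, 0, 0, 0, 0]) (cert [2, 3, 1, 4, 0, 0, 0, 0]) (cert [2, 3, 1, 1, 0, 0, 0, 0]) (cert [2, 3, 1, 2, 0, 0, 0, 0])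
def t809 : HTree := split (skipZ 7) (fin [2, 1, 1, 2, 2, 2, 2, 2]) (leaf 5 [7, 6, 5, 4, 3, 0, 1, 2]) (leaf 4 [7, 6, 5, 4, 3, 0, 1, 2]) (cert [2, 1, 1, 2, 2, 2, 2, 2]) (cert [6, 3, 3, 6, 6, 6, 6, 2]) (cert [2, 1, 1, 2, 2, 2, 2, 2]) (cert [4, 2, 2, 4, 4, 4, 4, 1]) (cert [2, 1, 1, 2, 2, 2, 2, 1])
def t810 : HTree := splitA (leaf 6 [1, 2, 0, 3, 4, 5, 6, 7]) [6, 3, 3, 6, 6, 6, 4, 2]
def t811 : HTree := splitB t809 t810 [2, 1, 1, 2, 2, 2, 1, 1] [4, 2, 2, 4, 4, 4, 2, 1]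
def t812 : HTree := splitS t811 7 6 4
def t813 : HTree := splitS t812 7 5 3
def t814 : HTree := splitS t813 7 4 2
def t815 : HTree := splitS t814 7 4 1
def t816 : HTree := splitS t815 7 4 0
def t817 : HTree := splitB (skipZ 6) t816 [2, 1, 1, 2, 2, 2, 2, 0] [2, 1, 1, 2, 2, 2, 1, 0]
def t818 : HTree := splitA t817 [2, 1, 1, 2, 2, 1, 1, 0]
def t819 : HTree := splitS t818 6 5 3
def t820 : HTree := splitS t819 6 4 2
def t821 : HTree := splitS t820 6 4 1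
def t822 : HTree := splitS t821 6 4 0
def t823 : HTree := splitB (skipZ 5) t822 [2, 1, 1, 2, 2, 2, 0, 0] [2, 1, 1, 2, 2, 1, 0, 0]
def t824 : HTree := splitA t823 [2, 1, 1, 2, 1, 1, 0, 0]
def t825 : HTree := splitS t824 5 4 2
def t826 : HTree := splitS t825 5 4 1
def t827 : HTree := splitS t826 5 4 0
def t828 : HTree := splitB (skipZ 4) t827 [2, 1, 1, 2, 2, 0, 0, 0] [2, 1, 1, 2, 1, 0, 0, 0]
def t829 : HTree := split (skipZ 7) (fin [2, 1, 2, 1, 2, 2, 2, 2]) (leaf 5 [7, 6, 5, 4, 2, 0, 1, 3]) (leaf 4 [7, 6, 5, 4, 2, 0, 1, 3]) (cert [2, 1, 2, 1, 2, 2, 2, 2]) (cert [6, 3, 6, 3, 6, 6, 6, 2]) (cert [2, 1, 2, 1, 2, 2, 2, 2]) (cert [4, 2, 4, 2, 4, 4, 4, 1]) (cert [2, 1, 2, 1, 2, 2, 2, 1])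
def t830 : HTree := splitA (leaf 6 [1, 3, 0, 2, 4, 5, 6, 7]) [6, 3, 6, 3, 6, 6, 4, 2]
def t831 : HTree := splitB t829 t830 [2, 1, 2, 1, 2, 2, 1, 1] [4, 2, 4, 2, 4, 4, 2, 1]
def t832 : HTree := splitS t831 7 6 4
def t833 : HTree := splitS t832 7 5 3
def t834 : HTree := splitS t833 7 5 2
def t835 : HTree := splitS t834 7 4 1
def t836 : HTree := splitS t835 7 4 0
def t837 : HTree := splitB (skipZ 6) t836 [2, 1, 2, 1, 2, 2, 2, 0] [2, 1, 2, 1, 2, 2, 1, 0]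
def t838 : HTree := splitA t837 [2, 1, 2, 1, 2, 1, 1, 0]
def t839 : HTree := splitS t838 6 5 3
def t840 : HTree := splitS t839 6 5 2
def t841 : HTree := splitS t840 6 4 1
def t842 : HTree := splitS t841 6 4 0
def t843 : HTree := splitB (skipZ 5) t842 [2, 1, 2, 1, 2, 2, 0, 0] [2, 1, 2, 1, 2, 1, 0, 0]
def t844 : HTree := splitB (skipZ 7) (fin [6, 3, 4, 5, 2, 4, 3, 2]) [6, 3, 4, 5, 2, 4, 3, 2] [6, 3, 4, 5, 2, 4, 3, 1]
def t845 : HTree := splitA t844 [6, 3, 4, 5, 2, 4, 2, 1]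
def t846 : HTree := splitS t845 7 6 4
def t847 : HTree := splitS t846 7 6 3
def t848 : HTree := splitS t847 7 5 2
def t849 : HTree := splitS t848 7 4 1
def t850 : HTree := splitS t849 7 4 0
def t851 : HTree := splitB (skipZ 6) t850 [6, 3, 4, 5, 2, 4, 3, 0] [12, 6, 8, 10, 4, 8, 3, 0]
def t852 : HTree := splitB (skipZ 7) (fin [6, 3, 5, 4, 4, 2, 3, 2]) [6, 3, 5, 4, 4, 2, 3, 2] [6, 3, 5, 4, 4, 2, 3, 1]
def t853 : HTree := splitA (leaf 7 [6, 4, 2, 0, 3, 5, 7, 1]) [14, 7, 11, 10, 8, 6, 5, 2]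
def t854 : HTree := splitB t852 t853 [4, 2, 3, 3, 2, 2, 1, 1] [8, 4, 6, 6, 4, 4, 2, 1]
def t855 : HTree := splitA t854 [6, 3, 5, 4, 4, 2, 2, 1]
def t856 : HTree := splitS t855 7 6 3
def t857 : HTree := splitS t856 7 5 2
def t858 : HTree := splitS t857 7 4 1
def t859 : HTree := splitS t858 7 4 0
def t860 : HTree := splitA t859 [4, 2, 3, 3, 2, 2, 1, 0]
def t861 : HTree := splitB t851 t860 [6, 3, 5, 4, 4, 2, 3, 0] [12, 6, 10, 8, 8, 4, 3, 0]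
def t862 : HTree := splitA t861 [12, 6, 8, 10, 4, 5, 3, 0]
def t863 : HTree := splitS t862 6 5 2
def t864 : HTree := splitS t863 6 4 1
def t865 : HTree := splitS t864 6 4 0
def t866 : HTree := splitA t865 [10, 5, 8, 7, 6, 4, 0, 0]
def t867 : HTree := splitB t843 t866 [6, 3, 4, 5, 2, 4, 0, 0] [6, 3, 4, 5, 2, 2, 0, 0]
def t868 : HTree := splitA t867 [2, 1, 2, 1, 1, 1, 0, 0]
def t869 : HTree := splitS t868 5 4 1
def t870 : HTree := splitS t869 5 4 0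
def t871 : HTree := splitA t870 [4, 2, 3, 3, 2, 0, 0, 0]
def t872 : HTree := splitB t828 t871 [2, 1, 2, 1, 2, 0, 0, 0] [2, 1, 2, 1, 1, 0, 0, 0]
def t873 : HTree := split (skipZ 7) (fin [2, 2, 1, 1, 2, 2, 2, 2]) (leaf 5 [7, 6, 5, 4, 1, 0, 2, 3]) (leaf 4 [7, 6, 5, 4, 1, 0, 2, 3]) (cert [2, 2, 1, 1, 2, 2, 2, 2]) (cert [6, 6, 3, 3, 6, 6, 6, 2]) (cert [2, 2, 1, 1, 2, 2, 2, 2]) (cert [4, 4, 2, 2, 4, 4, 4, 1]) (cert [2, 2, 1, 1, 2, 2, 2, 1])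
def t874 : HTree := splitA (leaf 6 [2, 3, 0, 1, 4, 5, 6, 7]) [6, 6, 3, 3, 6, 6, 4, 2]
def t875 : HTree := splitB t873 t874 [2, 2, 1, 1, 2, 2, 1, 1] [4, 4, 2, 2, 4, 4, 2, 1]
def t876 : HTree := splitS t875 7 6 4
def t877 : HTree := splitS t876 7 5 3
def t878 : HTree := splitS t877 7 5 2
def t879 : HTree := splitS t878 7 5 1
def t880 : HTree := splitS t879 7 4 0
def t881 : HTree := splitB (skipZ 6) t880 [2, 2, 1, 1, 2, 2, 2, 0] [2, 2, 1, 1, 2, 2, 1, 0]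
def t882 : HTree := splitA t881 [2, 2, 1, 1, 2, 1, 1, 0]
def t883 : HTree := splitS t882 6 5 3
def t884 : HTree := splitS t883 6 5 2
def t885 : HTree := splitS t884 6 5 1
def t886 : HTree := splitS t885 6 4 0
def t887 : HTree := splitB (skipZ 5) t886 [2, 2, 1, 1, 2, 2, 0, 0] [2, 2, 1, 1, 2, 1, 0, 0]
def t888 : HTree := splitB (skipZ 7) (fin [6, 4, 3, 5, 2, 4, 3, 2]) [6, 4, 3, 5, 2, 4, 3, 2] [6, 4, 3, 5, 2, 4, 3, 1]
def t889 : HTree := splitA t888 [6, 4, 3, 5, 2, 4, 2, 1]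
def t890 : HTree := splitS t889 7 6 4
def t891 : HTree := splitS t890 7 6 3
def t892 : HTree := splitS t891 7 5 2
def t893 : HTree := splitS t892 7 5 1
def t894 : HTree := splitS t893 7 4 0
def t895 : HTree := splitB (skipZ 6) t894 [6, 4, 3, 5, 2, 4, 3, 0] [12, 8, 6, 10, 4, 8, 3, 0]
def t896 : HTree := splitB (skipZ 7) (fin [6, 5, 3, 4, 4, 2, 3, 2]) [6, 5, 3, 4, 4, 2, 3, 2] [6, 5, 3, 4, 4, 2, 3, 1]
def t897 : HTree := splitA (leaf 7 [6, 4, 1, 0, 3, 5, 7, 2]) [14, 11, 7, 10, 8, 6, 5, 2]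
def t898 : HTree := splitB t896 t897 [4, 3, 2, 3, 2, 2, 1, 1] [8, 6, 4, 6, 4, 4, 2, 1]
def t899 : HTree := splitA t898 [6, 5, 3, 4, 4, 2, 2, 1]
def t900 : HTree := splitS t899 7 6 3
def t901 : HTree := splitS t900 7 5 2
def t902 : HTree := splitS t901 7 5 1
def t903 : HTree := splitS t902 7 4 0
def t904 : HTree := splitA t903 [4, 3, 2, 3, 2, 2, 1, 0]
def t905 : HTree := splitB t895 t904 [6, 5, 3, 4, 4, 2, 3, 0] [12, 10, 6, 8, 8, 4, 3, 0]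
def t906 : HTree := splitA t905 [12, 8, 6, 10, 4, 5, 3, 0]
def t907 : HTree := splitS t906 6 5 2
def t908 : HTree := splitS t907 6 5 1
def t909 : HTree := splitS t908 6 4 0
def t910 : HTree := splitA t909 [10, 8, 5, 7, 6, 4, 0, 0]
def t911 : HTree := splitB t887 t910 [6, 4, 3, 5, 2, 4, 0, 0] [6, 4, 3, 5, 2, 2, 0, 0]
def t912 : HTree := splitB (skipZ 7) (fin [6, 4, 5, 3, 2, 4, 3, 2]) [6, 4, 5, 3, 2, 4, 3, 2] [6, 4, 5, 3, 2, 4, 3, 1]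
def t913 : HTree := splitA t912 [6, 4, 5, 3, 2, 4, 2, 1]
def t914 : HTree := splitS t913 7 6 4
def t915 : HTree := splitS t914 7 6 3
def t916 : HTree := splitS t915 7 6 2
def t917 : HTree := splitS t916 7 5 1
def t918 : HTree := splitS t917 7 4 0
def t919 : HTree := splitB (skipZ 6) t918 [6, 4, 5, 3, 2, 4, 3, 0] [12, 8, 10, 6, 4, 8, 3, 0]
def t920 : HTree := splitB (skipZ 7) (fin [6, 5, 4, 3, 4, 2, 3, 2]) [6, 5, 4, 3, 4, 2, 3, 2] [6, 5, 4, 3, 4, 2, 3, 1]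
def t921 : HTree := splitA (leaf 7 [6, 4, 1, 0, 2, 5, 7, 3]) [14, 11, 10, 7, 8, 6, 5, 2]
def t922 : HTree := splitB t920 t921 [4, 3, 3, 2, 2, 2, 1, 1] [8, 6, 6, 4, 4, 4, 2, 1]
def t923 : HTree := splitA t922 [6, 5, 4, 3, 4, 2, 2, 1]
def t924 : HTree := splitS t923 7 6 3
def t925 : HTree := splitS t924 7 6 2
def t926 : HTree := splitS t925 7 5 1
def t927 : HTree := splitS t926 7 4 0
def t928 : HTree := splitA t927 [4, 3, 3, 2, 2, 2, 1, 0]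
def t929 : HTree := splitB t919 t928 [6, 5, 4, 3, 4, 2, 3, 0] [12, 10, 8, 6, 8, 4, 3, 0]
def t930 : HTree := splitA t929 [3, 2, 2, 2, 1, 1, 1, 0]
def t931 : HTree := splitA t930 [12, 8, 10, 6, 4, 5, 3, 0]
def t932 : HTree := splitS t931 6 5 1
def t933 : HTree := splitS t932 6 4 0
def t934 : HTree := splitA t933 [10, 8, 7, 5, 6, 4, 0, 0]
def t935 : HTree := splitA t934 [3, 2, 2, 2, 1, 1, 0, 0]
def t936 : HTree := splitB t911 t935 [6, 4, 5, 3, 2, 4, 0, 0] [6, 4, 5, 3, 2, 2, 0, 0]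
def t937 : HTree := splitA t936 [2, 2, 1, 1, 1, 1, 0, 0]
def t938 : HTree := splitS t937 5 4 0
def t939 : HTree := splitA t938 [4, 3, 2, 3, 2, 0, 0, 0]
def t940 : HTree := splitA t939 [4, 3, 3, 2, 2, 0, 0, 0]
def t941 : HTree := splitB t872 t940 [2, 2, 1, 1, 2, 0, 0, 0] [2, 2, 1, 1, 1, 0, 0, 0]
def t942 : HTree := splitA t941 [2, 1, 1, 1, 1, 0, 0, 0]
def t943 : HTree := splitA t942 [6, 3, 5, 4, 0, 0, 0, 0]
def t944 : HTree := splitA t943 [6, 5, 3, 4, 0, 0, 0, 0]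
def t945 : HTree := splitB t808 t944 [2, 1, 1, 2, 0, 0, 0, 0] [2, 1, 1, 1, 0, 0, 0, 0]
def t946 : HTree := splitA t945 [1, 1, 1, 0, 0, 0, 0, 0]
def t947 : HTree := splitA (skipZ 4) [2, 1, 3, 2, 1, 0, 0, 0]
def t948 : HTree := splitA t947 [4, 2, 6, 3, 1, 0, 0, 0]
def t949 : HTree := splitS t948 4 3 1
def t950 : HTree := splitS t949 4 3 0
def t951 : HTree := splitB (skipZ 3) t950 [2, 1, 3, 2, 0, 0, 0, 0] [2, 1, 3, 1, 0, 0, 0, 0]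
def t952 : HTree := split (skipZ 7) (fin [1, 1, 1, 1, 1, 1, 1, 1]) (leaf 2 [2, 0, 1, 3, 4, 5, 6, 7]) (leaf 1 [2, 0, 1, 3, 4, 5, 6, 7]) (cert [1, 1, 1, 1, 1, 1, 1, 1]) (cert [3, 3, 3, 3, 3, 3, 3, 1]) (cert [1, 1, 1, 1, 1, 1, 1, 1]) (cert [4, 4, 4, 4, 4, 4, 4, 1]) (cert [2, 2, 2, 2, 2, 2, 2, 1])
def t953 : HTree := splitA (leaf 5 [2, 0, 1, 3, 4, 5, 6, 7]) [3, 3, 3, 3, 3, 3, 2, 1]
def t954 : HTree := splitB t952 t953 [2, 2, 2, 2, 2, 2, 1, 1] [4, 4, 4, 4, 4, 4, 2, 1]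
def t955 : HTree := splitS t954 7 6 4
def t956 : HTree := splitS t955 7 5 3
def t957 : HTree := splitS t956 7 4 2
def t958 : HTree := splitS t957 7 4 1
def t959 : HTree := splitS t958 7 3 0
def t960 : HTree := splitB (skipZ 6) t959 [1, 1, 1, 1, 1, 1, 1, 0] [2, 2, 2, 2, 2, 2, 1, 0]
def t961 : HTree := splitA t960 [2, 2, 2, 2, 2, 1, 1, 0]
def t962 : HTree := splitS t961 6 5 3
def t963 : HTree := splitS t962 6 4 2
def t964 : HTree := splitS t963 6 4 1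
def t965 : HTree := splitS t964 6 3 0
def t966 : HTree := splitB (skipZ 5) t965 [1, 1, 1, 1, 1, 1, 0, 0] [2, 2, 2, 2, 2, 1, 0, 0]
def t967 : HTree := splitA t966 [2, 2, 2, 2, 1, 1, 0, 0]
def t968 : HTree := splitS t967 5 4 2
def t969 : HTree := splitS t968 5 4 1
def t970 : HTree := splitS t969 5 3 0
def t971 : HTree := splitB (skipZ 4) t970 [1, 1, 1, 1, 1, 0, 0, 0] [2, 2, 2, 2, 1, 0, 0, 0]
def t972 : HTree := splitA t971 [3, 2, 4, 1, 2, 0, 0, 0]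
def t973 : HTree := splitA t972 [2, 2, 2, 1, 1, 0, 0, 0]
def t974 : HTree := splitS t973 4 3 0
def t975 : HTree := splitA t974 [4, 3, 5, 2, 0, 0, 0, 0]
def t976 : HTree := splitB t951 t975 [1, 1, 1, 1, 0, 0, 0, 0] [2, 2, 2, 1, 0, 0, 0, 0]
def t977 : HTree := splitA t976 [2, 1, 2, 1, 0, 0, 0, 0]
def t978 : HTree := splitA t977 [1, 1, 1, 0, 0, 0, 0, 0]
def t979 : HTree := splitA (skipZ 4) [4, 2, 3, 2, 1, 0, 0, 0]
def t980 : HTree := splitA t979 [8, 4, 6, 3, 1, 0, 0, 0]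
def t981 : HTree := splitS t980 4 3 1
def t982 : HTree := splitS t981 4 3 0
def t983 : HTree := splitB (skipZ 3) t982 [4, 2, 3, 2, 0, 0, 0, 0] [4, 2, 3, 1, 0, 0, 0, 0]
def t984 : HTree := split (skipZ 7) (fin [2, 2, 1, 2, 2, 2, 2, 2]) (leaf 1 [7, 6, 5, 4, 3, 1, 0, 2]) (leaf 3 [2, 0, 1, 3, 4, 5, 6, 7]) (cert [2, 2, 1, 2, 2, 2, 2, 2]) (cert [6, 6, 3, 6, 6, 6, 6, 2]) (cert [2, 2, 1, 2, 2, 2, 2, 2]) (cert [4, 4, 2, 4, 4, 4, 4, 1]) (cert [2, 2, 1, 2, 2, 2, 2, 1])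
def t985 : HTree := splitA (leaf 4 [2, 0, 1, 3, 4, 5, 6, 7]) [6, 6, 3, 6, 6, 6, 4, 2]
def t986 : HTree := splitB t984 t985 [2, 2, 1, 2, 2, 2, 1, 1] [4, 4, 2, 4, 4, 4, 2, 1]
def t987 : HTree := splitS t986 7 6 4
def t988 : HTree := splitS t987 7 5 3
def t989 : HTree := splitS t988 7 4 2
def t990 : HTree := splitS t989 7 4 1
def t991 : HTree := splitS t990 7 3 0
def t992 : HTree := splitB (skipZ 6) t991 [2, 2, 1, 2, 2, 2, 2, 0] [2, 2, 1, 2, 2, 2, 1, 0]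
def t993 : HTree := splitA t992 [2, 2, 1, 2, 2, 1, 1, 0]
def t994 : HTree := splitS t993 6 5 3
def t995 : HTree := splitS t994 6 4 2
def t996 : HTree := splitS t995 6 4 1
def t997 : HTree := splitS t996 6 3 0
def t998 : HTree := splitB (skipZ 5) t997 [2, 2, 1, 2, 2, 2, 0, 0] [2, 2, 1, 2, 2, 1, 0, 0]
def t999 : HTree := splitA t998 [2, 2, 1, 2, 1, 1, 0, 0]
def t1000 : HTree := splitS t999 5 4 2
def t1001 : HTree := splitS t1000 5 4 1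
def t1002 : HTree := splitS t1001 5 3 0
def t1003 : HTree := splitB (skipZ 4) t1002 [2, 2, 1, 2, 2, 0, 0, 0] [2, 2, 1, 2, 1, 0, 0, 0]
def t1004 : HTree := splitA t1003 [3, 2, 2, 1, 1, 0, 0, 0]
def t1005 : HTree := splitA t1004 [2, 2, 1, 1, 1, 0, 0, 0]
def t1006 : HTree := splitS t1005 4 3 0
def t1007 : HTree := splitA t1006 [3, 2, 2, 1, 0, 0, 0, 0]
def t1008 : HTree := splitB t983 t1007 [2, 2, 1, 2, 0, 0, 0, 0] [2, 2, 1, 1, 0, 0, 0, 0]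
def t1009 : HTree := splitA t1008 [2, 1, 1, 1, 0, 0, 0, 0]
def t1010 : HTree := splitA t1009 [5, 4, 3, 0, 0, 0, 0, 0]
def t1011 : HTree := split t216 t946 t978 t1010 (cert [2, 1, 3, 0, 0, 0, 0, 0]) (cert [2, 1, 1, 0, 0, 0, 0, 0]) (cert [2, 1, 3, 0, 0, 0, 0, 0]) (cert [8, 4, 3, 0, 0, 0, 0, 0]) (cert [4, 2, 3, 0, 0, 0, 0, 0])
def t1012 : HTree := split (skipZ 7) (fin [1, 2, 2, 2, 2, 2, 2, 2]) (leaf 1 [7, 6, 5, 4, 3, 2, 1, 0]) (leaf 3 [0, 1, 2, 3, 4, 5, 6, 7]) (cert [1, 2, 2, 2, 2, 2, 2, 2]) (cert [3, 6, 6, 6, 6, 6, 6, 2]) (cert [1, 2, 2, 2, 2, 2, 2, 2]) (cert [2, 4, 4, 4, 4, 4, 4, 1]) (cert [1, 2, 2, 2, 2, 2, 2, 1])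
def t1013 : HTree := splitA (leaf 4 [0, 1, 2, 3, 4, 5, 6, 7]) [3, 6, 6, 6, 6, 6, 4, 2]
def t1014 : HTree := splitB t1012 t1013 [1, 2, 2, 2, 2, 2, 1, 1] [2, 4, 4, 4, 4, 4, 2, 1]
def t1015 : HTree := splitS t1014 7 6 4
def t1016 : HTree := splitS t1015 7 5 3
def t1017 : HTree := splitS t1016 7 4 2
def t1018 : HTree := splitS t1017 7 3 1
def t1019 : HTree := splitS t1018 7 2 0
def t1020 : HTree := splitB (skipZ 6) t1019 [1, 2, 2, 2, 2, 2, 2, 0] [1, 2, 2, 2, 2, 2, 1, 0]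
def t1021 : HTree := splitA t1020 [1, 2, 2, 2, 2, 1, 1, 0]
def t1022 : HTree := splitS t1021 6 5 3
def t1023 : HTree := splitS t1022 6 4 2
def t1024 : HTree := splitS t1023 6 3 1
def t1025 : HTree := splitS t1024 6 2 0
def t1026 : HTree := splitB (skipZ 5) t1025 [1, 2, 2, 2, 2, 2, 0, 0] [1, 2, 2, 2, 2, 1, 0, 0]
def t1027 : HTree := splitA t1026 [1, 2, 2, 2, 1, 1, 0, 0]
def t1028 : HTree := splitS t1027 5 4 2
def t1029 : HTree := splitS t1028 5 3 1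
def t1030 : HTree := splitS t1029 5 2 0
def t1031 : HTree := splitB (skipZ 4) t1030 [1, 2, 2, 2, 2, 0, 0, 0] [1, 2, 2, 2, 1, 0, 0, 0]
def t1032 : HTree := splitA t1031 [1, 2, 2, 1, 1, 0, 0, 0]
def t1033 : HTree := splitS t1032 4 3 1
def t1034 : HTree := splitS t1033 4 2 0
def t1035 : HTree := splitB (skipZ 3) t1034 [1, 2, 2, 2, 0, 0, 0, 0] [1, 2, 2, 1, 0, 0, 0, 0]
def t1036 : HTree := splitA t1035 [1, 2, 1, 1, 0, 0, 0, 0]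
def t1037 : HTree := splitS t1036 3 2 0
def t1038 : HTree := splitB (skipZ 2) t1037 [1, 2, 2, 0, 0, 0, 0, 0] [1, 2, 1, 0, 0, 0, 0, 0]
def t1039 : HTree := split (skipZ 7) (fin [1, 1, 1, 1, 1, 1, 1, 1]) (leaf 2 [1, 0, 2, 3, 4, 5, 6, 7]) (leaf 1 [1, 0, 2, 3, 4, 5, 6, 7]) (cert [1, 1, 1, 1, 1, 1, 1, 1]) (cert [3, 3, 3, 3, 3, 3, 3, 1]) (cert [1, 1, 1, 1, 1, 1, 1, 1]) (cert [4, 4, 4, 4, 4, 4, 4, 1]) (cert [2, 2, 2, 2, 2, 2, 2, 1])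
def t1040 : HTree := splitA (leaf 5 [1, 0, 2, 3, 4, 5, 6, 7]) [3, 3, 3, 3, 3, 3, 2, 1]
def t1041 : HTree := splitB t1039 t1040 [2, 2, 2, 2, 2, 2, 1, 1] [4, 4, 4, 4, 4, 4, 2, 1]
def t1042 : HTree := splitS t1041 7 6 4
def t1043 : HTree := splitS t1042 7 5 3
def t1044 : HTree := splitS t1043 7 4 2
def t1045 : HTree := splitS t1044 7 3 1
def t1046 : HTree := splitS t1045 7 3 0
def t1047 : HTree := splitB (skipZ 6) t1046 [1, 1, 1, 1, 1, 1, 1, 0] [2, 2, 2, 2, 2, 2, 1, 0]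
def t1048 : HTree := splitA t1047 [2, 2, 2, 2, 2, 1, 1, 0]
def t1049 : HTree := splitS t1048 6 5 3
def t1050 : HTree := splitS t1049 6 4 2
def t1051 : HTree := splitS t1050 6 3 1
def t1052 : HTree := splitS t1051 6 3 0
def t1053 : HTree := splitB (skipZ 5) t1052 [1, 1, 1, 1, 1, 1, 0, 0] [2, 2, 2, 2, 2, 1, 0, 0]
def t1054 : HTree := splitA t1053 [2, 2, 2, 2, 1, 1, 0, 0]
def t1055 : HTree := splitS t1054 5 4 2
def t1056 : HTree := splitS t1055 5 3 1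
def t1057 : HTree := splitS t1056 5 3 0
def t1058 : HTree := splitB (skipZ 4) t1057 [1, 1, 1, 1, 1, 0, 0, 0] [2, 2, 2, 2, 1, 0, 0, 0]
def t1059 : HTree := splitA t1058 [2, 2, 2, 1, 1, 0, 0, 0]
def t1060 : HTree := splitS t1059 4 3 1
def t1061 : HTree := splitS t1060 4 3 0
def t1062 : HTree := splitB (skipZ 3) t1061 [1, 1, 1, 1, 0, 0, 0, 0] [2, 2, 2, 1, 0, 0, 0, 0]
def t1063 : HTree := splitA (skipZ 4) [2, 3, 1, 2, 1, 0, 0, 0]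
def t1064 : HTree := splitA t1063 [3, 4, 2, 2, 1, 0, 0, 0]
def t1065 : HTree := splitA t1064 [4, 6, 2, 3, 1, 0, 0, 0]
def t1066 : HTree := splitS t1065 4 3 0
def t1067 : HTree := splitA t1066 [4, 5, 3, 2, 0, 0, 0, 0]
def t1068 : HTree := splitB t1062 t1067 [2, 3, 1, 2, 0, 0, 0, 0] [2, 3, 1, 1, 0, 0, 0, 0]
def t1069 : HTree := splitA t1068 [2, 2, 1, 1, 0, 0, 0, 0]
def t1070 : HTree := splitA t1069 [3, 4, 2, 0, 0, 0, 0, 0]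
def t1071 : HTree := splitB t1038 t1070 [1, 1, 1, 0, 0, 0, 0, 0] [2, 2, 1, 0, 0, 0, 0, 0]
def t1072 : HTree := split (skipZ 7) (fin [1, 1, 1, 1, 1, 1, 1, 1]) (leaf 2 [0, 1, 2, 3, 4, 5, 6, 7]) (leaf 1 [0, 1, 2, 3, 4, 5, 6, 7]) (cert [1, 1, 1, 1, 1, 1, 1, 1]) (cert [3, 3, 3, 3, 3, 3, 3, 1]) (cert [1, 1, 1, 1, 1, 1, 1, 1]) (cert [4, 4, 4, 4, 4, 4, 4, 1]) (cert [2, 2, 2, 2, 2, 2, 2, 1])
def t1073 : HTree := splitA (leaf 5 [0, 1, 2, 3, 4, 5, 6, 7]) [3, 3, 3, 3, 3, 3, 2, 1]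
def t1074 : HTree := splitB t1072 t1073 [2, 2, 2, 2, 2, 2, 1, 1] [4, 4, 4, 4, 4, 4, 2, 1]
def t1075 : HTree := splitS t1074 7 6 4
def t1076 : HTree := splitS t1075 7 5 3
def t1077 : HTree := splitS t1076 7 4 2
def t1078 : HTree := splitS t1077 7 3 1
def t1079 : HTree := splitS t1078 7 2 0
def t1080 : HTree := splitB (skipZ 6) t1079 [1, 1, 1, 1, 1, 1, 1, 0] [2, 2, 2, 2, 2, 2, 1, 0]
def t1081 : HTree := splitA t1080 [2, 2, 2, 2, 2, 1, 1, 0]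
def t1082 : HTree := splitS t1081 6 5 3
def t1083 : HTree := splitS t1082 6 4 2
def t1084 : HTree := splitS t1083 6 3 1
def t1085 : HTree := splitS t1084 6 2 0
def t1086 : HTree := splitB (skipZ 5) t1085 [1, 1, 1, 1, 1, 1, 0, 0] [2, 2, 2, 2, 2, 1, 0, 0]
def t1087 : HTree := splitA t1086 [2, 2, 2, 2, 1, 1, 0, 0]
def t1088 : HTree := splitS t1087 5 4 2
def t1089 : HTree := splitS t1088 5 3 1
def t1090 : HTree := splitS t1089 5 2 0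
def t1091 : HTree := splitB (skipZ 4) t1090 [1, 1, 1, 1, 1, 0, 0, 0] [2, 2, 2, 2, 1, 0, 0, 0]
def t1092 : HTree := splitA t1091 [2, 2, 2, 1, 1, 0, 0, 0]
def t1093 : HTree := splitS t1092 4 3 1
def t1094 : HTree := splitS t1093 4 2 0
def t1095 : HTree := splitB (skipZ 3) t1094 [1, 1, 1, 1, 0, 0, 0, 0] [2, 2, 2, 1, 0, 0, 0, 0]
def t1096 : HTree := splitA t1095 [2, 2, 1, 1, 0, 0, 0, 0]
def t1097 : HTree := splitS t1096 3 2 0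
def t1098 : HTree := splitB (skipZ 2) t1097 [1, 1, 1, 0, 0, 0, 0, 0] [2, 2, 1, 0, 0, 0, 0, 0]
def t1099 : HTree := split (skipZ 7) (fin [2, 1, 2, 2, 2, 2, 2, 2]) (leaf 1 [7, 6, 5, 4, 3, 2, 0, 1]) (leaf 3 [1, 0, 2, 3, 4, 5, 6, 7]) (cert [2, 1, 2, 2, 2, 2, 2, 2]) (cert [6, 3, 6, 6, 6, 6, 6, 2]) (cert [2, 1, 2, 2, 2, 2, 2, 2]) (cert [4, 2, 4, 4, 4, 4, 4, 1]) (cert [2, 1, 2, 2, 2, 2, 2, 1])
def t1100 : HTree := splitA (leaf 4 [1, 0, 2, 3, 4, 5, 6, 7]) [6, 3, 6, 6, 6, 6, 4, 2]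
def t1101 : HTree := splitB t1099 t1100 [2, 1, 2, 2, 2, 2, 1, 1] [4, 2, 4, 4, 4, 4, 2, 1]
def t1102 : HTree := splitS t1101 7 6 4
def t1103 : HTree := splitS t1102 7 5 3
def t1104 : HTree := splitS t1103 7 4 2
def t1105 : HTree := splitS t1104 7 3 1
def t1106 : HTree := splitS t1105 7 3 0
def t1107 : HTree := splitB (skipZ 6) t1106 [2, 1, 2, 2, 2, 2, 2, 0] [2, 1, 2, 2, 2, 2, 1, 0]
def t1108 : HTree := splitA t1107 [2, 1, 2, 2, 2, 1, 1, 0]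
def t1109 : HTree := splitS t1108 6 5 3
def t1110 : HTree := splitS t1109 6 4 2
def t1111 : HTree := splitS t1110 6 3 1
def t1112 : HTree := splitS t1111 6 3 0
def t1113 : HTree := splitB (skipZ 5) t1112 [2, 1, 2, 2, 2, 2, 0, 0] [2, 1, 2, 2, 2, 1, 0, 0]
def t1114 : HTree := splitA t1113 [2, 1, 2, 2, 1, 1, 0, 0]
def t1115 : HTree := splitS t1114 5 4 2
def t1116 : HTree := splitS t1115 5 3 1
def t1117 : HTree := splitS t1116 5 3 0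
def t1118 : HTree := splitB (skipZ 4) t1117 [2, 1, 2, 2, 2, 0, 0, 0] [2, 1, 2, 2, 1, 0, 0, 0]
def t1119 : HTree := splitA t1118 [2, 1, 2, 1, 1, 0, 0, 0]
def t1120 : HTree := splitS t1119 4 3 1
def t1121 : HTree := splitS t1120 4 3 0
def t1122 : HTree := splitB (skipZ 3) t1121 [2, 1, 2, 2, 0, 0, 0, 0] [2, 1, 2, 1, 0, 0, 0, 0]
def t1123 : HTree := splitA (skipZ 4) [4, 3, 2, 2, 1, 0, 0, 0]
def t1124 : HTree := splitA t1123 [3, 2, 2, 1, 1, 0, 0, 0]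
def t1125 : HTree := splitA t1124 [8, 6, 4, 3, 1, 0, 0, 0]
def t1126 : HTree := splitS t1125 4 3 0
def t1127 : HTree := splitA t1126 [3, 2, 2, 1, 0, 0, 0, 0]
def t1128 : HTree := splitB t1122 t1127 [4, 3, 2, 2, 0, 0, 0, 0] [4, 3, 2, 1, 0, 0, 0, 0]
def t1129 : HTree := splitA t1128 [2, 1, 1, 1, 0, 0, 0, 0]
def t1130 : HTree := splitA t1129 [4, 3, 2, 0, 0, 0, 0, 0]
def t1131 : HTree := splitB t1098 t1130 [2, 1, 2, 0, 0, 0, 0, 0] [2, 1, 1, 0, 0, 0, 0, 0]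
def t1132 : HTree := splitA (skipZ 2) [1, 2, 1, 0, 0, 0, 0, 0]
def t1133 : HTree := splitA t1132 [2, 3, 1, 0, 0, 0, 0, 0]
def t1134 : HTree := splitA (skipZ 2) [3, 2, 1, 0, 0, 0, 0, 0]
def t1135 : HTree := splitA t1134 [2, 1, 1, 0, 0, 0, 0, 0]
def t1136 : HTree := split (skipZ 1) t1011 t1071 t1131 t1133 t1135 (cert [1, 2, 0, 0, 0, 0, 0, 0]) (cert [2, 1, 0, 0, 0, 0, 0, 0]) (cert [1, 1, 0, 0, 0, 0, 0, 0])

def tree : HTree := t1136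

set_option maxRecDepth 100000 in
theorem tree_ok : chk 8 canon tree [] = true := by decide +kernel

end Groth.Agent.H79.Aff.N8
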