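import Groth.Agent.H79.AffCheck

/-! Certificate tree for the classification of affine data on 9 indices (generated). -/

set_option autoImplicit false

namespace Groth.Agent.H79.Aff.N9

open Groth.Agent.H79.Aff Groth.Agent.H79.Aff.HTree

def canon : List (List (List ℕ)) := [
  [[0, 1, 0, 0, 0, 0, 0, 0, 1], [1, 0, 1, 0, 0, 0, 0, 0, 0], [0, 1, 0, 1, 0, 0, 0, 0, 0], [0, 0, 1, 0, 1, 0, 0, 0, 0], [0, 0, 0, 1, 0, 1, 0, 0, 0], [0, 0, 0, 0, 1, 0, 1, 0, 0], [0, 0, 0, 0, 0, 1, 0, 1, 0], [0, 0, 0, 0, 0, 0, 1, 0, 1], [1, 0, 0, 0, 0, 0, 0, 1, 0]],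
  [[0, 2, 0, 0, 0, 0, 0, 0, 0], [1, 0, 1, 0, 0, 0, 0, 0, 0], [0, 1, 0, 1, 0, 0, 0, 0, 0], [0, 0, 1, 0, 1, 0, 0, 0, 0], [0, 0, 0, 1, 0, 1, 0, 0, 0], [0, 0, 0, 0, 1, 0, 1, 0, 0], [0, 0, 0, 0, 0, 1, 0, 1, 0], [0, 0, 0, 0, 0, 0, 1, 0, 2], [0, 0, 0, 0, 0, 0, 0, 1, 0]],
  [[0, 2, 0, 0, 0, 0, 0, 0, 0], [1, 0, 1, 0, 0, 0, 0, 0, 0], [0, 1, 0, 1, 0, 0, 0, 0, 0], [0, 0, 1, 0, 1, 0, 0, 0, 0], [0, 0, 0, 1, 0, 1, 0, 0, 0], [0, 0, 0, 0, 1, 0, 1, 0, 0], [0, 0, 0, 0, 0, 1, 0, 1, 0], [0, 0, 0, 0, 0, 0, 1, 0, 1], [0, 0, 0, 0, 0, 0, 0, 2, 0]],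
  [[0, 1, 0, 0, 0, 0, 0, 0, 0], [2, 0, 1, 0, 0, 0, 0, 0, 0], [0, 1, 0, 1, 0, 0, 0, 0, 0], [0, 0, 1, 0, 1, 0, 0, 0, 0], [0, 0, 0, 1, 0, 1, 0, 0, 0], [0, 0, 0, 0, 1, 0, 1, 0, 0], [0, 0, 0, 0, 0, 1, 0, 1, 0], [0, 0, 0, 0, 0, 0, 1, 0, 2], [0, 0, 0, 0, 0, 0, 0, 1, 0]],
  [[0, 1, 0, 0, 0, 0, 0, 0, 0], [2, 0, 1, 0, 0, 0, 0, 0, 0], [0, 1, 0, 1, 0, 0, 0, 0, 0], [0, 0, 1, 0, 1, 0, 0, 0, 0], [0, 0, 0, 1, 0, 1, 0, 0, 0], [0, 0, 0, 0, 1, 0, 1, 0, 0], [0, 0, 0, 0, 0, 1, 0, 1, 1], [0, 0, 0, 0, 0, 0, 1, 0, 0], [0, 0, 0, 0, 0, 0, 1, 0, 0]],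
  [[0, 2, 0, 0, 0, 0, 0, 0, 0], [1, 0, 1, 0, 0, 0, 0, 0, 0], [0, 1, 0, 1, 0, 0, 0, 0, 0], [0, 0, 1, 0, 1, 0, 0, 0, 0], [0, 0, 0, 1, 0, 1, 0, 0, 0], [0, 0, 0, 0, 1, 0, 1, 0, 0], [0, 0, 0, 0, 0, 1, 0, 1, 1], [0, 0, 0, 0, 0, 0, 1, 0, 0], [0, 0, 0, 0, 0, 0, 1, 0, 0]],
  [[0, 0, 1, 0, 0, 0, 0, 0, 0], [0, 0, 1, 0, 0, 0, 0, 0, 0], [1, 1, 0, 1, 0, 0, 0, 0, 0], [0, 0, 1, 0, 1, 0, 0, 0, 0], [0, 0, 0, 1, 0, 1, 0, 0, 0], [0, 0, 0, 0, 1, 0, 1, 0, 0], [0, 0, 0, 0, 0, 1, 0, 1, 1], [0, 0, 0, 0, 0, 0, 1, 0, 0], [0, 0, 0, 0, 0, 0, 1, 0, 0]],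
  [[0, 1, 0, 0, 0, 0, 0, 0, 0], [1, 0, 1, 0, 0, 0, 0, 0, 0], [0, 1, 0, 1, 0, 0, 0, 0, 0], [0, 0, 1, 0, 1, 0, 0, 0, 0], [0, 0, 0, 1, 0, 1, 0, 0, 0], [0, 0, 0, 0, 1, 0, 1, 0, 1], [0, 0, 0, 0, 0, 1, 0, 1, 0], [0, 0, 0, 0, 0, 0, 1, 0, 0], [0, 0, 0, 0, 0, 1, 0, 0, 0]]
]

def t1 : HTree := split (skipZ 8) (fin [1, 2, 3, 4, 5, 6, 7, 8, 9]) (fin [1, 2, 3, 4, 5, 6, 7, 8, 9]) (fin [2, 4, 6, 8, 10, 12, 14, 16, 9]) (cert [1, 2, 3, 4, 5, 6, 7, 8, 9]) (cert [1, 2, 3, 4, 5, 6, 7, 8, 3]) (cert [1, 2, 3, 4, 5, 6, 7, 8, 9]) (cert [4, 8, 12, 16, 20, 24, 28, 32, 9]) (cert [2, 4, 6, 8, 10, 12, 14, 16, 9])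
def t2 : HTree := splitA (fin [2, 4, 6, 8, 10, 12, 14, 7, 9]) [1, 2, 3, 4, 5, 6, 7, 5, 3]
def t3 : HTree := splitB t1 t2 [2, 4, 6, 8, 10, 12, 14, 7, 9] [4, 8, 12, 16, 20, 24, 28, 14, 9]
def t4 : HTree := splitS t3 8 7 5
def t5 : HTree := splitS t4 8 6 4
def t6 : HTree := splitS t5 8 5 3
def t7 : HTree := splitS t6 8 4 2
def t8 : HTree := splitS t7 8 3 1
def t9 : HTree := splitS t8 8 2 0
def t10 : HTree := splitA (skipZ 8) [1, 2, 3, 4, 5, 6, 7, 8, 2]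
def t11 : HTree := splitA t10 [1, 2, 3, 4, 5, 6, 7, 7, 1]
def t12 : HTree := splitS t11 8 7 5
def t13 : HTree := splitS t12 8 6 4
def t14 : HTree := splitS t13 8 5 3
def t15 : HTree := splitS t14 8 4 2
def t16 : HTree := splitS t15 8 3 1
def t17 : HTree := splitS t16 8 2 0
def t18 : HTree := splitA (skipZ 8) [1, 2, 3, 4, 5, 6, 7, 4, 1]
def t19 : HTree := splitA t18 [2, 4, 6, 8, 10, 12, 14, 7, 2]
def t20 : HTree := splitS t19 8 7 5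
def t21 : HTree := splitS t20 8 6 4
def t22 : HTree := splitS t21 8 5 3
def t23 : HTree := splitS t22 8 4 2
def t24 : HTree := splitS t23 8 3 1
def t25 : HTree := splitS t24 8 2 0
def t26 : HTree := split (skipZ 7) t9 t17 t25 (cert [1, 2, 3, 4, 5, 6, 7, 8, 0]) (cert [3, 6, 9, 12, 15, 18, 21, 8, 0]) (cert [1, 2, 3, 4, 5, 6, 7, 8, 0]) (cert [1, 2, 3, 4, 5, 6, 7, 2, 0]) (cert [1, 2, 3, 4, 5, 6, 7, 4, 0])
def t27 : HTree := splitB (skipZ 8) (leaf 7 [0, 1, 2, 3, 4, 5, 7, 8, 6]) [1, 2, 3, 4, 5, 6, 3, 4, 2] [1, 2, 3, 4, 5, 6, 3, 4, 1]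
def t28 : HTree := splitA (leaf 7 [0, 1, 2, 3, 4, 5, 6, 8, 7]) [2, 4, 6, 8, 10, 12, 7, 7, 2]
def t29 : HTree := splitB t27 t28 [1, 2, 3, 4, 5, 6, 4, 3, 2] [1, 2, 3, 4, 5, 6, 4, 3, 1]
def t30 : HTree := splitA t29 [1, 2, 3, 4, 5, 6, 3, 3, 1]
def t31 : HTree := splitS t30 8 6 4
def t32 : HTree := splitS t31 8 5 3
def t33 : HTree := splitS t32 8 4 2
def t34 : HTree := splitS t33 8 3 1
def t35 : HTree := splitS t34 8 2 0
def t36 : HTree := splitA t35 [3, 6, 9, 12, 15, 18, 13, 8, 0]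
def t37 : HTree := splitB t26 t36 [1, 2, 3, 4, 5, 6, 3, 4, 0] [1, 2, 3, 4, 5, 6, 3, 2, 0]
def t38 : HTree := splitS t37 7 6 4
def t39 : HTree := splitS t38 7 5 3
def t40 : HTree := splitS t39 7 4 2
def t41 : HTree := splitS t40 7 3 1
def t42 : HTree := splitS t41 7 2 0
def t43 : HTree := splitA (skipZ 7) [1, 2, 3, 4, 5, 6, 7, 2, 0]
def t44 : HTree := splitA t43 [1, 2, 3, 4, 5, 6, 6, 1, 0]
def t45 : HTree := splitS t44 7 6 4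
def t46 : HTree := splitS t45 7 5 3
def t47 : HTree := splitS t46 7 4 2
def t48 : HTree := splitS t47 7 3 1
def t49 : HTree := splitS t48 7 2 0
def t50 : HTree := splitA (skipZ 7) [2, 4, 6, 8, 10, 12, 7, 2, 0]
def t51 : HTree := splitA t50 [1, 2, 3, 4, 5, 6, 3, 1, 0]
def t52 : HTree := splitS t51 7 6 4
def t53 : HTree := splitS t52 7 5 3
def t54 : HTree := splitS t53 7 4 2
def t55 : HTree := splitS t54 7 3 1
def t56 : HTree := splitS t55 7 2 0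
def t57 : HTree := split (skipZ 6) t42 t49 t56 (cert [1, 2, 3, 4, 5, 6, 7, 0, 0]) (cert [3, 6, 9, 12, 15, 18, 7, 0, 0]) (cert [1, 2, 3, 4, 5, 6, 7, 0, 0]) (cert [4, 8, 12, 16, 20, 24, 7, 0, 0]) (cert [2, 4, 6, 8, 10, 12, 7, 0, 0])
def t58 : HTree := splitA (skipZ 8) [2, 4, 6, 8, 10, 5, 7, 4, 1]
def t59 : HTree := splitA t58 [4, 8, 12, 16, 20, 10, 14, 7, 1]
def t60 : HTree := splitS t59 8 7 5
def t61 : HTree := splitS t60 8 7 4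
def t62 : HTree := splitS t61 8 5 3
def t63 : HTree := splitS t62 8 4 2
def t64 : HTree := splitS t63 8 3 1
def t65 : HTree := splitS t64 8 2 0
def t66 : HTree := splitB (skipZ 7) t65 [2, 4, 6, 8, 10, 5, 7, 4, 0] [2, 4, 6, 8, 10, 5, 7, 2, 0]
def t67 : HTree := splitA (skipZ 8) [2, 4, 6, 8, 10, 7, 5, 4, 1]
def t68 : HTree := splitA t67 [3, 6, 9, 12, 15, 10, 8, 5, 1]
def t69 : HTree := splitA t68 [4, 8, 12, 16, 20, 14, 10, 7, 1]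
def t70 : HTree := splitS t69 8 7 4
def t71 : HTree := splitS t70 8 5 3
def t72 : HTree := splitS t71 8 4 2
def t73 : HTree := splitS t72 8 3 1
def t74 : HTree := splitS t73 8 2 0
def t75 : HTree := splitA t74 [1, 2, 3, 4, 5, 3, 3, 1, 0]
def t76 : HTree := splitB t66 t75 [2, 4, 6, 8, 10, 7, 5, 4, 0] [2, 4, 6, 8, 10, 7, 5, 2, 0]
def t77 : HTree := splitA t76 [2, 4, 6, 8, 10, 5, 5, 2, 0]
def t78 : HTree := splitS t77 7 5 3
def t79 : HTree := splitS t78 7 4 2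
def t80 : HTree := splitS t79 7 3 1
def t81 : HTree := splitS t80 7 2 0
def t82 : HTree := splitA t81 [3, 6, 9, 12, 15, 11, 7, 0, 0]
def t83 : HTree := splitB t57 t82 [2, 4, 6, 8, 10, 5, 7, 0, 0] [4, 8, 12, 16, 20, 10, 7, 0, 0]
def t84 : HTree := splitS t83 6 5 3
def t85 : HTree := splitS t84 6 4 2
def t86 : HTree := splitS t85 6 3 1
def t87 : HTree := splitS t86 6 2 0
def t88 : HTree := splitA (skipZ 6) [1, 2, 3, 4, 5, 6, 2, 0, 0]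
def t89 : HTree := splitA t88 [1, 2, 3, 4, 5, 5, 1, 0, 0]
def t90 : HTree := splitS t89 6 5 3
def t91 : HTree := splitS t90 6 4 2
def t92 : HTree := splitS t91 6 3 1
def t93 : HTree := splitS t92 6 2 0
def t94 : HTree := splitA (skipZ 6) [1, 2, 3, 4, 5, 3, 1, 0, 0]
def t95 : HTree := splitA t94 [2, 4, 6, 8, 10, 5, 2, 0, 0]
def t96 : HTree := splitS t95 6 5 3
def t97 : HTree := splitS t96 6 4 2
def t98 : HTree := splitS t97 6 3 1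
def t99 : HTree := splitS t98 6 2 0
def t100 : HTree := split (skipZ 5) t87 t93 t99 (cert [1, 2, 3, 4, 5, 6, 0, 0, 0]) (cert [1, 2, 3, 4, 5, 2, 0, 0, 0]) (cert [1, 2, 3, 4, 5, 6, 0, 0, 0]) (cert [2, 4, 6, 8, 10, 3, 0, 0, 0]) (cert [1, 2, 3, 4, 5, 3, 0, 0, 0])
def t101 : HTree := splitA (skipZ 7) [1, 2, 3, 4, 2, 3, 2, 1, 0]
def t102 : HTree := splitA t101 [2, 4, 6, 8, 4, 6, 3, 1, 0]
def t103 : HTree := splitS t102 7 6 4
def t104 : HTree := splitS t103 7 6 3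
def t105 : HTree := splitS t104 7 4 2
def t106 : HTree := splitS t105 7 3 1
def t107 : HTree := splitS t106 7 2 0
def t108 : HTree := splitB (skipZ 6) t107 [1, 2, 3, 4, 2, 3, 2, 0, 0] [1, 2, 3, 4, 2, 3, 1, 0, 0]
def t109 : HTree := splitA (skipZ 7) [1, 2, 3, 4, 3, 2, 2, 1, 0]
def t110 : HTree := splitA t109 [3, 6, 9, 12, 8, 7, 4, 2, 0]
def t111 : HTree := splitA t110 [2, 4, 6, 8, 6, 4, 3, 1, 0]
def t112 : HTree := splitS t111 7 6 3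
def t113 : HTree := splitS t112 7 4 2
def t114 : HTree := splitS t113 7 3 1
def t115 : HTree := splitS t114 7 2 0
def t116 : HTree := splitA t115 [2, 4, 6, 8, 5, 5, 2, 0, 0]
def t117 : HTree := splitB t108 t116 [1, 2, 3, 4, 3, 2, 2, 0, 0] [1, 2, 3, 4, 3, 2, 1, 0, 0]
def t118 : HTree := splitA t117 [1, 2, 3, 4, 2, 2, 1, 0, 0]
def t119 : HTree := splitS t118 6 4 2
def t120 : HTree := splitS t119 6 3 1
def t121 : HTree := splitS t120 6 2 0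
def t122 : HTree := splitA t121 [1, 2, 3, 4, 3, 2, 0, 0, 0]
def t123 : HTree := splitB t100 t122 [1, 2, 3, 4, 2, 3, 0, 0, 0] [2, 4, 6, 8, 4, 3, 0, 0, 0]
def t124 : HTree := splitS t123 5 4 2
def t125 : HTree := splitS t124 5 3 1
def t126 : HTree := splitS t125 5 2 0
def t127 : HTree := splitA (skipZ 5) [1, 2, 3, 4, 5, 2, 0, 0, 0]
def t128 : HTree := splitA t127 [1, 2, 3, 4, 4, 1, 0, 0, 0]
def t129 : HTree := splitS t128 5 4 2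
def t130 : HTree := splitS t129 5 3 1
def t131 : HTree := splitS t130 5 2 0
def t132 : HTree := splitA (skipZ 5) [2, 4, 6, 8, 5, 2, 0, 0, 0]
def t133 : HTree := splitA t132 [1, 2, 3, 4, 2, 1, 0, 0, 0]
def t134 : HTree := splitS t133 5 4 2
def t135 : HTree := splitS t134 5 3 1
def t136 : HTree := splitS t135 5 2 0
def t137 : HTree := split (skipZ 4) t126 t131 t136 (cert [1, 2, 3, 4, 5, 0, 0, 0, 0]) (cert [3, 6, 9, 12, 5, 0, 0, 0, 0]) (cert [1, 2, 3, 4, 5, 0, 0, 0, 0]) (cert [4, 8, 12, 16, 5, 0, 0, 0, 0]) (cert [2, 4, 6, 8, 5, 0, 0, 0, 0])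
def t138 : HTree := splitB (skipZ 8) (leaf 7 [8, 7, 6, 5, 4, 2, 1, 0, 3]) [2, 4, 6, 3, 5, 4, 3, 2, 1] [4, 8, 12, 6, 10, 8, 6, 4, 1]
def t139 : HTree := splitA t138 [4, 8, 12, 6, 10, 8, 6, 3, 1]
def t140 : HTree := splitS t139 8 7 5
def t141 : HTree := splitS t140 8 6 4
def t142 : HTree := splitS t141 8 5 3
def t143 : HTree := splitS t142 8 5 2
def t144 : HTree := splitS t143 8 3 1
def t145 : HTree := splitS t144 8 2 0
def t146 : HTree := splitB (skipZ 7) t145 [2, 4, 6, 3, 5, 4, 3, 2, 0] [2, 4, 6, 3, 5, 4, 3, 1, 0]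
def t147 : HTree := splitA t146 [2, 4, 6, 3, 5, 4, 2, 1, 0]
def t148 : HTree := splitS t147 7 6 4
def t149 : HTree := splitS t148 7 5 3
def t150 : HTree := splitS t149 7 5 2
def t151 : HTree := splitS t150 7 3 1
def t152 : HTree := splitS t151 7 2 0
def t153 : HTree := splitB (skipZ 6) t152 [2, 4, 6, 3, 5, 4, 3, 0, 0] [4, 8, 12, 6, 10, 8, 3, 0, 0]
def t154 : HTree := splitA t153 [4, 8, 12, 6, 10, 5, 3, 0, 0]
def t155 : HTree := splitS t154 6 5 3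
def t156 : HTree := splitS t155 6 5 2
def t157 : HTree := splitS t156 6 3 1
def t158 : HTree := splitS t157 6 2 0
def t159 : HTree := splitB (skipZ 5) t158 [2, 4, 6, 3, 5, 4, 0, 0, 0] [2, 4, 6, 3, 5, 2, 0, 0, 0]
def t160 : HTree := splitB (skipZ 8) (leaf 7 [8, 7, 6, 5, 3, 2, 1, 0, 4]) [2, 4, 6, 5, 3, 4, 3, 2, 1] [4, 8, 12, 10, 6, 8, 6, 4, 1]
def t161 : HTree := splitA t160 [4, 8, 12, 10, 6, 8, 6, 3, 1]
def t162 : HTree := splitS t161 8 7 5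
def t163 : HTree := splitS t162 8 6 4
def t164 : HTree := splitS t163 8 6 3
def t165 : HTree := splitS t164 8 5 2
def t166 : HTree := splitS t165 8 3 1
def t167 : HTree := splitS t166 8 2 0
def t168 : HTree := splitB (skipZ 7) t167 [2, 4, 6, 5, 3, 4, 3, 2, 0] [2, 4, 6, 5, 3, 4, 3, 1, 0]
def t169 : HTree := splitA t168 [2, 4, 6, 5, 3, 4, 2, 1, 0]
def t170 : HTree := splitS t169 7 6 4
def t171 : HTree := splitS t170 7 6 3
def t172 : HTree := splitS t171 7 5 2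
def t173 : HTree := splitS t172 7 3 1
def t174 : HTree := splitS t173 7 2 0
def t175 : HTree := splitB (skipZ 6) t174 [2, 4, 6, 5, 3, 4, 3, 0, 0] [4, 8, 12, 10, 6, 8, 3, 0, 0]
def t176 : HTree := splitA t175 [1, 2, 3, 2, 2, 1, 1, 0, 0]
def t177 : HTree := splitA t176 [4, 8, 12, 10, 6, 5, 3, 0, 0]
def t178 : HTree := splitS t177 6 5 2
def t179 : HTree := splitS t178 6 3 1
def t180 : HTree := splitS t179 6 2 0
def t181 : HTree := splitA t180 [1, 2, 3, 2, 2, 1, 0, 0, 0]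
def t182 : HTree := splitB t159 t181 [2, 4, 6, 5, 3, 4, 0, 0, 0] [2, 4, 6, 5, 3, 2, 0, 0, 0]
def t183 : HTree := splitA t182 [2, 4, 6, 3, 3, 2, 0, 0, 0]
def t184 : HTree := splitS t183 5 3 1
def t185 : HTree := splitS t184 5 2 0
def t186 : HTree := splitA t185 [3, 6, 9, 7, 5, 0, 0, 0, 0]
def t187 : HTree := splitB t137 t186 [2, 4, 6, 3, 5, 0, 0, 0, 0] [4, 8, 12, 6, 5, 0, 0, 0, 0]
def t188 : HTree := splitS t187 4 3 1
def t189 : HTree := splitS t188 4 2 0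
def t190 : HTree := splitA (skipZ 4) [1, 2, 3, 4, 2, 0, 0, 0, 0]
def t191 : HTree := splitA t190 [1, 2, 3, 3, 1, 0, 0, 0, 0]
def t192 : HTree := splitS t191 4 3 1
def t193 : HTree := splitS t192 4 2 0
def t194 : HTree := splitA (skipZ 4) [1, 2, 3, 2, 1, 0, 0, 0, 0]
def t195 : HTree := splitA t194 [2, 4, 6, 3, 2, 0, 0, 0, 0]
def t196 : HTree := splitS t195 4 3 1
def t197 : HTree := splitS t196 4 2 0
def t198 : HTree := split (skipZ 3) t189 t193 t197 (cert [1, 2, 3, 4, 0, 0, 0, 0, 0]) (cert [3, 6, 9, 4, 0, 0, 0, 0, 0]) (cert [1, 2, 3, 4, 0, 0, 0, 0, 0]) (cert [1, 2, 3, 1, 0, 0, 0, 0, 0]) (cert [1, 2, 3, 2, 0, 0, 0, 0, 0])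
def t199 : HTree := split (skipZ 8) (fin [1, 2, 1, 2, 2, 2, 2, 2, 2]) (leaf 5 [8, 7, 6, 5, 4, 3, 1, 0, 2]) (leaf 4 [8, 7, 6, 5, 4, 3, 1, 0, 2]) (cert [1, 2, 1, 2, 2, 2, 2, 2, 2]) (cert [3, 6, 3, 6, 6, 6, 6, 6, 2]) (cert [1, 2, 1, 2, 2, 2, 2, 2, 2]) (cert [2, 4, 2, 4, 4, 4, 4, 4, 1]) (cert [1, 2, 1, 2, 2, 2, 2, 2, 1])
def t200 : HTree := splitA (leaf 6 [0, 2, 1, 3, 4, 5, 6, 7, 8]) [3, 6, 3, 6, 6, 6, 6, 4, 2]
def t201 : HTree := splitB t199 t200 [1, 2, 1, 2, 2, 2, 2, 1, 1] [2, 4, 2, 4, 4, 4, 4, 2, 1]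
def t202 : HTree := splitS t201 8 7 5
def t203 : HTree := splitS t202 8 6 4
def t204 : HTree := splitS t203 8 5 3
def t205 : HTree := splitS t204 8 4 2
def t206 : HTree := splitS t205 8 4 1
def t207 : HTree := splitS t206 8 2 0
def t208 : HTree := splitB (skipZ 7) t207 [1, 2, 1, 2, 2, 2, 2, 2, 0] [1, 2, 1, 2, 2, 2, 2, 1, 0]
def t209 : HTree := splitA t208 [1, 2, 1, 2, 2, 2, 1, 1, 0]
def t210 : HTree := splitS t209 7 6 4
def t211 : HTree := splitS t210 7 5 3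
def t212 : HTree := splitS t211 7 4 2
def t213 : HTree := splitS t212 7 4 1
def t214 : HTree := splitS t213 7 2 0
def t215 : HTree := splitB (skipZ 6) t214 [1, 2, 1, 2, 2, 2, 2, 0, 0] [1, 2, 1, 2, 2, 2, 1, 0, 0]
def t216 : HTree := splitA t215 [1, 2, 1, 2, 2, 1, 1, 0, 0]
def t217 : HTree := splitS t216 6 5 3
def t218 : HTree := splitS t217 6 4 2
def t219 : HTree := splitS t218 6 4 1
def t220 : HTree := splitS t219 6 2 0
def t221 : HTree := splitB (skipZ 5) t220 [1, 2, 1, 2, 2, 2, 0, 0, 0] [1, 2, 1, 2, 2, 1, 0, 0, 0]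
def t222 : HTree := splitA t221 [1, 2, 1, 2, 1, 1, 0, 0, 0]
def t223 : HTree := splitS t222 5 4 2
def t224 : HTree := splitS t223 5 4 1
def t225 : HTree := splitS t224 5 2 0
def t226 : HTree := splitB (skipZ 4) t225 [1, 2, 1, 2, 2, 0, 0, 0, 0] [1, 2, 1, 2, 1, 0, 0, 0, 0]
def t227 : HTree := split (skipZ 8) (fin [1, 2, 2, 1, 2, 2, 2, 2, 2]) (leaf 5 [8, 7, 6, 5, 4, 2, 1, 0, 3]) (leaf 4 [8, 7, 6, 5, 4, 2, 1, 0, 3]) (cert [1, 2, 2, 1, 2, 2, 2, 2, 2]) (cert [3, 6, 6, 3, 6, 6, 6, 6, 2]) (cert [1, 2, 2, 1, 2, 2, 2, 2, 2]) (cert [2, 4, 4, 2, 4, 4, 4, 4, 1]) (cert [1, 2, 2, 1, 2, 2, 2, 2, 1])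
def t228 : HTree := splitA (leaf 6 [0, 3, 1, 2, 4, 5, 6, 7, 8]) [3, 6, 6, 3, 6, 6, 6, 4, 2]
def t229 : HTree := splitB t227 t228 [1, 2, 2, 1, 2, 2, 2, 1, 1] [2, 4, 4, 2, 4, 4, 4, 2, 1]
def t230 : HTree := splitS t229 8 7 5
def t231 : HTree := splitS t230 8 6 4
def t232 : HTree := splitS t231 8 5 3
def t233 : HTree := splitS t232 8 5 2
def t234 : HTree := splitS t233 8 4 1
def t235 : HTree := splitS t234 8 2 0
def t236 : HTree := splitB (skipZ 7) t235 [1, 2, 2, 1, 2, 2, 2, 2, 0] [1, 2, 2, 1, 2, 2, 2, 1, 0]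
def t237 : HTree := splitA t236 [1, 2, 2, 1, 2, 2, 1, 1, 0]
def t238 : HTree := splitS t237 7 6 4
def t239 : HTree := splitS t238 7 5 3
def t240 : HTree := splitS t239 7 5 2
def t241 : HTree := splitS t240 7 4 1
def t242 : HTree := splitS t241 7 2 0
def t243 : HTree := splitB (skipZ 6) t242 [1, 2, 2, 1, 2, 2, 2, 0, 0] [1, 2, 2, 1, 2, 2, 1, 0, 0]
def t244 : HTree := splitA t243 [1, 2, 2, 1, 2, 1, 1, 0, 0]
def t245 : HTree := splitS t244 6 5 3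
def t246 : HTree := splitS t245 6 5 2
def t247 : HTree := splitS t246 6 4 1
def t248 : HTree := splitS t247 6 2 0
def t249 : HTree := splitB (skipZ 5) t248 [1, 2, 2, 1, 2, 2, 0, 0, 0] [1, 2, 2, 1, 2, 1, 0, 0, 0]
def t250 : HTree := splitB (skipZ 8) (leaf 7 [8, 7, 6, 5, 3, 1, 2, 4, 0]) [3, 6, 4, 5, 2, 4, 3, 2, 1] [6, 12, 8, 10, 4, 8, 6, 4, 1]
def t251 : HTree := splitA t250 [6, 12, 8, 10, 4, 8, 6, 3, 1]
def t252 : HTree := splitS t251 8 7 5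
def t253 : HTree := splitS t252 8 6 4
def t254 : HTree := splitS t253 8 6 3
def t255 : HTree := splitS t254 8 5 2
def t256 : HTree := splitS t255 8 4 1
def t257 : HTree := splitS t256 8 2 0
def t258 : HTree := splitB (skipZ 7) t257 [3, 6, 4, 5, 2, 4, 3, 2, 0] [3, 6, 4, 5, 2, 4, 3, 1, 0]
def t259 : HTree := splitA t258 [3, 6, 4, 5, 2, 4, 2, 1, 0]
def t260 : HTree := splitS t259 7 6 4
def t261 : HTree := splitS t260 7 6 3
def t262 : HTree := splitS t261 7 5 2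
def t263 : HTree := splitS t262 7 4 1
def t264 : HTree := splitS t263 7 2 0
def t265 : HTree := splitB (skipZ 6) t264 [3, 6, 4, 5, 2, 4, 3, 0, 0] [6, 12, 8, 10, 4, 8, 3, 0, 0]
def t266 : HTree := splitB (skipZ 8) (leaf 7 [8, 7, 6, 4, 2, 1, 3, 5, 0]) [3, 6, 5, 4, 4, 2, 3, 2, 1] [6, 12, 10, 8, 8, 4, 6, 4, 1]
def t267 : HTree := splitA t266 [6, 12, 10, 8, 8, 4, 6, 3, 1]
def t268 : HTree := splitS t267 8 7 5
def t269 : HTree := splitS t268 8 7 4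
def t270 : HTree := splitS t269 8 6 3
def t271 : HTree := splitS t270 8 5 2
def t272 : HTree := splitS t271 8 4 1
def t273 : HTree := splitS t272 8 2 0
def t274 : HTree := splitB (skipZ 7) t273 [3, 6, 5, 4, 4, 2, 3, 2, 0] [3, 6, 5, 4, 4, 2, 3, 1, 0]
def t275 : HTree := splitA t274 [2, 4, 3, 3, 2, 2, 1, 1, 0]
def t276 : HTree := splitA t275 [3, 6, 5, 4, 4, 2, 2, 1, 0]
def t277 : HTree := splitS t276 7 6 3
def t278 : HTree := splitS t277 7 5 2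
def t279 : HTree := splitS t278 7 4 1
def t280 : HTree := splitS t279 7 2 0
def t281 : HTree := splitA t280 [2, 4, 3, 3, 2, 2, 1, 0, 0]
def t282 : HTree := splitB t265 t281 [3, 6, 5, 4, 4, 2, 3, 0, 0] [6, 12, 10, 8, 8, 4, 3, 0, 0]
def t283 : HTree := splitA t282 [6, 12, 8, 10, 4, 5, 3, 0, 0]
def t284 : HTree := splitS t283 6 5 2
def t285 : HTree := splitS t284 6 4 1
def t286 : HTree := splitS t285 6 2 0
def t287 : HTree := splitA t286 [5, 10, 8, 7, 6, 4, 0, 0, 0]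
def t288 : HTree := splitB t249 t287 [3, 6, 4, 5, 2, 4, 0, 0, 0] [3, 6, 4, 5, 2, 2, 0, 0, 0]
def t289 : HTree := splitA t288 [1, 2, 2, 1, 1, 1, 0, 0, 0]
def t290 : HTree := splitS t289 5 4 1
def t291 : HTree := splitS t290 5 2 0
def t292 : HTree := splitA t291 [2, 4, 3, 3, 2, 0, 0, 0, 0]
def t293 : HTree := splitB t226 t292 [1, 2, 2, 1, 2, 0, 0, 0, 0] [1, 2, 2, 1, 1, 0, 0, 0, 0]
def t294 : HTree := splitA t293 [1, 2, 1, 1, 1, 0, 0, 0, 0]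
def t295 : HTree := splitS t294 4 2 0
def t296 : HTree := splitA t295 [3, 6, 5, 4, 0, 0, 0, 0, 0]
def t297 : HTree := splitB t198 t296 [1, 2, 1, 2, 0, 0, 0, 0, 0] [1, 2, 1, 1, 0, 0, 0, 0, 0]
def t298 : HTree := splitS t297 3 2 0
def t299 : HTree := splitA (skipZ 4) [1, 2, 3, 2, 1, 0, 0, 0, 0]
def t300 : HTree := splitA t299 [2, 4, 6, 3, 1, 0, 0, 0, 0]
def t301 : HTree := splitS t300 4 3 1
def t302 : HTree := splitS t301 4 2 0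
def t303 : HTree := splitB (skipZ 3) t302 [1, 2, 3, 2, 0, 0, 0, 0, 0] [1, 2, 3, 1, 0, 0, 0, 0, 0]
def t304 : HTree := splitA t303 [1, 2, 2, 1, 0, 0, 0, 0, 0]
def t305 : HTree := splitS t304 3 2 0
def t306 : HTree := splitA (skipZ 4) [2, 4, 3, 2, 1, 0, 0, 0, 0]
def t307 : HTree := splitA t306 [4, 8, 6, 3, 1, 0, 0, 0, 0]
def t308 : HTree := splitS t307 4 3 1
def t309 : HTree := splitS t308 4 2 0
def t310 : HTree := splitB (skipZ 3) t309 [2, 4, 3, 2, 0, 0, 0, 0, 0] [2, 4, 3, 1, 0, 0, 0, 0, 0]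
def t311 : HTree := splitA t310 [1, 2, 1, 1, 0, 0, 0, 0, 0]
def t312 : HTree := splitS t311 3 2 0
def t313 : HTree := split (skipZ 2) t298 t305 t312 (cert [1, 2, 3, 0, 0, 0, 0, 0, 0]) (cert [1, 2, 1, 0, 0, 0, 0, 0, 0]) (cert [1, 2, 3, 0, 0, 0, 0, 0, 0]) (cert [4, 8, 3, 0, 0, 0, 0, 0, 0]) (cert [2, 4, 3, 0, 0, 0, 0, 0, 0])
def t314 : HTree := split (skipZ 8) (fin [2, 1, 3, 4, 5, 6, 7, 8, 9]) (fin [2, 1, 3, 4, 5, 6, 7, 8, 9]) (fin [4, 2, 6, 8, 10, 12, 14, 16, 9]) (cert [2, 1, 3, 4, 5, 6, 7, 8, 9]) (cert [2, 1, 3, 4, 5, 6, 7, 8, 3]) (cert [2, 1, 3, 4, 5, 6, 7, 8, 9]) (cert [8, 4, 12, 16, 20, 24, 28, 32, 9]) (cert [4, 2, 6, 8, 10, 12, 14, 16, 9])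
def t315 : HTree := splitA (fin [4, 2, 6, 8, 10, 12, 14, 7, 9]) [2, 1, 3, 4, 5, 6, 7, 5, 3]
def t316 : HTree := splitB t314 t315 [4, 2, 6, 8, 10, 12, 14, 7, 9] [8, 4, 12, 16, 20, 24, 28, 14, 9]
def t317 : HTree := splitS t316 8 7 5
def t318 : HTree := splitS t317 8 6 4
def t319 : HTree := splitS t318 8 5 3
def t320 : HTree := splitS t319 8 4 2
def t321 : HTree := splitS t320 8 3 1
def t322 : HTree := splitS t321 8 3 0
def t323 : HTree := splitA (skipZ 8) [2, 1, 3, 4, 5, 6, 7, 8, 2]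
def t324 : HTree := splitA t323 [2, 1, 3, 4, 5, 6, 7, 7, 1]
def t325 : HTree := splitS t324 8 7 5
def t326 : HTree := splitS t325 8 6 4
def t327 : HTree := splitS t326 8 5 3
def t328 : HTree := splitS t327 8 4 2
def t329 : HTree := splitS t328 8 3 1
def t330 : HTree := splitS t329 8 3 0
def t331 : HTree := splitA (skipZ 8) [2, 1, 3, 4, 5, 6, 7, 4, 1]
def t332 : HTree := splitA t331 [4, 2, 6, 8, 10, 12, 14, 7, 2]
def t333 : HTree := splitS t332 8 7 5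
def t334 : HTree := splitS t333 8 6 4
def t335 : HTree := splitS t334 8 5 3
def t336 : HTree := splitS t335 8 4 2
def t337 : HTree := splitS t336 8 3 1
def t338 : HTree := splitS t337 8 3 0
def t339 : HTree := split (skipZ 7) t322 t330 t338 (cert [2, 1, 3, 4, 5, 6, 7, 8, 0]) (cert [6, 3, 9, 12, 15, 18, 21, 8, 0]) (cert [2, 1, 3, 4, 5, 6, 7, 8, 0]) (cert [2, 1, 3, 4, 5, 6, 7, 2, 0]) (cert [2, 1, 3, 4, 5, 6, 7, 4, 0])
def t340 : HTree := splitB (skipZ 8) (leaf 7 [1, 0, 2, 3, 4, 5, 7, 8, 6]) [2, 1, 3, 4, 5, 6, 3, 4, 2] [2, 1, 3, 4, 5, 6, 3, 4, 1]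
def t341 : HTree := splitA (leaf 7 [1, 0, 2, 3, 4, 5, 6, 8, 7]) [4, 2, 6, 8, 10, 12, 7, 7, 2]
def t342 : HTree := splitB t340 t341 [2, 1, 3, 4, 5, 6, 4, 3, 2] [2, 1, 3, 4, 5, 6, 4, 3, 1]
def t343 : HTree := splitA t342 [2, 1, 3, 4, 5, 6, 3, 3, 1]
def t344 : HTree := splitS t343 8 6 4
def t345 : HTree := splitS t344 8 5 3
def t346 : HTree := splitS t345 8 4 2
def t347 : HTree := splitS t346 8 3 1
def t348 : HTree := splitS t347 8 3 0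
def t349 : HTree := splitA t348 [6, 3, 9, 12, 15, 18, 13, 8, 0]
def t350 : HTree := splitB t339 t349 [2, 1, 3, 4, 5, 6, 3, 4, 0] [2, 1, 3, 4, 5, 6, 3, 2, 0]
def t351 : HTree := splitS t350 7 6 4
def t352 : HTree := splitS t351 7 5 3
def t353 : HTree := splitS t352 7 4 2
def t354 : HTree := splitS t353 7 3 1
def t355 : HTree := splitS t354 7 3 0
def t356 : HTree := splitA (skipZ 7) [2, 1, 3, 4, 5, 6, 7, 2, 0]
def t357 : HTree := splitA t356 [2, 1, 3, 4, 5, 6, 6, 1, 0]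
def t358 : HTree := splitS t357 7 6 4
def t359 : HTree := splitS t358 7 5 3
def t360 : HTree := splitS t359 7 4 2
def t361 : HTree := splitS t360 7 3 1
def t362 : HTree := splitS t361 7 3 0
def t363 : HTree := splitA (skipZ 7) [4, 2, 6, 8, 10, 12, 7, 2, 0]
def t364 : HTree := splitA t363 [2, 1, 3, 4, 5, 6, 3, 1, 0]
def t365 : HTree := splitS t364 7 6 4
def t366 : HTree := splitS t365 7 5 3
def t367 : HTree := splitS t366 7 4 2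
def t368 : HTree := splitS t367 7 3 1
def t369 : HTree := splitS t368 7 3 0
def t370 : HTree := split (skipZ 6) t355 t362 t369 (cert [2, 1, 3, 4, 5, 6, 7, 0, 0]) (cert [6, 3, 9, 12, 15, 18, 7, 0, 0]) (cert [2, 1, 3, 4, 5, 6, 7, 0, 0]) (cert [8, 4, 12, 16, 20, 24, 7, 0, 0]) (cert [4, 2, 6, 8, 10, 12, 7, 0, 0])
def t371 : HTree := splitA (skipZ 8) [4, 2, 6, 8, 10, 5, 7, 4, 1]
def t372 : HTree := splitA t371 [8, 4, 12, 16, 20, 10, 14, 7, 1]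
def t373 : HTree := splitS t372 8 7 5
def t374 : HTree := splitS t373 8 7 4
def t375 : HTree := splitS t374 8 5 3
def t376 : HTree := splitS t375 8 4 2
def t377 : HTree := splitS t376 8 3 1
def t378 : HTree := splitS t377 8 3 0
def t379 : HTree := splitB (skipZ 7) t378 [4, 2, 6, 8, 10, 5, 7, 4, 0] [4, 2, 6, 8, 10, 5, 7, 2, 0]
def t380 : HTree := splitA (skipZ 8) [4, 2, 6, 8, 10, 7, 5, 4, 1]
def t381 : HTree := splitA t380 [6, 3, 9, 12, 15, 10, 8, 5, 1]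
def t382 : HTree := splitA t381 [8, 4, 12, 16, 20, 14, 10, 7, 1]
def t383 : HTree := splitS t382 8 7 4
def t384 : HTree := splitS t383 8 5 3
def t385 : HTree := splitS t384 8 4 2
def t386 : HTree := splitS t385 8 3 1
def t387 : HTree := splitS t386 8 3 0
def t388 : HTree := splitA t387 [2, 1, 3, 4, 5, 3, 3, 1, 0]
def t389 : HTree := splitB t379 t388 [4, 2, 6, 8, 10, 7, 5, 4, 0] [4, 2, 6, 8, 10, 7, 5, 2, 0]
def t390 : HTree := splitA t389 [4, 2, 6, 8, 10, 5, 5, 2, 0]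
def t391 : HTree := splitS t390 7 5 3
def t392 : HTree := splitS t391 7 4 2
def t393 : HTree := splitS t392 7 3 1
def t394 : HTree := splitS t393 7 3 0
def t395 : HTree := splitA t394 [6, 3, 9, 12, 15, 11, 7, 0, 0]
def t396 : HTree := splitB t370 t395 [4, 2, 6, 8, 10, 5, 7, 0, 0] [8, 4, 12, 16, 20, 10, 7, 0, 0]
def t397 : HTree := splitS t396 6 5 3
def t398 : HTree := splitS t397 6 4 2
def t399 : HTree := splitS t398 6 3 1
def t400 : HTree := splitS t399 6 3 0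
def t401 : HTree := splitA (skipZ 6) [2, 1, 3, 4, 5, 6, 2, 0, 0]
def t402 : HTree := splitA t401 [2, 1, 3, 4, 5, 5, 1, 0, 0]
def t403 : HTree := splitS t402 6 5 3
def t404 : HTree := splitS t403 6 4 2
def t405 : HTree := splitS t404 6 3 1
def t406 : HTree := splitS t405 6 3 0
def t407 : HTree := splitA (skipZ 6) [2, 1, 3, 4, 5, 3, 1, 0, 0]
def t408 : HTree := splitA t407 [4, 2, 6, 8, 10, 5, 2, 0, 0]
def t409 : HTree := splitS t408 6 5 3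
def t410 : HTree := splitS t409 6 4 2
def t411 : HTree := splitS t410 6 3 1
def t412 : HTree := splitS t411 6 3 0
def t413 : HTree := split (skipZ 5) t400 t406 t412 (cert [2, 1, 3, 4, 5, 6, 0, 0, 0]) (cert [2, 1, 3, 4, 5, 2, 0, 0, 0]) (cert [2, 1, 3, 4, 5, 6, 0, 0, 0]) (cert [4, 2, 6, 8, 10, 3, 0, 0, 0]) (cert [2, 1, 3, 4, 5, 3, 0, 0, 0])
def t414 : HTree := splitA (skipZ 7) [2, 1, 3, 4, 2, 3, 2, 1, 0]
def t415 : HTree := splitA t414 [4, 2, 6, 8, 4, 6, 3, 1, 0]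
def t416 : HTree := splitS t415 7 6 4
def t417 : HTree := splitS t416 7 6 3
def t418 : HTree := splitS t417 7 4 2
def t419 : HTree := splitS t418 7 3 1
def t420 : HTree := splitS t419 7 3 0
def t421 : HTree := splitB (skipZ 6) t420 [2, 1, 3, 4, 2, 3, 2, 0, 0] [2, 1, 3, 4, 2, 3, 1, 0, 0]
def t422 : HTree := splitA (skipZ 7) [2, 1, 3, 4, 3, 2, 2, 1, 0]
def t423 : HTree := splitA t422 [6, 3, 9, 12, 8, 7, 4, 2, 0]
def t424 : HTree := splitA t423 [4, 2, 6, 8, 6, 4, 3, 1, 0]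
def t425 : HTree := splitS t424 7 6 3
def t426 : HTree := splitS t425 7 4 2
def t427 : HTree := splitS t426 7 3 1
def t428 : HTree := splitS t427 7 3 0
def t429 : HTree := splitA t428 [4, 2, 6, 8, 5, 5, 2, 0, 0]
def t430 : HTree := splitB t421 t429 [2, 1, 3, 4, 3, 2, 2, 0, 0] [2, 1, 3, 4, 3, 2, 1, 0, 0]
def t431 : HTree := splitA t430 [2, 1, 3, 4, 2, 2, 1, 0, 0]
def t432 : HTree := splitS t431 6 4 2
def t433 : HTree := splitS t432 6 3 1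
def t434 : HTree := splitS t433 6 3 0
def t435 : HTree := splitA t434 [2, 1, 3, 4, 3, 2, 0, 0, 0]
def t436 : HTree := splitB t413 t435 [2, 1, 3, 4, 2, 3, 0, 0, 0] [4, 2, 6, 8, 4, 3, 0, 0, 0]
def t437 : HTree := splitS t436 5 4 2
def t438 : HTree := splitS t437 5 3 1
def t439 : HTree := splitS t438 5 3 0
def t440 : HTree := splitA (skipZ 5) [2, 1, 3, 4, 5, 2, 0, 0, 0]
def t441 : HTree := splitA t440 [2, 1, 3, 4, 4, 1, 0, 0, 0]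
def t442 : HTree := splitS t441 5 4 2
def t443 : HTree := splitS t442 5 3 1
def t444 : HTree := splitS t443 5 3 0
def t445 : HTree := splitA (skipZ 5) [4, 2, 6, 8, 5, 2, 0, 0, 0]
def t446 : HTree := splitA t445 [2, 1, 3, 4, 2, 1, 0, 0, 0]
def t447 : HTree := splitS t446 5 4 2
def t448 : HTree := splitS t447 5 3 1
def t449 : HTree := splitS t448 5 3 0
def t450 : HTree := split (skipZ 4) t439 t444 t449 (cert [2, 1, 3, 4, 5, 0, 0, 0, 0]) (cert [6, 3, 9, 12, 5, 0, 0, 0, 0]) (cert [2, 1, 3, 4, 5, 0, 0, 0, 0]) (cert [8, 4, 12, 16, 5, 0, 0, 0, 0]) (cert [4, 2, 6, 8, 5, 0, 0, 0, 0])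
def t451 : HTree := splitB (skipZ 8) (leaf 7 [8, 7, 6, 5, 4, 2, 0, 1, 3]) [4, 2, 6, 3, 5, 4, 3, 2, 1] [8, 4, 12, 6, 10, 8, 6, 4, 1]
def t452 : HTree := splitA t451 [8, 4, 12, 6, 10, 8, 6, 3, 1]
def t453 : HTree := splitS t452 8 7 5
def t454 : HTree := splitS t453 8 6 4
def t455 : HTree := splitS t454 8 5 3
def t456 : HTree := splitS t455 8 5 2
def t457 : HTree := splitS t456 8 3 1
def t458 : HTree := splitS t457 8 3 0
def t459 : HTree := splitB (skipZ 7) t458 [4, 2, 6, 3, 5, 4, 3, 2, 0] [4, 2, 6, 3, 5, 4, 3, 1, 0]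
def t460 : HTree := splitA t459 [4, 2, 6, 3, 5, 4, 2, 1, 0]
def t461 : HTree := splitS t460 7 6 4
def t462 : HTree := splitS t461 7 5 3
def t463 : HTree := splitS t462 7 5 2
def t464 : HTree := splitS t463 7 3 1
def t465 : HTree := splitS t464 7 3 0
def t466 : HTree := splitB (skipZ 6) t465 [4, 2, 6, 3, 5, 4, 3, 0, 0] [8, 4, 12, 6, 10, 8, 3, 0, 0]
def t467 : HTree := splitA t466 [8, 4, 12, 6, 10, 5, 3, 0, 0]
def t468 : HTree := splitS t467 6 5 3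
def t469 : HTree := splitS t468 6 5 2
def t470 : HTree := splitS t469 6 3 1
def t471 : HTree := splitS t470 6 3 0
def t472 : HTree := splitB (skipZ 5) t471 [4, 2, 6, 3, 5, 4, 0, 0, 0] [4, 2, 6, 3, 5, 2, 0, 0, 0]
def t473 : HTree := splitB (skipZ 8) (leaf 7 [8, 7, 6, 5, 3, 2, 0, 1, 4]) [4, 2, 6, 5, 3, 4, 3, 2, 1] [8, 4, 12, 10, 6, 8, 6, 4, 1]
def t474 : HTree := splitA t473 [8, 4, 12, 10, 6, 8, 6, 3, 1]
def t475 : HTree := splitS t474 8 7 5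
def t476 : HTree := splitS t475 8 6 4
def t477 : HTree := splitS t476 8 6 3
def t478 : HTree := splitS t477 8 5 2
def t479 : HTree := splitS t478 8 3 1
def t480 : HTree := splitS t479 8 3 0
def t481 : HTree := splitB (skipZ 7) t480 [4, 2, 6, 5, 3, 4, 3, 2, 0] [4, 2, 6, 5, 3, 4, 3, 1, 0]
def t482 : HTree := splitA t481 [4, 2, 6, 5, 3, 4, 2, 1, 0]
def t483 : HTree := splitS t482 7 6 4
def t484 : HTree := splitS t483 7 6 3
def t485 : HTree := splitS t484 7 5 2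
def t486 : HTree := splitS t485 7 3 1
def t487 : HTree := splitS t486 7 3 0
def t488 : HTree := splitB (skipZ 6) t487 [4, 2, 6, 5, 3, 4, 3, 0, 0] [8, 4, 12, 10, 6, 8, 3, 0, 0]
def t489 : HTree := splitA t488 [2, 1, 3, 2, 2, 1, 1, 0, 0]
def t490 : HTree := splitA t489 [8, 4, 12, 10, 6, 5, 3, 0, 0]
def t491 : HTree := splitS t490 6 5 2
def t492 : HTree := splitS t491 6 3 1
def t493 : HTree := splitS t492 6 3 0
def t494 : HTree := splitA t493 [2, 1, 3, 2, 2, 1, 0, 0, 0]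
def t495 : HTree := splitB t472 t494 [4, 2, 6, 5, 3, 4, 0, 0, 0] [4, 2, 6, 5, 3, 2, 0, 0, 0]
def t496 : HTree := splitA t495 [4, 2, 6, 3, 3, 2, 0, 0, 0]
def t497 : HTree := splitS t496 5 3 1
def t498 : HTree := splitS t497 5 3 0
def t499 : HTree := splitA t498 [6, 3, 9, 7, 5, 0, 0, 0, 0]
def t500 : HTree := splitB t450 t499 [4, 2, 6, 3, 5, 0, 0, 0, 0] [8, 4, 12, 6, 5, 0, 0, 0, 0]
def t501 : HTree := splitS t500 4 3 1
def t502 : HTree := splitS t501 4 3 0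
def t503 : HTree := splitA (skipZ 4) [2, 1, 3, 4, 2, 0, 0, 0, 0]
def t504 : HTree := splitA t503 [2, 1, 3, 3, 1, 0, 0, 0, 0]
def t505 : HTree := splitS t504 4 3 1
def t506 : HTree := splitS t505 4 3 0
def t507 : HTree := splitA (skipZ 4) [2, 1, 3, 2, 1, 0, 0, 0, 0]
def t508 : HTree := splitA t507 [4, 2, 6, 3, 2, 0, 0, 0, 0]
def t509 : HTree := splitS t508 4 3 1
def t510 : HTree := splitS t509 4 3 0
def t511 : HTree := split (skipZ 3) t502 t506 t510 (cert [2, 1, 3, 4, 0, 0, 0, 0, 0]) (cert [6, 3, 9, 4, 0, 0, 0, 0, 0]) (cert [2, 1, 3, 4, 0, 0, 0, 0, 0]) (cert [2, 1, 3, 1, 0, 0, 0, 0, 0]) (cert [2, 1, 3, 2, 0, 0, 0, 0, 0])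
def t512 : HTree := split (skipZ 8) (fin [2, 3, 1, 4, 5, 6, 7, 8, 9]) (fin [2, 3, 1, 4, 5, 6, 7, 8, 9]) (fin [4, 6, 2, 8, 10, 12, 14, 16, 9]) (cert [2, 3, 1, 4, 5, 6, 7, 8, 9]) (cert [2, 3, 1, 4, 5, 6, 7, 8, 3]) (cert [2, 3, 1, 4, 5, 6, 7, 8, 9]) (cert [8, 12, 4, 16, 20, 24, 28, 32, 9]) (cert [4, 6, 2, 8, 10, 12, 14, 16, 9])
def t513 : HTree := splitA (fin [4, 6, 2, 8, 10, 12, 14, 7, 9]) [2, 3, 1, 4, 5, 6, 7, 5, 3]
def t514 : HTree := splitB t512 t513 [4, 6, 2, 8, 10, 12, 14, 7, 9] [8, 12, 4, 16, 20, 24, 28, 14, 9]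
def t515 : HTree := splitS t514 8 7 5
def t516 : HTree := splitS t515 8 6 4
def t517 : HTree := splitS t516 8 5 3
def t518 : HTree := splitS t517 8 4 2
def t519 : HTree := splitS t518 8 4 1
def t520 : HTree := splitS t519 8 3 0
def t521 : HTree := splitA (skipZ 8) [2, 3, 1, 4, 5, 6, 7, 8, 2]
def t522 : HTree := splitA t521 [2, 3, 1, 4, 5, 6, 7, 7, 1]
def t523 : HTree := splitS t522 8 7 5
def t524 : HTree := splitS t523 8 6 4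
def t525 : HTree := splitS t524 8 5 3
def t526 : HTree := splitS t525 8 4 2
def t527 : HTree := splitS t526 8 4 1
def t528 : HTree := splitS t527 8 3 0
def t529 : HTree := splitA (skipZ 8) [2, 3, 1, 4, 5, 6, 7, 4, 1]
def t530 : HTree := splitA t529 [4, 6, 2, 8, 10, 12, 14, 7, 2]
def t531 : HTree := splitS t530 8 7 5
def t532 : HTree := splitS t531 8 6 4
def t533 : HTree := splitS t532 8 5 3
def t534 : HTree := splitS t533 8 4 2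
def t535 : HTree := splitS t534 8 4 1
def t536 : HTree := splitS t535 8 3 0
def t537 : HTree := split (skipZ 7) t520 t528 t536 (cert [2, 3, 1, 4, 5, 6, 7, 8, 0]) (cert [6, 9, 3, 12, 15, 18, 21, 8, 0]) (cert [2, 3, 1, 4, 5, 6, 7, 8, 0]) (cert [2, 3, 1, 4, 5, 6, 7, 2, 0]) (cert [2, 3, 1, 4, 5, 6, 7, 4, 0])
def t538 : HTree := splitB (skipZ 8) (leaf 7 [2, 0, 1, 3, 4, 5, 7, 8, 6]) [2, 3, 1, 4, 5, 6, 3, 4, 2] [2, 3, 1, 4, 5, 6, 3, 4, 1]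
def t539 : HTree := splitA (leaf 7 [2, 0, 1, 3, 4, 5, 6, 8, 7]) [4, 6, 2, 8, 10, 12, 7, 7, 2]
def t540 : HTree := splitB t538 t539 [2, 3, 1, 4, 5, 6, 4, 3, 2] [2, 3, 1, 4, 5, 6, 4, 3, 1]
def t541 : HTree := splitA t540 [2, 3, 1, 4, 5, 6, 3, 3, 1]
def t542 : HTree := splitS t541 8 6 4
def t543 : HTree := splitS t542 8 5 3
def t544 : HTree := splitS t543 8 4 2
def t545 : HTree := splitS t544 8 4 1
def t546 : HTree := splitS t545 8 3 0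
def t547 : HTree := splitA t546 [6, 9, 3, 12, 15, 18, 13, 8, 0]
def t548 : HTree := splitB t537 t547 [2, 3, 1, 4, 5, 6, 3, 4, 0] [2, 3, 1, 4, 5, 6, 3, 2, 0]
def t549 : HTree := splitS t548 7 6 4
def t550 : HTree := splitS t549 7 5 3
def t551 : HTree := splitS t550 7 4 2
def t552 : HTree := splitS t551 7 4 1
def t553 : HTree := splitS t552 7 3 0
def t554 : HTree := splitA (skipZ 7) [2, 3, 1, 4, 5, 6, 7, 2, 0]
def t555 : HTree := splitA t554 [2, 3, 1, 4, 5, 6, 6, 1, 0]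
def t556 : HTree := splitS t555 7 6 4
def t557 : HTree := splitS t556 7 5 3
def t558 : HTree := splitS t557 7 4 2
def t559 : HTree := splitS t558 7 4 1
def t560 : HTree := splitS t559 7 3 0
def t561 : HTree := splitA (skipZ 7) [4, 6, 2, 8, 10, 12, 7, 2, 0]
def t562 : HTree := splitA t561 [2, 3, 1, 4, 5, 6, 3, 1, 0]
def t563 : HTree := splitS t562 7 6 4
def t564 : HTree := splitS t563 7 5 3
def t565 : HTree := splitS t564 7 4 2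
def t566 : HTree := splitS t565 7 4 1
def t567 : HTree := splitS t566 7 3 0
def t568 : HTree := split (skipZ 6) t553 t560 t567 (cert [2, 3, 1, 4, 5, 6, 7, 0, 0]) (cert [6, 9, 3, 12, 15, 18, 7, 0, 0]) (cert [2, 3, 1, 4, 5, 6, 7, 0, 0]) (cert [8, 12, 4, 16, 20, 24, 7, 0, 0]) (cert [4, 6, 2, 8, 10, 12, 7, 0, 0])
def t569 : HTree := splitA (skipZ 8) [4, 6, 2, 8, 10, 5, 7, 4, 1]
def t570 : HTree := splitA t569 [8, 12, 4, 16, 20, 10, 14, 7, 1]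
def t571 : HTree := splitS t570 8 7 5
def t572 : HTree := splitS t571 8 7 4
def t573 : HTree := splitS t572 8 5 3
def t574 : HTree := splitS t573 8 4 2
def t575 : HTree := splitS t574 8 4 1
def t576 : HTree := splitS t575 8 3 0
def t577 : HTree := splitB (skipZ 7) t576 [4, 6, 2, 8, 10, 5, 7, 4, 0] [4, 6, 2, 8, 10, 5, 7, 2, 0]
def t578 : HTree := splitA (skipZ 8) [4, 6, 2, 8, 10, 7, 5, 4, 1]
def t579 : HTree := splitA t578 [6, 9, 3, 12, 15, 10, 8, 5, 1]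
def t580 : HTree := splitA t579 [8, 12, 4, 16, 20, 14, 10, 7, 1]
def t581 : HTree := splitS t580 8 7 4
def t582 : HTree := splitS t581 8 5 3
def t583 : HTree := splitS t582 8 4 2
def t584 : HTree := splitS t583 8 4 1
def t585 : HTree := splitS t584 8 3 0
def t586 : HTree := splitA t585 [2, 3, 1, 4, 5, 3, 3, 1, 0]
def t587 : HTree := splitB t577 t586 [4, 6, 2, 8, 10, 7, 5, 4, 0] [4, 6, 2, 8, 10, 7, 5, 2, 0]
def t588 : HTree := splitA t587 [4, 6, 2, 8, 10, 5, 5, 2, 0]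
def t589 : HTree := splitS t588 7 5 3
def t590 : HTree := splitS t589 7 4 2
def t591 : HTree := splitS t590 7 4 1
def t592 : HTree := splitS t591 7 3 0
def t593 : HTree := splitA t592 [6, 9, 3, 12, 15, 11, 7, 0, 0]
def t594 : HTree := splitB t568 t593 [4, 6, 2, 8, 10, 5, 7, 0, 0] [8, 12, 4, 16, 20, 10, 7, 0, 0]
def t595 : HTree := splitS t594 6 5 3
def t596 : HTree := splitS t595 6 4 2
def t597 : HTree := splitS t596 6 4 1
def t598 : HTree := splitS t597 6 3 0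
def t599 : HTree := splitA (skipZ 6) [2, 3, 1, 4, 5, 6, 2, 0, 0]
def t600 : HTree := splitA t599 [2, 3, 1, 4, 5, 5, 1, 0, 0]
def t601 : HTree := splitS t600 6 5 3
def t602 : HTree := splitS t601 6 4 2
def t603 : HTree := splitS t602 6 4 1
def t604 : HTree := splitS t603 6 3 0
def t605 : HTree := splitA (skipZ 6) [2, 3, 1, 4, 5, 3, 1, 0, 0]
def t606 : HTree := splitA t605 [4, 6, 2, 8, 10, 5, 2, 0, 0]
def t607 : HTree := splitS t606 6 5 3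
def t608 : HTree := splitS t607 6 4 2
def t609 : HTree := splitS t608 6 4 1
def t610 : HTree := splitS t609 6 3 0
def t611 : HTree := split (skipZ 5) t598 t604 t610 (cert [2, 3, 1, 4, 5, 6, 0, 0, 0]) (cert [2, 3, 1, 4, 5, 2, 0, 0, 0]) (cert [2, 3, 1, 4, 5, 6, 0, 0, 0]) (cert [4, 6, 2, 8, 10, 3, 0, 0, 0]) (cert [2, 3, 1, 4, 5, 3, 0, 0, 0])
def t612 : HTree := splitA (skipZ 7) [2, 3, 1, 4, 2, 3, 2, 1, 0]
def t613 : HTree := splitA t612 [4, 6, 2, 8, 4, 6, 3, 1, 0]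
def t614 : HTree := splitS t613 7 6 4
def t615 : HTree := splitS t614 7 6 3
def t616 : HTree := splitS t615 7 4 2
def t617 : HTree := splitS t616 7 4 1
def t618 : HTree := splitS t617 7 3 0
def t619 : HTree := splitB (skipZ 6) t618 [2, 3, 1, 4, 2, 3, 2, 0, 0] [2, 3, 1, 4, 2, 3, 1, 0, 0]
def t620 : HTree := splitA (skipZ 7) [2, 3, 1, 4, 3, 2, 2, 1, 0]
def t621 : HTree := splitA t620 [6, 9, 3, 12, 8, 7, 4, 2, 0]
def t622 : HTree := splitA t621 [4, 6, 2, 8, 6, 4, 3, 1, 0]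
def t623 : HTree := splitS t622 7 6 3
def t624 : HTree := splitS t623 7 4 2
def t625 : HTree := splitS t624 7 4 1
def t626 : HTree := splitS t625 7 3 0
def t627 : HTree := splitA t626 [4, 6, 2, 8, 5, 5, 2, 0, 0]
def t628 : HTree := splitB t619 t627 [2, 3, 1, 4, 3, 2, 2, 0, 0] [2, 3, 1, 4, 3, 2, 1, 0, 0]
def t629 : HTree := splitA t628 [2, 3, 1, 4, 2, 2, 1, 0, 0]
def t630 : HTree := splitS t629 6 4 2
def t631 : HTree := splitS t630 6 4 1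
def t632 : HTree := splitS t631 6 3 0
def t633 : HTree := splitA t632 [2, 3, 1, 4, 3, 2, 0, 0, 0]
def t634 : HTree := splitB t611 t633 [2, 3, 1, 4, 2, 3, 0, 0, 0] [4, 6, 2, 8, 4, 3, 0, 0, 0]
def t635 : HTree := splitS t634 5 4 2
def t636 : HTree := splitS t635 5 4 1
def t637 : HTree := splitS t636 5 3 0
def t638 : HTree := splitA (skipZ 5) [2, 3, 1, 4, 5, 2, 0, 0, 0]
def t639 : HTree := splitA t638 [2, 3, 1, 4, 4, 1, 0, 0, 0]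
def t640 : HTree := splitS t639 5 4 2
def t641 : HTree := splitS t640 5 4 1
def t642 : HTree := splitS t641 5 3 0
def t643 : HTree := splitA (skipZ 5) [4, 6, 2, 8, 5, 2, 0, 0, 0]
def t644 : HTree := splitA t643 [2, 3, 1, 4, 2, 1, 0, 0, 0]
def t645 : HTree := splitS t644 5 4 2
def t646 : HTree := splitS t645 5 4 1
def t647 : HTree := splitS t646 5 3 0
def t648 : HTree := split (skipZ 4) t637 t642 t647 (cert [2, 3, 1, 4, 5, 0, 0, 0, 0]) (cert [6, 9, 3, 12, 5, 0, 0, 0, 0]) (cert [2, 3, 1, 4, 5, 0, 0, 0, 0]) (cert [8, 12, 4, 16, 5, 0, 0, 0, 0]) (cert [4, 6, 2, 8, 5, 0, 0, 0, 0])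
def t649 : HTree := split (skipZ 8) (fin [3, 2, 4, 1, 5, 6, 7, 8, 9]) (fin [3, 2, 4, 1, 5, 6, 7, 8, 9]) (fin [6, 4, 8, 2, 10, 12, 14, 16, 9]) (cert [3, 2, 4, 1, 5, 6, 7, 8, 9]) (cert [3, 2, 4, 1, 5, 6, 7, 8, 3]) (cert [3, 2, 4, 1, 5, 6, 7, 8, 9]) (cert [12, 8, 16, 4, 20, 24, 28, 32, 9]) (cert [6, 4, 8, 2, 10, 12, 14, 16, 9])
def t650 : HTree := splitA (fin [6, 4, 8, 2, 10, 12, 14, 7, 9]) [3, 2, 4, 1, 5, 6, 7, 5, 3]
def t651 : HTree := splitB t649 t650 [6, 4, 8, 2, 10, 12, 14, 7, 9] [12, 8, 16, 4, 20, 24, 28, 14, 9]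
def t652 : HTree := splitS t651 8 7 5
def t653 : HTree := splitS t652 8 6 4
def t654 : HTree := splitS t653 8 5 3
def t655 : HTree := splitS t654 8 5 2
def t656 : HTree := splitS t655 8 4 1
def t657 : HTree := splitS t656 8 3 0
def t658 : HTree := splitA (skipZ 8) [3, 2, 4, 1, 5, 6, 7, 8, 2]
def t659 : HTree := splitA t658 [3, 2, 4, 1, 5, 6, 7, 7, 1]
def t660 : HTree := splitS t659 8 7 5
def t661 : HTree := splitS t660 8 6 4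
def t662 : HTree := splitS t661 8 5 3
def t663 : HTree := splitS t662 8 5 2
def t664 : HTree := splitS t663 8 4 1
def t665 : HTree := splitS t664 8 3 0
def t666 : HTree := splitA (skipZ 8) [3, 2, 4, 1, 5, 6, 7, 4, 1]
def t667 : HTree := splitA t666 [6, 4, 8, 2, 10, 12, 14, 7, 2]
def t668 : HTree := splitS t667 8 7 5
def t669 : HTree := splitS t668 8 6 4
def t670 : HTree := splitS t669 8 5 3
def t671 : HTree := splitS t670 8 5 2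
def t672 : HTree := splitS t671 8 4 1
def t673 : HTree := splitS t672 8 3 0
def t674 : HTree := split (skipZ 7) t657 t665 t673 (cert [3, 2, 4, 1, 5, 6, 7, 8, 0]) (cert [9, 6, 12, 3, 15, 18, 21, 8, 0]) (cert [3, 2, 4, 1, 5, 6, 7, 8, 0]) (cert [3, 2, 4, 1, 5, 6, 7, 2, 0]) (cert [3, 2, 4, 1, 5, 6, 7, 4, 0])
def t675 : HTree := splitB (skipZ 8) (leaf 7 [3, 1, 0, 2, 4, 5, 7, 8, 6]) [3, 2, 4, 1, 5, 6, 3, 4, 2] [3, 2, 4, 1, 5, 6, 3, 4, 1]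
def t676 : HTree := splitA (leaf 7 [3, 1, 0, 2, 4, 5, 6, 8, 7]) [6, 4, 8, 2, 10, 12, 7, 7, 2]
def t677 : HTree := splitB t675 t676 [3, 2, 4, 1, 5, 6, 4, 3, 2] [3, 2, 4, 1, 5, 6, 4, 3, 1]
def t678 : HTree := splitA t677 [3, 2, 4, 1, 5, 6, 3, 3, 1]
def t679 : HTree := splitS t678 8 6 4
def t680 : HTree := splitS t679 8 5 3
def t681 : HTree := splitS t680 8 5 2
def t682 : HTree := splitS t681 8 4 1
def t683 : HTree := splitS t682 8 3 0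
def t684 : HTree := splitA t683 [9, 6, 12, 3, 15, 18, 13, 8, 0]
def t685 : HTree := splitB t674 t684 [3, 2, 4, 1, 5, 6, 3, 4, 0] [3, 2, 4, 1, 5, 6, 3, 2, 0]
def t686 : HTree := splitS t685 7 6 4
def t687 : HTree := splitS t686 7 5 3
def t688 : HTree := splitS t687 7 5 2
def t689 : HTree := splitS t688 7 4 1
def t690 : HTree := splitS t689 7 3 0
def t691 : HTree := splitA (skipZ 7) [3, 2, 4, 1, 5, 6, 7, 2, 0]
def t692 : HTree := splitA t691 [3, 2, 4, 1, 5, 6, 6, 1, 0]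
def t693 : HTree := splitS t692 7 6 4
def t694 : HTree := splitS t693 7 5 3
def t695 : HTree := splitS t694 7 5 2
def t696 : HTree := splitS t695 7 4 1
def t697 : HTree := splitS t696 7 3 0
def t698 : HTree := splitA (skipZ 7) [6, 4, 8, 2, 10, 12, 7, 2, 0]
def t699 : HTree := splitA t698 [3, 2, 4, 1, 5, 6, 3, 1, 0]
def t700 : HTree := splitS t699 7 6 4
def t701 : HTree := splitS t700 7 5 3
def t702 : HTree := splitS t701 7 5 2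
def t703 : HTree := splitS t702 7 4 1
def t704 : HTree := splitS t703 7 3 0
def t705 : HTree := split (skipZ 6) t690 t697 t704 (cert [3, 2, 4, 1, 5, 6, 7, 0, 0]) (cert [9, 6, 12, 3, 15, 18, 7, 0, 0]) (cert [3, 2, 4, 1, 5, 6, 7, 0, 0]) (cert [12, 8, 16, 4, 20, 24, 7, 0, 0]) (cert [6, 4, 8, 2, 10, 12, 7, 0, 0])
def t706 : HTree := splitA (skipZ 8) [6, 4, 8, 2, 10, 5, 7, 4, 1]
def t707 : HTree := splitA t706 [12, 8, 16, 4, 20, 10, 14, 7, 1]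
def t708 : HTree := splitS t707 8 7 5
def t709 : HTree := splitS t708 8 7 4
def t710 : HTree := splitS t709 8 5 3
def t711 : HTree := splitS t710 8 5 2
def t712 : HTree := splitS t711 8 4 1
def t713 : HTree := splitS t712 8 3 0
def t714 : HTree := splitB (skipZ 7) t713 [6, 4, 8, 2, 10, 5, 7, 4, 0] [6, 4, 8, 2, 10, 5, 7, 2, 0]
def t715 : HTree := splitA (skipZ 8) [6, 4, 8, 2, 10, 7, 5, 4, 1]
def t716 : HTree := splitA t715 [9, 6, 12, 3, 15, 10, 8, 5, 1]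
def t717 : HTree := splitA t716 [12, 8, 16, 4, 20, 14, 10, 7, 1]
def t718 : HTree := splitS t717 8 7 4
def t719 : HTree := splitS t718 8 5 3
def t720 : HTree := splitS t719 8 5 2
def t721 : HTree := splitS t720 8 4 1
def t722 : HTree := splitS t721 8 3 0
def t723 : HTree := splitA t722 [3, 2, 4, 1, 5, 3, 3, 1, 0]
def t724 : HTree := splitB t714 t723 [6, 4, 8, 2, 10, 7, 5, 4, 0] [6, 4, 8, 2, 10, 7, 5, 2, 0]
def t725 : HTree := splitA t724 [6, 4, 8, 2, 10, 5, 5, 2, 0]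
def t726 : HTree := splitS t725 7 5 3
def t727 : HTree := splitS t726 7 5 2
def t728 : HTree := splitS t727 7 4 1
def t729 : HTree := splitS t728 7 3 0
def t730 : HTree := splitA t729 [9, 6, 12, 3, 15, 11, 7, 0, 0]
def t731 : HTree := splitB t705 t730 [6, 4, 8, 2, 10, 5, 7, 0, 0] [12, 8, 16, 4, 20, 10, 7, 0, 0]
def t732 : HTree := splitS t731 6 5 3
def t733 : HTree := splitS t732 6 5 2
def t734 : HTree := splitS t733 6 4 1
def t735 : HTree := splitS t734 6 3 0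
def t736 : HTree := splitA (skipZ 6) [3, 2, 4, 1, 5, 6, 2, 0, 0]
def t737 : HTree := splitA t736 [3, 2, 4, 1, 5, 5, 1, 0, 0]
def t738 : HTree := splitS t737 6 5 3
def t739 : HTree := splitS t738 6 5 2
def t740 : HTree := splitS t739 6 4 1
def t741 : HTree := splitS t740 6 3 0
def t742 : HTree := splitA (skipZ 6) [3, 2, 4, 1, 5, 3, 1, 0, 0]
def t743 : HTree := splitA t742 [6, 4, 8, 2, 10, 5, 2, 0, 0]
def t744 : HTree := splitS t743 6 5 3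
def t745 : HTree := splitS t744 6 5 2
def t746 : HTree := splitS t745 6 4 1
def t747 : HTree := splitS t746 6 3 0
def t748 : HTree := split (skipZ 5) t735 t741 t747 (cert [3, 2, 4, 1, 5, 6, 0, 0, 0]) (cert [3, 2, 4, 1, 5, 2, 0, 0, 0]) (cert [3, 2, 4, 1, 5, 6, 0, 0, 0]) (cert [6, 4, 8, 2, 10, 3, 0, 0, 0]) (cert [3, 2, 4, 1, 5, 3, 0, 0, 0])
def t749 : HTree := split (skipZ 8) (fin [3, 4, 2, 5, 1, 6, 7, 8, 9]) (fin [3, 4, 2, 5, 1, 6, 7, 8, 9]) (fin [6, 8, 4, 10, 2, 12, 14, 16, 9]) (cert [3, 4, 2, 5, 1, 6, 7, 8, 9]) (cert [3, 4, 2, 5, 1, 6, 7, 8, 3]) (cert [3, 4, 2, 5, 1, 6, 7, 8, 9]) (cert [12, 16, 8, 20, 4, 24, 28, 32, 9]) (cert [6, 8, 4, 10, 2, 12, 14, 16, 9])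
def t750 : HTree := splitA (fin [6, 8, 4, 10, 2, 12, 14, 7, 9]) [3, 4, 2, 5, 1, 6, 7, 5, 3]
def t751 : HTree := splitB t749 t750 [6, 8, 4, 10, 2, 12, 14, 7, 9] [12, 16, 8, 20, 4, 24, 28, 14, 9]
def t752 : HTree := splitS t751 8 7 5
def t753 : HTree := splitS t752 8 6 4
def t754 : HTree := splitS t753 8 6 3
def t755 : HTree := splitS t754 8 5 2
def t756 : HTree := splitS t755 8 4 1
def t757 : HTree := splitS t756 8 3 0
def t758 : HTree := splitA (skipZ 8) [3, 4, 2, 5, 1, 6, 7, 8, 2]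
def t759 : HTree := splitA t758 [3, 4, 2, 5, 1, 6, 7, 7, 1]
def t760 : HTree := splitS t759 8 7 5
def t761 : HTree := splitS t760 8 6 4
def t762 : HTree := splitS t761 8 6 3
def t763 : HTree := splitS t762 8 5 2
def t764 : HTree := splitS t763 8 4 1
def t765 : HTree := splitS t764 8 3 0
def t766 : HTree := splitA (skipZ 8) [3, 4, 2, 5, 1, 6, 7, 4, 1]
def t767 : HTree := splitA t766 [6, 8, 4, 10, 2, 12, 14, 7, 2]
def t768 : HTree := splitS t767 8 7 5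
def t769 : HTree := splitS t768 8 6 4
def t770 : HTree := splitS t769 8 6 3
def t771 : HTree := splitS t770 8 5 2
def t772 : HTree := splitS t771 8 4 1
def t773 : HTree := splitS t772 8 3 0
def t774 : HTree := split (skipZ 7) t757 t765 t773 (cert [3, 4, 2, 5, 1, 6, 7, 8, 0]) (cert [9, 12, 6, 15, 3, 18, 21, 8, 0]) (cert [3, 4, 2, 5, 1, 6, 7, 8, 0]) (cert [3, 4, 2, 5, 1, 6, 7, 2, 0]) (cert [3, 4, 2, 5, 1, 6, 7, 4, 0])
def t775 : HTree := splitB (skipZ 8) (leaf 7 [4, 2, 0, 1, 3, 5, 7, 8, 6]) [3, 4, 2, 5, 1, 6, 3, 4, 2] [3, 4, 2, 5, 1, 6, 3, 4, 1]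
def t776 : HTree := splitA (leaf 7 [4, 2, 0, 1, 3, 5, 6, 8, 7]) [6, 8, 4, 10, 2, 12, 7, 7, 2]
def t777 : HTree := splitB t775 t776 [3, 4, 2, 5, 1, 6, 4, 3, 2] [3, 4, 2, 5, 1, 6, 4, 3, 1]
def t778 : HTree := splitA t777 [3, 4, 2, 5, 1, 6, 3, 3, 1]
def t779 : HTree := splitS t778 8 6 4
def t780 : HTree := splitS t779 8 6 3
def t781 : HTree := splitS t780 8 5 2
def t782 : HTree := splitS t781 8 4 1
def t783 : HTree := splitS t782 8 3 0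
def t784 : HTree := splitA t783 [9, 12, 6, 15, 3, 18, 13, 8, 0]
def t785 : HTree := splitB t774 t784 [3, 4, 2, 5, 1, 6, 3, 4, 0] [3, 4, 2, 5, 1, 6, 3, 2, 0]
def t786 : HTree := splitS t785 7 6 4
def t787 : HTree := splitS t786 7 6 3
def t788 : HTree := splitS t787 7 5 2
def t789 : HTree := splitS t788 7 4 1
def t790 : HTree := splitS t789 7 3 0
def t791 : HTree := splitA (skipZ 7) [3, 4, 2, 5, 1, 6, 7, 2, 0]
def t792 : HTree := splitA t791 [3, 4, 2, 5, 1, 6, 6, 1, 0]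
def t793 : HTree := splitS t792 7 6 4
def t794 : HTree := splitS t793 7 6 3
def t795 : HTree := splitS t794 7 5 2
def t796 : HTree := splitS t795 7 4 1
def t797 : HTree := splitS t796 7 3 0
def t798 : HTree := splitA (skipZ 7) [6, 8, 4, 10, 2, 12, 7, 2, 0]
def t799 : HTree := splitA t798 [3, 4, 2, 5, 1, 6, 3, 1, 0]
def t800 : HTree := splitS t799 7 6 4
def t801 : HTree := splitS t800 7 6 3
def t802 : HTree := splitS t801 7 5 2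
def t803 : HTree := splitS t802 7 4 1
def t804 : HTree := splitS t803 7 3 0
def t805 : HTree := split (skipZ 6) t790 t797 t804 (cert [3, 4, 2, 5, 1, 6, 7, 0, 0]) (cert [9, 12, 6, 15, 3, 18, 7, 0, 0]) (cert [3, 4, 2, 5, 1, 6, 7, 0, 0]) (cert [12, 16, 8, 20, 4, 24, 7, 0, 0]) (cert [6, 8, 4, 10, 2, 12, 7, 0, 0])
def t806 : HTree := split (skipZ 8) (fin [4, 3, 5, 2, 6, 1, 7, 8, 9]) (fin [4, 3, 5, 2, 6, 1, 7, 8, 9]) (fin [8, 6, 10, 4, 12, 2, 14, 16, 9]) (cert [4, 3, 5, 2, 6, 1, 7, 8, 9]) (cert [4, 3, 5, 2, 6, 1, 7, 8, 3]) (cert [4, 3, 5, 2, 6, 1, 7, 8, 9]) (cert [16, 12, 20, 8, 24, 4, 28, 32, 9]) (cert [8, 6, 10, 4, 12, 2, 14, 16, 9])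
def t807 : HTree := splitA (fin [8, 6, 10, 4, 12, 2, 14, 7, 9]) [4, 3, 5, 2, 6, 1, 7, 5, 3]
def t808 : HTree := splitB t806 t807 [8, 6, 10, 4, 12, 2, 14, 7, 9] [16, 12, 20, 8, 24, 4, 28, 14, 9]
def t809 : HTree := splitS t808 8 7 5
def t810 : HTree := splitS t809 8 7 4
def t811 : HTree := splitS t810 8 6 3
def t812 : HTree := splitS t811 8 5 2
def t813 : HTree := splitS t812 8 4 1
def t814 : HTree := splitS t813 8 3 0
def t815 : HTree := splitA (skipZ 8) [4, 3, 5, 2, 6, 1, 7, 8, 2]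
def t816 : HTree := splitA t815 [4, 3, 5, 2, 6, 1, 7, 7, 1]
def t817 : HTree := splitS t816 8 7 5
def t818 : HTree := splitS t817 8 7 4
def t819 : HTree := splitS t818 8 6 3
def t820 : HTree := splitS t819 8 5 2
def t821 : HTree := splitS t820 8 4 1
def t822 : HTree := splitS t821 8 3 0
def t823 : HTree := splitA (skipZ 8) [4, 3, 5, 2, 6, 1, 7, 4, 1]
def t824 : HTree := splitA t823 [8, 6, 10, 4, 12, 2, 14, 7, 2]
def t825 : HTree := splitS t824 8 7 5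
def t826 : HTree := splitS t825 8 7 4
def t827 : HTree := splitS t826 8 6 3
def t828 : HTree := splitS t827 8 5 2
def t829 : HTree := splitS t828 8 4 1
def t830 : HTree := splitS t829 8 3 0
def t831 : HTree := split (skipZ 7) t814 t822 t830 (cert [4, 3, 5, 2, 6, 1, 7, 8, 0]) (cert [12, 9, 15, 6, 18, 3, 21, 8, 0]) (cert [4, 3, 5, 2, 6, 1, 7, 8, 0]) (cert [4, 3, 5, 2, 6, 1, 7, 2, 0]) (cert [4, 3, 5, 2, 6, 1, 7, 4, 0])
def t832 : HTree := split (skipZ 8) (fin [4, 5, 3, 6, 2, 7, 1, 8, 9]) (fin [4, 5, 3, 6, 2, 7, 1, 8, 9]) (fin [8, 10, 6, 12, 4, 14, 2, 16, 9]) (cert [4, 5, 3, 6, 2, 7, 1, 8, 9]) (cert [4, 5, 3, 6, 2, 7, 1, 8, 3]) (cert [4, 5, 3, 6, 2, 7, 1, 8, 9]) (cert [16, 20, 12, 24, 8, 28, 4, 32, 9]) (cert [8, 10, 6, 12, 4, 14, 2, 16, 9])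
def t833 : HTree := splitB (fin [5, 4, 6, 3, 7, 2, 8, 1, 9]) (leaf 0 [0, 1, 3, 5, 7, 8, 6, 4, 2]) [1, 1, 1, 1, 1, 1, 1, 1, 1] [13, 14, 12, 15, 11, 16, 10, 17, 9]
def t834 : HTree := splitA (fin [5, 4, 6, 3, 7, 2, 8, 1, 9]) [1, 1, 1, 1, 1, 1, 1, 1, 1]
def t835 : HTree := splitA (fin [10, 8, 12, 6, 14, 4, 16, 2, 9]) [14, 13, 15, 12, 16, 11, 17, 10, 9]
def t836 : HTree := split t832 t833 t834 t835 (cert [5, 4, 6, 3, 7, 2, 8, 1, 9]) (cert [5, 4, 6, 3, 7, 2, 8, 1, 3]) (cert [5, 4, 6, 3, 7, 2, 8, 1, 9]) (cert [20, 16, 24, 12, 28, 8, 32, 4, 9]) (cert [10, 8, 12, 6, 14, 4, 16, 2, 9])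
def t837 : HTree := splitA (fin [8, 10, 6, 12, 4, 14, 2, 7, 9]) [4, 5, 3, 6, 2, 7, 1, 5, 3]
def t838 : HTree := splitA t837 [13, 14, 12, 15, 11, 16, 10, 8, 9]
def t839 : HTree := splitB t836 t838 [8, 10, 6, 12, 4, 14, 2, 7, 9] [16, 20, 12, 24, 8, 28, 4, 14, 9]
def t840 : HTree := splitS t839 8 7 4
def t841 : HTree := splitS t840 8 6 3
def t842 : HTree := splitS t841 8 5 2
def t843 : HTree := splitS t842 8 4 1
def t844 : HTree := splitS t843 8 3 0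
def t845 : HTree := splitA t844 [1, 1, 1, 1, 1, 1, 1, 1, 0]
def t846 : HTree := splitA (skipZ 8) [4, 5, 3, 6, 2, 7, 1, 8, 2]
def t847 : HTree := splitA (fin [1, 1, 1, 1, 1, 1, 1, 1, 1]) [6, 7, 5, 8, 4, 9, 3, 10, 2]
def t848 : HTree := splitA (leaf 2 [7, 5, 3, 1, 0, 2, 4, 6, 8]) [6, 7, 5, 8, 4, 9, 3, 10, 2]
def t849 : HTree := splitA (leaf 1 [7, 5, 3, 1, 0, 2, 4, 6, 8]) [8, 9, 7, 10, 6, 11, 5, 12, 2]
def t850 : HTree := split t846 t847 t848 t849 (cert [1, 1, 1, 1, 1, 1, 1, 1, 1]) (cert [3, 3, 3, 3, 3, 3, 3, 3, 1]) (cert [1, 1, 1, 1, 1, 1, 1, 1, 1]) (cert [4, 4, 4, 4, 4, 4, 4, 4, 1]) (cert [2, 2, 2, 2, 2, 2, 2, 2, 1])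
def t851 : HTree := splitA t850 [4, 5, 3, 6, 2, 7, 1, 7, 1]
def t852 : HTree := splitS t851 8 7 4
def t853 : HTree := splitS t852 8 6 3
def t854 : HTree := splitS t853 8 5 2
def t855 : HTree := splitS t854 8 4 1
def t856 : HTree := splitS t855 8 3 0
def t857 : HTree := splitA t856 [1, 1, 1, 1, 1, 1, 1, 1, 0]
def t858 : HTree := splitA (skipZ 8) [4, 5, 3, 6, 2, 7, 1, 4, 1]
def t859 : HTree := splitA (fin [2, 2, 2, 2, 2, 2, 2, 1, 2]) [10, 12, 8, 14, 6, 16, 4, 9, 2]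
def t860 : HTree := splitA (leaf 1 [8, 6, 4, 2, 0, 1, 3, 5, 7]) [10, 12, 8, 14, 6, 16, 4, 9, 2]
def t861 : HTree := splitA (leaf 3 [7, 5, 3, 1, 0, 2, 4, 6, 8]) [6, 7, 5, 8, 4, 9, 3, 5, 1]
def t862 : HTree := split t858 t859 t860 t861 (cert [2, 2, 2, 2, 2, 2, 2, 1, 2]) (cert [6, 6, 6, 6, 6, 6, 6, 3, 2]) (cert [2, 2, 2, 2, 2, 2, 2, 1, 2]) (cert [4, 4, 4, 4, 4, 4, 4, 2, 1]) (cert [2, 2, 2, 2, 2, 2, 2, 1, 1])
def t863 : HTree := splitA t862 [8, 10, 6, 12, 4, 14, 2, 7, 2]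
def t864 : HTree := splitS t863 8 7 4
def t865 : HTree := splitS t864 8 6 3
def t866 : HTree := splitS t865 8 5 2
def t867 : HTree := splitS t866 8 4 1
def t868 : HTree := splitS t867 8 3 0
def t869 : HTree := splitA t868 [12, 13, 11, 14, 10, 15, 9, 8, 0]
def t870 : HTree := split t831 t845 t857 t869 (cert [4, 5, 3, 6, 2, 7, 1, 8, 0]) (cert [12, 15, 9, 18, 6, 21, 3, 8, 0]) (cert [4, 5, 3, 6, 2, 7, 1, 8, 0]) (cert [4, 5, 3, 6, 2, 7, 1, 2, 0]) (cert [4, 5, 3, 6, 2, 7, 1, 4, 0])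
def t871 : HTree := splitB (skipZ 8) (leaf 7 [5, 3, 1, 0, 2, 4, 7, 8, 6]) [4, 3, 5, 2, 6, 1, 3, 4, 2] [4, 3, 5, 2, 6, 1, 3, 4, 1]
def t872 : HTree := splitA (leaf 7 [5, 3, 1, 0, 2, 4, 6, 8, 7]) [8, 6, 10, 4, 12, 2, 7, 7, 2]
def t873 : HTree := splitB t871 t872 [4, 3, 5, 2, 6, 1, 4, 3, 2] [4, 3, 5, 2, 6, 1, 4, 3, 1]
def t874 : HTree := splitA (fin [2, 2, 2, 2, 2, 2, 1, 1, 2]) [6, 5, 7, 4, 8, 3, 4, 5, 2]
def t875 : HTree := splitA t874 [6, 5, 7, 4, 8, 3, 5, 4, 2]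
def t876 : HTree := splitA (leaf 5 [8, 5, 3, 1, 0, 2, 4, 6, 7]) [6, 5, 7, 4, 8, 3, 4, 5, 2]
def t877 : HTree := splitA t876 [6, 5, 7, 4, 8, 3, 5, 4, 2]
def t878 : HTree := splitA (leaf 4 [8, 5, 3, 1, 0, 2, 4, 6, 7]) [8, 7, 9, 6, 10, 5, 5, 6, 2]
def t879 : HTree := splitA t878 [8, 7, 9, 6, 10, 5, 6, 5, 2]
def t880 : HTree := split t873 t875 t877 t879 (cert [2, 2, 2, 2, 2, 2, 1, 1, 2]) (cert [6, 6, 6, 6, 6, 6, 3, 3, 2]) (cert [2, 2, 2, 2, 2, 2, 1, 1, 2]) (cert [4, 4, 4, 4, 4, 4, 2, 2, 1]) (cert [2, 2, 2, 2, 2, 2, 1, 1, 1])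
def t881 : HTree := splitA t880 [4, 3, 5, 2, 6, 1, 3, 3, 1]
def t882 : HTree := splitS t881 8 6 3
def t883 : HTree := splitS t882 8 5 2
def t884 : HTree := splitS t883 8 4 1
def t885 : HTree := splitS t884 8 3 0
def t886 : HTree := splitA t885 [12, 9, 15, 6, 18, 3, 13, 8, 0]
def t887 : HTree := splitA t886 [12, 11, 13, 10, 14, 9, 7, 8, 0]
def t888 : HTree := splitB t870 t887 [4, 3, 5, 2, 6, 1, 3, 4, 0] [4, 3, 5, 2, 6, 1, 3, 2, 0]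
def t889 : HTree := splitS t888 7 6 3
def t890 : HTree := splitS t889 7 5 2
def t891 : HTree := splitS t890 7 4 1
def t892 : HTree := splitS t891 7 3 0
def t893 : HTree := splitA t892 [1, 1, 1, 1, 1, 1, 1, 0, 0]
def t894 : HTree := splitA (skipZ 7) [4, 3, 5, 2, 6, 1, 7, 2, 0]
def t895 : HTree := split (skipZ 8) (fin [1, 1, 1, 1, 1, 1, 1, 1, 1]) (leaf 2 [6, 4, 2, 0, 1, 3, 5, 7, 8]) (leaf 1 [6, 4, 2, 0, 1, 3, 5, 7, 8]) (cert [1, 1, 1, 1, 1, 1, 1, 1, 1]) (cert [3, 3, 3, 3, 3, 3, 3, 3, 1]) (cert [1, 1, 1, 1, 1, 1, 1, 1, 1]) (cert [4, 4, 4, 4, 4, 4, 4, 4, 1]) (cert [2, 2, 2, 2, 2, 2, 2, 2, 1])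
def t896 : HTree := splitA t895 [5, 4, 6, 3, 7, 2, 8, 1, 2]
def t897 : HTree := splitA (leaf 5 [6, 4, 2, 0, 1, 3, 5, 7, 8]) [3, 3, 3, 3, 3, 3, 3, 2, 1]
def t898 : HTree := splitA t897 [9, 8, 10, 7, 11, 6, 12, 3, 2]
def t899 : HTree := splitB t896 t898 [2, 2, 2, 2, 2, 2, 2, 1, 1] [4, 4, 4, 4, 4, 4, 4, 2, 1]
def t900 : HTree := splitS t899 8 7 4
def t901 : HTree := splitS t900 8 6 3
def t902 : HTree := splitS t901 8 5 2
def t903 : HTree := splitS t902 8 4 1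
def t904 : HTree := splitS t903 8 3 0
def t905 : HTree := splitA t904 [6, 5, 7, 4, 8, 3, 9, 2, 0]
def t906 : HTree := splitB t894 t905 [1, 1, 1, 1, 1, 1, 1, 1, 0] [2, 2, 2, 2, 2, 2, 2, 1, 0]
def t907 : HTree := splitA t906 [4, 3, 5, 2, 6, 1, 6, 1, 0]
def t908 : HTree := splitS t907 7 6 3
def t909 : HTree := splitS t908 7 5 2
def t910 : HTree := splitS t909 7 4 1
def t911 : HTree := splitS t910 7 3 0
def t912 : HTree := splitA t911 [1, 1, 1, 1, 1, 1, 1, 0, 0]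
def t913 : HTree := splitA (skipZ 7) [8, 6, 10, 4, 12, 2, 7, 2, 0]
def t914 : HTree := split (skipZ 8) (fin [2, 2, 2, 2, 2, 2, 1, 2, 2]) (leaf 1 [8, 7, 5, 3, 1, 0, 2, 4, 6]) (leaf 3 [6, 4, 2, 0, 1, 3, 5, 7, 8]) (cert [2, 2, 2, 2, 2, 2, 1, 2, 2]) (cert [6, 6, 6, 6, 6, 6, 3, 6, 2]) (cert [2, 2, 2, 2, 2, 2, 1, 2, 2]) (cert [4, 4, 4, 4, 4, 4, 2, 4, 1]) (cert [2, 2, 2, 2, 2, 2, 1, 2, 1])
def t915 : HTree := splitA t914 [5, 4, 6, 3, 7, 2, 4, 1, 1]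
def t916 : HTree := splitA (leaf 4 [6, 4, 2, 0, 1, 3, 5, 7, 8]) [6, 6, 6, 6, 6, 6, 3, 4, 2]
def t917 : HTree := splitA t916 [7, 6, 8, 5, 9, 4, 5, 2, 1]
def t918 : HTree := splitB t915 t917 [2, 2, 2, 2, 2, 2, 1, 1, 1] [4, 4, 4, 4, 4, 4, 2, 2, 1]
def t919 : HTree := splitS t918 8 7 4
def t920 : HTree := splitS t919 8 6 3
def t921 : HTree := splitS t920 8 5 2
def t922 : HTree := splitS t921 8 4 1
def t923 : HTree := splitS t922 8 3 0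
def t924 : HTree := splitA t923 [5, 4, 6, 3, 7, 2, 4, 1, 0]
def t925 : HTree := splitB t913 t924 [2, 2, 2, 2, 2, 2, 1, 2, 0] [2, 2, 2, 2, 2, 2, 1, 1, 0]
def t926 : HTree := splitA t925 [4, 3, 5, 2, 6, 1, 3, 1, 0]
def t927 : HTree := splitS t926 7 6 3
def t928 : HTree := splitS t927 7 5 2
def t929 : HTree := splitS t928 7 4 1
def t930 : HTree := splitS t929 7 3 0
def t931 : HTree := splitA t930 [11, 10, 12, 9, 13, 8, 7, 0, 0]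
def t932 : HTree := split t805 t893 t912 t931 (cert [4, 3, 5, 2, 6, 1, 7, 0, 0]) (cert [12, 9, 15, 6, 18, 3, 7, 0, 0]) (cert [4, 3, 5, 2, 6, 1, 7, 0, 0]) (cert [16, 12, 20, 8, 24, 4, 7, 0, 0]) (cert [8, 6, 10, 4, 12, 2, 7, 0, 0])
def t933 : HTree := splitA (skipZ 8) [6, 8, 4, 10, 2, 5, 7, 4, 1]
def t934 : HTree := splitA t933 [12, 16, 8, 20, 4, 10, 14, 7, 1]
def t935 : HTree := splitS t934 8 7 5
def t936 : HTree := splitS t935 8 7 4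
def t937 : HTree := splitS t936 8 7 3
def t938 : HTree := splitS t937 8 5 2
def t939 : HTree := splitS t938 8 4 1
def t940 : HTree := splitS t939 8 3 0
def t941 : HTree := splitB (skipZ 7) t940 [6, 8, 4, 10, 2, 5, 7, 4, 0] [6, 8, 4, 10, 2, 5, 7, 2, 0]
def t942 : HTree := splitA (skipZ 8) [6, 8, 4, 10, 2, 7, 5, 4, 1]
def t943 : HTree := splitA t942 [9, 12, 6, 15, 3, 10, 8, 5, 1]
def t944 : HTree := splitA t943 [12, 16, 8, 20, 4, 14, 10, 7, 1]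
def t945 : HTree := splitS t944 8 7 4
def t946 : HTree := splitS t945 8 7 3
def t947 : HTree := splitS t946 8 5 2
def t948 : HTree := splitS t947 8 4 1
def t949 : HTree := splitS t948 8 3 0
def t950 : HTree := splitA t949 [3, 4, 2, 5, 1, 3, 3, 1, 0]
def t951 : HTree := splitB t941 t950 [6, 8, 4, 10, 2, 7, 5, 4, 0] [6, 8, 4, 10, 2, 7, 5, 2, 0]
def t952 : HTree := split (skipZ 8) (fin [2, 2, 2, 2, 2, 1, 1, 2, 2]) (leaf 5 [8, 7, 4, 2, 0, 1, 3, 5, 6]) (leaf 4 [8, 7, 4, 2, 0, 1, 3, 5, 6]) (cert [2, 2, 2, 2, 2, 1, 1, 2, 2]) (cert [6, 6, 6, 6, 6, 3, 3, 6, 2]) (cert [2, 2, 2, 2, 2, 1, 1, 2, 2]) (cert [4, 4, 4, 4, 4, 2, 2, 4, 1]) (cert [2, 2, 2, 2, 2, 1, 1, 2, 1])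
def t953 : HTree := splitA (leaf 7 [7, 4, 2, 0, 1, 3, 6, 8, 5]) [6, 7, 5, 8, 4, 4, 5, 3, 2]
def t954 : HTree := splitB t952 t953 [4, 5, 3, 6, 2, 3, 4, 1, 2] [4, 5, 3, 6, 2, 3, 4, 1, 1]
def t955 : HTree := splitA (leaf 7 [7, 4, 2, 0, 1, 3, 5, 8, 6]) [6, 7, 5, 8, 4, 5, 4, 3, 2]
def t956 : HTree := splitA t955 [8, 10, 6, 12, 4, 7, 7, 2, 2]
def t957 : HTree := splitB t954 t956 [4, 5, 3, 6, 2, 4, 3, 1, 2] [4, 5, 3, 6, 2, 4, 3, 1, 1]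
def t958 : HTree := splitA (leaf 6 [5, 6, 3, 1, 0, 2, 4, 7, 8]) [6, 6, 6, 6, 6, 3, 3, 4, 2]
def t959 : HTree := splitA t958 [8, 9, 7, 10, 6, 5, 6, 3, 2]
def t960 : HTree := splitA t959 [8, 9, 7, 10, 6, 6, 5, 3, 2]
def t961 : HTree := splitB t957 t960 [2, 2, 2, 2, 2, 1, 1, 1, 1] [4, 4, 4, 4, 4, 2, 2, 2, 1]
def t962 : HTree := splitS t961 8 7 3
def t963 : HTree := splitS t962 8 5 2
def t964 : HTree := splitS t963 8 4 1
def t965 : HTree := splitS t964 8 3 0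
def t966 : HTree := splitA t965 [10, 12, 8, 14, 6, 7, 9, 4, 0]
def t967 : HTree := splitA t966 [10, 12, 8, 14, 6, 9, 7, 4, 0]
def t968 : HTree := splitB t951 t967 [2, 2, 2, 2, 2, 1, 1, 2, 0] [2, 2, 2, 2, 2, 1, 1, 1, 0]
def t969 : HTree := splitA t968 [6, 8, 4, 10, 2, 5, 5, 2, 0]
def t970 : HTree := splitS t969 7 5 2
def t971 : HTree := splitS t970 7 4 1
def t972 : HTree := splitS t971 7 3 0
def t973 : HTree := splitA t972 [9, 12, 6, 15, 3, 11, 7, 0, 0]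
def t974 : HTree := splitA t973 [10, 11, 9, 12, 8, 6, 7, 0, 0]
def t975 : HTree := splitB t932 t974 [6, 8, 4, 10, 2, 5, 7, 0, 0] [12, 16, 8, 20, 4, 10, 7, 0, 0]
def t976 : HTree := splitS t975 6 5 2
def t977 : HTree := splitS t976 6 4 1
def t978 : HTree := splitS t977 6 3 0
def t979 : HTree := splitA t978 [1, 1, 1, 1, 1, 1, 0, 0, 0]
def t980 : HTree := splitA (skipZ 6) [3, 4, 2, 5, 1, 6, 2, 0, 0]
def t981 : HTree := split (skipZ 8) (fin [1, 1, 1, 1, 1, 1, 1, 1, 1]) (leaf 2 [5, 3, 1, 0, 2, 4, 6, 7, 8]) (leaf 1 [5, 3, 1, 0, 2, 4, 6, 7, 8]) (cert [1, 1, 1, 1, 1, 1, 1, 1, 1]) (cert [3, 3, 3, 3, 3, 3, 3, 3, 1]) (cert [1, 1, 1, 1, 1, 1, 1, 1, 1]) (cert [4, 4, 4, 4, 4, 4, 4, 4, 1]) (cert [2, 2, 2, 2, 2, 2, 2, 2, 1])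
def t982 : HTree := splitA (leaf 5 [5, 3, 1, 0, 2, 4, 6, 7, 8]) [3, 3, 3, 3, 3, 3, 3, 2, 1]
def t983 : HTree := splitB t981 t982 [2, 2, 2, 2, 2, 2, 2, 1, 1] [4, 4, 4, 4, 4, 4, 4, 2, 1]
def t984 : HTree := splitS t983 8 7 5
def t985 : HTree := splitS t984 8 7 4
def t986 : HTree := splitS t985 8 6 3
def t987 : HTree := splitS t986 8 5 2
def t988 : HTree := splitS t987 8 4 1
def t989 : HTree := splitS t988 8 3 0
def t990 : HTree := splitB (skipZ 7) t989 [1, 1, 1, 1, 1, 1, 1, 1, 0] [2, 2, 2, 2, 2, 2, 2, 1, 0]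
def t991 : HTree := splitA t990 [4, 5, 3, 6, 2, 7, 1, 2, 0]
def t992 : HTree := splitA t991 [2, 2, 2, 2, 2, 2, 1, 1, 0]
def t993 : HTree := splitS t992 7 6 3
def t994 : HTree := splitS t993 7 5 2
def t995 : HTree := splitS t994 7 4 1
def t996 : HTree := splitS t995 7 3 0
def t997 : HTree := splitA t996 [5, 6, 4, 7, 3, 8, 2, 0, 0]
def t998 : HTree := splitB t980 t997 [1, 1, 1, 1, 1, 1, 1, 0, 0] [2, 2, 2, 2, 2, 2, 1, 0, 0]
def t999 : HTree := splitA t998 [3, 4, 2, 5, 1, 5, 1, 0, 0]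
def t1000 : HTree := splitS t999 6 5 2
def t1001 : HTree := splitS t1000 6 4 1
def t1002 : HTree := splitS t1001 6 3 0
def t1003 : HTree := splitA t1002 [1, 1, 1, 1, 1, 1, 0, 0, 0]
def t1004 : HTree := splitA (skipZ 6) [3, 4, 2, 5, 1, 3, 1, 0, 0]
def t1005 : HTree := split (skipZ 8) (fin [2, 2, 2, 2, 2, 1, 2, 2, 2]) (leaf 1 [8, 7, 6, 4, 2, 0, 1, 3, 5]) (leaf 3 [5, 3, 1, 0, 2, 4, 6, 7, 8]) (cert [2, 2, 2, 2, 2, 1, 2, 2, 2]) (cert [6, 6, 6, 6, 6, 3, 6, 6, 2]) (cert [2, 2, 2, 2, 2, 1, 2, 2, 2]) (cert [4, 4, 4, 4, 4, 2, 4, 4, 1]) (cert [2, 2, 2, 2, 2, 1, 2, 2, 1])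
def t1006 : HTree := splitA (leaf 4 [5, 3, 1, 0, 2, 4, 6, 7, 8]) [6, 6, 6, 6, 6, 3, 6, 4, 2]
def t1007 : HTree := splitB t1005 t1006 [2, 2, 2, 2, 2, 1, 2, 1, 1] [4, 4, 4, 4, 4, 2, 4, 2, 1]
def t1008 : HTree := splitS t1007 8 7 5
def t1009 : HTree := splitS t1008 8 7 4
def t1010 : HTree := splitS t1009 8 6 3
def t1011 : HTree := splitS t1010 8 5 2
def t1012 : HTree := splitS t1011 8 4 1
def t1013 : HTree := splitS t1012 8 3 0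
def t1014 : HTree := splitB (skipZ 7) t1013 [2, 2, 2, 2, 2, 1, 2, 2, 0] [2, 2, 2, 2, 2, 1, 2, 1, 0]
def t1015 : HTree := splitA t1014 [8, 10, 6, 12, 4, 7, 2, 2, 0]
def t1016 : HTree := splitA t1015 [2, 2, 2, 2, 2, 1, 1, 1, 0]
def t1017 : HTree := splitS t1016 7 6 3
def t1018 : HTree := splitS t1017 7 5 2
def t1019 : HTree := splitS t1018 7 4 1
def t1020 : HTree := splitS t1019 7 3 0
def t1021 : HTree := splitA t1020 [8, 10, 6, 12, 4, 7, 2, 0, 0]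
def t1022 : HTree := splitB t1004 t1021 [2, 2, 2, 2, 2, 1, 2, 0, 0] [2, 2, 2, 2, 2, 1, 1, 0, 0]
def t1023 : HTree := splitA t1022 [6, 8, 4, 10, 2, 5, 2, 0, 0]
def t1024 : HTree := splitS t1023 6 5 2
def t1025 : HTree := splitS t1024 6 4 1
def t1026 : HTree := splitS t1025 6 3 0
def t1027 : HTree := splitA t1026 [9, 10, 8, 11, 7, 6, 0, 0, 0]
def t1028 : HTree := split t748 t979 t1003 t1027 (cert [3, 4, 2, 5, 1, 6, 0, 0, 0]) (cert [3, 4, 2, 5, 1, 2, 0, 0, 0]) (cert [3, 4, 2, 5, 1, 6, 0, 0, 0]) (cert [6, 8, 4, 10, 2, 3, 0, 0, 0]) (cert [3, 4, 2, 5, 1, 3, 0, 0, 0])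
def t1029 : HTree := splitA (skipZ 7) [3, 2, 4, 1, 2, 3, 2, 1, 0]
def t1030 : HTree := splitA t1029 [6, 4, 8, 2, 4, 6, 3, 1, 0]
def t1031 : HTree := splitS t1030 7 6 4
def t1032 : HTree := splitS t1031 7 6 3
def t1033 : HTree := splitS t1032 7 6 2
def t1034 : HTree := splitS t1033 7 4 1
def t1035 : HTree := splitS t1034 7 3 0
def t1036 : HTree := splitB (skipZ 6) t1035 [3, 2, 4, 1, 2, 3, 2, 0, 0] [3, 2, 4, 1, 2, 3, 1, 0, 0]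
def t1037 : HTree := splitA (skipZ 7) [3, 2, 4, 1, 3, 2, 2, 1, 0]
def t1038 : HTree := splitA t1037 [9, 6, 12, 3, 8, 7, 4, 2, 0]
def t1039 : HTree := splitA t1038 [6, 4, 8, 2, 6, 4, 3, 1, 0]
def t1040 : HTree := splitS t1039 7 6 3
def t1041 : HTree := splitS t1040 7 6 2
def t1042 : HTree := splitS t1041 7 4 1
def t1043 : HTree := splitS t1042 7 3 0
def t1044 : HTree := splitA t1043 [6, 4, 8, 2, 5, 5, 2, 0, 0]
def t1045 : HTree := splitB t1036 t1044 [3, 2, 4, 1, 3, 2, 2, 0, 0] [3, 2, 4, 1, 3, 2, 1, 0, 0]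
def t1046 : HTree := split (skipZ 8) (fin [2, 2, 2, 2, 1, 1, 2, 2, 2]) (leaf 5 [8, 7, 6, 3, 1, 0, 2, 4, 5]) (leaf 4 [8, 7, 6, 3, 1, 0, 2, 4, 5]) (cert [2, 2, 2, 2, 1, 1, 2, 2, 2]) (cert [6, 6, 6, 6, 3, 3, 6, 6, 2]) (cert [2, 2, 2, 2, 1, 1, 2, 2, 2]) (cert [4, 4, 4, 4, 2, 2, 4, 4, 1]) (cert [2, 2, 2, 2, 1, 1, 2, 2, 1])
def t1047 : HTree := splitA (leaf 6 [4, 5, 2, 0, 1, 3, 6, 7, 8]) [6, 6, 6, 6, 3, 3, 6, 4, 2]
def t1048 : HTree := splitB t1046 t1047 [2, 2, 2, 2, 1, 1, 2, 1, 1] [4, 4, 4, 4, 2, 2, 4, 2, 1]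
def t1049 : HTree := splitS t1048 8 7 5
def t1050 : HTree := splitS t1049 8 7 4
def t1051 : HTree := splitS t1050 8 7 3
def t1052 : HTree := splitS t1051 8 6 2
def t1053 : HTree := splitS t1052 8 4 1
def t1054 : HTree := splitS t1053 8 3 0
def t1055 : HTree := splitB (skipZ 7) t1054 [2, 2, 2, 2, 1, 1, 2, 2, 0] [2, 2, 2, 2, 1, 1, 2, 1, 0]
def t1056 : HTree := splitA (skipZ 8) [8, 6, 10, 4, 5, 7, 2, 4, 1]
def t1057 : HTree := splitA (leaf 7 [8, 6, 3, 1, 0, 2, 5, 7, 4]) [13, 10, 16, 7, 8, 11, 4, 6, 1]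
def t1058 : HTree := splitB t1056 t1057 [5, 4, 6, 3, 3, 4, 2, 2, 1] [10, 8, 12, 6, 6, 8, 4, 4, 1]
def t1059 : HTree := splitA t1058 [16, 12, 20, 8, 10, 14, 4, 7, 1]
def t1060 : HTree := splitS t1059 8 7 4
def t1061 : HTree := splitS t1060 8 7 3
def t1062 : HTree := splitS t1061 8 6 2
def t1063 : HTree := splitS t1062 8 4 1
def t1064 : HTree := splitS t1063 8 3 0
def t1065 : HTree := splitA t1064 [12, 10, 14, 8, 7, 9, 6, 4, 0]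
def t1066 : HTree := splitB t1055 t1065 [8, 6, 10, 4, 5, 7, 2, 4, 0] [8, 6, 10, 4, 5, 7, 2, 2, 0]
def t1067 : HTree := splitA (skipZ 8) [8, 6, 10, 4, 7, 5, 2, 4, 1]
def t1068 : HTree := splitA (leaf 7 [8, 6, 3, 1, 0, 2, 4, 7, 5]) [13, 10, 16, 7, 11, 8, 4, 6, 1]
def t1069 : HTree := splitB t1067 t1068 [5, 4, 6, 3, 4, 3, 2, 2, 1] [10, 8, 12, 6, 8, 6, 4, 4, 1]
def t1070 : HTree := splitA t1069 [12, 9, 15, 6, 10, 8, 3, 5, 1]
def t1071 : HTree := splitA t1070 [16, 12, 20, 8, 14, 10, 4, 7, 1]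
def t1072 : HTree := splitS t1071 8 7 3
def t1073 : HTree := splitS t1072 8 6 2
def t1074 : HTree := splitS t1073 8 4 1
def t1075 : HTree := splitS t1074 8 3 0
def t1076 : HTree := splitA t1075 [12, 10, 14, 8, 9, 7, 6, 4, 0]
def t1077 : HTree := splitA t1076 [4, 3, 5, 2, 3, 3, 1, 1, 0]
def t1078 : HTree := splitB t1066 t1077 [8, 6, 10, 4, 7, 5, 2, 4, 0] [8, 6, 10, 4, 7, 5, 2, 2, 0]
def t1079 : HTree := splitA t1078 [2, 2, 2, 2, 1, 1, 1, 1, 0]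
def t1080 : HTree := splitS t1079 7 6 2
def t1081 : HTree := splitS t1080 7 4 1
def t1082 : HTree := splitS t1081 7 3 0
def t1083 : HTree := splitA t1082 [5, 4, 6, 3, 3, 4, 2, 0, 0]
def t1084 : HTree := splitA t1083 [5, 4, 6, 3, 4, 3, 2, 0, 0]
def t1085 : HTree := splitB t1045 t1084 [2, 2, 2, 2, 1, 1, 2, 0, 0] [2, 2, 2, 2, 1, 1, 1, 0, 0]
def t1086 : HTree := splitA t1085 [3, 2, 4, 1, 2, 2, 1, 0, 0]
def t1087 : HTree := splitS t1086 6 4 1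
def t1088 : HTree := splitS t1087 6 3 0
def t1089 : HTree := splitA t1088 [3, 2, 4, 1, 3, 2, 0, 0, 0]
def t1090 : HTree := splitA t1089 [9, 8, 10, 7, 5, 6, 0, 0, 0]
def t1091 : HTree := splitB t1028 t1090 [3, 2, 4, 1, 2, 3, 0, 0, 0] [6, 4, 8, 2, 4, 3, 0, 0, 0]
def t1092 : HTree := splitS t1091 5 4 1
def t1093 : HTree := splitS t1092 5 3 0
def t1094 : HTree := splitA t1093 [1, 1, 1, 1, 1, 0, 0, 0, 0]
def t1095 : HTree := splitA (skipZ 5) [3, 2, 4, 1, 5, 2, 0, 0, 0]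
def t1096 : HTree := split (skipZ 8) (fin [1, 1, 1, 1, 1, 1, 1, 1, 1]) (leaf 2 [4, 2, 0, 1, 3, 5, 6, 7, 8]) (leaf 1 [4, 2, 0, 1, 3, 5, 6, 7, 8]) (cert [1, 1, 1, 1, 1, 1, 1, 1, 1]) (cert [3, 3, 3, 3, 3, 3, 3, 3, 1]) (cert [1, 1, 1, 1, 1, 1, 1, 1, 1]) (cert [4, 4, 4, 4, 4, 4, 4, 4, 1]) (cert [2, 2, 2, 2, 2, 2, 2, 2, 1])
def t1097 : HTree := splitA (leaf 5 [4, 2, 0, 1, 3, 5, 6, 7, 8]) [3, 3, 3, 3, 3, 3, 3, 2, 1]
def t1098 : HTree := splitB t1096 t1097 [2, 2, 2, 2, 2, 2, 2, 1, 1] [4, 4, 4, 4, 4, 4, 4, 2, 1]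
def t1099 : HTree := splitS t1098 8 7 5
def t1100 : HTree := splitS t1099 8 6 4
def t1101 : HTree := splitS t1100 8 6 3
def t1102 : HTree := splitS t1101 8 5 2
def t1103 : HTree := splitS t1102 8 4 1
def t1104 : HTree := splitS t1103 8 3 0
def t1105 : HTree := splitB (skipZ 7) t1104 [1, 1, 1, 1, 1, 1, 1, 1, 0] [2, 2, 2, 2, 2, 2, 2, 1, 0]
def t1106 : HTree := splitA t1105 [2, 2, 2, 2, 2, 2, 1, 1, 0]
def t1107 : HTree := splitS t1106 7 6 4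
def t1108 : HTree := splitS t1107 7 6 3
def t1109 : HTree := splitS t1108 7 5 2
def t1110 : HTree := splitS t1109 7 4 1
def t1111 : HTree := splitS t1110 7 3 0
def t1112 : HTree := splitB (skipZ 6) t1111 [1, 1, 1, 1, 1, 1, 1, 0, 0] [2, 2, 2, 2, 2, 2, 1, 0, 0]
def t1113 : HTree := splitA t1112 [4, 3, 5, 2, 6, 1, 2, 0, 0]
def t1114 : HTree := splitA t1113 [2, 2, 2, 2, 2, 1, 1, 0, 0]
def t1115 : HTree := splitS t1114 6 5 2
def t1116 : HTree := splitS t1115 6 4 1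
def t1117 : HTree := splitS t1116 6 3 0
def t1118 : HTree := splitA t1117 [5, 4, 6, 3, 7, 2, 0, 0, 0]
def t1119 : HTree := splitB t1095 t1118 [1, 1, 1, 1, 1, 1, 0, 0, 0] [2, 2, 2, 2, 2, 1, 0, 0, 0]
def t1120 : HTree := splitA t1119 [3, 2, 4, 1, 4, 1, 0, 0, 0]
def t1121 : HTree := splitS t1120 5 4 1
def t1122 : HTree := splitS t1121 5 3 0
def t1123 : HTree := splitA t1122 [1, 1, 1, 1, 1, 0, 0, 0, 0]
def t1124 : HTree := splitA (skipZ 5) [6, 4, 8, 2, 5, 2, 0, 0, 0]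
def t1125 : HTree := split (skipZ 8) (fin [2, 2, 2, 2, 1, 2, 2, 2, 2]) (leaf 1 [8, 7, 6, 5, 3, 1, 0, 2, 4]) (leaf 3 [4, 2, 0, 1, 3, 5, 6, 7, 8]) (cert [2, 2, 2, 2, 1, 2, 2, 2, 2]) (cert [6, 6, 6, 6, 3, 6, 6, 6, 2]) (cert [2, 2, 2, 2, 1, 2, 2, 2, 2]) (cert [4, 4, 4, 4, 2, 4, 4, 4, 1]) (cert [2, 2, 2, 2, 1, 2, 2, 2, 1])
def t1126 : HTree := splitA (leaf 4 [4, 2, 0, 1, 3, 5, 6, 7, 8]) [6, 6, 6, 6, 3, 6, 6, 4, 2]
def t1127 : HTree := splitB t1125 t1126 [2, 2, 2, 2, 1, 2, 2, 1, 1] [4, 4, 4, 4, 2, 4, 4, 2, 1]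
def t1128 : HTree := splitS t1127 8 7 5
def t1129 : HTree := splitS t1128 8 6 4
def t1130 : HTree := splitS t1129 8 6 3
def t1131 : HTree := splitS t1130 8 5 2
def t1132 : HTree := splitS t1131 8 4 1
def t1133 : HTree := splitS t1132 8 3 0
def t1134 : HTree := splitB (skipZ 7) t1133 [2, 2, 2, 2, 1, 2, 2, 2, 0] [2, 2, 2, 2, 1, 2, 2, 1, 0]
def t1135 : HTree := splitA t1134 [2, 2, 2, 2, 1, 2, 1, 1, 0]
def t1136 : HTree := splitS t1135 7 6 4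
def t1137 : HTree := splitS t1136 7 6 3
def t1138 : HTree := splitS t1137 7 5 2
def t1139 : HTree := splitS t1138 7 4 1
def t1140 : HTree := splitS t1139 7 3 0
def t1141 : HTree := splitB (skipZ 6) t1140 [2, 2, 2, 2, 1, 2, 2, 0, 0] [2, 2, 2, 2, 1, 2, 1, 0, 0]
def t1142 : HTree := splitA t1141 [4, 3, 5, 2, 3, 1, 1, 0, 0]
def t1143 : HTree := splitA t1142 [2, 2, 2, 2, 1, 1, 1, 0, 0]
def t1144 : HTree := splitS t1143 6 5 2
def t1145 : HTree := splitS t1144 6 4 1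
def t1146 : HTree := splitS t1145 6 3 0
def t1147 : HTree := splitA t1146 [4, 3, 5, 2, 3, 1, 0, 0, 0]
def t1148 : HTree := splitB t1124 t1147 [2, 2, 2, 2, 1, 2, 0, 0, 0] [2, 2, 2, 2, 1, 1, 0, 0, 0]
def t1149 : HTree := splitA t1148 [3, 2, 4, 1, 2, 1, 0, 0, 0]
def t1150 : HTree := splitS t1149 5 4 1
def t1151 : HTree := splitS t1150 5 3 0
def t1152 : HTree := splitA t1151 [8, 7, 9, 6, 5, 0, 0, 0, 0]
def t1153 : HTree := split t648 t1094 t1123 t1152 (cert [3, 2, 4, 1, 5, 0, 0, 0, 0]) (cert [9, 6, 12, 3, 5, 0, 0, 0, 0]) (cert [3, 2, 4, 1, 5, 0, 0, 0, 0]) (cert [12, 8, 16, 4, 5, 0, 0, 0, 0]) (cert [6, 4, 8, 2, 5, 0, 0, 0, 0])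
def t1154 : HTree := splitB (skipZ 8) (leaf 7 [8, 7, 6, 5, 4, 1, 0, 2, 3]) [4, 6, 2, 3, 5, 4, 3, 2, 1] [8, 12, 4, 6, 10, 8, 6, 4, 1]
def t1155 : HTree := splitA t1154 [8, 12, 4, 6, 10, 8, 6, 3, 1]
def t1156 : HTree := splitS t1155 8 7 5
def t1157 : HTree := splitS t1156 8 6 4
def t1158 : HTree := splitS t1157 8 5 3
def t1159 : HTree := splitS t1158 8 5 2
def t1160 : HTree := splitS t1159 8 5 1
def t1161 : HTree := splitS t1160 8 3 0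
def t1162 : HTree := splitB (skipZ 7) t1161 [4, 6, 2, 3, 5, 4, 3, 2, 0] [4, 6, 2, 3, 5, 4, 3, 1, 0]
def t1163 : HTree := splitA t1162 [4, 6, 2, 3, 5, 4, 2, 1, 0]
def t1164 : HTree := splitS t1163 7 6 4
def t1165 : HTree := splitS t1164 7 5 3
def t1166 : HTree := splitS t1165 7 5 2
def t1167 : HTree := splitS t1166 7 5 1
def t1168 : HTree := splitS t1167 7 3 0
def t1169 : HTree := splitB (skipZ 6) t1168 [4, 6, 2, 3, 5, 4, 3, 0, 0] [8, 12, 4, 6, 10, 8, 3, 0, 0]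
def t1170 : HTree := splitA t1169 [8, 12, 4, 6, 10, 5, 3, 0, 0]
def t1171 : HTree := splitS t1170 6 5 3
def t1172 : HTree := splitS t1171 6 5 2
def t1173 : HTree := splitS t1172 6 5 1
def t1174 : HTree := splitS t1173 6 3 0
def t1175 : HTree := splitB (skipZ 5) t1174 [4, 6, 2, 3, 5, 4, 0, 0, 0] [4, 6, 2, 3, 5, 2, 0, 0, 0]
def t1176 : HTree := splitB (skipZ 8) (leaf 7 [8, 7, 6, 5, 3, 1, 0, 2, 4]) [4, 6, 2, 5, 3, 4, 3, 2, 1] [8, 12, 4, 10, 6, 8, 6, 4, 1]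
def t1177 : HTree := splitA t1176 [8, 12, 4, 10, 6, 8, 6, 3, 1]
def t1178 : HTree := splitS t1177 8 7 5
def t1179 : HTree := splitS t1178 8 6 4
def t1180 : HTree := splitS t1179 8 6 3
def t1181 : HTree := splitS t1180 8 5 2
def t1182 : HTree := splitS t1181 8 5 1
def t1183 : HTree := splitS t1182 8 3 0
def t1184 : HTree := splitB (skipZ 7) t1183 [4, 6, 2, 5, 3, 4, 3, 2, 0] [4, 6, 2, 5, 3, 4, 3, 1, 0]
def t1185 : HTree := splitA t1184 [4, 6, 2, 5, 3, 4, 2, 1, 0]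
def t1186 : HTree := splitS t1185 7 6 4
def t1187 : HTree := splitS t1186 7 6 3
def t1188 : HTree := splitS t1187 7 5 2
def t1189 : HTree := splitS t1188 7 5 1
def t1190 : HTree := splitS t1189 7 3 0
def t1191 : HTree := splitB (skipZ 6) t1190 [4, 6, 2, 5, 3, 4, 3, 0, 0] [8, 12, 4, 10, 6, 8, 3, 0, 0]
def t1192 : HTree := splitA t1191 [2, 3, 1, 2, 2, 1, 1, 0, 0]
def t1193 : HTree := splitA t1192 [8, 12, 4, 10, 6, 5, 3, 0, 0]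
def t1194 : HTree := splitS t1193 6 5 2
def t1195 : HTree := splitS t1194 6 5 1
def t1196 : HTree := splitS t1195 6 3 0
def t1197 : HTree := splitA t1196 [2, 3, 1, 2, 2, 1, 0, 0, 0]
def t1198 : HTree := splitB t1175 t1197 [4, 6, 2, 5, 3, 4, 0, 0, 0] [4, 6, 2, 5, 3, 2, 0, 0, 0]
def t1199 : HTree := split (skipZ 8) (fin [2, 2, 2, 1, 1, 2, 2, 2, 2]) (leaf 5 [8, 7, 6, 5, 2, 0, 1, 3, 4]) (leaf 4 [8, 7, 6, 5, 2, 0, 1, 3, 4]) (cert [2, 2, 2, 1, 1, 2, 2, 2, 2]) (cert [6, 6, 6, 3, 3, 6, 6, 6, 2]) (cert [2, 2, 2, 1, 1, 2, 2, 2, 2]) (cert [4, 4, 4, 2, 2, 4, 4, 4, 1]) (cert [2, 2, 2, 1, 1, 2, 2, 2, 1])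
def t1200 : HTree := splitA (leaf 6 [3, 4, 1, 0, 2, 5, 6, 7, 8]) [6, 6, 6, 3, 3, 6, 6, 4, 2]
def t1201 : HTree := splitB t1199 t1200 [2, 2, 2, 1, 1, 2, 2, 1, 1] [4, 4, 4, 2, 2, 4, 4, 2, 1]
def t1202 : HTree := splitS t1201 8 7 5
def t1203 : HTree := splitS t1202 8 6 4
def t1204 : HTree := splitS t1203 8 6 3
def t1205 : HTree := splitS t1204 8 6 2
def t1206 : HTree := splitS t1205 8 5 1
def t1207 : HTree := splitS t1206 8 3 0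
def t1208 : HTree := splitB (skipZ 7) t1207 [2, 2, 2, 1, 1, 2, 2, 2, 0] [2, 2, 2, 1, 1, 2, 2, 1, 0]
def t1209 : HTree := splitA t1208 [2, 2, 2, 1, 1, 2, 1, 1, 0]
def t1210 : HTree := splitS t1209 7 6 4
def t1211 : HTree := splitS t1210 7 6 3
def t1212 : HTree := splitS t1211 7 6 2
def t1213 : HTree := splitS t1212 7 5 1
def t1214 : HTree := splitS t1213 7 3 0
def t1215 : HTree := splitB (skipZ 6) t1214 [2, 2, 2, 1, 1, 2, 2, 0, 0] [2, 2, 2, 1, 1, 2, 1, 0, 0]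
def t1216 : HTree := splitA (skipZ 7) [3, 4, 2, 2, 3, 1, 2, 1, 0]
def t1217 : HTree := splitB (skipZ 8) (leaf 7 [8, 7, 5, 2, 0, 1, 4, 6, 3]) [5, 6, 4, 3, 4, 3, 2, 2, 1] [10, 12, 8, 6, 8, 6, 4, 4, 1]
def t1218 : HTree := splitA t1217 [8, 10, 6, 5, 7, 4, 4, 2, 1]
def t1219 : HTree := splitA t1218 [10, 12, 8, 6, 8, 6, 4, 3, 1]
def t1220 : HTree := splitS t1219 8 7 4
def t1221 : HTree := splitS t1220 8 6 3
def t1222 : HTree := splitS t1221 8 6 2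
def t1223 : HTree := splitS t1222 8 5 1
def t1224 : HTree := splitS t1223 8 3 0
def t1225 : HTree := splitA t1224 [11, 14, 8, 7, 10, 5, 6, 2, 0]
def t1226 : HTree := splitB t1216 t1225 [5, 6, 4, 3, 4, 3, 2, 2, 0] [5, 6, 4, 3, 4, 3, 2, 1, 0]
def t1227 : HTree := splitA t1226 [6, 8, 4, 4, 6, 2, 3, 1, 0]
def t1228 : HTree := splitS t1227 7 6 3
def t1229 : HTree := splitS t1228 7 6 2
def t1230 : HTree := splitS t1229 7 5 1
def t1231 : HTree := splitS t1230 7 3 0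
def t1232 : HTree := splitA t1231 [5, 6, 4, 3, 4, 3, 2, 0, 0]
def t1233 : HTree := splitB t1215 t1232 [3, 4, 2, 2, 3, 1, 2, 0, 0] [3, 4, 2, 2, 3, 1, 1, 0, 0]
def t1234 : HTree := splitA (skipZ 7) [3, 4, 2, 3, 2, 1, 2, 1, 0]
def t1235 : HTree := splitB (skipZ 8) (leaf 7 [8, 7, 5, 2, 0, 1, 3, 6, 4]) [5, 6, 4, 4, 3, 3, 2, 2, 1] [10, 12, 8, 8, 6, 6, 4, 4, 1]
def t1236 : HTree := splitA t1235 [8, 10, 6, 7, 5, 4, 4, 2, 1]
def t1237 : HTree := splitA t1236 [10, 12, 8, 8, 6, 6, 4, 3, 1]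
def t1238 : HTree := splitS t1237 8 7 4
def t1239 : HTree := splitS t1238 8 7 3
def t1240 : HTree := splitS t1239 8 6 2
def t1241 : HTree := splitS t1240 8 5 1
def t1242 : HTree := splitS t1241 8 3 0
def t1243 : HTree := splitA t1242 [11, 14, 8, 10, 7, 5, 6, 2, 0]
def t1244 : HTree := splitB t1234 t1243 [5, 6, 4, 4, 3, 3, 2, 2, 0] [5, 6, 4, 4, 3, 3, 2, 1, 0]
def t1245 : HTree := splitA t1244 [9, 12, 6, 8, 7, 3, 4, 2, 0]
def t1246 : HTree := splitA t1245 [6, 8, 4, 6, 4, 2, 3, 1, 0]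
def t1247 : HTree := splitS t1246 7 6 2
def t1248 : HTree := splitS t1247 7 5 1
def t1249 : HTree := splitS t1248 7 3 0
def t1250 : HTree := splitA t1249 [5, 6, 4, 4, 3, 3, 2, 0, 0]
def t1251 : HTree := splitA t1250 [6, 8, 4, 5, 5, 2, 2, 0, 0]
def t1252 : HTree := splitB t1233 t1251 [3, 4, 2, 3, 2, 1, 2, 0, 0] [3, 4, 2, 3, 2, 1, 1, 0, 0]
def t1253 : HTree := splitA t1252 [2, 2, 2, 1, 1, 1, 1, 0, 0]
def t1254 : HTree := splitS t1253 6 5 1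
def t1255 : HTree := splitS t1254 6 3 0
def t1256 : HTree := splitA t1255 [8, 10, 6, 5, 7, 4, 0, 0, 0]
def t1257 : HTree := splitA t1256 [8, 10, 6, 7, 5, 4, 0, 0, 0]
def t1258 : HTree := splitB t1198 t1257 [2, 2, 2, 1, 1, 2, 0, 0, 0] [2, 2, 2, 1, 1, 1, 0, 0, 0]
def t1259 : HTree := splitA t1258 [4, 6, 2, 3, 3, 2, 0, 0, 0]
def t1260 : HTree := splitS t1259 5 3 0
def t1261 : HTree := splitA t1260 [6, 9, 3, 7, 5, 0, 0, 0, 0]
def t1262 : HTree := splitA t1261 [7, 8, 6, 4, 5, 0, 0, 0, 0]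
def t1263 : HTree := splitB t1153 t1262 [4, 6, 2, 3, 5, 0, 0, 0, 0] [8, 12, 4, 6, 5, 0, 0, 0, 0]
def t1264 : HTree := splitS t1263 4 3 0
def t1265 : HTree := splitA t1264 [1, 1, 1, 1, 0, 0, 0, 0, 0]
def t1266 : HTree := splitA (skipZ 4) [2, 3, 1, 4, 2, 0, 0, 0, 0]
def t1267 : HTree := split (skipZ 8) (fin [1, 1, 1, 1, 1, 1, 1, 1, 1]) (leaf 2 [3, 1, 0, 2, 4, 5, 6, 7, 8]) (leaf 1 [3, 1, 0, 2, 4, 5, 6, 7, 8]) (cert [1, 1, 1, 1, 1, 1, 1, 1, 1]) (cert [3, 3, 3, 3, 3, 3, 3, 3, 1]) (cert [1, 1, 1, 1, 1, 1, 1, 1, 1]) (cert [4, 4, 4, 4, 4, 4, 4, 4, 1]) (cert [2, 2, 2, 2, 2, 2, 2, 2, 1])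
def t1268 : HTree := splitA (leaf 5 [3, 1, 0, 2, 4, 5, 6, 7, 8]) [3, 3, 3, 3, 3, 3, 3, 2, 1]
def t1269 : HTree := splitB t1267 t1268 [2, 2, 2, 2, 2, 2, 2, 1, 1] [4, 4, 4, 4, 4, 4, 4, 2, 1]
def t1270 : HTree := splitS t1269 8 7 5
def t1271 : HTree := splitS t1270 8 6 4
def t1272 : HTree := splitS t1271 8 5 3
def t1273 : HTree := splitS t1272 8 5 2
def t1274 : HTree := splitS t1273 8 4 1
def t1275 : HTree := splitS t1274 8 3 0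
def t1276 : HTree := splitB (skipZ 7) t1275 [1, 1, 1, 1, 1, 1, 1, 1, 0] [2, 2, 2, 2, 2, 2, 2, 1, 0]
def t1277 : HTree := splitA t1276 [2, 2, 2, 2, 2, 2, 1, 1, 0]
def t1278 : HTree := splitS t1277 7 6 4
def t1279 : HTree := splitS t1278 7 5 3
def t1280 : HTree := splitS t1279 7 5 2
def t1281 : HTree := splitS t1280 7 4 1
def t1282 : HTree := splitS t1281 7 3 0
def t1283 : HTree := splitB (skipZ 6) t1282 [1, 1, 1, 1, 1, 1, 1, 0, 0] [2, 2, 2, 2, 2, 2, 1, 0, 0]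
def t1284 : HTree := splitA t1283 [2, 2, 2, 2, 2, 1, 1, 0, 0]
def t1285 : HTree := splitS t1284 6 5 3
def t1286 : HTree := splitS t1285 6 5 2
def t1287 : HTree := splitS t1286 6 4 1
def t1288 : HTree := splitS t1287 6 3 0
def t1289 : HTree := splitB (skipZ 5) t1288 [1, 1, 1, 1, 1, 1, 0, 0, 0] [2, 2, 2, 2, 2, 1, 0, 0, 0]
def t1290 : HTree := splitA t1289 [3, 4, 2, 5, 1, 2, 0, 0, 0]
def t1291 : HTree := splitA t1290 [2, 2, 2, 2, 1, 1, 0, 0, 0]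
def t1292 : HTree := splitS t1291 5 4 1
def t1293 : HTree := splitS t1292 5 3 0
def t1294 : HTree := splitA t1293 [4, 5, 3, 6, 2, 0, 0, 0, 0]
def t1295 : HTree := splitB t1266 t1294 [1, 1, 1, 1, 1, 0, 0, 0, 0] [2, 2, 2, 2, 1, 0, 0, 0, 0]
def t1296 : HTree := splitA t1295 [2, 3, 1, 3, 1, 0, 0, 0, 0]
def t1297 : HTree := splitS t1296 4 3 0
def t1298 : HTree := splitA t1297 [1, 1, 1, 1, 0, 0, 0, 0, 0]
def t1299 : HTree := splitA (skipZ 4) [2, 3, 1, 2, 1, 0, 0, 0, 0]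
def t1300 : HTree := split (skipZ 8) (fin [2, 2, 2, 1, 2, 2, 2, 2, 2]) (leaf 1 [8, 7, 6, 5, 4, 2, 0, 1, 3]) (leaf 3 [3, 1, 0, 2, 4, 5, 6, 7, 8]) (cert [2, 2, 2, 1, 2, 2, 2, 2, 2]) (cert [6, 6, 6, 3, 6, 6, 6, 6, 2]) (cert [2, 2, 2, 1, 2, 2, 2, 2, 2]) (cert [4, 4, 4, 2, 4, 4, 4, 4, 1]) (cert [2, 2, 2, 1, 2, 2, 2, 2, 1])
def t1301 : HTree := splitA (leaf 4 [3, 1, 0, 2, 4, 5, 6, 7, 8]) [6, 6, 6, 3, 6, 6, 6, 4, 2]
def t1302 : HTree := splitB t1300 t1301 [2, 2, 2, 1, 2, 2, 2, 1, 1] [4, 4, 4, 2, 4, 4, 4, 2, 1]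
def t1303 : HTree := splitS t1302 8 7 5
def t1304 : HTree := splitS t1303 8 6 4
def t1305 : HTree := splitS t1304 8 5 3
def t1306 : HTree := splitS t1305 8 5 2
def t1307 : HTree := splitS t1306 8 4 1
def t1308 : HTree := splitS t1307 8 3 0
def t1309 : HTree := splitB (skipZ 7) t1308 [2, 2, 2, 1, 2, 2, 2, 2, 0] [2, 2, 2, 1, 2, 2, 2, 1, 0]
def t1310 : HTree := splitA t1309 [2, 2, 2, 1, 2, 2, 1, 1, 0]
def t1311 : HTree := splitS t1310 7 6 4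
def t1312 : HTree := splitS t1311 7 5 3
def t1313 : HTree := splitS t1312 7 5 2
def t1314 : HTree := splitS t1313 7 4 1
def t1315 : HTree := splitS t1314 7 3 0
def t1316 : HTree := splitB (skipZ 6) t1315 [2, 2, 2, 1, 2, 2, 2, 0, 0] [2, 2, 2, 1, 2, 2, 1, 0, 0]
def t1317 : HTree := splitA t1316 [2, 2, 2, 1, 2, 1, 1, 0, 0]
def t1318 : HTree := splitS t1317 6 5 3
def t1319 : HTree := splitS t1318 6 5 2
def t1320 : HTree := splitS t1319 6 4 1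
def t1321 : HTree := splitS t1320 6 3 0
def t1322 : HTree := splitB (skipZ 5) t1321 [2, 2, 2, 1, 2, 2, 0, 0, 0] [2, 2, 2, 1, 2, 1, 0, 0, 0]
def t1323 : HTree := splitA t1322 [6, 8, 4, 5, 2, 2, 0, 0, 0]
def t1324 : HTree := splitA t1323 [2, 2, 2, 1, 1, 1, 0, 0, 0]
def t1325 : HTree := splitS t1324 5 4 1
def t1326 : HTree := splitS t1325 5 3 0
def t1327 : HTree := splitA t1326 [6, 8, 4, 5, 2, 0, 0, 0, 0]
def t1328 : HTree := splitB t1299 t1327 [2, 2, 2, 1, 2, 0, 0, 0, 0] [2, 2, 2, 1, 1, 0, 0, 0, 0]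
def t1329 : HTree := splitA t1328 [4, 6, 2, 3, 2, 0, 0, 0, 0]
def t1330 : HTree := splitS t1329 4 3 0
def t1331 : HTree := splitA t1330 [6, 7, 5, 4, 0, 0, 0, 0, 0]
def t1332 : HTree := split t511 t1265 t1298 t1331 (cert [2, 3, 1, 4, 0, 0, 0, 0, 0]) (cert [6, 9, 3, 4, 0, 0, 0, 0, 0]) (cert [2, 3, 1, 4, 0, 0, 0, 0, 0]) (cert [2, 3, 1, 1, 0, 0, 0, 0, 0]) (cert [2, 3, 1, 2, 0, 0, 0, 0, 0])
def t1333 : HTree := split (skipZ 8) (fin [2, 1, 1, 2, 2, 2, 2, 2, 2]) (leaf 5 [8, 7, 6, 5, 4, 3, 0, 1, 2]) (leaf 4 [8, 7, 6, 5, 4, 3, 0, 1, 2]) (cert [2, 1, 1, 2, 2, 2, 2, 2, 2]) (cert [6, 3, 3, 6, 6, 6, 6, 6, 2]) (cert [2, 1, 1, 2, 2, 2, 2, 2, 2]) (cert [4, 2, 2, 4, 4, 4, 4, 4, 1]) (cert [2, 1, 1, 2, 2, 2, 2, 2, 1])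
def t1334 : HTree := splitA (leaf 6 [1, 2, 0, 3, 4, 5, 6, 7, 8]) [6, 3, 3, 6, 6, 6, 6, 4, 2]
def t1335 : HTree := splitB t1333 t1334 [2, 1, 1, 2, 2, 2, 2, 1, 1] [4, 2, 2, 4, 4, 4, 4, 2, 1]
def t1336 : HTree := splitS t1335 8 7 5
def t1337 : HTree := splitS t1336 8 6 4
def t1338 : HTree := splitS t1337 8 5 3
def t1339 : HTree := splitS t1338 8 4 2
def t1340 : HTree := splitS t1339 8 4 1
def t1341 : HTree := splitS t1340 8 4 0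
def t1342 : HTree := splitB (skipZ 7) t1341 [2, 1, 1, 2, 2, 2, 2, 2, 0] [2, 1, 1, 2, 2, 2, 2, 1, 0]
def t1343 : HTree := splitA t1342 [2, 1, 1, 2, 2, 2, 1, 1, 0]
def t1344 : HTree := splitS t1343 7 6 4
def t1345 : HTree := splitS t1344 7 5 3
def t1346 : HTree := splitS t1345 7 4 2
def t1347 : HTree := splitS t1346 7 4 1
def t1348 : HTree := splitS t1347 7 4 0
def t1349 : HTree := splitB (skipZ 6) t1348 [2, 1, 1, 2, 2, 2, 2, 0, 0] [2, 1, 1, 2, 2, 2, 1, 0, 0]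
def t1350 : HTree := splitA t1349 [2, 1, 1, 2, 2, 1, 1, 0, 0]
def t1351 : HTree := splitS t1350 6 5 3
def t1352 : HTree := splitS t1351 6 4 2
def t1353 : HTree := splitS t1352 6 4 1
def t1354 : HTree := splitS t1353 6 4 0
def t1355 : HTree := splitB (skipZ 5) t1354 [2, 1, 1, 2, 2, 2, 0, 0, 0] [2, 1, 1, 2, 2, 1, 0, 0, 0]
def t1356 : HTree := splitA t1355 [2, 1, 1, 2, 1, 1, 0, 0, 0]
def t1357 : HTree := splitS t1356 5 4 2
def t1358 : HTree := splitS t1357 5 4 1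
def t1359 : HTree := splitS t1358 5 4 0
def t1360 : HTree := splitB (skipZ 4) t1359 [2, 1, 1, 2, 2, 0, 0, 0, 0] [2, 1, 1, 2, 1, 0, 0, 0, 0]
def t1361 : HTree := split (skipZ 8) (fin [2, 1, 2, 1, 2, 2, 2, 2, 2]) (leaf 5 [8, 7, 6, 5, 4, 2, 0, 1, 3]) (leaf 4 [8, 7, 6, 5, 4, 2, 0, 1, 3]) (cert [2, 1, 2, 1, 2, 2, 2, 2, 2]) (cert [6, 3, 6, 3, 6, 6, 6, 6, 2]) (cert [2, 1, 2, 1, 2, 2, 2, 2, 2]) (cert [4, 2, 4, 2, 4, 4, 4, 4, 1]) (cert [2, 1, 2, 1, 2, 2, 2, 2, 1])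
def t1362 : HTree := splitA (leaf 6 [1, 3, 0, 2, 4, 5, 6, 7, 8]) [6, 3, 6, 3, 6, 6, 6, 4, 2]
def t1363 : HTree := splitB t1361 t1362 [2, 1, 2, 1, 2, 2, 2, 1, 1] [4, 2, 4, 2, 4, 4, 4, 2, 1]
def t1364 : HTree := splitS t1363 8 7 5
def t1365 : HTree := splitS t1364 8 6 4
def t1366 : HTree := splitS t1365 8 5 3
def t1367 : HTree := splitS t1366 8 5 2
def t1368 : HTree := splitS t1367 8 4 1
def t1369 : HTree := splitS t1368 8 4 0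
def t1370 : HTree := splitB (skipZ 7) t1369 [2, 1, 2, 1, 2, 2, 2, 2, 0] [2, 1, 2, 1, 2, 2, 2, 1, 0]
def t1371 : HTree := splitA t1370 [2, 1, 2, 1, 2, 2, 1, 1, 0]
def t1372 : HTree := splitS t1371 7 6 4
def t1373 : HTree := splitS t1372 7 5 3
def t1374 : HTree := splitS t1373 7 5 2
def t1375 : HTree := splitS t1374 7 4 1
def t1376 : HTree := splitS t1375 7 4 0
def t1377 : HTree := splitB (skipZ 6) t1376 [2, 1, 2, 1, 2, 2, 2, 0, 0] [2, 1, 2, 1, 2, 2, 1, 0, 0]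
def t1378 : HTree := splitA t1377 [2, 1, 2, 1, 2, 1, 1, 0, 0]
def t1379 : HTree := splitS t1378 6 5 3
def t1380 : HTree := splitS t1379 6 5 2
def t1381 : HTree := splitS t1380 6 4 1
def t1382 : HTree := splitS t1381 6 4 0
def t1383 : HTree := splitB (skipZ 5) t1382 [2, 1, 2, 1, 2, 2, 0, 0, 0] [2, 1, 2, 1, 2, 1, 0, 0, 0]
def t1384 : HTree := splitB (skipZ 8) (leaf 7 [8, 7, 6, 5, 3, 0, 2, 4, 1]) [6, 3, 4, 5, 2, 4, 3, 2, 1] [12, 6, 8, 10, 4, 8, 6, 4, 1]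
def t1385 : HTree := splitA t1384 [12, 6, 8, 10, 4, 8, 6, 3, 1]
def t1386 : HTree := splitS t1385 8 7 5
def t1387 : HTree := splitS t1386 8 6 4
def t1388 : HTree := splitS t1387 8 6 3
def t1389 : HTree := splitS t1388 8 5 2
def t1390 : HTree := splitS t1389 8 4 1
def t1391 : HTree := splitS t1390 8 4 0
def t1392 : HTree := splitB (skipZ 7) t1391 [6, 3, 4, 5, 2, 4, 3, 2, 0] [6, 3, 4, 5, 2, 4, 3, 1, 0]
def t1393 : HTree := splitA t1392 [6, 3, 4, 5, 2, 4, 2, 1, 0]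
def t1394 : HTree := splitS t1393 7 6 4
def t1395 : HTree := splitS t1394 7 6 3
def t1396 : HTree := splitS t1395 7 5 2
def t1397 : HTree := splitS t1396 7 4 1
def t1398 : HTree := splitS t1397 7 4 0
def t1399 : HTree := splitB (skipZ 6) t1398 [6, 3, 4, 5, 2, 4, 3, 0, 0] [12, 6, 8, 10, 4, 8, 3, 0, 0]
def t1400 : HTree := splitB (skipZ 8) (leaf 7 [8, 7, 6, 4, 2, 0, 3, 5, 1]) [6, 3, 5, 4, 4, 2, 3, 2, 1] [12, 6, 10, 8, 8, 4, 6, 4, 1]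
def t1401 : HTree := splitA t1400 [12, 6, 10, 8, 8, 4, 6, 3, 1]
def t1402 : HTree := splitS t1401 8 7 5
def t1403 : HTree := splitS t1402 8 7 4
def t1404 : HTree := splitS t1403 8 6 3
def t1405 : HTree := splitS t1404 8 5 2
def t1406 : HTree := splitS t1405 8 4 1
def t1407 : HTree := splitS t1406 8 4 0
def t1408 : HTree := splitB (skipZ 7) t1407 [6, 3, 5, 4, 4, 2, 3, 2, 0] [6, 3, 5, 4, 4, 2, 3, 1, 0]
def t1409 : HTree := splitA t1408 [4, 2, 3, 3, 2, 2, 1, 1, 0]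
def t1410 : HTree := splitA t1409 [6, 3, 5, 4, 4, 2, 2, 1, 0]
def t1411 : HTree := splitS t1410 7 6 3
def t1412 : HTree := splitS t1411 7 5 2
def t1413 : HTree := splitS t1412 7 4 1
def t1414 : HTree := splitS t1413 7 4 0
def t1415 : HTree := splitA t1414 [4, 2, 3, 3, 2, 2, 1, 0, 0]
def t1416 : HTree := splitB t1399 t1415 [6, 3, 5, 4, 4, 2, 3, 0, 0] [12, 6, 10, 8, 8, 4, 3, 0, 0]
def t1417 : HTree := splitA t1416 [12, 6, 8, 10, 4, 5, 3, 0, 0]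
def t1418 : HTree := splitS t1417 6 5 2
def t1419 : HTree := splitS t1418 6 4 1
def t1420 : HTree := splitS t1419 6 4 0
def t1421 : HTree := splitA t1420 [10, 5, 8, 7, 6, 4, 0, 0, 0]
def t1422 : HTree := splitB t1383 t1421 [6, 3, 4, 5, 2, 4, 0, 0, 0] [6, 3, 4, 5, 2, 2, 0, 0, 0]
def t1423 : HTree := splitA t1422 [2, 1, 2, 1, 1, 1, 0, 0, 0]
def t1424 : HTree := splitS t1423 5 4 1
def t1425 : HTree := splitS t1424 5 4 0
def t1426 : HTree := splitA t1425 [4, 2, 3, 3, 2, 0, 0, 0, 0]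
def t1427 : HTree := splitB t1360 t1426 [2, 1, 2, 1, 2, 0, 0, 0, 0] [2, 1, 2, 1, 1, 0, 0, 0, 0]
def t1428 : HTree := split (skipZ 8) (fin [2, 2, 1, 1, 2, 2, 2, 2, 2]) (leaf 5 [8, 7, 6, 5, 4, 1, 0, 2, 3]) (leaf 4 [8, 7, 6, 5, 4, 1, 0, 2, 3]) (cert [2, 2, 1, 1, 2, 2, 2, 2, 2]) (cert [6, 6, 3, 3, 6, 6, 6, 6, 2]) (cert [2, 2, 1, 1, 2, 2, 2, 2, 2]) (cert [4, 4, 2, 2, 4, 4, 4, 4, 1]) (cert [2, 2, 1, 1, 2, 2, 2, 2, 1])
def t1429 : HTree := splitA (leaf 6 [2, 3, 0, 1, 4, 5, 6, 7, 8]) [6, 6, 3, 3, 6, 6, 6, 4, 2]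
def t1430 : HTree := splitB t1428 t1429 [2, 2, 1, 1, 2, 2, 2, 1, 1] [4, 4, 2, 2, 4, 4, 4, 2, 1]
def t1431 : HTree := splitS t1430 8 7 5
def t1432 : HTree := splitS t1431 8 6 4
def t1433 : HTree := splitS t1432 8 5 3
def t1434 : HTree := splitS t1433 8 5 2
def t1435 : HTree := splitS t1434 8 5 1
def t1436 : HTree := splitS t1435 8 4 0
def t1437 : HTree := splitB (skipZ 7) t1436 [2, 2, 1, 1, 2, 2, 2, 2, 0] [2, 2, 1, 1, 2, 2, 2, 1, 0]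
def t1438 : HTree := splitA t1437 [2, 2, 1, 1, 2, 2, 1, 1, 0]
def t1439 : HTree := splitS t1438 7 6 4
def t1440 : HTree := splitS t1439 7 5 3
def t1441 : HTree := splitS t1440 7 5 2
def t1442 : HTree := splitS t1441 7 5 1
def t1443 : HTree := splitS t1442 7 4 0
def t1444 : HTree := splitB (skipZ 6) t1443 [2, 2, 1, 1, 2, 2, 2, 0, 0] [2, 2, 1, 1, 2, 2, 1, 0, 0]
def t1445 : HTree := splitA t1444 [2, 2, 1, 1, 2, 1, 1, 0, 0]
def t1446 : HTree := splitS t1445 6 5 3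
def t1447 : HTree := splitS t1446 6 5 2
def t1448 : HTree := splitS t1447 6 5 1
def t1449 : HTree := splitS t1448 6 4 0
def t1450 : HTree := splitB (skipZ 5) t1449 [2, 2, 1, 1, 2, 2, 0, 0, 0] [2, 2, 1, 1, 2, 1, 0, 0, 0]
def t1451 : HTree := splitB (skipZ 8) (leaf 7 [8, 7, 6, 5, 3, 0, 1, 4, 2]) [6, 4, 3, 5, 2, 4, 3, 2, 1] [12, 8, 6, 10, 4, 8, 6, 4, 1]
def t1452 : HTree := splitA t1451 [12, 8, 6, 10, 4, 8, 6, 3, 1]
def t1453 : HTree := splitS t1452 8 7 5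
def t1454 : HTree := splitS t1453 8 6 4
def t1455 : HTree := splitS t1454 8 6 3
def t1456 : HTree := splitS t1455 8 5 2
def t1457 : HTree := splitS t1456 8 5 1
def t1458 : HTree := splitS t1457 8 4 0
def t1459 : HTree := splitB (skipZ 7) t1458 [6, 4, 3, 5, 2, 4, 3, 2, 0] [6, 4, 3, 5, 2, 4, 3, 1, 0]
def t1460 : HTree := splitA t1459 [6, 4, 3, 5, 2, 4, 2, 1, 0]
def t1461 : HTree := splitS t1460 7 6 4
def t1462 : HTree := splitS t1461 7 6 3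
def t1463 : HTree := splitS t1462 7 5 2
def t1464 : HTree := splitS t1463 7 5 1
def t1465 : HTree := splitS t1464 7 4 0
def t1466 : HTree := splitB (skipZ 6) t1465 [6, 4, 3, 5, 2, 4, 3, 0, 0] [12, 8, 6, 10, 4, 8, 3, 0, 0]
def t1467 : HTree := splitB (skipZ 8) (leaf 7 [8, 7, 6, 4, 1, 0, 3, 5, 2]) [6, 5, 3, 4, 4, 2, 3, 2, 1] [12, 10, 6, 8, 8, 4, 6, 4, 1]
def t1468 : HTree := splitA t1467 [12, 10, 6, 8, 8, 4, 6, 3, 1]
def t1469 : HTree := splitS t1468 8 7 5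
def t1470 : HTree := splitS t1469 8 7 4
def t1471 : HTree := splitS t1470 8 6 3
def t1472 : HTree := splitS t1471 8 5 2
def t1473 : HTree := splitS t1472 8 5 1
def t1474 : HTree := splitS t1473 8 4 0
def t1475 : HTree := splitB (skipZ 7) t1474 [6, 5, 3, 4, 4, 2, 3, 2, 0] [6, 5, 3, 4, 4, 2, 3, 1, 0]
def t1476 : HTree := splitA t1475 [4, 3, 2, 3, 2, 2, 1, 1, 0]
def t1477 : HTree := splitA t1476 [6, 5, 3, 4, 4, 2, 2, 1, 0]
def t1478 : HTree := splitS t1477 7 6 3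
def t1479 : HTree := splitS t1478 7 5 2
def t1480 : HTree := splitS t1479 7 5 1
def t1481 : HTree := splitS t1480 7 4 0
def t1482 : HTree := splitA t1481 [4, 3, 2, 3, 2, 2, 1, 0, 0]
def t1483 : HTree := splitB t1466 t1482 [6, 5, 3, 4, 4, 2, 3, 0, 0] [12, 10, 6, 8, 8, 4, 3, 0, 0]
def t1484 : HTree := splitA t1483 [12, 8, 6, 10, 4, 5, 3, 0, 0]
def t1485 : HTree := splitS t1484 6 5 2
def t1486 : HTree := splitS t1485 6 5 1
def t1487 : HTree := splitS t1486 6 4 0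
def t1488 : HTree := splitA t1487 [10, 8, 5, 7, 6, 4, 0, 0, 0]
def t1489 : HTree := splitB t1450 t1488 [6, 4, 3, 5, 2, 4, 0, 0, 0] [6, 4, 3, 5, 2, 2, 0, 0, 0]
def t1490 : HTree := splitB (skipZ 8) (leaf 7 [8, 7, 6, 5, 2, 0, 1, 4, 3]) [6, 4, 5, 3, 2, 4, 3, 2, 1] [12, 8, 10, 6, 4, 8, 6, 4, 1]
def t1491 : HTree := splitA t1490 [12, 8, 10, 6, 4, 8, 6, 3, 1]
def t1492 : HTree := splitS t1491 8 7 5
def t1493 : HTree := splitS t1492 8 6 4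
def t1494 : HTree := splitS t1493 8 6 3
def t1495 : HTree := splitS t1494 8 6 2
def t1496 : HTree := splitS t1495 8 5 1
def t1497 : HTree := splitS t1496 8 4 0
def t1498 : HTree := splitB (skipZ 7) t1497 [6, 4, 5, 3, 2, 4, 3, 2, 0] [6, 4, 5, 3, 2, 4, 3, 1, 0]
def t1499 : HTree := splitA t1498 [6, 4, 5, 3, 2, 4, 2, 1, 0]
def t1500 : HTree := splitS t1499 7 6 4
def t1501 : HTree := splitS t1500 7 6 3
def t1502 : HTree := splitS t1501 7 6 2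
def t1503 : HTree := splitS t1502 7 5 1
def t1504 : HTree := splitS t1503 7 4 0
def t1505 : HTree := splitB (skipZ 6) t1504 [6, 4, 5, 3, 2, 4, 3, 0, 0] [12, 8, 10, 6, 4, 8, 3, 0, 0]
def t1506 : HTree := splitB (skipZ 8) (leaf 7 [8, 7, 6, 4, 1, 0, 2, 5, 3]) [6, 5, 4, 3, 4, 2, 3, 2, 1] [12, 10, 8, 6, 8, 4, 6, 4, 1]
def t1507 : HTree := splitA t1506 [12, 10, 8, 6, 8, 4, 6, 3, 1]
def t1508 : HTree := splitS t1507 8 7 5
def t1509 : HTree := splitS t1508 8 7 4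
def t1510 : HTree := splitS t1509 8 6 3
def t1511 : HTree := splitS t1510 8 6 2
def t1512 : HTree := splitS t1511 8 5 1
def t1513 : HTree := splitS t1512 8 4 0
def t1514 : HTree := splitB (skipZ 7) t1513 [6, 5, 4, 3, 4, 2, 3, 2, 0] [6, 5, 4, 3, 4, 2, 3, 1, 0]
def t1515 : HTree := splitA t1514 [4, 3, 3, 2, 2, 2, 1, 1, 0]
def t1516 : HTree := splitA t1515 [6, 5, 4, 3, 4, 2, 2, 1, 0]
def t1517 : HTree := splitS t1516 7 6 3
def t1518 : HTree := splitS t1517 7 6 2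
def t1519 : HTree := splitS t1518 7 5 1
def t1520 : HTree := splitS t1519 7 4 0
def t1521 : HTree := splitA t1520 [4, 3, 3, 2, 2, 2, 1, 0, 0]
def t1522 : HTree := splitB t1505 t1521 [6, 5, 4, 3, 4, 2, 3, 0, 0] [12, 10, 8, 6, 8, 4, 3, 0, 0]
def t1523 : HTree := splitA t1522 [3, 2, 2, 2, 1, 1, 1, 0, 0]
def t1524 : HTree := splitA t1523 [12, 8, 10, 6, 4, 5, 3, 0, 0]
def t1525 : HTree := splitS t1524 6 5 1
def t1526 : HTree := splitS t1525 6 4 0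
def t1527 : HTree := splitA t1526 [10, 8, 7, 5, 6, 4, 0, 0, 0]
def t1528 : HTree := splitA t1527 [3, 2, 2, 2, 1, 1, 0, 0, 0]
def t1529 : HTree := splitB t1489 t1528 [6, 4, 5, 3, 2, 4, 0, 0, 0] [6, 4, 5, 3, 2, 2, 0, 0, 0]
def t1530 : HTree := splitA t1529 [2, 2, 1, 1, 1, 1, 0, 0, 0]
def t1531 : HTree := splitS t1530 5 4 0
def t1532 : HTree := splitA t1531 [4, 3, 2, 3, 2, 0, 0, 0, 0]
def t1533 : HTree := splitA t1532 [4, 3, 3, 2, 2, 0, 0, 0, 0]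
def t1534 : HTree := splitB t1427 t1533 [2, 2, 1, 1, 2, 0, 0, 0, 0] [2, 2, 1, 1, 1, 0, 0, 0, 0]
def t1535 : HTree := splitA t1534 [2, 1, 1, 1, 1, 0, 0, 0, 0]
def t1536 : HTree := splitA t1535 [6, 3, 5, 4, 0, 0, 0, 0, 0]
def t1537 : HTree := splitA t1536 [6, 5, 3, 4, 0, 0, 0, 0, 0]
def t1538 : HTree := splitB t1332 t1537 [2, 1, 1, 2, 0, 0, 0, 0, 0] [2, 1, 1, 1, 0, 0, 0, 0, 0]
def t1539 : HTree := splitA t1538 [1, 1, 1, 0, 0, 0, 0, 0, 0]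
def t1540 : HTree := splitA (skipZ 4) [2, 1, 3, 2, 1, 0, 0, 0, 0]
def t1541 : HTree := splitA t1540 [4, 2, 6, 3, 1, 0, 0, 0, 0]
def t1542 : HTree := splitS t1541 4 3 1
def t1543 : HTree := splitS t1542 4 3 0
def t1544 : HTree := splitB (skipZ 3) t1543 [2, 1, 3, 2, 0, 0, 0, 0, 0] [2, 1, 3, 1, 0, 0, 0, 0, 0]
def t1545 : HTree := split (skipZ 8) (fin [1, 1, 1, 1, 1, 1, 1, 1, 1]) (leaf 2 [2, 0, 1, 3, 4, 5, 6, 7, 8]) (leaf 1 [2, 0, 1, 3, 4, 5, 6, 7, 8]) (cert [1, 1, 1, 1, 1, 1, 1, 1, 1]) (cert [3, 3, 3, 3, 3, 3, 3, 3, 1]) (cert [1, 1, 1, 1, 1, 1, 1, 1, 1]) (cert [4, 4, 4, 4, 4, 4, 4, 4, 1]) (cert [2, 2, 2, 2, 2, 2, 2, 2, 1])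
def t1546 : HTree := splitA (leaf 5 [2, 0, 1, 3, 4, 5, 6, 7, 8]) [3, 3, 3, 3, 3, 3, 3, 2, 1]
def t1547 : HTree := splitB t1545 t1546 [2, 2, 2, 2, 2, 2, 2, 1, 1] [4, 4, 4, 4, 4, 4, 4, 2, 1]
def t1548 : HTree := splitS t1547 8 7 5
def t1549 : HTree := splitS t1548 8 6 4
def t1550 : HTree := splitS t1549 8 5 3
def t1551 : HTree := splitS t1550 8 4 2
def t1552 : HTree := splitS t1551 8 4 1
def t1553 : HTree := splitS t1552 8 3 0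
def t1554 : HTree := splitB (skipZ 7) t1553 [1, 1, 1, 1, 1, 1, 1, 1, 0] [2, 2, 2, 2, 2, 2, 2, 1, 0]
def t1555 : HTree := splitA t1554 [2, 2, 2, 2, 2, 2, 1, 1, 0]
def t1556 : HTree := splitS t1555 7 6 4
def t1557 : HTree := splitS t1556 7 5 3
def t1558 : HTree := splitS t1557 7 4 2
def t1559 : HTree := splitS t1558 7 4 1
def t1560 : HTree := splitS t1559 7 3 0
def t1561 : HTree := splitB (skipZ 6) t1560 [1, 1, 1, 1, 1, 1, 1, 0, 0] [2, 2, 2, 2, 2, 2, 1, 0, 0]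
def t1562 : HTree := splitA t1561 [2, 2, 2, 2, 2, 1, 1, 0, 0]
def t1563 : HTree := splitS t1562 6 5 3
def t1564 : HTree := splitS t1563 6 4 2
def t1565 : HTree := splitS t1564 6 4 1
def t1566 : HTree := splitS t1565 6 3 0
def t1567 : HTree := splitB (skipZ 5) t1566 [1, 1, 1, 1, 1, 1, 0, 0, 0] [2, 2, 2, 2, 2, 1, 0, 0, 0]
def t1568 : HTree := splitA t1567 [2, 2, 2, 2, 1, 1, 0, 0, 0]
def t1569 : HTree := splitS t1568 5 4 2
def t1570 : HTree := splitS t1569 5 4 1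
def t1571 : HTree := splitS t1570 5 3 0
def t1572 : HTree := splitB (skipZ 4) t1571 [1, 1, 1, 1, 1, 0, 0, 0, 0] [2, 2, 2, 2, 1, 0, 0, 0, 0]
def t1573 : HTree := splitA t1572 [3, 2, 4, 1, 2, 0, 0, 0, 0]
def t1574 : HTree := splitA t1573 [2, 2, 2, 1, 1, 0, 0, 0, 0]
def t1575 : HTree := splitS t1574 4 3 0
def t1576 : HTree := splitA t1575 [4, 3, 5, 2, 0, 0, 0, 0, 0]
def t1577 : HTree := splitB t1544 t1576 [1, 1, 1, 1, 0, 0, 0, 0, 0] [2, 2, 2, 1, 0, 0, 0, 0, 0]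
def t1578 : HTree := splitA t1577 [2, 1, 2, 1, 0, 0, 0, 0, 0]
def t1579 : HTree := splitA t1578 [1, 1, 1, 0, 0, 0, 0, 0, 0]
def t1580 : HTree := splitA (skipZ 4) [4, 2, 3, 2, 1, 0, 0, 0, 0]
def t1581 : HTree := splitA t1580 [8, 4, 6, 3, 1, 0, 0, 0, 0]
def t1582 : HTree := splitS t1581 4 3 1
def t1583 : HTree := splitS t1582 4 3 0
def t1584 : HTree := splitB (skipZ 3) t1583 [4, 2, 3, 2, 0, 0, 0, 0, 0] [4, 2, 3, 1, 0, 0, 0, 0, 0]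
def t1585 : HTree := split (skipZ 8) (fin [2, 2, 1, 2, 2, 2, 2, 2, 2]) (leaf 1 [8, 7, 6, 5, 4, 3, 1, 0, 2]) (leaf 3 [2, 0, 1, 3, 4, 5, 6, 7, 8]) (cert [2, 2, 1, 2, 2, 2, 2, 2, 2]) (cert [6, 6, 3, 6, 6, 6, 6, 6, 2]) (cert [2, 2, 1, 2, 2, 2, 2, 2, 2]) (cert [4, 4, 2, 4, 4, 4, 4, 4, 1]) (cert [2, 2, 1, 2, 2, 2, 2, 2, 1])
def t1586 : HTree := splitA (leaf 4 [2, 0, 1, 3, 4, 5, 6, 7, 8]) [6, 6, 3, 6, 6, 6, 6, 4, 2]
def t1587 : HTree := splitB t1585 t1586 [2, 2, 1, 2, 2, 2, 2, 1, 1] [4, 4, 2, 4, 4, 4, 4, 2, 1]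
def t1588 : HTree := splitS t1587 8 7 5
def t1589 : HTree := splitS t1588 8 6 4
def t1590 : HTree := splitS t1589 8 5 3
def t1591 : HTree := splitS t1590 8 4 2
def t1592 : HTree := splitS t1591 8 4 1
def t1593 : HTree := splitS t1592 8 3 0
def t1594 : HTree := splitB (skipZ 7) t1593 [2, 2, 1, 2, 2, 2, 2, 2, 0] [2, 2, 1, 2, 2, 2, 2, 1, 0]
def t1595 : HTree := splitA t1594 [2, 2, 1, 2, 2, 2, 1, 1, 0]
def t1596 : HTree := splitS t1595 7 6 4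
def t1597 : HTree := splitS t1596 7 5 3
def t1598 : HTree := splitS t1597 7 4 2
def t1599 : HTree := splitS t1598 7 4 1
def t1600 : HTree := splitS t1599 7 3 0
def t1601 : HTree := splitB (skipZ 6) t1600 [2, 2, 1, 2, 2, 2, 2, 0, 0] [2, 2, 1, 2, 2, 2, 1, 0, 0]
def t1602 : HTree := splitA t1601 [2, 2, 1, 2, 2, 1, 1, 0, 0]
def t1603 : HTree := splitS t1602 6 5 3
def t1604 : HTree := splitS t1603 6 4 2
def t1605 : HTree := splitS t1604 6 4 1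
def t1606 : HTree := splitS t1605 6 3 0
def t1607 : HTree := splitB (skipZ 5) t1606 [2, 2, 1, 2, 2, 2, 0, 0, 0] [2, 2, 1, 2, 2, 1, 0, 0, 0]
def t1608 : HTree := splitA t1607 [2, 2, 1, 2, 1, 1, 0, 0, 0]
def t1609 : HTree := splitS t1608 5 4 2
def t1610 : HTree := splitS t1609 5 4 1
def t1611 : HTree := splitS t1610 5 3 0
def t1612 : HTree := splitB (skipZ 4) t1611 [2, 2, 1, 2, 2, 0, 0, 0, 0] [2, 2, 1, 2, 1, 0, 0, 0, 0]
def t1613 : HTree := splitA t1612 [3, 2, 2, 1, 1, 0, 0, 0, 0]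
def t1614 : HTree := splitA t1613 [2, 2, 1, 1, 1, 0, 0, 0, 0]
def t1615 : HTree := splitS t1614 4 3 0
def t1616 : HTree := splitA t1615 [3, 2, 2, 1, 0, 0, 0, 0, 0]
def t1617 : HTree := splitB t1584 t1616 [2, 2, 1, 2, 0, 0, 0, 0, 0] [2, 2, 1, 1, 0, 0, 0, 0, 0]
def t1618 : HTree := splitA t1617 [2, 1, 1, 1, 0, 0, 0, 0, 0]
def t1619 : HTree := splitA t1618 [5, 4, 3, 0, 0, 0, 0, 0, 0]
def t1620 : HTree := split t313 t1539 t1579 t1619 (cert [2, 1, 3, 0, 0, 0, 0, 0, 0]) (cert [2, 1, 1, 0, 0, 0, 0, 0, 0]) (cert [2, 1, 3, 0, 0, 0, 0, 0, 0]) (cert [8, 4, 3, 0, 0, 0, 0, 0, 0]) (cert [4, 2, 3, 0, 0, 0, 0, 0, 0])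
def t1621 : HTree := split (skipZ 8) (fin [1, 2, 2, 2, 2, 2, 2, 2, 2]) (leaf 1 [8, 7, 6, 5, 4, 3, 2, 1, 0]) (leaf 3 [0, 1, 2, 3, 4, 5, 6, 7, 8]) (cert [1, 2, 2, 2, 2, 2, 2, 2, 2]) (cert [3, 6, 6, 6, 6, 6, 6, 6, 2]) (cert [1, 2, 2, 2, 2, 2, 2, 2, 2]) (cert [2, 4, 4, 4, 4, 4, 4, 4, 1]) (cert [1, 2, 2, 2, 2, 2, 2, 2, 1])
def t1622 : HTree := splitA (leaf 4 [0, 1, 2, 3, 4, 5, 6, 7, 8]) [3, 6, 6, 6, 6, 6, 6, 4, 2]
def t1623 : HTree := splitB t1621 t1622 [1, 2, 2, 2, 2, 2, 2, 1, 1] [2, 4, 4, 4, 4, 4, 4, 2, 1]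
def t1624 : HTree := splitS t1623 8 7 5
def t1625 : HTree := splitS t1624 8 6 4
def t1626 : HTree := splitS t1625 8 5 3
def t1627 : HTree := splitS t1626 8 4 2
def t1628 : HTree := splitS t1627 8 3 1
def t1629 : HTree := splitS t1628 8 2 0
def t1630 : HTree := splitB (skipZ 7) t1629 [1, 2, 2, 2, 2, 2, 2, 2, 0] [1, 2, 2, 2, 2, 2, 2, 1, 0]
def t1631 : HTree := splitA t1630 [1, 2, 2, 2, 2, 2, 1, 1, 0]
def t1632 : HTree := splitS t1631 7 6 4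
def t1633 : HTree := splitS t1632 7 5 3
def t1634 : HTree := splitS t1633 7 4 2
def t1635 : HTree := splitS t1634 7 3 1
def t1636 : HTree := splitS t1635 7 2 0
def t1637 : HTree := splitB (skipZ 6) t1636 [1, 2, 2, 2, 2, 2, 2, 0, 0] [1, 2, 2, 2, 2, 2, 1, 0, 0]
def t1638 : HTree := splitA t1637 [1, 2, 2, 2, 2, 1, 1, 0, 0]
def t1639 : HTree := splitS t1638 6 5 3
def t1640 : HTree := splitS t1639 6 4 2
def t1641 : HTree := splitS t1640 6 3 1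
def t1642 : HTree := splitS t1641 6 2 0
def t1643 : HTree := splitB (skipZ 5) t1642 [1, 2, 2, 2, 2, 2, 0, 0, 0] [1, 2, 2, 2, 2, 1, 0, 0, 0]
def t1644 : HTree := splitA t1643 [1, 2, 2, 2, 1, 1, 0, 0, 0]
def t1645 : HTree := splitS t1644 5 4 2
def t1646 : HTree := splitS t1645 5 3 1
def t1647 : HTree := splitS t1646 5 2 0
def t1648 : HTree := splitB (skipZ 4) t1647 [1, 2, 2, 2, 2, 0, 0, 0, 0] [1, 2, 2, 2, 1, 0, 0, 0, 0]
def t1649 : HTree := splitA t1648 [1, 2, 2, 1, 1, 0, 0, 0, 0]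
def t1650 : HTree := splitS t1649 4 3 1
def t1651 : HTree := splitS t1650 4 2 0
def t1652 : HTree := splitB (skipZ 3) t1651 [1, 2, 2, 2, 0, 0, 0, 0, 0] [1, 2, 2, 1, 0, 0, 0, 0, 0]
def t1653 : HTree := splitA t1652 [1, 2, 1, 1, 0, 0, 0, 0, 0]
def t1654 : HTree := splitS t1653 3 2 0
def t1655 : HTree := splitB (skipZ 2) t1654 [1, 2, 2, 0, 0, 0, 0, 0, 0] [1, 2, 1, 0, 0, 0, 0, 0, 0]
def t1656 : HTree := split (skipZ 8) (fin [1, 1, 1, 1, 1, 1, 1, 1, 1]) (leaf 2 [1, 0, 2, 3, 4, 5, 6, 7, 8]) (leaf 1 [1, 0, 2, 3, 4, 5, 6, 7, 8]) (cert [1, 1, 1, 1, 1, 1, 1, 1, 1]) (cert [3, 3, 3, 3, 3, 3, 3, 3, 1]) (cert [1, 1, 1, 1, 1, 1, 1, 1, 1]) (cert [4, 4, 4, 4, 4, 4, 4, 4, 1]) (cert [2, 2, 2, 2, 2, 2, 2, 2, 1])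
def t1657 : HTree := splitA (leaf 5 [1, 0, 2, 3, 4, 5, 6, 7, 8]) [3, 3, 3, 3, 3, 3, 3, 2, 1]
def t1658 : HTree := splitB t1656 t1657 [2, 2, 2, 2, 2, 2, 2, 1, 1] [4, 4, 4, 4, 4, 4, 4, 2, 1]
def t1659 : HTree := splitS t1658 8 7 5
def t1660 : HTree := splitS t1659 8 6 4
def t1661 : HTree := splitS t1660 8 5 3
def t1662 : HTree := splitS t1661 8 4 2
def t1663 : HTree := splitS t1662 8 3 1
def t1664 : HTree := splitS t1663 8 3 0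
def t1665 : HTree := splitB (skipZ 7) t1664 [1, 1, 1, 1, 1, 1, 1, 1, 0] [2, 2, 2, 2, 2, 2, 2, 1, 0]
def t1666 : HTree := splitA t1665 [2, 2, 2, 2, 2, 2, 1, 1, 0]
def t1667 : HTree := splitS t1666 7 6 4
def t1668 : HTree := splitS t1667 7 5 3
def t1669 : HTree := splitS t1668 7 4 2
def t1670 : HTree := splitS t1669 7 3 1
def t1671 : HTree := splitS t1670 7 3 0
def t1672 : HTree := splitB (skipZ 6) t1671 [1, 1, 1, 1, 1, 1, 1, 0, 0] [2, 2, 2, 2, 2, 2, 1, 0, 0]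
def t1673 : HTree := splitA t1672 [2, 2, 2, 2, 2, 1, 1, 0, 0]
def t1674 : HTree := splitS t1673 6 5 3
def t1675 : HTree := splitS t1674 6 4 2
def t1676 : HTree := splitS t1675 6 3 1
def t1677 : HTree := splitS t1676 6 3 0
def t1678 : HTree := splitB (skipZ 5) t1677 [1, 1, 1, 1, 1, 1, 0, 0, 0] [2, 2, 2, 2, 2, 1, 0, 0, 0]
def t1679 : HTree := splitA t1678 [2, 2, 2, 2, 1, 1, 0, 0, 0]
def t1680 : HTree := splitS t1679 5 4 2
def t1681 : HTree := splitS t1680 5 3 1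
def t1682 : HTree := splitS t1681 5 3 0
def t1683 : HTree := splitB (skipZ 4) t1682 [1, 1, 1, 1, 1, 0, 0, 0, 0] [2, 2, 2, 2, 1, 0, 0, 0, 0]
def t1684 : HTree := splitA t1683 [2, 2, 2, 1, 1, 0, 0, 0, 0]
def t1685 : HTree := splitS t1684 4 3 1
def t1686 : HTree := splitS t1685 4 3 0
def t1687 : HTree := splitB (skipZ 3) t1686 [1, 1, 1, 1, 0, 0, 0, 0, 0] [2, 2, 2, 1, 0, 0, 0, 0, 0]
def t1688 : HTree := splitA (skipZ 4) [2, 3, 1, 2, 1, 0, 0, 0, 0]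
def t1689 : HTree := splitA t1688 [3, 4, 2, 2, 1, 0, 0, 0, 0]
def t1690 : HTree := splitA t1689 [4, 6, 2, 3, 1, 0, 0, 0, 0]
def t1691 : HTree := splitS t1690 4 3 0
def t1692 : HTree := splitA t1691 [4, 5, 3, 2, 0, 0, 0, 0, 0]
def t1693 : HTree := splitB t1687 t1692 [2, 3, 1, 2, 0, 0, 0, 0, 0] [2, 3, 1, 1, 0, 0, 0, 0, 0]
def t1694 : HTree := splitA t1693 [2, 2, 1, 1, 0, 0, 0, 0, 0]
def t1695 : HTree := splitA t1694 [3, 4, 2, 0, 0, 0, 0, 0, 0]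
def t1696 : HTree := splitB t1655 t1695 [1, 1, 1, 0, 0, 0, 0, 0, 0] [2, 2, 1, 0, 0, 0, 0, 0, 0]
def t1697 : HTree := split (skipZ 8) (fin [1, 1, 1, 1, 1, 1, 1, 1, 1]) (leaf 2 [0, 1, 2, 3, 4, 5, 6, 7, 8]) (leaf 1 [0, 1, 2, 3, 4, 5, 6, 7, 8]) (cert [1, 1, 1, 1, 1, 1, 1, 1, 1]) (cert [3, 3, 3, 3, 3, 3, 3, 3, 1]) (cert [1, 1, 1, 1, 1, 1, 1, 1, 1]) (cert [4, 4, 4, 4, 4, 4, 4, 4, 1]) (cert [2, 2, 2, 2, 2, 2, 2, 2, 1])
def t1698 : HTree := splitA (leaf 5 [0, 1, 2, 3, 4, 5, 6, 7, 8]) [3, 3, 3, 3, 3, 3, 3, 2, 1]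
def t1699 : HTree := splitB t1697 t1698 [2, 2, 2, 2, 2, 2, 2, 1, 1] [4, 4, 4, 4, 4, 4, 4, 2, 1]
def t1700 : HTree := splitS t1699 8 7 5
def t1701 : HTree := splitS t1700 8 6 4
def t1702 : HTree := splitS t1701 8 5 3
def t1703 : HTree := splitS t1702 8 4 2
def t1704 : HTree := splitS t1703 8 3 1
def t1705 : HTree := splitS t1704 8 2 0
def t1706 : HTree := splitB (skipZ 7) t1705 [1, 1, 1, 1, 1, 1, 1, 1, 0] [2, 2, 2, 2, 2, 2, 2, 1, 0]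
def t1707 : HTree := splitA t1706 [2, 2, 2, 2, 2, 2, 1, 1, 0]
def t1708 : HTree := splitS t1707 7 6 4
def t1709 : HTree := splitS t1708 7 5 3
def t1710 : HTree := splitS t1709 7 4 2
def t1711 : HTree := splitS t1710 7 3 1
def t1712 : HTree := splitS t1711 7 2 0
def t1713 : HTree := splitB (skipZ 6) t1712 [1, 1, 1, 1, 1, 1, 1, 0, 0] [2, 2, 2, 2, 2, 2, 1, 0, 0]
def t1714 : HTree := splitA t1713 [2, 2, 2, 2, 2, 1, 1, 0, 0]
def t1715 : HTree := splitS t1714 6 5 3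
def t1716 : HTree := splitS t1715 6 4 2
def t1717 : HTree := splitS t1716 6 3 1
def t1718 : HTree := splitS t1717 6 2 0
def t1719 : HTree := splitB (skipZ 5) t1718 [1, 1, 1, 1, 1, 1, 0, 0, 0] [2, 2, 2, 2, 2, 1, 0, 0, 0]
def t1720 : HTree := splitA t1719 [2, 2, 2, 2, 1, 1, 0, 0, 0]
def t1721 : HTree := splitS t1720 5 4 2
def t1722 : HTree := splitS t1721 5 3 1
def t1723 : HTree := splitS t1722 5 2 0
def t1724 : HTree := splitB (skipZ 4) t1723 [1, 1, 1, 1, 1, 0, 0, 0, 0] [2, 2, 2, 2, 1, 0, 0, 0, 0]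
def t1725 : HTree := splitA t1724 [2, 2, 2, 1, 1, 0, 0, 0, 0]
def t1726 : HTree := splitS t1725 4 3 1
def t1727 : HTree := splitS t1726 4 2 0
def t1728 : HTree := splitB (skipZ 3) t1727 [1, 1, 1, 1, 0, 0, 0, 0, 0] [2, 2, 2, 1, 0, 0, 0, 0, 0]
def t1729 : HTree := splitA t1728 [2, 2, 1, 1, 0, 0, 0, 0, 0]
def t1730 : HTree := splitS t1729 3 2 0
def t1731 : HTree := splitB (skipZ 2) t1730 [1, 1, 1, 0, 0, 0, 0, 0, 0] [2, 2, 1, 0, 0, 0, 0, 0, 0]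
def t1732 : HTree := split (skipZ 8) (fin [2, 1, 2, 2, 2, 2, 2, 2, 2]) (leaf 1 [8, 7, 6, 5, 4, 3, 2, 0, 1]) (leaf 3 [1, 0, 2, 3, 4, 5, 6, 7, 8]) (cert [2, 1, 2, 2, 2, 2, 2, 2, 2]) (cert [6, 3, 6, 6, 6, 6, 6, 6, 2]) (cert [2, 1, 2, 2, 2, 2, 2, 2, 2]) (cert [4, 2, 4, 4, 4, 4, 4, 4, 1]) (cert [2, 1, 2, 2, 2, 2, 2, 2, 1])
def t1733 : HTree := splitA (leaf 4 [1, 0, 2, 3, 4, 5, 6, 7, 8]) [6, 3, 6, 6, 6, 6, 6, 4, 2]
def t1734 : HTree := splitB t1732 t1733 [2, 1, 2, 2, 2, 2, 2, 1, 1] [4, 2, 4, 4, 4, 4, 4, 2, 1]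
def t1735 : HTree := splitS t1734 8 7 5
def t1736 : HTree := splitS t1735 8 6 4
def t1737 : HTree := splitS t1736 8 5 3
def t1738 : HTree := splitS t1737 8 4 2
def t1739 : HTree := splitS t1738 8 3 1
def t1740 : HTree := splitS t1739 8 3 0
def t1741 : HTree := splitB (skipZ 7) t1740 [2, 1, 2, 2, 2, 2, 2, 2, 0] [2, 1, 2, 2, 2, 2, 2, 1, 0]
def t1742 : HTree := splitA t1741 [2, 1, 2, 2, 2, 2, 1, 1, 0]
def t1743 : HTree := splitS t1742 7 6 4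
def t1744 : HTree := splitS t1743 7 5 3
def t1745 : HTree := splitS t1744 7 4 2
def t1746 : HTree := splitS t1745 7 3 1
def t1747 : HTree := splitS t1746 7 3 0
def t1748 : HTree := splitB (skipZ 6) t1747 [2, 1, 2, 2, 2, 2, 2, 0, 0] [2, 1, 2, 2, 2, 2, 1, 0, 0]
def t1749 : HTree := splitA t1748 [2, 1, 2, 2, 2, 1, 1, 0, 0]
def t1750 : HTree := splitS t1749 6 5 3
def t1751 : HTree := splitS t1750 6 4 2
def t1752 : HTree := splitS t1751 6 3 1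
def t1753 : HTree := splitS t1752 6 3 0
def t1754 : HTree := splitB (skipZ 5) t1753 [2, 1, 2, 2, 2, 2, 0, 0, 0] [2, 1, 2, 2, 2, 1, 0, 0, 0]
def t1755 : HTree := splitA t1754 [2, 1, 2, 2, 1, 1, 0, 0, 0]
def t1756 : HTree := splitS t1755 5 4 2
def t1757 : HTree := splitS t1756 5 3 1
def t1758 : HTree := splitS t1757 5 3 0
def t1759 : HTree := splitB (skipZ 4) t1758 [2, 1, 2, 2, 2, 0, 0, 0, 0] [2, 1, 2, 2, 1, 0, 0, 0, 0]
def t1760 : HTree := splitA t1759 [2, 1, 2, 1, 1, 0, 0, 0, 0]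
def t1761 : HTree := splitS t1760 4 3 1
def t1762 : HTree := splitS t1761 4 3 0
def t1763 : HTree := splitB (skipZ 3) t1762 [2, 1, 2, 2, 0, 0, 0, 0, 0] [2, 1, 2, 1, 0, 0, 0, 0, 0]
def t1764 : HTree := splitA (skipZ 4) [4, 3, 2, 2, 1, 0, 0, 0, 0]
def t1765 : HTree := splitA t1764 [3, 2, 2, 1, 1, 0, 0, 0, 0]
def t1766 : HTree := splitA t1765 [8, 6, 4, 3, 1, 0, 0, 0, 0]
def t1767 : HTree := splitS t1766 4 3 0
def t1768 : HTree := splitA t1767 [3, 2, 2, 1, 0, 0, 0, 0, 0]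
def t1769 : HTree := splitB t1763 t1768 [4, 3, 2, 2, 0, 0, 0, 0, 0] [4, 3, 2, 1, 0, 0, 0, 0, 0]
def t1770 : HTree := splitA t1769 [2, 1, 1, 1, 0, 0, 0, 0, 0]
def t1771 : HTree := splitA t1770 [4, 3, 2, 0, 0, 0, 0, 0, 0]
def t1772 : HTree := splitB t1731 t1771 [2, 1, 2, 0, 0, 0, 0, 0, 0] [2, 1, 1, 0, 0, 0, 0, 0, 0]
def t1773 : HTree := splitA (skipZ 2) [1, 2, 1, 0, 0, 0, 0, 0, 0]
def t1774 : HTree := splitA t1773 [2, 3, 1, 0, 0, 0, 0, 0, 0]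
def t1775 : HTree := splitA (skipZ 2) [3, 2, 1, 0, 0, 0, 0, 0, 0]
def t1776 : HTree := splitA t1775 [2, 1, 1, 0, 0, 0, 0, 0, 0]
def t1777 : HTree := split (skipZ 1) t1620 t1696 t1772 t1774 t1776 (cert [1, 2, 0, 0, 0, 0, 0, 0, 0]) (cert [2, 1, 0, 0, 0, 0, 0, 0, 0]) (cert [1, 1, 0, 0, 0, 0, 0, 0, 0])

def tree : HTree := t1777

set_option maxRecDepth 100000 in
theorem tree_ok : chk 9 canon tree [] = true := by decide +kernel

end Groth.Agent.H79.Aff.N9
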