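import Groth.Agent.H79.AffBase

/-!
# Breadth-first orderings of affine data
-/

set_option autoImplicit false
set_option linter.unusedVariables false

namespace Groth.Agent.H79.Aff

open Finset

variable {n : ℕ}

namespace AffData

/-- The indices are in breadth-first order: every index but the first is joined to an earlier
one, and the first neighbours are non-decreasing. -/
def IsBFS (D : AffData n) : Prop :=
  (∀ k : Fin n, 1 ≤ k.val → ∃ j : Fin n, j < k ∧ D.b j k ≠ 0) ∧
  (∀ j k' k : Fin n, j < k' → k' < k → D.b j k ≠ 0 → ∃ j' : Fin n, j' ≤ j ∧ D.b j' k' ≠ 0)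

/-- invariant of the construction of a breadth-first order -/
def InvF (D : AffData n) (f : ℕ → Fin n) (t : ℕ) : Prop :=
  (∀ i < t, ∀ j < t, f i = f j → i = j) ∧
  ∀ k', 1 ≤ k' → k' < t → ∃ p < k', D.b (f p) (f k') ≠ 0 ∧
    ∀ j < p, ∀ v, D.b (f j) v ≠ 0 → ∃ i < k', f i = v

theorem invF_step (D : AffData n) (f : ℕ → Fin n) (t : ℕ) (h1 : 1 ≤ t) (htn : t < n)
    (hinv : D.InvF f t) : ∃ v, D.InvF (Function.update f t v) (t + 1) := by
  classical
  obtain ⟨hinj, hpar⟩ := hinv
  let I : Finset (Fin n) := (Finset.range t).image f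
  have hI : I.Nonempty := ⟨f 0, Finset.mem_image.mpr ⟨0, Finset.mem_range.mpr (by omega), rfl⟩⟩
  have hne : I ≠ univ := by
    intro h
    have hc : I.card ≤ t := by
      calc I.card ≤ (Finset.range t).card := Finset.card_image_le
        _ = t := Finset.card_range t
    rw [h, Finset.card_univ, Fintype.card_fin] at hc
    omega
  have hmemI : ∀ v, v ∈ I ↔ ∃ i < t, f i = v := by
    intro v
    simp [I]
  obtain ⟨i, hi, v₀, hv₀, hiv⟩ := D.conn I hI hne
  obtain ⟨p₀, hp₀, rfl⟩ := (hmemI i).mp hi
  have hex : ∃ p, p < t ∧ ∃ v, v ∉ I ∧ D.b (f p) v ≠ 0 := ⟨p₀, hp₀, v₀, hv₀, hiv⟩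
  let p := Nat.find hex
  obtain ⟨hpt, v, hvI, hpv⟩ := Nat.find_spec hex
  have hmin : ∀ j < p, ¬ (j < t ∧ ∃ v, v ∉ I ∧ D.b (f j) v ≠ 0) := fun j hj => Nat.find_min hex hj
  refine ⟨v, ?_, ?_⟩
  · -- injectivity
    have hg : ∀ i < t, Function.update f t v i = f i := by
      intro i hi
      rw [Function.update_of_ne (by omega)]
    have hgt : Function.update f t v t = v := Function.update_self _ _ _
    intro i hi j hj hij
    rcases Nat.lt_succ_iff_lt_or_eq.mp hi with hi' | hi'
    · rcases Nat.lt_succ_iff_lt_or_eq.mp hj with hj' | hj'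
      · rw [hg i hi', hg j hj'] at hij
        exact hinj i hi' j hj' hij
      · subst hj'
        rw [hg i hi', hgt] at hij
        exact absurd ((hmemI v).mpr ⟨i, hi', hij⟩) hvI
    · rcases Nat.lt_succ_iff_lt_or_eq.mp hj with hj' | hj'
      · subst hi'
        rw [hg j hj', hgt] at hij
        exact absurd ((hmemI v).mpr ⟨j, hj', hij.symm⟩) hvI
      · omega
  · have hg : ∀ i < t, Function.update f t v i = f i := by
      intro i hi
      rw [Function.update_of_ne (by omega)]
    have hgt : Function.update f t v t = v := Function.update_self _ _ _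
    intro k' hk1 hk't
    rcases Nat.lt_succ_iff_lt_or_eq.mp hk't with hk' | hk'
    · obtain ⟨q, hq, hqb, hqall⟩ := hpar k' hk1 hk'
      refine ⟨q, hq, ?_, ?_⟩
      · rw [hg q (by omega), hg k' hk']
        exact hqb
      · intro j hj u hu
        rw [hg j (by omega)] at hu
        obtain ⟨i, hi, hiu⟩ := hqall j hj u hu
        exact ⟨i, hi, by rw [hg i (by omega)]; exact hiu⟩
    · subst hk'
      refine ⟨p, hpt, ?_, ?_⟩
      · rw [hg p hpt, hgt]
        exact hpv
      · intro j hj u hu
        have hjt : j < k' := by omega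
        rw [hg j hjt] at hu
        have := hmin j hj
        have hu' : u ∈ I := by
          by_contra hcon
          exact this ⟨hjt, u, hcon, hu⟩
        obtain ⟨i, hi, hiu⟩ := (hmemI u).mp hu'
        exact ⟨i, hi, by rw [hg i hi]; exact hiu⟩

theorem exists_invF (D : AffData n) (hn : 0 < n) : ∀ t, 1 ≤ t → t ≤ n → ∃ f, D.InvF f t := by
  intro t
  induction t with
  | zero => intro h; omega
  | succ t ih =>
    intro _ htn
    by_cases ht : t = 0
    · subst ht
      refine ⟨fun _ => ⟨0, hn⟩, ?_, ?_⟩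
      · intro i hi j hj _
        omega
      · intro k' h1 h2
        omega
    · obtain ⟨f, hf⟩ := ih (by omega) (by omega)
      obtain ⟨v, hv⟩ := D.invF_step f t (by omega) (by omega) hf
      exact ⟨_, hv⟩

/-- Every affine datum can be put in breadth-first order. -/
theorem exists_bfs (D : AffData n) (hn : 0 < n) :
    ∃ σ : Equiv.Perm (Fin n), (D.reindex σ).IsBFS := by
  obtain ⟨f, hinj, hpar⟩ := D.exists_invF hn n (by omega) le_rfl
  have hσinj : Function.Injective (fun i : Fin n => f i.val) := by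
    intro i j hij
    exact Fin.ext (hinj i.val i.isLt j.val j.isLt hij)
  let σ : Equiv.Perm (Fin n) := Equiv.ofBijective _ (Finite.injective_iff_bijective.mp hσinj)
  have hσ : ∀ i : Fin n, σ i = f i.val := fun i => rfl
  refine ⟨σ, ?_, ?_⟩
  · intro k hk
    obtain ⟨p, hp, hpb, _⟩ := hpar k.val hk k.isLt
    refine ⟨⟨p, by omega⟩, ?_, ?_⟩
    · exact Fin.mk_lt_of_lt_val hp
    · show D.b (σ _) (σ _) ≠ 0
      rw [hσ, hσ]
      exact hpb
  · intro j k' k hjk' hk'k hb
    have hb' : D.b (f j.val) (f k.val) ≠ 0 := by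
      have : D.b (σ j) (σ k) ≠ 0 := hb
      rwa [hσ, hσ] at this
    have hjk'v : j.val < k'.val := hjk'
    have hk'kv : k'.val < k.val := hk'k
    obtain ⟨p, hp, hpb, hpall⟩ := hpar k'.val (by omega) k'.isLt
    by_cases hpj : p ≤ j.val
    · refine ⟨⟨p, by omega⟩, ?_, ?_⟩
      · exact Fin.mk_le_of_le_val hpj
      · show D.b (σ _) (σ _) ≠ 0
        rw [hσ, hσ]
        exact hpb
    · exfalso
      obtain ⟨i, hi, hik⟩ := hpall j.val (by omega) (f k.val) hb'
      have := hinj i (by omega) k.val k.isLt hik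
      omega

end AffData

end Groth.Agent.H79.Aff
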