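import Mathlib
import Groth.Prelude.Def_FDesc
import Groth.Agent.H8.AssPoints

/-!
# Regular sections and associated points (helper79)

A global function `f` is a non-zero-divisor on every stalk of a quasi-coherent module `F` on a
locally Noetherian scheme iff every associated point of `F` lies in `X_f`.
-/

set_option autoImplicit false
universe u
open CategoryTheory AlgebraicGeometry TopologicalSpace Opposite

namespace Groth.Agent.H79.AssRegular

open Groth.Agent.H8

variable {X : Scheme.{u}}

/-- An associated point of `F` at which `f` is a non-zero-divisor on the stalk lies in `X_f`. -/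
theorem mem_basicOpen_of_isAssPoint (F : X.Modules) (f : Γ(X, ⊤)) (x : X)
    (hx : Curv2.IsAssPoint F x)
    (hreg : IsSMulRegular (F.presheaf.stalk x) (X.presheaf.germ ⊤ x trivial f)) :
    x ∈ X.basicOpen f := by
  rw [isAssPoint_iff_isWeakAssPoint] at hx
  obtain ⟨m, hm⟩ := hx
  rw [X.mem_basicOpen f x trivial]
  by_contra hnu
  have hmem : X.presheaf.germ ⊤ x trivial f ∈ IsLocalRing.maximalIdeal (X.presheaf.stalk x) := by
    rw [IsLocalRing.mem_maximalIdeal, mem_nonunits_iff]
    exact hnu
  rw [← hm] at hmem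
  obtain ⟨n, hn⟩ := hmem
  rw [LinearMap.mem_ker, LinearMap.toSpanSingleton_apply] at hn
  have hm0 : m = 0 := by
    have h2 := (hreg.pow n)
    exact h2 (show _ • m = _ • (0 : F.presheaf.stalk x) by rw [hn, smul_zero])
  have hker : LinearMap.ker (LinearMap.toSpanSingleton (X.presheaf.stalk x)
      (F.presheaf.stalk x) m) = ⊤ := by
    rw [eq_top_iff]
    intro a _
    rw [LinearMap.mem_ker, LinearMap.toSpanSingleton_apply, hm0, smul_zero]
  rw [hker, Ideal.radical_top] at hm
  exact (IsLocalRing.maximalIdeal.isMaximal (X.presheaf.stalk x)).ne_top hm.symm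

/-- If `f` kills a nonzero element of a stalk of the quasi-coherent module `F` on a locally
Noetherian scheme, some associated point of `F` lies outside `X_f`. -/
theorem exists_isAssPoint_notMem_basicOpen [IsLocallyNoetherian X] (F : X.Modules)
    [F.IsQuasicoherent] (f : Γ(X, ⊤)) (x : X) (m : F.presheaf.stalk x) (hm : m ≠ 0)
    (hfm : X.presheaf.germ ⊤ x trivial f • m = 0) :
    ∃ y : X, Curv2.IsAssPoint F y ∧ y ∉ X.basicOpen f := by
  obtain ⟨_, ⟨V, hV, rfl⟩, hxV, -⟩ :=
    X.isBasis_affineOpens.exists_subset_of_mem_open (Set.mem_univ x) isOpen_univ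
  have hN : IsNoetherianRing Γ(X, V) := IsLocallyNoetherian.component_noetherian ⟨V, hV⟩
  let fV : Γ(X, V) := X.presheaf.map (homOfLE le_top).op f
  have hfV : ∀ (z : X) (hz : z ∈ V), X.presheaf.germ V z hz fV = X.presheaf.germ ⊤ z trivial f :=
    fun z hz => TopCat.Presheaf.germ_res_apply X.presheaf (homOfLE le_top) z hz f
  -- a nonzero section `s'` over `V` killed by `fV`
  obtain ⟨s', hs'0, hfs'⟩ : ∃ s' : Γ(F, V), s' ≠ 0 ∧ fV • s' = 0 := by
    let _ := stalkModule F hxV
    have hlm := isLocalizedModule_germₗ F hV hxV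
    obtain ⟨⟨s, t⟩, hst⟩ := IsLocalizedModule.surj
      (hV.primeIdealOf ⟨x, hxV⟩).asIdeal.primeCompl (germₗ F hxV) m
    have hst' : X.presheaf.germ V x hxV t.1 • m = F.presheaf.germ V x hxV s := hst
    have hfs : germₗ F hxV (fV • s) = germₗ F hxV 0 := by
      rw [germₗ_apply, germₗ_apply, germ_smul, ← hst', hfV, smul_comm, hfm, smul_zero, map_zero]
    obtain ⟨c, hc⟩ := IsLocalizedModule.exists_of_eq
      (S := (hV.primeIdealOf ⟨x, hxV⟩).asIdeal.primeCompl) hfs
    rw [smul_zero] at hc
    have hc' : c.1 • fV • s = 0 := hc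
    refine ⟨c.1 • s, ?_, ?_⟩
    · intro h0
      have h1 : X.presheaf.germ V x hxV c.1 • X.presheaf.germ V x hxV t.1 • m = 0 := by
        rw [hst', ← germ_smul, h0, map_zero]
      have huc : IsUnit (X.presheaf.germ V x hxV c.1) := by
        by_contra h
        exact c.2 ((mem_primeIdealOf_iff hV hxV c.1).mpr h)
      have hut : IsUnit (X.presheaf.germ V x hxV t.1) := by
        by_contra h
        exact t.2 ((mem_primeIdealOf_iff hV hxV t.1).mpr h)
      obtain ⟨u1, hu1⟩ := huc
      obtain ⟨u2, hu2⟩ := hut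
      rw [← hu1, ← hu2] at h1
      have := congrArg (fun z => (↑u2⁻¹ : X.presheaf.stalk x) • (↑u1⁻¹ : X.presheaf.stalk x) • z) h1
      apply hm
      simpa [smul_smul] using this
    · rw [smul_comm, hc']
  -- an associated prime of `Γ(F, V)` containing `fV`
  obtain ⟨P, hP, hle⟩ := exists_le_isAssociatedPrime_of_isNoetherianRing Γ(X, V) s' hs'0
  have hfP : fV ∈ P := hle (by rw [Submodule.mem_colon_singleton]; exact hfs')
  have hPprime : P.IsPrime := hP.isPrime
  rw [isAssociatedPrime_iff] at hP
  obtain ⟨-, t, ht⟩ := hP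
  have hweak : P ∈ FlatCA.weakAss Γ(X, V) Γ(F, V) := by
    refine ⟨t, ?_⟩
    have : (Submodule.span Γ(X, V) {t}).annihilator = P := by
      rw [ht]
      ext a
      rw [Submodule.mem_annihilator_span_singleton, Submodule.mem_colon_singleton]
      simp
    rw [this, Ideal.minimalPrimes_eq_subsingleton_self]
    exact Set.mem_singleton P
  -- the corresponding point
  let y' : V := hV.isoSpec.inv ⟨P, hPprime⟩
  have hy' : hV.primeIdealOf ⟨y'.1, y'.2⟩ = ⟨P, hPprime⟩ := by
    show hV.isoSpec.hom (hV.isoSpec.inv ⟨P, hPprime⟩) = _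
    exact Scheme.inv_hom_apply hV.isoSpec _
  refine ⟨y'.1, ?_, ?_⟩
  · rw [isAssPoint_iff_isWeakAssPoint, isWeakAssPoint_iff_mem_weakAss F hV y'.2, hy']
    exact hweak
  · intro hyf
    rw [X.mem_basicOpen f y'.1 trivial, ← hfV y'.1 y'.2] at hyf
    have := (mem_primeIdealOf_iff hV y'.2 fV).mp (by rw [hy']; exact hfP)
    exact this hyf

/-- **`f` is `F`-regular iff every associated point of `F` lies in `X_f`.** -/
theorem forall_isSMulRegular_iff [IsLocallyNoetherian X] (F : X.Modules) [F.IsQuasicoherent]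
    (f : Γ(X, ⊤)) :
    (∀ x : X, IsSMulRegular (F.presheaf.stalk x) (X.presheaf.germ ⊤ x trivial f)) ↔
      AssSch.Ass F ⊆ (X.basicOpen f : Set X) := by
  constructor
  · intro h x hx
    exact mem_basicOpen_of_isAssPoint F f x hx (h x)
  · intro h x m1 m2 h12
    by_contra hne
    have hm : m1 - m2 ≠ 0 := sub_ne_zero.mpr hne
    have hfm : X.presheaf.germ ⊤ x trivial f • (m1 - m2) = 0 := by
      rw [smul_sub]
      exact sub_eq_zero.mpr h12
    obtain ⟨y, hy1, hy2⟩ := exists_isAssPoint_notMem_basicOpen F f x (m1 - m2) hm hfm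
    exact hy2 (h hy1)

end Groth.Agent.H79.AssRegular
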