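import Mathlib

set_option autoImplicit false

/-!
# Digit combinatorics for Ax's theorem

`rot p f h m` rotates the base `p` digits of `m` cyclically with period `f` (shift `h`):
it is `∑_t c_t p^((t+h) % f)` if `m = ∑_t c_t p^t`.
-/

namespace Groth.Agent.H79.AxDigits

open Finset

/-- rotated digit value of a digit list -/
def rotL (p f : ℕ) : ℕ → List ℕ → ℕ
  | _, [] => 0
  | h, c :: L => c * p ^ (h % f) + rotL p f (h + 1) L

/-- rotated digit value of a natural number -/
def rot (p f h m : ℕ) : ℕ := rotL p f h (Nat.digits p m)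

lemma pow_self_modEq_one (p f : ℕ) (hp : 0 < p) : p ^ f ≡ 1 [MOD p ^ f - 1] := by
  have h1 : 1 ≤ p ^ f := Nat.one_le_pow _ _ hp
  exact ((Nat.modEq_iff_dvd' h1).2 (dvd_refl _)).symm

lemma pow_mod_modEq (p f h : ℕ) (hp : 0 < p) : p ^ (h % f) ≡ p ^ h [MOD p ^ f - 1] := by
  have h2 : p ^ h = p ^ (h % f) * (p ^ f) ^ (h / f) := by
    rw [← pow_mul, ← pow_add, Nat.mod_add_div]
  rw [h2]
  calc p ^ (h % f) = p ^ (h % f) * 1 ^ (h / f) := by simp
    _ ≡ p ^ (h % f) * (p ^ f) ^ (h / f) [MOD p ^ f - 1] :=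
      (Nat.ModEq.refl _).mul (((pow_self_modEq_one p f hp).pow _).symm)

lemma rotL_modEq (p f : ℕ) (hp : 0 < p) (L : List ℕ) :
    ∀ h, rotL p f h L ≡ p ^ h * Nat.ofDigits p L [MOD p ^ f - 1] := by
  induction L with
  | nil => intro h; simp [rotL]; exact Nat.ModEq.refl _
  | cons c L ih =>
    intro h
    rw [rotL, Nat.ofDigits_cons, mul_add]
    refine Nat.ModEq.add ?_ ?_
    · rw [mul_comm]
      exact (pow_mod_modEq p f h hp).mul_right _
    · refine (ih (h + 1)).trans ?_
      rw [pow_succ, mul_assoc]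

lemma rot_modEq (p f h m : ℕ) (hp : 0 < p) : rot p f h m ≡ p ^ h * m [MOD p ^ f - 1] := by
  have := rotL_modEq p f hp (Nat.digits p m) h
  rwa [Nat.ofDigits_digits] at this

lemma sum_shift_one (f : ℕ) (b : ℕ → ℕ) (hb : b f = b 0) :
    ∑ h ∈ range f, b (h + 1) = ∑ h ∈ range f, b h := by
  have h1 := Finset.sum_range_succ' b f
  have h2 := Finset.sum_range_succ b f
  rw [h1, hb] at h2
  exact Nat.add_right_cancel h2

lemma sum_shift (f : ℕ) (a : ℕ → ℕ) (ha : ∀ h, a (h + f) = a h) (c : ℕ) :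
    ∑ h ∈ range f, a (h + c) = ∑ h ∈ range f, a h := by
  induction c with
  | zero => simp
  | succ c ih =>
    rw [← ih]
    have := sum_shift_one f (fun h => a (h + c)) (by
      show a (f + c) = a (0 + c)
      rw [add_comm f c, ha, zero_add])
    rw [← this]
    refine Finset.sum_congr rfl fun h _ => ?_
    show a (h + (c + 1)) = a (h + 1 + c)
    congr 1; omega

lemma sum_pow_mod (p f c : ℕ) :
    ∑ h ∈ range f, p ^ ((h + c) % f) = ∑ r ∈ range f, p ^ r := by
  rw [sum_shift f (fun h => p ^ (h % f)) (fun h => by simp) c]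
  refine Finset.sum_congr rfl fun h hh => ?_
  rw [Nat.mod_eq_of_lt (Finset.mem_range.1 hh)]

lemma sum_rotL (p f : ℕ) (L : List ℕ) :
    ∀ c, ∑ h ∈ range f, rotL p f (h + c) L = L.sum * ∑ r ∈ range f, p ^ r := by
  induction L with
  | nil => intro c; simp [rotL]
  | cons a L ih =>
    intro c
    simp only [rotL, List.sum_cons]
    rw [Finset.sum_add_distrib, ← Finset.mul_sum, sum_pow_mod, add_mul]
    congr 1
    rw [← ih (c + 1)]
    refine Finset.sum_congr rfl fun h _ => ?_
    rw [add_assoc]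

lemma sum_rot (p f m : ℕ) :
    ∑ h ∈ range f, rot p f h m = (Nat.digits p m).sum * ∑ r ∈ range f, p ^ r := by
  have := sum_rotL p f (Nat.digits p m) 0
  simpa [rot] using this

lemma rotL_pos (p f : ℕ) (hp : 0 < p) (L : List ℕ) :
    ∀ h, 0 < L.sum → 0 < rotL p f h L := by
  induction L with
  | nil => intro h hL; simp at hL
  | cons a L ih =>
    intro h hL
    rw [rotL]
    rw [List.sum_cons] at hL
    rcases Nat.eq_zero_or_pos a with ha | ha
    · subst ha
      rw [zero_add] at hL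
      have := ih (h + 1) hL
      omega
    · have : 0 < a * p ^ (h % f) := Nat.mul_pos ha (pow_pos hp _)
      omega

lemma ofDigits_eq_zero_of_sum_eq_zero (p : ℕ) (L : List ℕ) (hL : L.sum = 0) :
    Nat.ofDigits p L = 0 := by
  induction L with
  | nil => simp
  | cons a L ih =>
    rw [List.sum_cons] at hL
    rw [Nat.ofDigits_cons, ih (by omega)]
    omega

lemma digits_sum_pos (p m : ℕ) (hm : 0 < m) : 0 < (Nat.digits p m).sum := by
  by_contra h
  have h0 : (Nat.digits p m).sum = 0 := by omega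
  have := ofDigits_eq_zero_of_sum_eq_zero p _ h0
  rw [Nat.ofDigits_digits] at this
  omega

lemma rot_pos (p f h m : ℕ) (hp : 0 < p) (hm : 0 < m) : 0 < rot p f h m :=
  rotL_pos p f hp _ h (digits_sum_pos p m hm)

/-- The key congruence/inequality: the `h`-rotated exponents still sum to a multiple of `q - 1`,
and the number of "active" variables is bounded by `d` times the quotient. -/
theorem key {ι : Type*} (s : Finset ι) (p f d N : ℕ) (hp : 2 ≤ p) (hf : 0 < f)
    (m : ι → ℕ) (w : ι → Fin N → ℕ)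
    (hw : ∀ i ∈ s, ∑ l, w i l ≤ d)
    (hE : p ^ f - 1 ∣ ∑ i ∈ s, m i)
    (he : ∀ l, p ^ f - 1 ∣ ∑ i ∈ s, m i * w i l) (h : ℕ) :
    ∃ c, ∑ i ∈ s, rot p f h (m i) = c * (p ^ f - 1) ∧
      (Finset.univ.filter fun l => ∑ i ∈ s, m i * w i l ≠ 0).card ≤ d * c := by
  have hp0 : 0 < p := by omega
  have hq : 2 ≤ p ^ f := by
    calc 2 ≤ p := hp
      _ = p ^ 1 := (pow_one p).symm
      _ ≤ p ^ f := Nat.pow_le_pow_right hp0 hf
  have hq1 : 0 < p ^ f - 1 := by omega
  -- T is a multiple of q - 1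
  have hT : p ^ f - 1 ∣ ∑ i ∈ s, rot p f h (m i) := by
    have h1 : ∑ i ∈ s, rot p f h (m i) ≡ ∑ i ∈ s, p ^ h * m i [MOD p ^ f - 1] := by
      have : ∀ t : Finset ι, ∑ i ∈ t, rot p f h (m i) ≡ ∑ i ∈ t, p ^ h * m i [MOD p ^ f - 1] := by
        intro t
        classical
        induction t using Finset.induction_on with
        | empty => simp; exact Nat.ModEq.refl _
        | insert a t ha ih =>
          rw [Finset.sum_insert ha, Finset.sum_insert ha]
          exact (rot_modEq p f h (m a) hp0).add ih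
      exact this s
    rw [← Finset.mul_sum] at h1
    have h2 : p ^ h * ∑ i ∈ s, m i ≡ 0 [MOD p ^ f - 1] :=
      (Nat.modEq_zero_iff_dvd.2 (Dvd.dvd.mul_left hE _))
    exact Nat.modEq_zero_iff_dvd.1 (h1.trans h2)
  obtain ⟨c, hc⟩ := hT
  refine ⟨c, by rw [hc, mul_comm], ?_⟩
  set S := Finset.univ.filter fun l : Fin N => ∑ i ∈ s, m i * w i l ≠ 0 with hS
  -- each active l contributes at least q - 1
  have hl : ∀ l ∈ S, p ^ f - 1 ≤ ∑ i ∈ s, rot p f h (m i) * w i l := by
    intro l hlS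
    have hne : ∑ i ∈ s, m i * w i l ≠ 0 := (Finset.mem_filter.1 hlS).2
    have hdvd : p ^ f - 1 ∣ ∑ i ∈ s, rot p f h (m i) * w i l := by
      have h1 : ∀ t : Finset ι, ∑ i ∈ t, rot p f h (m i) * w i l ≡
          ∑ i ∈ t, p ^ h * (m i * w i l) [MOD p ^ f - 1] := by
        intro t
        classical
        induction t using Finset.induction_on with
        | empty => simp; exact Nat.ModEq.refl _
        | insert a t ha ih =>
          rw [Finset.sum_insert ha, Finset.sum_insert ha]
          refine Nat.ModEq.add ?_ ih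
          rw [← mul_assoc]
          exact (rot_modEq p f h (m a) hp0).mul_right _
      have h1' := h1 s
      rw [← Finset.mul_sum] at h1'
      have h2 : p ^ h * ∑ i ∈ s, m i * w i l ≡ 0 [MOD p ^ f - 1] :=
        (Nat.modEq_zero_iff_dvd.2 (Dvd.dvd.mul_left (he l) _))
      exact Nat.modEq_zero_iff_dvd.1 (h1'.trans h2)
    have hpos : 0 < ∑ i ∈ s, rot p f h (m i) * w i l := by
      obtain ⟨i, his, hi⟩ := Finset.exists_ne_zero_of_sum_ne_zero hne
      have hmi : 0 < m i := Nat.pos_of_ne_zero fun h0 => hi (by rw [h0, zero_mul])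
      have hwi : 0 < w i l := Nat.pos_of_ne_zero fun h0 => hi (by rw [h0, mul_zero])
      have : 0 < rot p f h (m i) * w i l := Nat.mul_pos (rot_pos p f h (m i) hp0 hmi) hwi
      exact lt_of_lt_of_le this
        (Finset.single_le_sum (f := fun i => rot p f h (m i) * w i l) (fun _ _ => Nat.zero_le _) his)
    exact Nat.le_of_dvd hpos hdvd
  have h3 : S.card * (p ^ f - 1) ≤ ∑ l ∈ S, ∑ i ∈ s, rot p f h (m i) * w i l := by
    rw [← smul_eq_mul, ← Finset.sum_const]
    exact Finset.sum_le_sum hl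
  have h4 : ∑ l ∈ S, ∑ i ∈ s, rot p f h (m i) * w i l ≤
      ∑ l, ∑ i ∈ s, rot p f h (m i) * w i l :=
    Finset.sum_le_sum_of_subset (Finset.subset_univ _)
  have h5 : ∑ l, ∑ i ∈ s, rot p f h (m i) * w i l ≤ d * (∑ i ∈ s, rot p f h (m i)) := by
    rw [Finset.sum_comm, Finset.mul_sum]
    refine Finset.sum_le_sum fun i hi => ?_
    rw [← Finset.mul_sum, mul_comm]
    exact Nat.mul_le_mul_right _ (hw i hi)
  have h6 : S.card * (p ^ f - 1) ≤ d * c * (p ^ f - 1) := by
    calc S.card * (p ^ f - 1) ≤ d * (∑ i ∈ s, rot p f h (m i)) := h3.trans (h4.trans h5)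
      _ = d * c * (p ^ f - 1) := by rw [hc]; ring
  exact Nat.le_of_mul_le_mul_right h6 hq1

lemma legendre (p : ℕ) [Fact p.Prime] (n : ℕ) :
    (p - 1) * padicValNat p n.factorial + (Nat.digits p n).sum = n := by
  rw [sub_one_mul_padicValNat_factorial]
  exact Nat.sub_add_cancel (Nat.digit_sum_le p n)

lemma padicValNat_prod_factorial {ι : Type*} (p : ℕ) [Fact p.Prime] (s : Finset ι) (μ : ι → ℕ) :
    padicValNat p (∏ i ∈ s, (μ i).factorial) = ∑ i ∈ s, padicValNat p (μ i).factorial := by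
  classical
  induction s using Finset.induction_on with
  | empty => simp
  | insert a t ha ih =>
    rw [Finset.prod_insert ha, Finset.sum_insert ha, padicValNat.mul (Nat.factorial_ne_zero _)
      (Finset.prod_ne_zero_iff.2 fun i _ => Nat.factorial_ne_zero _), ih]

lemma multinomial_val {ι : Type*} (p : ℕ) [Fact p.Prime] (s : Finset ι) (μ : ι → ℕ) :
    (p - 1) * padicValNat p (Nat.multinomial s μ) + (Nat.digits p (∑ i ∈ s, μ i)).sum
      = ∑ i ∈ s, (Nat.digits p (μ i)).sum := by
  have hspec := Nat.multinomial_spec s μ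
  have hm0 : Nat.multinomial s μ ≠ 0 := by
    intro h0
    rw [h0, mul_zero] at hspec
    exact Nat.factorial_ne_zero _ hspec.symm
  have hv : padicValNat p (∑ i ∈ s, μ i).factorial =
      ∑ i ∈ s, padicValNat p (μ i).factorial + padicValNat p (Nat.multinomial s μ) := by
    rw [← hspec, padicValNat.mul (Finset.prod_ne_zero_iff.2 fun i _ => Nat.factorial_ne_zero _) hm0,
      padicValNat_prod_factorial]
  have h1 := legendre p (∑ i ∈ s, μ i)
  have h2 : ∑ i ∈ s, ((p - 1) * padicValNat p (μ i).factorial + (Nat.digits p (μ i)).sum) =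
      ∑ i ∈ s, μ i := Finset.sum_congr rfl fun i _ => legendre p (μ i)
  rw [Finset.sum_add_distrib, ← Finset.mul_sum] at h2
  rw [hv, mul_add] at h1
  omega

lemma digits_sum_pow_sub_one (p f : ℕ) (hp : 2 ≤ p) :
    (Nat.digits p (p ^ f - 1)).sum = f * (p - 1) := by
  induction f with
  | zero => simp
  | succ f ih =>
    have h1 : 1 ≤ p ^ f := Nat.one_le_pow _ _ (by omega)
    have h2 : p ^ (f + 1) - 1 = (p - 1) + p * (p ^ f - 1) := by
      rw [pow_succ, Nat.mul_sub, mul_one, mul_comm p (p ^ f)]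
      have : p ≤ p ^ f * p := by nlinarith
      omega
    rw [h2, Nat.digits_add p (by omega) (p - 1) (p ^ f - 1) (by omega) (Or.inl (by omega)),
      List.sum_cons, ih]
    ring

lemma digits_sum_E (p f M : ℕ) (hp : 2 ≤ p) (hf : 0 < f) :
    (Nat.digits p ((p ^ f - 1) * p ^ M)).sum = f * (p - 1) := by
  have hq : 2 ≤ p ^ f := by
    calc 2 ≤ p := hp
      _ = p ^ 1 := (pow_one p).symm
      _ ≤ p ^ f := Nat.pow_le_pow_right (by omega) hf
  rw [mul_comm, Nat.digits_base_pow_mul (by omega) (by omega), List.sum_append,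
    digits_sum_pow_sub_one p f hp]
  simp

/-- The valuation bound for the multinomial terms in Ax's theorem. -/
theorem val_bound {ι : Type*} (s : Finset ι) (p f d N j M : ℕ) [hp : Fact p.Prime]
    (hf : 0 < f) (hd : 0 < d) (hj : j * d < N)
    (μ : ι → ℕ) (w : ι → Fin N → ℕ)
    (hw : ∀ i ∈ s, ∑ l, w i l ≤ d)
    (hE : ∑ i ∈ s, μ i = (p ^ f - 1) * p ^ M)
    (he : ∀ l, p ^ f - 1 ∣ ∑ i ∈ s, μ i * w i l) :
    f * j ≤ padicValNat p (Nat.multinomial s μ) +
      f * (N - (Finset.univ.filter fun l => ∑ i ∈ s, μ i * w i l ≠ 0).card) := by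
  have hp2 : 2 ≤ p := hp.out.two_le
  have hEdvd : p ^ f - 1 ∣ ∑ i ∈ s, μ i := by rw [hE]; exact Dvd.intro _ rfl
  choose c hc1 hc2 using key s p f d N hp2 hf μ w hw hEdvd he
  set S := (Finset.univ.filter fun l : Fin N => ∑ i ∈ s, μ i * w i l ≠ 0) with hS
  have hSN : S.card ≤ N := by
    have := Finset.card_filter_le (Finset.univ : Finset (Fin N))
      (fun l : Fin N => ∑ i ∈ s, μ i * w i l ≠ 0)
    rw [Finset.card_univ, Fintype.card_fin] at this
    exact this
  set G := ∑ r ∈ range f, p ^ r with hG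
  have hGpos : 0 < G := by
    have : p ^ 0 ≤ G := Finset.single_le_sum (f := fun r => p ^ r) (fun _ _ => Nat.zero_le _)
      (Finset.mem_range.2 hf)
    rw [pow_zero] at this
    exact this
  have hGq : G * (p - 1) = p ^ f - 1 := geom_sum_mul_of_one_le (by omega) f
  -- total digit sums
  have h1 : (∑ i ∈ s, (Nat.digits p (μ i)).sum) * G = (∑ h ∈ range f, c h) * (p - 1) * G := by
    rw [Finset.sum_mul]
    have : ∀ i ∈ s, (Nat.digits p (μ i)).sum * G = ∑ h ∈ range f, rot p f h (μ i) :=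
      fun i _ => (sum_rot p f (μ i)).symm
    rw [Finset.sum_congr rfl this, Finset.sum_comm]
    rw [Finset.sum_congr rfl fun h _ => hc1 h, ← Finset.sum_mul, ← hGq]
    ring
  have h2 : ∑ i ∈ s, (Nat.digits p (μ i)).sum = (∑ h ∈ range f, c h) * (p - 1) :=
    Nat.eq_of_mul_eq_mul_right hGpos h1
  have h3 := multinomial_val p s μ
  rw [hE, digits_sum_E p f M hp2 hf, h2] at h3
  -- v + f = ∑ c h
  have h4 : padicValNat p (Nat.multinomial s μ) + f = ∑ h ∈ range f, c h := by
    have : (padicValNat p (Nat.multinomial s μ) + f) * (p - 1) = (∑ h ∈ range f, c h) * (p - 1) := by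
      rw [← h3]; ring
    exact Nat.eq_of_mul_eq_mul_right (by omega) this
  -- each c h is large
  have h5 : ∀ h, j + 1 ≤ c h + (N - S.card) := by
    intro h
    by_contra hcon
    have hle : c h + (N - S.card) ≤ j := by omega
    have h6 : d * (c h + (N - S.card)) ≤ d * j := Nat.mul_le_mul_left _ hle
    have h7 : S.card ≤ d * c h := hc2 h
    have h8 : N - S.card ≤ d * (N - S.card) := Nat.le_mul_of_pos_left _ hd
    rw [mul_add] at h6
    have : j * d = d * j := mul_comm _ _
    omega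
  have h6 : ∑ h ∈ range f, (j + 1) ≤ ∑ h ∈ range f, (c h + (N - S.card)) :=
    Finset.sum_le_sum fun h _ => h5 h
  rw [Finset.sum_const, Finset.card_range, smul_eq_mul, Finset.sum_add_distrib, Finset.sum_const,
    Finset.card_range, smul_eq_mul, ← h4, mul_add, mul_one] at h6
  omega

end Groth.Agent.H79.AxDigits
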