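import Mathlib

set_option autoImplicit false

/-!
# Witt vector facts for Ax's theorem
-/

namespace Groth.Agent.H79.AxWitt

open WittVector Finset

variable (p : ℕ) [hp : Fact p.Prime] (k : Type*) [Field k] [Fintype k] [CharP k p]

local notation "𝕎" => WittVector p

instance perfectRing : PerfectRing k p := by
  have : ExpChar k p := ExpChar.prime hp.out
  exact PerfectRing.ofFiniteOfIsReduced p k

lemma coeff_zero_natCast (n : ℕ) : ((n : 𝕎 k)).coeff 0 = (n : k) := by
  exact map_natCast (WittVector.constantCoeff : 𝕎 k →+* k) n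

lemma p_dvd_of_coeff_zero (x : 𝕎 k) (hx : x.coeff 0 = 0) : (p : 𝕎 k) ∣ x := by
  by_cases hx0 : x = 0
  · rw [hx0]; exact dvd_zero _
  obtain ⟨m, b, hb, rfl⟩ := WittVector.exists_eq_pow_p_mul x hx0
  rcases m with _ | m
  · rw [pow_zero, one_mul] at hx
    exact absurd hx hb
  · rw [pow_succ', mul_assoc]
    exact Dvd.intro _ rfl

lemma coeff_zero_of_p_dvd (x : 𝕎 k) (hx : (p : 𝕎 k) ∣ x) : x.coeff 0 = 0 := by
  obtain ⟨y, rfl⟩ := hx
  rw [WittVector.mul_coeff_zero, coeff_zero_natCast, CharP.cast_eq_zero, zero_mul]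

lemma pow_dvd_pow_of_coeff_zero (x : 𝕎 k) (hx : x.coeff 0 = 0) (m E : ℕ) (hE : m ≤ E) :
    (p : 𝕎 k) ^ m ∣ x ^ E := by
  obtain ⟨y, rfl⟩ := p_dvd_of_coeff_zero p k x hx
  rw [mul_pow]
  exact Dvd.dvd.mul_right (pow_dvd_pow _ hE) _

lemma pow_dvd_pow_sub_one (x : 𝕎 k) (hx : x.coeff 0 ≠ 0) (m : ℕ) :
    (p : 𝕎 k) ^ (m + 1) ∣ x ^ ((Fintype.card k - 1) * p ^ m) - 1 := by
  have h1 : (p : 𝕎 k) ∣ x ^ (Fintype.card k - 1) - 1 := by
    apply p_dvd_of_coeff_zero
    have : (x ^ (Fintype.card k - 1) - 1).coeff 0 =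
        WittVector.constantCoeff (x ^ (Fintype.card k - 1) - 1) := rfl
    rw [this, map_sub, map_pow, map_one]
    show x.coeff 0 ^ (Fintype.card k - 1) - 1 = 0
    rw [FiniteField.pow_card_sub_one_eq_one _ hx, sub_self]
  have := dvd_sub_pow_of_dvd_sub h1 m
  rwa [one_pow, ← pow_mul] at this

lemma nat_dvd_of_cast_dvd : ∀ (m n : ℕ), ((p : 𝕎 k) ^ m ∣ (n : 𝕎 k)) → p ^ m ∣ n := by
  intro m
  induction m with
  | zero => intro n _; simp
  | succ m ih =>
    intro n h
    have h1 : (p : 𝕎 k) ∣ (n : 𝕎 k) := Dvd.dvd.trans (dvd_pow_self _ (Nat.succ_ne_zero m)) h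
    have h2 : (n : k) = 0 := by
      rw [← coeff_zero_natCast p k n]
      exact coeff_zero_of_p_dvd p k _ h1
    obtain ⟨n1, rfl⟩ := (CharP.cast_eq_zero_iff k p n).1 h2
    obtain ⟨w, hw⟩ := h
    rw [Nat.cast_mul, pow_succ', mul_assoc] at hw
    have h3 : ((n1 : ℕ) : 𝕎 k) = (p : 𝕎 k) ^ m * w :=
      mul_left_cancel₀ (WittVector.p_nonzero p k) hw
    have h4 : p ^ m ∣ n1 := ih n1 ⟨w, h3⟩
    rw [pow_succ']
    exact Nat.mul_dvd_mul_left p h4

omit [CharP k p] in
/-- Teichmüller power sums: exponent zero. -/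
lemma teich_sum_zero : ∑ a : k, (WittVector.teichmuller p a) ^ 0 = ((Fintype.card k : ℕ) : 𝕎 k) := by
  simp

/-- Teichmüller power sums vanish for exponents not divisible by `q - 1`. -/
lemma teich_sum_eq_zero (e : ℕ) (he : ¬ (Fintype.card k - 1) ∣ e) :
    ∑ a : k, (WittVector.teichmuller p a) ^ e = 0 := by
  classical
  have he0 : e ≠ 0 := fun h => he (h ▸ dvd_zero _)
  let φ : kˣ →* 𝕎 k :=
    { toFun := fun u => (WittVector.teichmuller p (u : k)) ^ e
      map_one' := by simp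
      map_mul' := by intro a b; simp [mul_pow] }
  have hφ : φ ≠ 1 := by
    intro h
    apply he
    rw [← FiniteField.forall_pow_eq_one_iff]
    intro u
    have h1 : φ u = 1 := by rw [h]; rfl
    have h2 : (WittVector.teichmuller p ((u : k) ^ e)) = 1 := by
      rw [map_pow]; exact h1
    have h3 := congrArg (fun x : 𝕎 k => x.coeff 0) h2
    simp only [WittVector.teichmuller_coeff_zero, WittVector.one_coeff_zero] at h3
    exact Units.ext (by simpa using h3)
  have hsum := sum_hom_units_eq_zero φ hφ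
  let ψ : kˣ ↪ k := ⟨fun x ↦ x, Units.val_injective⟩
  have hmap : univ.map ψ = univ \ {0} := by
    ext x
    simp only [mem_map, mem_univ, Function.Embedding.coeFn_mk, true_and, mem_sdiff,
      mem_singleton, ψ]
    exact isUnit_iff_ne_zero
  calc ∑ a : k, (WittVector.teichmuller p a) ^ e
      = ∑ a ∈ univ \ {(0 : k)}, (WittVector.teichmuller p a) ^ e := by
        rw [← sum_sdiff ({0} : Finset k).subset_univ, sum_singleton, WittVector.teichmuller_zero, zero_pow he0,
          add_zero]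
    _ = ∑ u : kˣ, φ u := by
        rw [← hmap, sum_map]; rfl
    _ = 0 := hsum

end Groth.Agent.H79.AxWitt
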