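import Groth.Agent.H79.AxDigits
import Groth.Agent.H79.AxWitt

set_option autoImplicit false
set_option linter.unusedSectionVars false

/-!
# Ax's theorem: `q^j` divides the number of zeros of a form of degree `d` in `N > j d` variables
-/

namespace Groth.Agent.H79.AxMain

open WittVector Finset MvPolynomial Groth.Agent.H79.AxWitt

variable (p : ℕ) [hp : Fact p.Prime] (k : Type*) [Field k] [Fintype k] [CharP k p]

local notation "𝕎" => WittVector p

/-- Teichmüller lift of the evaluation of a polynomial. -/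
noncomputable def lift {N : ℕ} (F : MvPolynomial (Fin N) k) (x : Fin N → k) : 𝕎 k :=
  ∑ w ∈ F.support, WittVector.teichmuller p (F.coeff w) *
    ∏ l, (WittVector.teichmuller p (x l)) ^ (w l)

lemma lift_coeff_zero {N : ℕ} (F : MvPolynomial (Fin N) k) (x : Fin N → k) :
    (lift p k F x).coeff 0 = MvPolynomial.eval x F := by
  show WittVector.constantCoeff (lift p k F x) = _
  rw [lift, map_sum, MvPolynomial.eval_eq']
  refine Finset.sum_congr rfl fun w _ => ?_
  rw [map_mul, map_prod]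
  have h1 : ∀ a : k, WittVector.constantCoeff (WittVector.teichmuller p a) = a :=
    fun a => WittVector.teichmuller_coeff_zero p a
  rw [h1]
  congr 1
  refine Finset.prod_congr rfl fun l _ => ?_
  rw [map_pow, h1]

lemma lift_pow {N : ℕ} (F : MvPolynomial (Fin N) k) (E : ℕ) (x : Fin N → k) :
    (lift p k F x) ^ E =
      ∑ μ ∈ Finset.piAntidiag F.support E, (Nat.multinomial F.support μ : 𝕎 k) *
        ((∏ w ∈ F.support, (WittVector.teichmuller p (F.coeff w)) ^ μ w) *
          ∏ l, (WittVector.teichmuller p (x l)) ^ (∑ w ∈ F.support, μ w * w l)) := by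
  rw [lift, Finset.sum_pow_eq_sum_piAntidiag]
  refine Finset.sum_congr rfl fun μ _ => ?_
  congr 1
  simp_rw [mul_pow]
  rw [Finset.prod_mul_distrib]
  congr 1
  simp_rw [← Finset.prod_pow, ← pow_mul]
  rw [Finset.prod_comm]
  refine Finset.prod_congr rfl fun l _ => ?_
  rw [Finset.prod_pow_eq_pow_sum]
  congr 1
  exact Finset.sum_congr rfl fun w _ => mul_comm _ _

lemma sum_prod_teich {N : ℕ} (e : Fin N → ℕ) :
    ∑ x : Fin N → k, ∏ l, (WittVector.teichmuller p (x l)) ^ (e l) =
      ∏ l : Fin N, ∑ a : k, (WittVector.teichmuller p a) ^ (e l) := by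
  have := Finset.prod_univ_sum (fun _ : Fin N => (Finset.univ : Finset k))
    (fun l a => (WittVector.teichmuller p a) ^ (e l))
  rw [this, Fintype.piFinset_univ]

lemma sum_lift_pow {N : ℕ} (F : MvPolynomial (Fin N) k) (E : ℕ) :
    ∑ x : Fin N → k, (lift p k F x) ^ E =
      ∑ μ ∈ Finset.piAntidiag F.support E, (Nat.multinomial F.support μ : 𝕎 k) *
        ((∏ w ∈ F.support, (WittVector.teichmuller p (F.coeff w)) ^ μ w) *
          ∏ l : Fin N, ∑ a : k, (WittVector.teichmuller p a) ^ (∑ w ∈ F.support, μ w * w l)) := by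
  rw [Finset.sum_congr rfl fun x _ => lift_pow p k F E x]
  rw [Finset.sum_comm]
  refine Finset.sum_congr rfl fun μ _ => ?_
  rw [← Finset.mul_sum, ← Finset.mul_sum, sum_prod_teich]

lemma term_dvd {N : ℕ} (F : MvPolynomial (Fin N) k) (d j M f : ℕ) (hq : Fintype.card k = p ^ f)
    (hf : 0 < f) (hd : 0 < d) (hF : F.IsHomogeneous d) (hj : j * d < N)
    (μ : (Fin N →₀ ℕ) → ℕ) (hμ : μ ∈ Finset.piAntidiag F.support ((p ^ f - 1) * p ^ M)) :
    (p : 𝕎 k) ^ (f * j) ∣ (Nat.multinomial F.support μ : 𝕎 k) *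
        ((∏ w ∈ F.support, (WittVector.teichmuller p (F.coeff w)) ^ μ w) *
          ∏ l : Fin N, ∑ a : k, (WittVector.teichmuller p a) ^ (∑ w ∈ F.support, μ w * w l)) := by
  classical
  by_cases hall : ∀ l : Fin N, (p ^ f - 1) ∣ ∑ w ∈ F.support, μ w * w l
  · have hsum : ∑ w ∈ F.support, μ w = (p ^ f - 1) * p ^ M := (Finset.mem_piAntidiag.1 hμ).1
    have hw : ∀ w ∈ F.support, ∑ l, (w : Fin N → ℕ) l ≤ d := by
      intro w hw
      have h1 : w.degree = d := by
        by_contra hne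
        exact (MvPolynomial.mem_support_iff.1 hw) (hF.coeff_eq_zero hne)
      rw [← h1, Finsupp.degree_eq_sum]
    have hb := AxDigits.val_bound F.support p f d N j M hf hd hj μ (fun w l => w l) hw hsum hall
    have h1 : (p : 𝕎 k) ^ padicValNat p (Nat.multinomial F.support μ) ∣
        (Nat.multinomial F.support μ : 𝕎 k) := by
      have h0 : p ^ padicValNat p (Nat.multinomial F.support μ) ∣ Nat.multinomial F.support μ :=
        pow_padicValNat_dvd
      have := Nat.cast_dvd_cast (α := 𝕎 k) h0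
      rwa [Nat.cast_pow] at this
    have h2 : (p : 𝕎 k) ^ (f * (N - (Finset.univ.filter fun l : Fin N =>
        ∑ w ∈ F.support, μ w * w l ≠ 0).card)) ∣
        ∏ l : Fin N, ∑ a : k, (WittVector.teichmuller p a) ^ (∑ w ∈ F.support, μ w * w l) := by
      rw [← Finset.prod_filter_mul_prod_filter_not Finset.univ
        (fun l : Fin N => ∑ w ∈ F.support, μ w * w l ≠ 0)]
      refine Dvd.dvd.mul_left ?_ _
      have h3 : ∏ l ∈ Finset.univ.filter (fun l : Fin N => ¬ ∑ w ∈ F.support, μ w * w l ≠ 0),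
          ∑ a : k, (WittVector.teichmuller p a) ^ (∑ w ∈ F.support, μ w * w l) =
          ∏ l ∈ Finset.univ.filter (fun l : Fin N => ¬ ∑ w ∈ F.support, μ w * w l ≠ 0),
            (p : 𝕎 k) ^ f := by
        refine Finset.prod_congr rfl fun l hl => ?_
        have h0 : ∑ w ∈ F.support, μ w * w l = 0 := not_not.1 (Finset.mem_filter.1 hl).2
        rw [h0, teich_sum_zero, hq, Nat.cast_pow]
      rw [h3, Finset.prod_const, ← pow_mul]
      refine pow_dvd_pow _ (Nat.mul_le_mul_left _ ?_)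
      have h4 := Finset.card_filter_add_card_filter_not (s := (Finset.univ : Finset (Fin N)))
        (fun l : Fin N => ∑ w ∈ F.support, μ w * w l ≠ 0)
      rw [Finset.card_univ, Fintype.card_fin] at h4
      omega
    calc (p : 𝕎 k) ^ (f * j) ∣ (p : 𝕎 k) ^ (padicValNat p (Nat.multinomial F.support μ) +
          f * (N - (Finset.univ.filter fun l : Fin N =>
            ∑ w ∈ F.support, μ w * w l ≠ 0).card)) := pow_dvd_pow _ hb
      _ = (p : 𝕎 k) ^ padicValNat p (Nat.multinomial F.support μ) *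
          (p : 𝕎 k) ^ (f * (N - (Finset.univ.filter fun l : Fin N =>
            ∑ w ∈ F.support, μ w * w l ≠ 0).card)) := pow_add _ _ _
      _ ∣ _ := mul_dvd_mul h1 (Dvd.dvd.mul_left h2 _)
  · obtain ⟨l, hl⟩ := not_forall.1 hall
    have h1 : ∑ a : k, (WittVector.teichmuller p a) ^ (∑ w ∈ F.support, μ w * w l) = 0 :=
      teich_sum_eq_zero p k _ (by rwa [hq])
    have h2 : ∏ l : Fin N, ∑ a : k,
        (WittVector.teichmuller p a) ^ (∑ w ∈ F.support, μ w * w l) = 0 :=
      Finset.prod_eq_zero (Finset.mem_univ l) h1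
    rw [h2, mul_zero, mul_zero]
    exact dvd_zero _

/-- **Ax's theorem** (with `q = p ^ f`). -/
theorem ax_dvd (f : ℕ) (hq : Fintype.card k = p ^ f) (hf : 0 < f) (N d j : ℕ) (hd : 0 < d)
    (F : MvPolynomial (Fin N) k) (hF : F.IsHomogeneous d) (hj : j * d < N) :
    p ^ (f * j) ∣ Nat.card {x : Fin N → k // MvPolynomial.eval x F = 0} := by
  classical
  apply nat_dvd_of_cast_dvd p k
  have hp2 : 2 ≤ p := hp.out.two_le
  have hq2 : 2 ≤ p ^ f := by
    calc 2 ≤ p := hp2
      _ = p ^ 1 := (pow_one p).symm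
      _ ≤ p ^ f := Nat.pow_le_pow_right (by omega) hf
  have hmE : f * j ≤ (p ^ f - 1) * p ^ (f * j) := by
    have h1 : f * j < p ^ (f * j) := Nat.lt_pow_self (by omega)
    have h2 : 1 * p ^ (f * j) ≤ (p ^ f - 1) * p ^ (f * j) := Nat.mul_le_mul_right _ (by omega)
    omega
  have hcount : ((Nat.card {x : Fin N → k // MvPolynomial.eval x F = 0} : ℕ) : 𝕎 k) =
      ∑ x : Fin N → k, if MvPolynomial.eval x F = 0 then (1 : 𝕎 k) else 0 := by
    rw [Nat.card_eq_fintype_card, Fintype.card_subtype, Finset.natCast_card_filter]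
  have hx : ∀ x : Fin N → k, (p : 𝕎 k) ^ (f * j) ∣
      (if MvPolynomial.eval x F = 0 then (1 : 𝕎 k) else 0) -
        (1 - (lift p k F x) ^ ((p ^ f - 1) * p ^ (f * j))) := by
    intro x
    split_ifs with h0
    · have h1 : (lift p k F x).coeff 0 = 0 := by rw [lift_coeff_zero, h0]
      have h2 := pow_dvd_pow_of_coeff_zero p k _ h1 (f * j) _ hmE
      rwa [sub_sub_cancel]
    · have hne : (lift p k F x).coeff 0 ≠ 0 := by rwa [lift_coeff_zero]
      have h1 := pow_dvd_pow_sub_one p k _ hne (f * j)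
      rw [hq] at h1
      have h2 : (p : 𝕎 k) ^ (f * j) ∣
          (lift p k F x) ^ ((p ^ f - 1) * p ^ (f * j)) - 1 :=
        (pow_dvd_pow _ (Nat.le_succ _)).trans h1
      have h3 : (0 : 𝕎 k) - (1 - (lift p k F x) ^ ((p ^ f - 1) * p ^ (f * j))) =
          (lift p k F x) ^ ((p ^ f - 1) * p ^ (f * j)) - 1 := by
        rw [zero_sub, neg_sub]
      rw [h3]
      exact h2
  have hsum : (p : 𝕎 k) ^ (f * j) ∣ ∑ x : Fin N → k,
      ((if MvPolynomial.eval x F = 0 then (1 : 𝕎 k) else 0) -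
        (1 - (lift p k F x) ^ ((p ^ f - 1) * p ^ (f * j)))) :=
    Finset.dvd_sum fun x _ => hx x
  rw [Finset.sum_sub_distrib, Finset.sum_sub_distrib, ← hcount] at hsum
  have hA : (p : 𝕎 k) ^ (f * j) ∣ ∑ _x : Fin N → k, (1 : 𝕎 k) := by
    rw [Finset.sum_const, Finset.card_univ, Fintype.card_fun, Fintype.card_fin, hq, nsmul_one,
      Nat.cast_pow, Nat.cast_pow, ← pow_mul]
    refine pow_dvd_pow _ (Nat.mul_le_mul_left _ ?_)
    have : j * 1 ≤ j * d := Nat.mul_le_mul_left _ hd
    omega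
  have hB : (p : 𝕎 k) ^ (f * j) ∣
      ∑ x : Fin N → k, (lift p k F x) ^ ((p ^ f - 1) * p ^ (f * j)) := by
    rw [sum_lift_pow]
    exact Finset.dvd_sum fun μ hμ => term_dvd p k F d j (f * j) f hq hf hd hF hj μ hμ
  have hC := dvd_add hsum (dvd_sub hA hB)
  rwa [sub_add_cancel] at hC

end Groth.Agent.H79.AxMain
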