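import Groth.Agent.H79.BMCohToFj

set_option autoImplicit false
universe u
open CategoryTheory AlgebraicGeometry Opposite CategoryTheory.Limits

namespace Groth.Agent.H79.BMCohBig

open BMCoh Groth.Agent.H79.BMCohDim Groth.Agent.H79.BMCohRes Groth.Agent.H79.BMCohFilt
  Groth.Agent.H79.BMCohDecomp Groth.Agent.H79.BMCohSeqRes Groth.Agent.H79.BMCohSeqPush
  Groth.Agent.H79.BMCohBij

variable {V : ObjectProperty Scheme.{u}} [IsConstructible V] {R : Type u} [CommRing R]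
  {A : Coefs R} (T : PreTheory V R A) {X : Obj V}

/-- a class on an open `U` containing `F_0` whose residue at a point `x` (of codimension `m`)
outside `U` dies in the group of `x` extends to a larger open containing `x` -/
theorem exists_extension_gen {m : ℕ} (x : X.cdPt m) (M : A.Cat) (i n i' n' : ℤ)
    (hi : i' = i + 1 - 2 * (m : ℤ)) (hn : n' = n - (m : ℤ))
    (U Yo : X.scheme.Opens) (hU : ContainsFj X 0 U) (hUY : U ≤ Yo) (hxU : x.1 ∉ U)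
    (hYT : ∀ y ∈ Yo, y ∉ U → y ∈ closure ({x.1} : Set X.scheme)) (hxY : x.1 ∈ Yo)
    (hd : WeilCoh.dim (U : Scheme.{u}) = WeilCoh.dim (Yo : Scheme.{u}))
    (hiD : i' = i + 1 - 2 * (cDecomp X U Yo hUY hd x.1 hxU hYT).codim)
    (hnD : n' = n - (cDecomp X U Yo hUY hd x.1 hxU hYT).codim)
    (a : T.gp (X.res U) M i n)
    (h0 : ((T.ptι X x.1 i' n' (ptPre X x.1 Yo hxY)).app M).hom
      ((T.res (cDecomp X U Yo hUY hd x.1 hxU hYT) M i n i' n' hiD hnD).hom a) = 0) :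
    ∃ (Yo' : X.scheme.Opens) (hUY' : U ≤ Yo')
      (hd' : WeilCoh.dim (U : Scheme.{u}) = WeilCoh.dim (Yo' : Scheme.{u})),
      Yo' ≤ Yo ∧ x.1 ∈ Yo' ∧
      ∃ ã : T.gp (X.res Yo') M i n, (T.pull (X.resLE hUY' hd') M i n).hom ã = a := by
  obtain ⟨W', hle, hW'⟩ := rep_eq_zero T (X.ptSub x.1)
    (fun U => (U : Set (X.ptSub x.1).scheme).Nonempty) i' n' M (ptPre X x.1 Yo hxY) _ h0
  obtain ⟨hUY', hxY', hYT', hpre⟩ := shrink_facts x.1 U Yo hUY hxU hxY hYT W'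
  have hYo' : ContainsFj X 0 (Yo ⊓ complOpen X x.1 W'.1) := containsFj_of_le X 0 U _ hUY' hU
  have hd' : WeilCoh.dim (U : Scheme.{u}) =
      WeilCoh.dim ((Yo ⊓ complOpen X x.1 W'.1 : X.scheme.Opens) : Scheme.{u}) :=
    (dim_of_containsFj X 0 U hU).trans (dim_of_containsFj X 0 _ hYo').symm
  have hcod' := cDecomp_codim X m x U _ hUY' hd' hxU hYT' hxY'
    (dim_of_containsFj X 0 _ hYo')
  have hiD' : i' = i + 1 - 2 * (cDecomp X U _ hUY' hd' x.1 hxU hYT').codim := by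
    rw [hcod']
    exact hi
  have hnD' : n' = n - (cDecomp X U _ hUY' hd' x.1 hxU hYT').codim := by
    rw [hcod']
    exact hn
  have hpreLE : (X.ptSubι x.1) ⁻¹ᵁ (Yo ⊓ complOpen X x.1 W'.1) ≤ (X.ptSubι x.1) ⁻¹ᵁ Yo :=
    fun z hz => hz.1
  have hdYY : WeilCoh.dim ((Yo ⊓ complOpen X x.1 W'.1 : X.scheme.Opens) : Scheme.{u}) =
      WeilCoh.dim (Yo : Scheme.{u}) := hd'.symm.trans hd
  have hsq1 : ((X.ptSub x.1).resLE hpreLE
        ((ptPre X x.1 _ hxY').2.2.trans (ptPre X x.1 Yo hxY).2.2.symm)).hom ≫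
      (cDecomp X U Yo hUY hd x.1 hxU hYT).i =
      (cDecomp X U _ hUY' hd' x.1 hxU hYT').i ≫
        (X.resLE (inf_le_left : Yo ⊓ complOpen X x.1 W'.1 ≤ Yo) hdYY).hom := by
    change (X.ptSub x.1).scheme.homOfLE hpreLE ≫ (X.ptSubι x.1 ∣_ Yo) =
      (X.ptSubι x.1 ∣_ (Yo ⊓ complOpen X x.1 W'.1)) ≫ X.scheme.homOfLE inf_le_left
    rw [← cancel_mono Yo.ι, Category.assoc, Category.assoc, morphismRestrict_ι,
      Scheme.homOfLE_ι, morphismRestrict_ι, ← Category.assoc, Scheme.homOfLE_ι]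
  have hsq2 : 𝟙 (X.res U) ≫ (cDecomp X U Yo hUY hd x.1 hxU hYT).j =
      (cDecomp X U _ hUY' hd' x.1 hxU hYT').j ≫
        X.resLE (inf_le_left : Yo ⊓ complOpen X x.1 W'.1 ≤ Yo) hdYY := by
    refine Hom.ext ?_
    change 𝟙 _ ≫ X.scheme.homOfLE hUY = X.scheme.homOfLE hUY' ≫ X.scheme.homOfLE inf_le_left
    rw [Category.id_comp, Scheme.homOfLE_homOfLE]
  have hrp := T.res_pull (cDecomp X U Yo hUY hd x.1 hxU hYT)
    (cDecomp X U _ hUY' hd' x.1 hxU hYT')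
    (X.resLE (inf_le_left : Yo ⊓ complOpen X x.1 W'.1 ≤ Yo) hdYY)
    ((X.ptSub x.1).resLE hpreLE
        ((ptPre X x.1 _ hxY').2.2.trans (ptPre X x.1 Yo hxY).2.2.symm))
    (𝟙 (X.res U)) hsq1 hsq2 M i n i' n' hiD hnD hiD' hnD'
  have hrp2 := congrArg (fun φ => φ.hom a) hrp
  have h2 : (T.res (cDecomp X U _ hUY' hd' x.1 hxU hYT') M i n i' n' hiD' hnD').hom a =
      (T.pull ((X.ptSub x.1).resLE hpreLE
        ((ptPre X x.1 _ hxY').2.2.trans (ptPre X x.1 Yo hxY).2.2.symm)) M i' n').hom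
        ((T.res (cDecomp X U Yo hUY hd x.1 hxU hYT) M i n i' n' hiD hnD).hom a) := by
    refine Eq.trans ?_ hrp2.symm
    exact congrArg (fun c => (T.res (cDecomp X U _ hUY' hd' x.1 hxU hYT') M i n i' n'
      hiD' hnD').hom c) (pull_id_apply T _ M i n a).symm
  have hfac : (X.ptSub x.1).resLE hpreLE
        ((ptPre X x.1 _ hxY').2.2.trans (ptPre X x.1 Yo hxY).2.2.symm) =
      (X.ptSub x.1).resLE hpre ((ptPre X x.1 _ hxY').2.2.trans W'.2.2.symm) ≫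
        (idxDiag (X.ptSub x.1) (fun U => (U : Set (X.ptSub x.1).scheme).Nonempty)).map
          (homOfLE hle) :=
    Hom.ext (Scheme.homOfLE_homOfLE (X.ptSub x.1).scheme hpre hle).symm
  have h3 : (T.res (cDecomp X U _ hUY' hd' x.1 hxU hYT') M i n i' n' hiD' hnD').hom a = 0 := by
    rw [h2, hfac]
    exact (pull_comp_apply T _ _ M i' n' _).trans ((congrArg _ hW').trans (map_zero _))
  obtain ⟨ã, hã⟩ := ((T.exact_pull_res (cDecomp X U _ hUY' hd' x.1 hxU hYT') M i n i' n'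
    hiD' hnD') a).mp h3
  exact ⟨_, hUY', hd', inf_le_left, hxY', ã, hã⟩

/-- a class on an open `U` that dies on a smaller open `U'` containing `F_0` dies on a larger
open containing a given maximal point `x` of `U ∖ U'`, if the group of `x` vanishes in the
relevant bidegree -/
theorem exists_larger_vanishing_gen {m : ℕ} (x : X.cdPt m) (M : A.Cat) (k n i₀ n₀ : ℤ)
    (hi : k + 1 = i₀ + 2 * (m : ℤ)) (hn : n = n₀ + (m : ℤ))
    (h0 : IsZero (T.ptGp X x.1 M i₀ n₀))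
    (U' U : X.scheme.Opens) (hU' : ContainsFj X 0 U')
    (hle : U' ≤ U) (hd : WeilCoh.dim (U' : Scheme.{u}) = WeilCoh.dim (U : Scheme.{u}))
    (hxU' : x.1 ∉ U') (hxU : x.1 ∈ U)
    (hmax : ∀ c : X.scheme, c ∉ U' → c ⤳ x.1 → c = x.1)
    (a : T.gp (X.res U) M (k + 1) n)
    (ha : (T.pull (X.resLE hle hd) M (k + 1) n).hom a = 0) :
    ∃ (Y' : X.scheme.Opens) (hY'U : Y' ≤ U)
      (hdY' : WeilCoh.dim (Y' : Scheme.{u}) = WeilCoh.dim (U : Scheme.{u})),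
      U' ≤ Y' ∧ x.1 ∈ Y' ∧
        (T.pull (X.resLE hY'U hdY') M (k + 1) n).hom a = 0 := by
  have hU : ContainsFj X 0 U := containsFj_of_le X 0 U' U hle hU'
  obtain ⟨Yo, hUYo, hxYo, hYoT⟩ := exists_open_isolating X U' x.1 hmax
  have hU'Y : U' ≤ Yo ⊓ U := le_inf hUYo hle
  have hxY : x.1 ∈ Yo ⊓ U := ⟨hxYo, hxU⟩
  have hYT : ∀ y ∈ Yo ⊓ U, y ∉ U' → y ∈ closure ({x.1} : Set X.scheme) :=
    fun y hy hyU => hYoT y hy.1 hyU
  have hY : ContainsFj X 0 (Yo ⊓ U) := containsFj_of_le X 0 U' _ hU'Y hU'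
  have hdimU' := dim_of_containsFj X 0 U' hU'
  have hdimY := dim_of_containsFj X 0 _ hY
  have hdimU := dim_of_containsFj X 0 U hU
  have hdY : WeilCoh.dim (U' : Scheme.{u}) =
      WeilCoh.dim ((Yo ⊓ U : X.scheme.Opens) : Scheme.{u}) := hdimU'.trans hdimY.symm
  have hdYU : WeilCoh.dim ((Yo ⊓ U : X.scheme.Opens) : Scheme.{u}) =
      WeilCoh.dim (U : Scheme.{u}) := hdimY.trans hdimU.symm
  have hrcY := relCodim_eq X m x (ptPre X x.1 (Yo ⊓ U) hxY) (Yo ⊓ U) hdimY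
  have hiY : k + 1 = i₀ + 2 * relCodim
      ((X.ptSub x.1).res ((X.ptSubι x.1) ⁻¹ᵁ (Yo ⊓ U))).scheme (X.res (Yo ⊓ U)).scheme := by
    rw [hrcY]
    exact hi
  have hnY : n = n₀ + relCodim
      ((X.ptSub x.1).res ((X.ptSubι x.1) ⁻¹ᵁ (Yo ⊓ U))).scheme (X.res (Yo ⊓ U)).scheme := by
    rw [hrcY]
    exact hn
  have hfacY : X.resLE hle hd = X.resLE hU'Y hdY ≫
      X.resLE (inf_le_right : Yo ⊓ U ≤ U) hdYU :=
    Hom.ext (Scheme.homOfLE_homOfLE X.scheme hU'Y inf_le_right).symm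
  have haY : (T.pull (X.resLE hU'Y hdY) M (k + 1) n).hom
      ((T.pull (X.resLE (inf_le_right : Yo ⊓ U ≤ U) hdYU) M (k + 1) n).hom a) = 0 := by
    rw [← pull_comp_apply, ← hfacY]
    exact ha
  obtain ⟨b, hb⟩ := ((T.exact_push_pull (cDecomp X U' (Yo ⊓ U) hU'Y hdY x.1 hxU' hYT)
    M k n i₀ n₀ hiY hnY) _).mp haY
  have hsub := ModuleCat.subsingleton_of_isZero h0
  obtain ⟨W', hleW, hW'⟩ := rep_eq_zero T (X.ptSub x.1)
    (fun U => (U : Set (X.ptSub x.1).scheme).Nonempty) i₀ n₀ M (ptPre X x.1 (Yo ⊓ U) hxY) b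
    (Subsingleton.elim _ _)
  obtain ⟨hUY', hxY', hYT', hpre⟩ := shrink_facts x.1 U' (Yo ⊓ U) hU'Y hxU' hxY hYT W'
  have hY' : ContainsFj X 0 ((Yo ⊓ U) ⊓ complOpen X x.1 W'.1) :=
    containsFj_of_le X 0 U' _ hUY' hU'
  have hdimY' := dim_of_containsFj X 0 _ hY'
  have hY'Y : (Yo ⊓ U) ⊓ complOpen X x.1 W'.1 ≤ Yo ⊓ U := inf_le_left
  have hdY'Y : WeilCoh.dim (((Yo ⊓ U) ⊓ complOpen X x.1 W'.1 : X.scheme.Opens) : Scheme.{u}) =
      WeilCoh.dim ((Yo ⊓ U : X.scheme.Opens) : Scheme.{u}) := hdimY'.trans hdimY.symm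
  have hY'U : (Yo ⊓ U) ⊓ complOpen X x.1 W'.1 ≤ U := hY'Y.trans inf_le_right
  have hdY'U : WeilCoh.dim (((Yo ⊓ U) ⊓ complOpen X x.1 W'.1 : X.scheme.Opens) : Scheme.{u}) =
      WeilCoh.dim (U : Scheme.{u}) := hdimY'.trans hdimU.symm
  have hpreLE : (X.ptSubι x.1) ⁻¹ᵁ ((Yo ⊓ U) ⊓ complOpen X x.1 W'.1) ≤
      (X.ptSubι x.1) ⁻¹ᵁ (Yo ⊓ U) := fun z hz => hz.1
  have hrcY' := relCodim_eq X m x (ptPre X x.1 _ hxY') _ hdimY'
  have hiY' : k + 1 = i₀ + 2 * relCodim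
      ((X.ptSub x.1).res ((X.ptSubι x.1) ⁻¹ᵁ ((Yo ⊓ U) ⊓ complOpen X x.1 W'.1))).scheme
      (X.res ((Yo ⊓ U) ⊓ complOpen X x.1 W'.1)).scheme := by
    rw [hrcY']
    exact hi
  have hnY' : n = n₀ + relCodim
      ((X.ptSub x.1).res ((X.ptSubι x.1) ⁻¹ᵁ ((Yo ⊓ U) ⊓ complOpen X x.1 W'.1))).scheme
      (X.res ((Yo ⊓ U) ⊓ complOpen X x.1 W'.1)).scheme := by
    rw [hrcY']
    exact hn
  have hpp := T.push_pull (X := (X.ptSub x.1).res ((X.ptSubι x.1) ⁻¹ᵁ (Yo ⊓ U)))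
    (Y := X.res (Yo ⊓ U))
    (X' := (X.ptSub x.1).res ((X.ptSubι x.1) ⁻¹ᵁ ((Yo ⊓ U) ⊓ complOpen X x.1 W'.1)))
    (Y' := X.res ((Yo ⊓ U) ⊓ complOpen X x.1 W'.1))
    (X.ptSubι x.1 ∣_ (Yo ⊓ U)) (X.ptSubι x.1 ∣_ ((Yo ⊓ U) ⊓ complOpen X x.1 W'.1))
    (X.resLE hY'Y hdY'Y)
    ((X.ptSub x.1).resLE hpreLE
      ((ptPre X x.1 _ hxY').2.2.trans (ptPre X x.1 (Yo ⊓ U) hxY).2.2.symm))
    (isPullback_restrict_le (X.ptSubι x.1) hY'Y hpreLE) M i₀ n₀ (k + 1) n hiY hnY hiY' hnY'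
  have hpp2 := congrArg (fun φ => φ.hom b) hpp
  have hfac : (X.ptSub x.1).resLE hpreLE
        ((ptPre X x.1 _ hxY').2.2.trans (ptPre X x.1 (Yo ⊓ U) hxY).2.2.symm) =
      (X.ptSub x.1).resLE hpre ((ptPre X x.1 _ hxY').2.2.trans W'.2.2.symm) ≫
        (idxDiag (X.ptSub x.1) (fun U => (U : Set (X.ptSub x.1).scheme).Nonempty)).map
          (homOfLE hleW) :=
    Hom.ext (Scheme.homOfLE_homOfLE (X.ptSub x.1).scheme hpre hleW).symm
  have hb0 : (T.pull ((X.ptSub x.1).resLE hpreLE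
        ((ptPre X x.1 _ hxY').2.2.trans (ptPre X x.1 (Yo ⊓ U) hxY).2.2.symm)) M i₀ n₀).hom b =
      0 := by
    rw [hfac]
    exact (pull_comp_apply T _ _ M i₀ n₀ _).trans ((congrArg _ hW').trans (map_zero _))
  have hfacU : X.resLE hY'U hdY'U = X.resLE hY'Y hdY'Y ≫
      X.resLE (inf_le_right : Yo ⊓ U ≤ U) hdYU :=
    Hom.ext (Scheme.homOfLE_homOfLE X.scheme hY'Y inf_le_right).symm
  refine ⟨_, hY'U, hdY'U, hUY', hxY', ?_⟩
  rw [hfacU, pull_comp_apply, ← hb]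
  refine hpp2.trans ?_
  change (T.push
    (X := (X.ptSub x.1).res ((X.ptSubι x.1) ⁻¹ᵁ ((Yo ⊓ U) ⊓ complOpen X x.1 W'.1)))
    (Y := X.res ((Yo ⊓ U) ⊓ complOpen X x.1 W'.1))
    (X.ptSubι x.1 ∣_ ((Yo ⊓ U) ⊓ complOpen X x.1 W'.1)) M i₀ n₀ (k + 1) n hiY' hnY').hom
    ((T.pull ((X.ptSub x.1).resLE hpreLE
        ((ptPre X x.1 _ hxY').2.2.trans (ptPre X x.1 (Yo ⊓ U) hxY).2.2.symm)) M i₀ n₀).hom b) = 0
  rw [hb0, map_zero]

/-- a point of minimal codimension in the difference of two opens is a maximal point of it -/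
theorem exists_maximal_point (U' U : X.scheme.Opens) (hlt : ¬ U ≤ U') :
    ∃ (m : ℕ) (x : X.cdPt m), x.1 ∈ U ∧ x.1 ∉ U' ∧
      ∀ c : X.scheme, c ∉ U' → c ⤳ x.1 → c = x.1 := by
  classical
  have hne : ∃ c : ℕ, ∃ y : X.scheme, y ∈ U ∧ y ∉ U' ∧ WeilCoh.codim X.scheme y = c := by
    by_contra hcon
    apply hlt
    intro y hy
    by_contra hyU'
    exact hcon ⟨_, y, hy, hyU', rfl⟩
  obtain ⟨y, hyU, hyU', hyc⟩ := Nat.find_spec hne
  have hmin : ∀ z : X.scheme, z ∈ U → z ∉ U' → Nat.find hne ≤ WeilCoh.codim X.scheme z :=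
    fun z h1 h2 => Nat.find_min' hne ⟨z, h1, h2, rfl⟩
  refine ⟨Nat.find hne, ⟨y, hyc⟩, hyU, hyU', ?_⟩
  intro c hcU' hcy
  by_contra hne'
  have hcU : c ∈ U := hcy.mem_open U.isOpen hyU
  have h1 := hmin c hcU hcU'
  have h2 := codim_lt_of_mem_closure X c y (specializes_iff_mem_closure.mp hcy) (Ne.symm hne')
  omega

/-- restriction between opens containing `F_0` is bijective when the groups of the points of
the difference vanish in the bidegrees of the push-forwards and of the residues -/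
theorem pull_bijective_of_isZero (M : A.Cat) (k n : ℤ) (U : X.scheme.Opens) :
    ∀ (U' : X.scheme.Opens) (hU' : ContainsFj X 0 U') (hle : U' ≤ U)
      (hd : WeilCoh.dim (U' : Scheme.{u}) = WeilCoh.dim (U : Scheme.{u})),
      (∀ (m : ℕ) (x : X.cdPt m), x.1 ∈ U → x.1 ∉ U' →
        IsZero (T.ptGp X x.1 M (k + 1 - 2 * (m : ℤ)) (n - (m : ℤ))) ∧
        IsZero (T.ptGp X x.1 M (k + 1 + 1 - 2 * (m : ℤ)) (n - (m : ℤ)))) →
      Function.Bijective (T.pull (X.resLE hle hd) M (k + 1) n).hom := by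
  have hN : IsNoetherian X.scheme := IsConstructible.isNoetherian X.mem
  intro U'
  refine IsWellFounded.induction (· > ·) (motive := fun U' : X.scheme.Opens =>
    ∀ (hU' : ContainsFj X 0 U') (hle : U' ≤ U)
      (hd : WeilCoh.dim (U' : Scheme.{u}) = WeilCoh.dim (U : Scheme.{u})),
      (∀ (m : ℕ) (x : X.cdPt m), x.1 ∈ U → x.1 ∉ U' →
        IsZero (T.ptGp X x.1 M (k + 1 - 2 * (m : ℤ)) (n - (m : ℤ))) ∧
        IsZero (T.ptGp X x.1 M (k + 1 + 1 - 2 * (m : ℤ)) (n - (m : ℤ)))) →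
      Function.Bijective (T.pull (X.resLE hle hd) M (k + 1) n).hom) U' ?_
  intro U' IH hU' hle hd hz
  by_cases hUU' : U ≤ U'
  · obtain rfl : U' = U := le_antisymm hle hUU'
    have h1 : X.resLE hle hd = 𝟙 (X.res U') := Hom.ext (Scheme.homOfLE_rfl _ _)
    rw [h1]
    refine Function.bijective_iff_has_inverse.mpr ⟨id, ?_, ?_⟩
    · intro c
      exact pull_id_apply T _ M (k + 1) n c
    · intro c
      exact pull_id_apply T _ M (k + 1) n c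
  · obtain ⟨m, x, hxU, hxU', hmax⟩ := exists_maximal_point U' U hUU'
    have hU : ContainsFj X 0 U := containsFj_of_le X 0 U' U hle hU'
    have hdimU' := dim_of_containsFj X 0 U' hU'
    have hdimU := dim_of_containsFj X 0 U hU
    obtain ⟨hz0, hz1⟩ := hz m x hxU hxU'
    constructor
    · rw [injective_iff_map_eq_zero]
      intro a ha
      obtain ⟨Y', hY'U, hdY', hU'Y', hxY', haY'⟩ := exists_larger_vanishing_gen T x M k n
        (k + 1 - 2 * (m : ℤ)) (n - (m : ℤ)) (by ring) (by ring) hz0 U' U hU' hle hd hxU' hxU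
        hmax a ha
      have hlt : Y' > U' := lt_of_le_of_ne hU'Y' (fun heq => hxU' (heq ▸ hxY'))
      have hY' : ContainsFj X 0 Y' := containsFj_of_le X 0 U' Y' hU'Y' hU'
      have hb := IH Y' hlt hY' hY'U hdY' (fun m' x' h1 h2 => hz m' x' h1 (fun h3 => h2 (hU'Y' h3)))
      exact (injective_iff_map_eq_zero _).mp hb.1 a haY'
    · intro b
      obtain ⟨Yo, hUYo, hxYo, hYoT⟩ := exists_open_isolating X U' x.1 hmax
      have hU'Y : U' ≤ Yo ⊓ U := le_inf hUYo hle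
      have hxY : x.1 ∈ Yo ⊓ U := ⟨hxYo, hxU⟩
      have hYT : ∀ y ∈ Yo ⊓ U, y ∉ U' → y ∈ closure ({x.1} : Set X.scheme) :=
        fun y hy hyU => hYoT y hy.1 hyU
      have hY : ContainsFj X 0 (Yo ⊓ U) := containsFj_of_le X 0 U' _ hU'Y hU'
      have hdimY := dim_of_containsFj X 0 _ hY
      have hdY : WeilCoh.dim (U' : Scheme.{u}) =
          WeilCoh.dim ((Yo ⊓ U : X.scheme.Opens) : Scheme.{u}) := hdimU'.trans hdimY.symm
      have hcod := cDecomp_codim X m x U' (Yo ⊓ U) hU'Y hdY hxU' hYT hxY hdimY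
      have hiD : k + 1 + 1 - 2 * (m : ℤ) =
          k + 1 + 1 - 2 * (cDecomp X U' (Yo ⊓ U) hU'Y hdY x.1 hxU' hYT).codim := by
        rw [hcod]
      have hnD : n - (m : ℤ) = n - (cDecomp X U' (Yo ⊓ U) hU'Y hdY x.1 hxU' hYT).codim := by
        rw [hcod]
      have hsub := ModuleCat.subsingleton_of_isZero hz1
      obtain ⟨Yo', hUY', hd', hYo'Y, hxY', ã, hã⟩ := exists_extension_gen T x M (k + 1) n
        (k + 1 + 1 - 2 * (m : ℤ)) (n - (m : ℤ)) rfl rfl U' (Yo ⊓ U) hU' hU'Y hxU' hYT hxY hdY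
        hiD hnD b (Subsingleton.elim _ _)
      have hYo'U : Yo' ≤ U := hYo'Y.trans inf_le_right
      have hYo' : ContainsFj X 0 Yo' := containsFj_of_le X 0 U' Yo' hUY' hU'
      have hdYo'U : WeilCoh.dim (Yo' : Scheme.{u}) = WeilCoh.dim (U : Scheme.{u}) :=
        hd'.symm.trans hd
      have hlt : Yo' > U' := lt_of_le_of_ne hUY' (fun heq => hxU' (heq ▸ hxY'))
      have hb := IH Yo' hlt hYo' hYo'U hdYo'U
        (fun m' x' h1 h2 => hz m' x' h1 (fun h3 => h2 (hUY' h3)))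
      obtain ⟨c, hc⟩ := hb.2 ã
      refine ⟨c, ?_⟩
      have hfac : X.resLE hle hd = X.resLE hUY' hd' ≫ X.resLE hYo'U hdYo'U :=
        Hom.ext (Scheme.homOfLE_homOfLE X.scheme hUY' hYo'U).symm
      rw [hfac, pull_comp_apply, hc, hã]

end Groth.Agent.H79.BMCohBig
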