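import Groth.Agent.H79.BMCohSeqPush

set_option autoImplicit false
universe u
open CategoryTheory AlgebraicGeometry Opposite CategoryTheory.Limits

namespace Groth.Agent.H79.BMCohBij

open BMCoh Groth.Agent.H79.BMCohDim Groth.Agent.H79.BMCohRes Groth.Agent.H79.BMCohFilt
  Groth.Agent.H79.BMCohDecomp Groth.Agent.H79.BMCohSeqRes Groth.Agent.H79.BMCohSeqPush

/-- restricting a morphism to nested opens of the target gives a cartesian square -/
theorem isPullback_restrict_le {Z X : Scheme.{u}} (f : Z ⟶ X) {Y' Y : X.Opens} (hle : Y' ≤ Y)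
    (hpre : f ⁻¹ᵁ Y' ≤ f ⁻¹ᵁ Y) :
    IsPullback (Z.homOfLE hpre) (f ∣_ Y') (f ∣_ Y) (X.homOfLE hle) := by
  have t : IsPullback (f ⁻¹ᵁ Y).ι (f ∣_ Y) f Y.ι := (isPullback_morphismRestrict f Y).flip
  have s : IsPullback (Z.homOfLE hpre ≫ (f ⁻¹ᵁ Y).ι) (f ∣_ Y') f (X.homOfLE hle ≫ Y.ι) := by
    rw [Scheme.homOfLE_ι, Scheme.homOfLE_ι]
    exact (isPullback_morphismRestrict f Y').flip
  refine IsPullback.of_right s ?_ t
  rw [← cancel_mono Y.ι, Category.assoc, Category.assoc, morphismRestrict_ι, Scheme.homOfLE_ι,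
    morphismRestrict_ι, ← Category.assoc, Scheme.homOfLE_ι]

variable {V : ObjectProperty Scheme.{u}} [IsConstructible V] {R : Type u} [CommRing R]
  {A : Coefs R} (T : PreTheory V R A) {X : Obj V}

/-- the shrinking of an isolating open along a smaller trace on the closure of the point -/
theorem shrink_facts (x : X.scheme) (U Yo : X.scheme.Opens) (hUY : U ≤ Yo) (hxU : x ∉ U)
    (hxY : x ∈ Yo) (hYT : ∀ y ∈ Yo, y ∉ U → y ∈ closure ({x} : Set X.scheme))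
    (W' : ptIdx X x) :
    U ≤ Yo ⊓ complOpen X x W'.1 ∧ x ∈ Yo ⊓ complOpen X x W'.1 ∧
      (∀ y ∈ Yo ⊓ complOpen X x W'.1, y ∉ U → y ∈ closure ({x} : Set X.scheme)) ∧
      (X.ptSubι x) ⁻¹ᵁ (Yo ⊓ complOpen X x W'.1) ≤ W'.1 := by
  have hUc : U ≤ complOpen X x W'.1 := by
    intro y hy
    rw [mem_complOpen_iff]
    intro z hz
    exfalso
    have hycl : y ∈ closure ({x} : Set X.scheme) := by
      rw [← range_ptSubι]
      exact ⟨z, hz⟩
    exact closure_subset_compl X U x hxU hycl hy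
  refine ⟨le_inf hUY hUc, ⟨hxY, complOpen_containsFj X x W'.1 W'.2.1 x le_rfl⟩,
    fun y hy hyU => hYT y hy.1 hyU, ?_⟩
  intro z hz
  have hz2 : X.ptSubι x z ∈ complOpen X x W'.1 := hz.2
  rw [mem_complOpen_iff] at hz2
  exact hz2 z rfl

/-- a class on an open `U` containing `F_j` whose residue at a point `x` of codimension `j + 1`
outside `U` dies in the group of `x` extends to a larger open containing `x` -/
theorem exists_extension {j : ℕ} (x : X.cdPt (j + 1)) (M : A.Cat) (i n i' n' : ℤ)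
    (hi : i' = i + 1 - 2 * ((j : ℤ) + 1)) (hn : n' = n - ((j : ℤ) + 1))
    (U Yo : X.scheme.Opens) (hU : ContainsFj X j U) (hUY : U ≤ Yo) (hxU : x.1 ∉ U)
    (hYT : ∀ y ∈ Yo, y ∉ U → y ∈ closure ({x.1} : Set X.scheme)) (hxY : x.1 ∈ Yo)
    (hd : WeilCoh.dim (U : Scheme.{u}) = WeilCoh.dim (Yo : Scheme.{u}))
    (hiD : i' = i + 1 - 2 * (cDecomp X U Yo hUY hd x.1 hxU hYT).codim)
    (hnD : n' = n - (cDecomp X U Yo hUY hd x.1 hxU hYT).codim)
    (a : T.gp (X.res U) M i n)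
    (h0 : ((T.ptι X x.1 i' n' (ptPre X x.1 Yo hxY)).app M).hom
      ((T.res (cDecomp X U Yo hUY hd x.1 hxU hYT) M i n i' n' hiD hnD).hom a) = 0) :
    ∃ (Yo' : X.scheme.Opens) (hUY' : U ≤ Yo')
      (hd' : WeilCoh.dim (U : Scheme.{u}) = WeilCoh.dim (Yo' : Scheme.{u})),
      x.1 ∈ Yo' ∧ ContainsFj X j Yo' ∧
      ∃ ã : T.gp (X.res Yo') M i n, (T.pull (X.resLE hUY' hd') M i n).hom ã = a := by
  obtain ⟨W', hle, hW'⟩ := rep_eq_zero T (X.ptSub x.1)
    (fun U => (U : Set (X.ptSub x.1).scheme).Nonempty) i' n' M (ptPre X x.1 Yo hxY) _ h0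
  obtain ⟨hUY', hxY', hYT', hpre⟩ := shrink_facts x.1 U Yo hUY hxU hxY hYT W'
  have hYo' : ContainsFj X j (Yo ⊓ complOpen X x.1 W'.1) := containsFj_of_le X j U _ hUY' hU
  have hd' : WeilCoh.dim (U : Scheme.{u}) =
      WeilCoh.dim ((Yo ⊓ complOpen X x.1 W'.1 : X.scheme.Opens) : Scheme.{u}) :=
    (dim_of_containsFj X j U hU).trans (dim_of_containsFj X j _ hYo').symm
  have hcod' := cDecomp_codim X (j + 1) x U _ hUY' hd' hxU hYT' hxY'
    (dim_of_containsFj X j _ hYo')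
  have hiD' : i' = i + 1 - 2 * (cDecomp X U _ hUY' hd' x.1 hxU hYT').codim := by
    rw [hcod']
    push_cast
    exact hi
  have hnD' : n' = n - (cDecomp X U _ hUY' hd' x.1 hxU hYT').codim := by
    rw [hcod']
    push_cast
    exact hn
  have hpreLE : (X.ptSubι x.1) ⁻¹ᵁ (Yo ⊓ complOpen X x.1 W'.1) ≤ (X.ptSubι x.1) ⁻¹ᵁ Yo :=
    fun z hz => hz.1
  have hdYY : WeilCoh.dim ((Yo ⊓ complOpen X x.1 W'.1 : X.scheme.Opens) : Scheme.{u}) =
      WeilCoh.dim (Yo : Scheme.{u}) := hd'.symm.trans hd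
  have hsq1 : ((X.ptSub x.1).resLE hpreLE
        ((ptPre X x.1 _ hxY').2.2.trans (ptPre X x.1 Yo hxY).2.2.symm)).hom ≫
      (cDecomp X U Yo hUY hd x.1 hxU hYT).i =
      (cDecomp X U _ hUY' hd' x.1 hxU hYT').i ≫
        (X.resLE (inf_le_left : Yo ⊓ complOpen X x.1 W'.1 ≤ Yo) hdYY).hom := by
    change (X.ptSub x.1).scheme.homOfLE hpreLE ≫ (X.ptSubι x.1 ∣_ Yo) =
      (X.ptSubι x.1 ∣_ (Yo ⊓ complOpen X x.1 W'.1)) ≫ X.scheme.homOfLE inf_le_left
    rw [← cancel_mono Yo.ι, Category.assoc, Category.assoc, morphismRestrict_ι,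
      Scheme.homOfLE_ι, morphismRestrict_ι, ← Category.assoc, Scheme.homOfLE_ι]
  have hsq2 : 𝟙 (X.res U) ≫ (cDecomp X U Yo hUY hd x.1 hxU hYT).j =
      (cDecomp X U _ hUY' hd' x.1 hxU hYT').j ≫
        X.resLE (inf_le_left : Yo ⊓ complOpen X x.1 W'.1 ≤ Yo) hdYY := by
    refine Hom.ext ?_
    change 𝟙 _ ≫ X.scheme.homOfLE hUY = X.scheme.homOfLE hUY' ≫ X.scheme.homOfLE inf_le_left
    rw [Category.id_comp, Scheme.homOfLE_homOfLE]
  have hrp := T.res_pull (cDecomp X U Yo hUY hd x.1 hxU hYT)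
    (cDecomp X U _ hUY' hd' x.1 hxU hYT')
    (X.resLE (inf_le_left : Yo ⊓ complOpen X x.1 W'.1 ≤ Yo) hdYY)
    ((X.ptSub x.1).resLE hpreLE
        ((ptPre X x.1 _ hxY').2.2.trans (ptPre X x.1 Yo hxY).2.2.symm))
    (𝟙 (X.res U)) hsq1 hsq2 M i n i' n' hiD hnD hiD' hnD'
  have hrp2 := congrArg (fun φ => φ.hom a) hrp
  have h2 : (T.res (cDecomp X U _ hUY' hd' x.1 hxU hYT') M i n i' n' hiD' hnD').hom a =
      (T.pull ((X.ptSub x.1).resLE hpreLE
        ((ptPre X x.1 _ hxY').2.2.trans (ptPre X x.1 Yo hxY).2.2.symm)) M i' n').hom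
        ((T.res (cDecomp X U Yo hUY hd x.1 hxU hYT) M i n i' n' hiD hnD).hom a) := by
    refine Eq.trans ?_ hrp2.symm
    exact congrArg (fun c => (T.res (cDecomp X U _ hUY' hd' x.1 hxU hYT') M i n i' n'
      hiD' hnD').hom c) (pull_id_apply T _ M i n a).symm
  have hfac : (X.ptSub x.1).resLE hpreLE
        ((ptPre X x.1 _ hxY').2.2.trans (ptPre X x.1 Yo hxY).2.2.symm) =
      (X.ptSub x.1).resLE hpre ((ptPre X x.1 _ hxY').2.2.trans W'.2.2.symm) ≫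
        (idxDiag (X.ptSub x.1) (fun U => (U : Set (X.ptSub x.1).scheme).Nonempty)).map
          (homOfLE hle) :=
    Hom.ext (Scheme.homOfLE_homOfLE (X.ptSub x.1).scheme hpre hle).symm
  have h3 : (T.res (cDecomp X U _ hUY' hd' x.1 hxU hYT') M i n i' n' hiD' hnD').hom a = 0 := by
    rw [h2, hfac]
    exact (pull_comp_apply T _ _ M i' n' _).trans ((congrArg _ hW').trans (map_zero _))
  obtain ⟨ã, hã⟩ := ((T.exact_pull_res (cDecomp X U _ hUY' hd' x.1 hxU hYT') M i n i' n'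
    hiD' hnD') a).mp h3
  exact ⟨_, hUY', hd', hxY', hYo', ã, hã⟩

/-- the restriction from `F_{j+1}` to `F_j` is surjective when the groups of the points of
codimension `j + 1` vanish in the bidegree of the residues -/
theorem fjRes_surjective_of_isZero {j : ℕ} (M : A.Cat) (i n i' n' : ℤ)
    (hi : i' = i + 1 - 2 * ((j : ℤ) + 1)) (hn : n' = n - ((j : ℤ) + 1))
    (h1 : ∀ x : X.cdPt (j + 1), IsZero (T.ptGp X x.1 M i' n')) :
    ∀ (U : X.scheme.Opens) (hU : ContainsFj X j U) (a : T.gp (X.res U) M i n),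
      ∃ γ : T.fjGp X (j + 1) M i n, ((T.fjRes X (Nat.le_succ j) i n).app M).hom γ =
        ((T.fjι X j i n (fjMk X j U hU)).app M).hom a := by
  have hN : IsNoetherian X.scheme := IsConstructible.isNoetherian X.mem
  intro U
  refine IsWellFounded.induction (· > ·) (motive := fun U : X.scheme.Opens =>
    ∀ (hU : ContainsFj X j U) (a : T.gp (X.res U) M i n),
      ∃ γ : T.fjGp X (j + 1) M i n, ((T.fjRes X (Nat.le_succ j) i n).app M).hom γ =
        ((T.fjι X j i n (fjMk X j U hU)).app M).hom a) U ?_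
  intro U IH hU a
  by_cases hU1 : ContainsFj X (j + 1) U
  · exact ⟨((T.fjι X (j + 1) i n (fjMk X (j + 1) U hU1)).app M).hom a,
      fjRes_fjι_apply T X (Nat.le_succ j) i n M (fjMk X (j + 1) U hU1) a⟩
  · have hex : ∃ y : X.scheme, WeilCoh.codim X.scheme y ≤ j + 1 ∧ y ∉ U := by
      by_contra hcon
      apply hU1
      intro y hy
      by_contra hyU
      exact hcon ⟨y, hy, hyU⟩
    obtain ⟨y, hy1, hyU⟩ := hex
    have hy2 : WeilCoh.codim X.scheme y = j + 1 := by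
      by_contra hne
      exact hyU (hU y (by omega))
    let x : X.cdPt (j + 1) := ⟨y, hy2⟩
    have hxU : x.1 ∉ U := hyU
    obtain ⟨Yo, hUY, hxY, hYT⟩ := exists_open_isolating X U x.1
      (fun c hc hcx => isMaximal_of_not_mem X j x (fjMk X j U hU) c hc hcx)
    have hYo : ContainsFj X j Yo := containsFj_of_le X j U Yo hUY hU
    have hd : WeilCoh.dim (U : Scheme.{u}) = WeilCoh.dim (Yo : Scheme.{u}) :=
      (dim_of_containsFj X j U hU).trans (dim_of_containsFj X j Yo hYo).symm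
    have hcod := cDecomp_codim X (j + 1) x U Yo hUY hd hxU hYT hxY (dim_of_containsFj X j Yo hYo)
    have hiD : i' = i + 1 - 2 * (cDecomp X U Yo hUY hd x.1 hxU hYT).codim := by
      rw [hcod]
      push_cast
      exact hi
    have hnD : n' = n - (cDecomp X U Yo hUY hd x.1 hxU hYT).codim := by
      rw [hcod]
      push_cast
      exact hn
    have hsub := ModuleCat.subsingleton_of_isZero (h1 x)
    obtain ⟨Yo', hUY', hd', hxY', hYo', ã, hã⟩ := exists_extension T x M i n i' n' hi hn U Yo hU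
      hUY hxU hYT hxY hd hiD hnD a (Subsingleton.elim _ _)
    have h5 : ((T.fjι X j i n (fjMk X j _ hYo')).app M).hom ã =
        ((T.fjι X j i n (fjMk X j U hU)).app M).hom a := by
      rw [ocolimι_le_apply T X (ContainsFj X j) i n M (fjMk X j U hU) (fjMk X j _ hYo') hUY'
        hd' ã]
      exact congrArg _ hã
    have hlt : Yo' > U := lt_of_le_of_ne hUY' (fun heq => hxU (heq ▸ hxY'))
    obtain ⟨γ, hγ⟩ := IH _ hlt hYo' ã
    exact ⟨γ, hγ.trans h5⟩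

/-- a class on an open `U` containing `F_{j+1}` that dies on a smaller open `U'` containing
`F_j` and missing the point `x` of codimension `j + 1` dies on a larger open containing `x`, if
the group of `x` vanishes in the relevant bidegree -/
theorem exists_larger_vanishing {j : ℕ} (x : X.cdPt (j + 1)) (M : A.Cat) (k n i₀ n₀ : ℤ)
    (hi : k + 1 = i₀ + 2 * ((j + 1 : ℕ) : ℤ)) (hn : n = n₀ + ((j + 1 : ℕ) : ℤ))
    (h0 : IsZero (T.ptGp X x.1 M i₀ n₀))
    (U' U : X.scheme.Opens) (hU' : ContainsFj X j U') (hU : ContainsFj X (j + 1) U)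
    (hle : U' ≤ U) (hd : WeilCoh.dim (U' : Scheme.{u}) = WeilCoh.dim (U : Scheme.{u}))
    (hxU' : x.1 ∉ U') (a : T.gp (X.res U) M (k + 1) n)
    (ha : (T.pull (X.resLE hle hd) M (k + 1) n).hom a = 0) :
    ∃ (Y' : X.scheme.Opens) (hY'U : Y' ≤ U)
      (hdY' : WeilCoh.dim (Y' : Scheme.{u}) = WeilCoh.dim (U : Scheme.{u})),
      U' ≤ Y' ∧ x.1 ∈ Y' ∧ ContainsFj X j Y' ∧
        (T.pull (X.resLE hY'U hdY') M (k + 1) n).hom a = 0 := by
  have hxU : x.1 ∈ U := mem_of_cdPt X (j + 1) x U hU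
  obtain ⟨Yo, hUYo, hxYo, hYoT⟩ := exists_open_isolating X U' x.1
    (fun c hc hcx => isMaximal_of_not_mem X j x (fjMk X j U' hU') c hc hcx)
  have hU'Y : U' ≤ Yo ⊓ U := le_inf hUYo hle
  have hxY : x.1 ∈ Yo ⊓ U := ⟨hxYo, hxU⟩
  have hYT : ∀ y ∈ Yo ⊓ U, y ∉ U' → y ∈ closure ({x.1} : Set X.scheme) :=
    fun y hy hyU => hYoT y hy.1 hyU
  have hY : ContainsFj X j (Yo ⊓ U) := containsFj_of_le X j U' _ hU'Y hU'
  have hdimU' := dim_of_containsFj X j U' hU'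
  have hdimY := dim_of_containsFj X j _ hY
  have hdimU := dim_of_containsFj X (j + 1) U hU
  have hdY : WeilCoh.dim (U' : Scheme.{u}) =
      WeilCoh.dim ((Yo ⊓ U : X.scheme.Opens) : Scheme.{u}) := hdimU'.trans hdimY.symm
  have hdYU : WeilCoh.dim ((Yo ⊓ U : X.scheme.Opens) : Scheme.{u}) =
      WeilCoh.dim (U : Scheme.{u}) := hdimY.trans hdimU.symm
  have hrcY := relCodim_eq X (j + 1) x (ptPre X x.1 (Yo ⊓ U) hxY) (Yo ⊓ U) hdimY
  have hiY : k + 1 = i₀ + 2 * relCodim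
      ((X.ptSub x.1).res ((X.ptSubι x.1) ⁻¹ᵁ (Yo ⊓ U))).scheme (X.res (Yo ⊓ U)).scheme := by
    rw [hrcY]
    exact hi
  have hnY : n = n₀ + relCodim
      ((X.ptSub x.1).res ((X.ptSubι x.1) ⁻¹ᵁ (Yo ⊓ U))).scheme (X.res (Yo ⊓ U)).scheme := by
    rw [hrcY]
    exact hn
  have hfacY : X.resLE hle hd = X.resLE hU'Y hdY ≫
      X.resLE (inf_le_right : Yo ⊓ U ≤ U) hdYU :=
    Hom.ext (Scheme.homOfLE_homOfLE X.scheme hU'Y inf_le_right).symm
  have haY : (T.pull (X.resLE hU'Y hdY) M (k + 1) n).hom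
      ((T.pull (X.resLE (inf_le_right : Yo ⊓ U ≤ U) hdYU) M (k + 1) n).hom a) = 0 := by
    rw [← pull_comp_apply, ← hfacY]
    exact ha
  obtain ⟨b, hb⟩ := ((T.exact_push_pull (cDecomp X U' (Yo ⊓ U) hU'Y hdY x.1 hxU' hYT)
    M k n i₀ n₀ hiY hnY) _).mp haY
  -- the class `b` dies on a smaller trace
  have hsub := ModuleCat.subsingleton_of_isZero h0
  obtain ⟨W', hleW, hW'⟩ := rep_eq_zero T (X.ptSub x.1)
    (fun U => (U : Set (X.ptSub x.1).scheme).Nonempty) i₀ n₀ M (ptPre X x.1 (Yo ⊓ U) hxY) b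
    (Subsingleton.elim _ _)
  obtain ⟨hUY', hxY', hYT', hpre⟩ := shrink_facts x.1 U' (Yo ⊓ U) hU'Y hxU' hxY hYT W'
  have hY' : ContainsFj X j ((Yo ⊓ U) ⊓ complOpen X x.1 W'.1) :=
    containsFj_of_le X j U' _ hUY' hU'
  have hdimY' := dim_of_containsFj X j _ hY'
  have hY'Y : (Yo ⊓ U) ⊓ complOpen X x.1 W'.1 ≤ Yo ⊓ U := inf_le_left
  have hdY'Y : WeilCoh.dim (((Yo ⊓ U) ⊓ complOpen X x.1 W'.1 : X.scheme.Opens) : Scheme.{u}) =
      WeilCoh.dim ((Yo ⊓ U : X.scheme.Opens) : Scheme.{u}) := hdimY'.trans hdimY.symm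
  have hY'U : (Yo ⊓ U) ⊓ complOpen X x.1 W'.1 ≤ U := hY'Y.trans inf_le_right
  have hdY'U : WeilCoh.dim (((Yo ⊓ U) ⊓ complOpen X x.1 W'.1 : X.scheme.Opens) : Scheme.{u}) =
      WeilCoh.dim (U : Scheme.{u}) := hdimY'.trans hdimU.symm
  have hpreLE : (X.ptSubι x.1) ⁻¹ᵁ ((Yo ⊓ U) ⊓ complOpen X x.1 W'.1) ≤
      (X.ptSubι x.1) ⁻¹ᵁ (Yo ⊓ U) := fun z hz => hz.1
  have hrcY' := relCodim_eq X (j + 1) x (ptPre X x.1 _ hxY') _ hdimY'
  have hiY' : k + 1 = i₀ + 2 * relCodim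
      ((X.ptSub x.1).res ((X.ptSubι x.1) ⁻¹ᵁ ((Yo ⊓ U) ⊓ complOpen X x.1 W'.1))).scheme
      (X.res ((Yo ⊓ U) ⊓ complOpen X x.1 W'.1)).scheme := by
    rw [hrcY']
    exact hi
  have hnY' : n = n₀ + relCodim
      ((X.ptSub x.1).res ((X.ptSubι x.1) ⁻¹ᵁ ((Yo ⊓ U) ⊓ complOpen X x.1 W'.1))).scheme
      (X.res ((Yo ⊓ U) ⊓ complOpen X x.1 W'.1)).scheme := by
    rw [hrcY']
    exact hn
  have hpp := T.push_pull (X := (X.ptSub x.1).res ((X.ptSubι x.1) ⁻¹ᵁ (Yo ⊓ U)))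
    (Y := X.res (Yo ⊓ U))
    (X' := (X.ptSub x.1).res ((X.ptSubι x.1) ⁻¹ᵁ ((Yo ⊓ U) ⊓ complOpen X x.1 W'.1)))
    (Y' := X.res ((Yo ⊓ U) ⊓ complOpen X x.1 W'.1))
    (X.ptSubι x.1 ∣_ (Yo ⊓ U)) (X.ptSubι x.1 ∣_ ((Yo ⊓ U) ⊓ complOpen X x.1 W'.1))
    (X.resLE hY'Y hdY'Y)
    ((X.ptSub x.1).resLE hpreLE
      ((ptPre X x.1 _ hxY').2.2.trans (ptPre X x.1 (Yo ⊓ U) hxY).2.2.symm))
    (isPullback_restrict_le (X.ptSubι x.1) hY'Y hpreLE) M i₀ n₀ (k + 1) n hiY hnY hiY' hnY'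
  have hpp2 := congrArg (fun φ => φ.hom b) hpp
  have hfac : (X.ptSub x.1).resLE hpreLE
        ((ptPre X x.1 _ hxY').2.2.trans (ptPre X x.1 (Yo ⊓ U) hxY).2.2.symm) =
      (X.ptSub x.1).resLE hpre ((ptPre X x.1 _ hxY').2.2.trans W'.2.2.symm) ≫
        (idxDiag (X.ptSub x.1) (fun U => (U : Set (X.ptSub x.1).scheme).Nonempty)).map
          (homOfLE hleW) :=
    Hom.ext (Scheme.homOfLE_homOfLE (X.ptSub x.1).scheme hpre hleW).symm
  have hb0 : (T.pull ((X.ptSub x.1).resLE hpreLE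
        ((ptPre X x.1 _ hxY').2.2.trans (ptPre X x.1 (Yo ⊓ U) hxY).2.2.symm)) M i₀ n₀).hom b =
      0 := by
    rw [hfac]
    exact (pull_comp_apply T _ _ M i₀ n₀ _).trans ((congrArg _ hW').trans (map_zero _))
  have hfacU : X.resLE hY'U hdY'U = X.resLE hY'Y hdY'Y ≫
      X.resLE (inf_le_right : Yo ⊓ U ≤ U) hdYU :=
    Hom.ext (Scheme.homOfLE_homOfLE X.scheme hY'Y inf_le_right).symm
  refine ⟨_, hY'U, hdY'U, hUY', hxY', hY', ?_⟩
  rw [hfacU, pull_comp_apply, ← hb]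
  refine hpp2.trans ?_
  change (T.push
    (X := (X.ptSub x.1).res ((X.ptSubι x.1) ⁻¹ᵁ ((Yo ⊓ U) ⊓ complOpen X x.1 W'.1)))
    (Y := X.res ((Yo ⊓ U) ⊓ complOpen X x.1 W'.1))
    (X.ptSubι x.1 ∣_ ((Yo ⊓ U) ⊓ complOpen X x.1 W'.1)) M i₀ n₀ (k + 1) n hiY' hnY').hom
    ((T.pull ((X.ptSub x.1).resLE hpreLE
        ((ptPre X x.1 _ hxY').2.2.trans (ptPre X x.1 (Yo ⊓ U) hxY).2.2.symm)) M i₀ n₀).hom b) = 0
  rw [hb0, map_zero]

/-- a class of `F_{j+1}` dying on an open containing `F_j` is zero, when the groups of the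
points of codimension `j + 1` vanish in the bidegree of the push-forwards -/
theorem fjι_eq_zero_of_pull_eq_zero {j : ℕ} (M : A.Cat) (k n i₀ n₀ : ℤ)
    (hi : k + 1 = i₀ + 2 * ((j + 1 : ℕ) : ℤ)) (hn : n = n₀ + ((j + 1 : ℕ) : ℤ))
    (h0 : ∀ x : X.cdPt (j + 1), IsZero (T.ptGp X x.1 M i₀ n₀)) :
    ∀ (U' : X.scheme.Opens) (hU' : ContainsFj X j U') (U : X.scheme.Opens)
      (hU : ContainsFj X (j + 1) U) (hle : U' ≤ U)
      (hd : WeilCoh.dim (U' : Scheme.{u}) = WeilCoh.dim (U : Scheme.{u}))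
      (a : T.gp (X.res U) M (k + 1) n), (T.pull (X.resLE hle hd) M (k + 1) n).hom a = 0 →
      ((T.fjι X (j + 1) (k + 1) n (fjMk X (j + 1) U hU)).app M).hom a = 0 := by
  have hN : IsNoetherian X.scheme := IsConstructible.isNoetherian X.mem
  intro U'
  refine IsWellFounded.induction (· > ·) (motive := fun U' : X.scheme.Opens =>
    ∀ (hU' : ContainsFj X j U') (U : X.scheme.Opens)
      (hU : ContainsFj X (j + 1) U) (hle : U' ≤ U)
      (hd : WeilCoh.dim (U' : Scheme.{u}) = WeilCoh.dim (U : Scheme.{u}))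
      (a : T.gp (X.res U) M (k + 1) n), (T.pull (X.resLE hle hd) M (k + 1) n).hom a = 0 →
      ((T.fjι X (j + 1) (k + 1) n (fjMk X (j + 1) U hU)).app M).hom a = 0) U' ?_
  intro U' IH hU' U hU hle hd a ha
  by_cases hU1 : ContainsFj X (j + 1) U'
  · rw [ocolimι_le_apply T X (ContainsFj X (j + 1)) (k + 1) n M
      (fjMk X (j + 1) U' hU1) (fjMk X (j + 1) U hU) hle hd a, ha, map_zero]
  · have hex : ∃ y : X.scheme, WeilCoh.codim X.scheme y ≤ j + 1 ∧ y ∉ U' := by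
      by_contra hcon
      apply hU1
      intro y hy
      by_contra hyU
      exact hcon ⟨y, hy, hyU⟩
    obtain ⟨y, hy1, hyU⟩ := hex
    have hy2 : WeilCoh.codim X.scheme y = j + 1 := by
      by_contra hne
      exact hyU (hU' y (by omega))
    let x : X.cdPt (j + 1) := ⟨y, hy2⟩
    have hxU' : x.1 ∉ U' := hyU
    obtain ⟨Y', hY'U, hdY', hU'Y', hxY', hY', haY'⟩ := exists_larger_vanishing T x M k n i₀ n₀
      hi hn (h0 x) U' U hU' hU hle hd hxU' a ha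
    have hlt : Y' > U' := lt_of_le_of_ne hU'Y' (fun heq => hxU' (heq ▸ hxY'))
    exact IH Y' hlt hY' U hU hY'U hdY' a haY'

/-- the restriction from `F_{j+1}` to `F_j` is injective when the groups of the points of
codimension `j + 1` vanish in the bidegree of the push-forwards -/
theorem fjRes_injective_of_isZero {j : ℕ} (M : A.Cat) (k n i₀ n₀ : ℤ)
    (hi : k + 1 = i₀ + 2 * ((j + 1 : ℕ) : ℤ)) (hn : n = n₀ + ((j + 1 : ℕ) : ℤ))
    (h0 : ∀ x : X.cdPt (j + 1), IsZero (T.ptGp X x.1 M i₀ n₀)) :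
    Function.Injective ((T.fjRes X (Nat.le_succ j) (k + 1) n).app M).hom := by
  rw [injective_iff_map_eq_zero]
  intro γ hγ
  obtain ⟨U, a, rfl⟩ := exists_rep T X (ContainsFj X (j + 1)) (k + 1) n M γ
  rw [fjRes_fjι_apply] at hγ
  obtain ⟨U', hle, hU'⟩ := rep_eq_zero T X (ContainsFj X j) (k + 1) n M
    ⟨U.1, containsFj_mono X (Nat.le_succ j) U.1 U.2.1, U.2.2⟩ a hγ
  exact fjι_eq_zero_of_pull_eq_zero T M k n i₀ n₀ hi hn h0 U'.1 U'.2.1 U.1 U.2.1 hle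
    (U'.2.2.trans U.2.2.symm) a hU'

/-- the restriction from `F_{j+1}` to `F_j` is surjective when the groups of the points of
codimension `j + 1` vanish in the bidegree of the residues -/
theorem fjRes_surjective_of_isZero' {j : ℕ} (M : A.Cat) (i n i' n' : ℤ)
    (hi : i' = i + 1 - 2 * ((j : ℤ) + 1)) (hn : n' = n - ((j : ℤ) + 1))
    (h1 : ∀ x : X.cdPt (j + 1), IsZero (T.ptGp X x.1 M i' n')) :
    Function.Surjective ((T.fjRes X (Nat.le_succ j) i n).app M).hom := by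
  intro β
  obtain ⟨U, a, rfl⟩ := exists_rep T X (ContainsFj X j) i n M β
  exact fjRes_surjective_of_isZero T M i n i' n' hi hn h1 U.1 U.2.1 a

end Groth.Agent.H79.BMCohBij
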