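import Groth.Agent.H79.BMCohZero

set_option autoImplicit false
universe u
open CategoryTheory AlgebraicGeometry Opposite CategoryTheory.Limits TopologicalSpace

namespace Groth.Agent.H79.BMCohClosed

open BMCoh Groth.Agent.H79.BMCohDim Groth.Agent.H79.BMCohRes Groth.Agent.H79.BMCohFilt
  Groth.Agent.H79.BMCohDecomp Groth.Agent.H79.BMCohGeo Groth.Agent.H79.BMCohPieces
  Groth.Agent.H79.BMCohGood Groth.Agent.H79.BMCohSeqRes Groth.Agent.H79.BMCohSeqPush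
  Groth.Agent.H79.BMCohBij Groth.Agent.H79.BMCohToFj

section pdim

/-- a closed immersion preserves the dimension of the closure of a point -/
theorem pdim_closedImmersion {Z X : Scheme.{u}} (ι : Z ⟶ X) [IsClosedImmersion ι] (z : Z) :
    WeilCoh.pdim X (ι z) = WeilCoh.pdim Z z := by
  rw [height_eq_pdim, height_eq_pdim]
  congr 1
  have hle : ∀ a b : Z, ι a ≤ ι b ↔ a ≤ b := by
    intro a b
    rw [Scheme.le_iff_specializes, Scheme.le_iff_specializes]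
    exact ι.isClosedEmbedding.isEmbedding.isInducing.specializes_iff
  have hsm : StrictMono (fun w : Z => ι w) := strictMono_of_le_iff_le (fun a b => (hle a b).symm)
  symm
  refine Order.height_eq_of_strictMono (fun w : Z => ι w) hsm ?_ z
  intro a b hb
  have hsp : ι a ⤳ b := (Scheme.le_iff_specializes).mp hb.le
  have hmem : b ∈ Set.range ι := by
    have h1 : b ∈ closure ({ι a} : Set X) := specializes_iff_mem_closure.mp hsp
    have h2 : ({ι a} : Set X) ⊆ Set.range ι := by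
      rintro _ rfl
      exact ⟨a, rfl⟩
    exact closure_minimal h2 ι.isClosedEmbedding.isClosed_range h1
  obtain ⟨a', rfl⟩ := hmem
  refine ⟨a', ?_, rfl⟩
  rw [lt_iff_le_not_ge] at hb ⊢
  exact ⟨(hle a' a).mp hb.1, fun h => hb.2 ((hle a a').mpr h)⟩

end pdim

variable {V : ObjectProperty Scheme.{u}} [IsConstructible V] {X : Obj V}

section points

/-- an object of dimension at least `c` has a point of codimension `c` -/
theorem exists_cdPt (c : ℕ) (hc : c ≤ WeilCoh.dim X.scheme) (hne : Nonempty X.scheme) :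
    Nonempty (X.cdPt c) := by
  have hk := krullDim_eq_cast X.scheme (finDim X)
  obtain ⟨l, hl⟩ := (Order.le_krullDim_iff (α := X.scheme) (n := WeilCoh.dim X.scheme)).mp
    (le_of_eq hk.symm)
  have h1 : (l.length : ℕ∞) ≤ Order.height l.last := Order.length_le_height_last
  have h2 : Order.height l.last ≤ (WeilCoh.dim X.scheme : ℕ∞) := by
    rw [height_eq_cast X.scheme (finDim X)]
    exact_mod_cast pdim_le_dim X.scheme (finDim X) l.last
  have h3 : (l.length : ℕ∞) = Order.height l.last := by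
    apply le_antisymm h1
    rw [hl]
    exact h2
  have hidx : WeilCoh.dim X.scheme - c < l.length + 1 := by omega
  have h4 := Order.height_eq_index_of_length_eq_height_last h3 ⟨WeilCoh.dim X.scheme - c, hidx⟩
  rw [height_eq_cast X.scheme (finDim X)] at h4
  have h5 : WeilCoh.pdim X.scheme (l ⟨WeilCoh.dim X.scheme - c, hidx⟩) =
      WeilCoh.dim X.scheme - c := by exact_mod_cast h4
  refine ⟨⟨l ⟨WeilCoh.dim X.scheme - c, hidx⟩, ?_⟩⟩
  unfold WeilCoh.codim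
  rw [h5]
  omega

end points

section cZ

/-- the complement of an open, as a closed subset -/
def cC (U : X.scheme.Opens) : Closeds X.scheme := ⟨(U : Set X.scheme)ᶜ, U.isOpen.isClosed_compl⟩

/-- the reduced structure on the complement of an open, as an object -/
noncomputable abbrev cZ (U : X.scheme.Opens) : Obj V :=
  ⟨(Scheme.IdealSheafData.vanishingIdeal (cC U)).subscheme,
    IsConstructible.of_isClosedImmersion
      (Scheme.IdealSheafData.vanishingIdeal (cC U)).subschemeι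
      (h := (inferInstance : IsClosedImmersion
        (Scheme.IdealSheafData.vanishingIdeal (cC U)).subschemeι)) X.mem⟩

/-- the closed immersion of the reduced complement -/
noncomputable abbrev cZι (U : X.scheme.Opens) : (cZ U).scheme ⟶ X.scheme :=
  (Scheme.IdealSheafData.vanishingIdeal (cC U)).subschemeι

theorem range_cZι (U : X.scheme.Opens) : Set.range (cZι U) = (U : Set X.scheme)ᶜ := by
  rw [Scheme.IdealSheafData.range_subschemeι, Scheme.IdealSheafData.coe_support_vanishingIdeal]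
  rfl

instance isReduced_cZ (U : X.scheme.Opens) : IsReduced (cZ U).scheme :=
  Groth.Agent.H22.isReduced_subscheme_vanishingIdeal _

/-- the reduced complement of an open containing `F_j` and missing a point of codimension
`j + 1` has codimension `j + 1` -/
theorem dim_cZ (j : ℕ) (U : X.scheme.Opens) (hU : ContainsFj X j U) (x₀ : X.cdPt (j + 1))
    (hx₀ : x₀.1 ∉ U) : WeilCoh.dim (cZ U).scheme + (j + 1) = WeilCoh.dim X.scheme := by
  have h3 := pdim_le_dim X.scheme (finDim X) x₀.1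
  have h4 : WeilCoh.dim X.scheme - WeilCoh.pdim X.scheme x₀.1 = j + 1 := x₀.2
  have hle : WeilCoh.dim (cZ U).scheme ≤ WeilCoh.dim X.scheme - (j + 1) := by
    refine dim_le_of_forall_pdim_le (X := X) (cZι U) (cZι U).isClosedEmbedding.isEmbedding _ ?_
    intro z
    have hz : cZι U z ∉ U := by
      have : cZι U z ∈ Set.range (cZι U) := ⟨z, rfl⟩
      rw [range_cZι] at this
      exact this
    have hcod : ¬ WeilCoh.codim X.scheme (cZι U z) ≤ j := fun h => hz (hU _ h)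
    unfold WeilCoh.codim at hcod
    omega
  have hge : WeilCoh.dim X.scheme - (j + 1) ≤ WeilCoh.dim (cZ U).scheme := by
    have hmem : x₀.1 ∈ Set.range (cZι U) := by
      rw [range_cZι]
      exact hx₀
    obtain ⟨z₀, hz₀⟩ := hmem
    have h5 := pdim_le_dim (cZ U).scheme (finDim (cZ U)) z₀
    rw [← pdim_closedImmersion (cZι U) z₀, hz₀] at h5
    omega
  omega

end cZ

section ci

variable {Z : Obj V} (ι : Z.scheme ⟶ X.scheme) [IsClosedImmersion ι]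

/-- the open complement of the image of the complement of an open of a closed subobject -/
def ciOpen (W : Z.scheme.Opens) : X.scheme.Opens :=
  ⟨(ι '' ((W : Set Z.scheme)ᶜ))ᶜ,
    (ι.isClosedEmbedding.isClosedMap _ W.isOpen.isClosed_compl).isOpen_compl⟩

omit [IsConstructible V] in
theorem mem_ciOpen_iff (W : Z.scheme.Opens) (y : X.scheme) :
    y ∈ ciOpen ι W ↔ ∀ z : Z.scheme, ι z = y → z ∈ W := by
  change y ∈ (ι '' ((W : Set Z.scheme)ᶜ))ᶜ ↔ _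
  rw [Set.mem_compl_iff, Set.mem_image]
  constructor
  · intro h z hz
    by_contra hzW
    exact h ⟨z, hzW, hz⟩
  · rintro h ⟨z, hzW, hz⟩
    exact hzW (h z hz)

omit [IsConstructible V] in
theorem preimage_ciOpen_le (W : Z.scheme.Opens) (Y : X.scheme.Opens) (hY : Y ≤ ciOpen ι W) :
    ι ⁻¹ᵁ Y ≤ W := by
  intro z hz
  have h1 : ι z ∈ ciOpen ι W := hY hz
  rw [mem_ciOpen_iff] at h1
  exact h1 z rfl

omit [IsConstructible V] in
theorem le_ciOpen (W : Z.scheme.Opens) (U : X.scheme.Opens)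
    (hU : ∀ y ∈ U, y ∉ Set.range ι) : U ≤ ciOpen ι W := by
  intro y hy
  rw [mem_ciOpen_iff]
  intro z hz
  exact absurd ⟨z, hz⟩ (hU y hy)

theorem codim_ci (c : ℕ) (hdim : WeilCoh.dim Z.scheme + c = WeilCoh.dim X.scheme)
    (z : Z.scheme) : WeilCoh.codim X.scheme (ι z) = WeilCoh.codim Z.scheme z + c := by
  unfold WeilCoh.codim
  rw [pdim_closedImmersion ι z]
  have := pdim_le_dim Z.scheme (finDim Z) z
  omega

theorem containsFj_ciOpen (c m : ℕ) (hdim : WeilCoh.dim Z.scheme + c = WeilCoh.dim X.scheme)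
    (W : Z.scheme.Opens) (hW : ContainsFj Z m W) : ContainsFj X (c + m) (ciOpen ι W) := by
  intro y hy
  rw [mem_ciOpen_iff]
  rintro z rfl
  apply hW z
  rw [codim_ci ι c hdim z] at hy
  omega

theorem containsFj_preimage (c m : ℕ) (hdim : WeilCoh.dim Z.scheme + c = WeilCoh.dim X.scheme)
    (X₁ : X.scheme.Opens) (hX₁ : ContainsFj X (c + m) X₁) : ContainsFj Z m (ι ⁻¹ᵁ X₁) := by
  intro z hz
  change ι z ∈ X₁
  apply hX₁
  rw [codim_ci ι c hdim z]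
  omega

/-- the decomposition of an open `X₁` into the trace of a closed subobject and an open `U`
that is the complement of that subobject in `X₁` -/
noncomputable def ciDecomp (U X₁ : X.scheme.Opens) (hle : U ≤ X₁)
    (hd : WeilCoh.dim (U : Scheme.{u}) = WeilCoh.dim (X₁ : Scheme.{u}))
    (hr : ∀ y : X.scheme, y ∈ U ↔ y ∉ Set.range ι) : Decomp (X.res X₁) where
  Z := Z.res (ι ⁻¹ᵁ X₁)
  U := X.res U
  i := ι ∣_ X₁
  closedImm := inferInstance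
  j := X.resLE hle hd
  range_eq := by
    change Set.range (X.scheme.homOfLE hle) = (Set.range (ι ∣_ X₁))ᶜ
    ext y
    rw [Set.mem_compl_iff]
    constructor
    · rintro ⟨w, rfl⟩ ⟨z, hz⟩
      have h1 : (X.scheme.homOfLE hle w).1 = w.1 := Scheme.homOfLE_apply hle w
      have h2 : ((ι ∣_ X₁) z).1 = ι z.1 := morphismRestrict_base_coe _ _ z
      rw [hz, h1] at h2
      exact (hr w.1).mp w.2 ⟨z.1, h2.symm⟩
    · intro hy
      have hyU : y.1 ∈ U := by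
        rw [hr]
        rintro ⟨z, hz⟩
        have hzW : z ∈ ι ⁻¹ᵁ X₁ := by
          change ι z ∈ X₁
          rw [hz]
          exact y.2
        apply hy
        refine ⟨⟨z, hzW⟩, ?_⟩
        apply Subtype.ext
        exact (morphismRestrict_base_coe ι X₁ ⟨z, hzW⟩).trans hz
      refine ⟨⟨y.1, hyU⟩, ?_⟩
      apply Subtype.ext
      exact Scheme.homOfLE_apply hle ⟨y.1, hyU⟩

theorem ciDecomp_codim (c : ℕ) (hdim : WeilCoh.dim Z.scheme + c = WeilCoh.dim X.scheme)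
    (U X₁ : X.scheme.Opens) (hle : U ≤ X₁)
    (hd : WeilCoh.dim (U : Scheme.{u}) = WeilCoh.dim (X₁ : Scheme.{u}))
    (hr : ∀ y : X.scheme, y ∈ U ↔ y ∉ Set.range ι)
    (hdX₁ : WeilCoh.dim (X₁ : Scheme.{u}) = WeilCoh.dim X.scheme)
    (hdZ₁ : WeilCoh.dim ((ι ⁻¹ᵁ X₁ : Z.scheme.Opens) : Scheme.{u}) = WeilCoh.dim Z.scheme) :
    (ciDecomp ι U X₁ hle hd hr).codim = (c : ℤ) := by
  change relCodim ((ι ⁻¹ᵁ X₁ : Z.scheme.Opens) : Scheme.{u}) (X₁ : Scheme.{u}) = _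
  unfold relCodim
  rw [hdX₁, hdZ₁, ← hdim]
  push_cast
  ring

end ci

section coh

variable {R : Type u} [CommRing R] {A : Coefs R} (T : PreTheory V R A)
  {Z : Obj V} (ι : Z.scheme ⟶ X.scheme) [IsClosedImmersion ι]

omit [IsClosedImmersion ι] in
theorem relCodim_ci (c : ℕ) (hdim : WeilCoh.dim Z.scheme + c = WeilCoh.dim X.scheme)
    (X₁ : X.scheme.Opens) (hdX₁ : WeilCoh.dim (X₁ : Scheme.{u}) = WeilCoh.dim X.scheme)
    (hdZ₁ : WeilCoh.dim ((ι ⁻¹ᵁ X₁ : Z.scheme.Opens) : Scheme.{u}) = WeilCoh.dim Z.scheme) :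
    relCodim (Z.res (ι ⁻¹ᵁ X₁)).scheme (X.res X₁).scheme = (c : ℤ) := by
  change relCodim ((ι ⁻¹ᵁ X₁ : Z.scheme.Opens) : Scheme.{u}) (X₁ : Scheme.{u}) = _
  unfold relCodim
  rw [hdX₁, hdZ₁, ← hdim]
  push_cast
  ring

/-- a class on the open complement `U` of a closed subobject `Z` of codimension `c` extends
over an open containing `F_{c+m}X` when the group of `F_mZ` vanishes in the bidegree of the
residue -/
theorem exists_extension_ci (c m : ℕ)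
    (hdim : WeilCoh.dim Z.scheme + c = WeilCoh.dim X.scheme) (M : A.Cat) (i n i' n' : ℤ)
    (hi : i' = i + 1 - 2 * (c : ℤ)) (hn : n' = n - (c : ℤ))
    (h0 : IsZero (T.fjGp Z m M i' n'))
    (U : X.scheme.Opens) (hr : ∀ y : X.scheme, y ∈ U ↔ y ∉ Set.range ι)
    (hdU : WeilCoh.dim (U : Scheme.{u}) = WeilCoh.dim X.scheme)
    (X₁ : X.scheme.Opens) (hX₁ : ContainsFj X (c + m) X₁) (hle : U ≤ X₁)
    (a : T.gp (X.res U) M i n) :
    ∃ (X₂ : X.scheme.Opens) (hX₂ : ContainsFj X (c + m) X₂) (hle₂ : U ≤ X₂)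
      (a₂ : T.gp (X.res X₂) M i n),
      (T.pull (X.resLE hle₂ (hdU.trans (dim_of_containsFj X (c + m) X₂ hX₂).symm)) M i n).hom a₂
        = a := by
  have hdX₁ := dim_of_containsFj X (c + m) X₁ hX₁
  have hd₁ : WeilCoh.dim (U : Scheme.{u}) = WeilCoh.dim (X₁ : Scheme.{u}) := hdU.trans hdX₁.symm
  have hZ₁ : ContainsFj Z m (ι ⁻¹ᵁ X₁) := containsFj_preimage ι c m hdim X₁ hX₁
  have hdZ₁ := dim_of_containsFj Z m _ hZ₁
  have hcod₁ := ciDecomp_codim ι c hdim U X₁ hle hd₁ hr hdX₁ hdZ₁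
  have hiD₁ : i' = i + 1 - 2 * (ciDecomp ι U X₁ hle hd₁ hr).codim := by
    rw [hcod₁]
    exact hi
  have hnD₁ : n' = n - (ciDecomp ι U X₁ hle hd₁ hr).codim := by
    rw [hcod₁]
    exact hn
  have hsub := ModuleCat.subsingleton_of_isZero h0
  have hr0 : ((T.fjι Z m i' n' (fjMk Z m _ hZ₁)).app M).hom
      ((T.res (ciDecomp ι U X₁ hle hd₁ hr) M i n i' n' hiD₁ hnD₁).hom a) = 0 :=
    Subsingleton.elim _ _
  obtain ⟨Z₂i, hleZ, hZ₂⟩ := rep_eq_zero T Z (ContainsFj Z m) i' n' M (fjMk Z m _ hZ₁) _ hr0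
  obtain ⟨Z₂, hZ₂c, hdZ₂⟩ := Z₂i
  have hX₂ : ContainsFj X (c + m) (X₁ ⊓ ciOpen ι Z₂) :=
    containsFj_inf X (c + m) _ _ hX₁ (containsFj_ciOpen ι c m hdim Z₂ hZ₂c)
  have hle₂ : U ≤ X₁ ⊓ ciOpen ι Z₂ :=
    le_inf hle (le_ciOpen ι Z₂ U (fun y hy => (hr y).mp hy))
  have hdX₂ := dim_of_containsFj X (c + m) _ hX₂
  have hd₂ : WeilCoh.dim (U : Scheme.{u}) =
      WeilCoh.dim ((X₁ ⊓ ciOpen ι Z₂ : X.scheme.Opens) : Scheme.{u}) := hdU.trans hdX₂.symm
  have hZ₂' : ContainsFj Z m (ι ⁻¹ᵁ (X₁ ⊓ ciOpen ι Z₂)) :=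
    containsFj_preimage ι c m hdim _ hX₂
  have hdZ₂' := dim_of_containsFj Z m _ hZ₂'
  have hcod₂ := ciDecomp_codim ι c hdim U _ hle₂ hd₂ hr hdX₂ hdZ₂'
  have hiD₂ : i' = i + 1 - 2 * (ciDecomp ι U _ hle₂ hd₂ hr).codim := by
    rw [hcod₂]
    exact hi
  have hnD₂ : n' = n - (ciDecomp ι U _ hle₂ hd₂ hr).codim := by
    rw [hcod₂]
    exact hn
  have hpreLE : ι ⁻¹ᵁ (X₁ ⊓ ciOpen ι Z₂) ≤ ι ⁻¹ᵁ X₁ := fun z hz => hz.1
  have hpre : ι ⁻¹ᵁ (X₁ ⊓ ciOpen ι Z₂) ≤ Z₂ := preimage_ciOpen_le ι Z₂ _ inf_le_right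
  have hdXX : WeilCoh.dim ((X₁ ⊓ ciOpen ι Z₂ : X.scheme.Opens) : Scheme.{u}) =
      WeilCoh.dim (X₁ : Scheme.{u}) := hdX₂.trans hdX₁.symm
  have hsq1 : (Z.resLE hpreLE (hdZ₂'.trans hdZ₁.symm)).hom ≫ (ciDecomp ι U X₁ hle hd₁ hr).i =
      (ciDecomp ι U _ hle₂ hd₂ hr).i ≫
        (X.resLE (inf_le_left : X₁ ⊓ ciOpen ι Z₂ ≤ X₁) hdXX).hom :=
    (isPullback_restrict_le ι (inf_le_left : X₁ ⊓ ciOpen ι Z₂ ≤ X₁) hpreLE).w
  have hsq2 : 𝟙 (X.res U) ≫ (ciDecomp ι U X₁ hle hd₁ hr).j =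
      (ciDecomp ι U _ hle₂ hd₂ hr).j ≫
        X.resLE (inf_le_left : X₁ ⊓ ciOpen ι Z₂ ≤ X₁) hdXX := by
    refine Hom.ext ?_
    change 𝟙 _ ≫ X.scheme.homOfLE hle = X.scheme.homOfLE hle₂ ≫ X.scheme.homOfLE inf_le_left
    rw [Category.id_comp, Scheme.homOfLE_homOfLE]
  have hrp := T.res_pull (ciDecomp ι U X₁ hle hd₁ hr) (ciDecomp ι U _ hle₂ hd₂ hr)
    (X.resLE (inf_le_left : X₁ ⊓ ciOpen ι Z₂ ≤ X₁) hdXX)
    (Z.resLE hpreLE (hdZ₂'.trans hdZ₁.symm)) (𝟙 (X.res U)) hsq1 hsq2 M i n i' n'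
    hiD₁ hnD₁ hiD₂ hnD₂
  have hrp2 := congrArg (fun φ => φ.hom a) hrp
  have h2 : (T.res (ciDecomp ι U _ hle₂ hd₂ hr) M i n i' n' hiD₂ hnD₂).hom a =
      (T.pull (Z.resLE hpreLE (hdZ₂'.trans hdZ₁.symm)) M i' n').hom
        ((T.res (ciDecomp ι U X₁ hle hd₁ hr) M i n i' n' hiD₁ hnD₁).hom a) := by
    refine Eq.trans ?_ hrp2.symm
    exact congrArg (fun c => (T.res (ciDecomp ι U _ hle₂ hd₂ hr) M i n i' n'
      hiD₂ hnD₂).hom c) (pull_id_apply T _ M i n a).symm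
  have hfac : Z.resLE hpreLE (hdZ₂'.trans hdZ₁.symm) =
      Z.resLE hpre (hdZ₂'.trans hdZ₂.symm) ≫
        (idxDiag Z (ContainsFj Z m)).map (homOfLE hleZ) :=
    Hom.ext (Scheme.homOfLE_homOfLE Z.scheme hpre hleZ).symm
  have h3 : (T.res (ciDecomp ι U _ hle₂ hd₂ hr) M i n i' n' hiD₂ hnD₂).hom a = 0 := by
    rw [h2, hfac]
    exact (pull_comp_apply T _ _ M i' n' _).trans ((congrArg _ hZ₂).trans (map_zero _))
  obtain ⟨ã, hã⟩ := ((T.exact_pull_res (ciDecomp ι U _ hle₂ hd₂ hr) M i n i' n'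
    hiD₂ hnD₂) a).mp h3
  exact ⟨_, hX₂, hle₂, ã, hã⟩

/-- a class on an open `X₁` containing `F_{c+m}X` that dies on the open complement `U` of a
closed subobject `Z` of codimension `c` dies on a smaller open containing `F_{c+m}X` when the
group of `F_mZ` vanishes in the bidegree of the push-forward -/
theorem exists_vanishing_ci (c m : ℕ)
    (hdim : WeilCoh.dim Z.scheme + c = WeilCoh.dim X.scheme) (M : A.Cat) (k n i₀ n₀ : ℤ)
    (hi : k + 1 = i₀ + 2 * (c : ℤ)) (hn : n = n₀ + (c : ℤ))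
    (h0 : IsZero (T.fjGp Z m M i₀ n₀))
    (U : X.scheme.Opens) (hr : ∀ y : X.scheme, y ∈ U ↔ y ∉ Set.range ι)
    (hdU : WeilCoh.dim (U : Scheme.{u}) = WeilCoh.dim X.scheme)
    (X₁ : X.scheme.Opens) (hX₁ : ContainsFj X (c + m) X₁) (hle : U ≤ X₁)
    (a₁ : T.gp (X.res X₁) M (k + 1) n)
    (ha : (T.pull (X.resLE hle (hdU.trans (dim_of_containsFj X (c + m) X₁ hX₁).symm)) M
      (k + 1) n).hom a₁ = 0) :
    ∃ (X₂ : X.scheme.Opens) (hX₂ : ContainsFj X (c + m) X₂) (hle₂ : X₂ ≤ X₁),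
      (T.pull (X.resLE hle₂ ((dim_of_containsFj X (c + m) X₂ hX₂).trans
        (dim_of_containsFj X (c + m) X₁ hX₁).symm)) M (k + 1) n).hom a₁ = 0 := by
  have hdX₁ := dim_of_containsFj X (c + m) X₁ hX₁
  have hd₁ : WeilCoh.dim (U : Scheme.{u}) = WeilCoh.dim (X₁ : Scheme.{u}) := hdU.trans hdX₁.symm
  have hZ₁ : ContainsFj Z m (ι ⁻¹ᵁ X₁) := containsFj_preimage ι c m hdim X₁ hX₁
  have hdZ₁ := dim_of_containsFj Z m _ hZ₁
  have hrc₁ := relCodim_ci ι c hdim X₁ hdX₁ hdZ₁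
  have hi₁ : k + 1 = i₀ + 2 * relCodim (Z.res (ι ⁻¹ᵁ X₁)).scheme (X.res X₁).scheme := by
    rw [hrc₁]
    exact hi
  have hn₁ : n = n₀ + relCodim (Z.res (ι ⁻¹ᵁ X₁)).scheme (X.res X₁).scheme := by
    rw [hrc₁]
    exact hn
  obtain ⟨b, hb⟩ := ((T.exact_push_pull (ciDecomp ι U X₁ hle hd₁ hr) M k n i₀ n₀ hi₁ hn₁)
    a₁).mp ha
  have hb' : (T.push (X := Z.res (ι ⁻¹ᵁ X₁)) (Y := X.res X₁) (ι ∣_ X₁) M i₀ n₀ (k + 1) n
      hi₁ hn₁).hom b = a₁ := hb
  have hsub := ModuleCat.subsingleton_of_isZero h0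
  have hb0 : ((T.fjι Z m i₀ n₀ (fjMk Z m _ hZ₁)).app M).hom b = 0 := Subsingleton.elim _ _
  obtain ⟨Z₂i, hleZ, hZ₂⟩ := rep_eq_zero T Z (ContainsFj Z m) i₀ n₀ M (fjMk Z m _ hZ₁) _ hb0
  obtain ⟨Z₂, hZ₂c, hdZ₂⟩ := Z₂i
  have hX₂ : ContainsFj X (c + m) (X₁ ⊓ ciOpen ι Z₂) :=
    containsFj_inf X (c + m) _ _ hX₁ (containsFj_ciOpen ι c m hdim Z₂ hZ₂c)
  have hdX₂ := dim_of_containsFj X (c + m) _ hX₂
  have hZ₂' : ContainsFj Z m (ι ⁻¹ᵁ (X₁ ⊓ ciOpen ι Z₂)) :=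
    containsFj_preimage ι c m hdim _ hX₂
  have hdZ₂' := dim_of_containsFj Z m _ hZ₂'
  have hrc₂ := relCodim_ci ι c hdim _ hdX₂ hdZ₂'
  have hi₂ : k + 1 = i₀ + 2 * relCodim (Z.res (ι ⁻¹ᵁ (X₁ ⊓ ciOpen ι Z₂))).scheme
      (X.res (X₁ ⊓ ciOpen ι Z₂)).scheme := by
    rw [hrc₂]
    exact hi
  have hn₂ : n = n₀ + relCodim (Z.res (ι ⁻¹ᵁ (X₁ ⊓ ciOpen ι Z₂))).scheme
      (X.res (X₁ ⊓ ciOpen ι Z₂)).scheme := by
    rw [hrc₂]
    exact hn
  have hpreLE : ι ⁻¹ᵁ (X₁ ⊓ ciOpen ι Z₂) ≤ ι ⁻¹ᵁ X₁ := fun z hz => hz.1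
  have hpre : ι ⁻¹ᵁ (X₁ ⊓ ciOpen ι Z₂) ≤ Z₂ := preimage_ciOpen_le ι Z₂ _ inf_le_right
  refine ⟨X₁ ⊓ ciOpen ι Z₂, hX₂, inf_le_left, ?_⟩
  have hpp := T.push_pull (X := Z.res (ι ⁻¹ᵁ X₁)) (Y := X.res X₁)
    (X' := Z.res (ι ⁻¹ᵁ (X₁ ⊓ ciOpen ι Z₂))) (Y' := X.res (X₁ ⊓ ciOpen ι Z₂))
    (ι ∣_ X₁) (ι ∣_ (X₁ ⊓ ciOpen ι Z₂))
    (X.resLE (inf_le_left : X₁ ⊓ ciOpen ι Z₂ ≤ X₁) (hdX₂.trans hdX₁.symm))
    (Z.resLE hpreLE (hdZ₂'.trans hdZ₁.symm))
    (isPullback_restrict_le ι (inf_le_left : X₁ ⊓ ciOpen ι Z₂ ≤ X₁) hpreLE) M i₀ n₀ (k + 1) n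
    hi₁ hn₁ hi₂ hn₂
  have hpp2 := congrArg (fun φ => φ.hom b) hpp
  have hfac : Z.resLE hpreLE (hdZ₂'.trans hdZ₁.symm) =
      Z.resLE hpre (hdZ₂'.trans hdZ₂.symm) ≫
        (idxDiag Z (ContainsFj Z m)).map (homOfLE hleZ) :=
    Hom.ext (Scheme.homOfLE_homOfLE Z.scheme hpre hleZ).symm
  have h3 : (T.pull (Z.resLE hpreLE (hdZ₂'.trans hdZ₁.symm)) M i₀ n₀).hom b = 0 := by
    rw [hfac]
    exact (pull_comp_apply T _ _ M i₀ n₀ _).trans ((congrArg _ hZ₂).trans (map_zero _))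
  rw [← hb']
  have h4 : (T.push (X := Z.res (ι ⁻¹ᵁ (X₁ ⊓ ciOpen ι Z₂))) (Y := X.res (X₁ ⊓ ciOpen ι Z₂))
      (ι ∣_ (X₁ ⊓ ciOpen ι Z₂)) M i₀ n₀ (k + 1) n hi₂ hn₂).hom
      ((T.pull (Z.resLE hpreLE (hdZ₂'.trans hdZ₁.symm)) M i₀ n₀).hom b) = 0 := by
    rw [h3, map_zero]
  exact Eq.trans hpp2 h4

end coh

section main

variable {R : Type u} [CommRing R] {A : Coefs R} (T : PreTheory V R A)

theorem dim_eq_zero_of_isEmpty (S : Scheme.{u}) [IsEmpty S] : WeilCoh.dim S = 0 := by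
  unfold WeilCoh.dim WeilCoh.natDim
  have h : topologicalKrullDim S = ⊥ := by
    rw [tkd_eq]
    exact Order.krullDim_eq_bot
  rw [h]
  rfl

/-- bijectivity of the restriction from `F_{j+1+m}X` to `F_jX` when the groups of `F_mZ`
vanish, in the bidegrees of the push-forward and of the residue, for the reduced closed
subobjects `Z` of codimension `j + 1` -/
theorem fjRes_bijective_ci (X : Obj V) (M : A.Cat) (j m : ℕ) (i n : ℤ)
    (hZ : ∀ (Z : Obj V) (ι : Z.scheme ⟶ X.scheme) [IsClosedImmersion ι] [IsReduced Z.scheme],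
      WeilCoh.dim Z.scheme + (j + 1) = WeilCoh.dim X.scheme →
      IsZero (T.fjGp Z m M (i - 2 * ((j : ℤ) + 1)) (n - ((j : ℤ) + 1))) ∧
      IsZero (T.fjGp Z m M (i + 1 - 2 * ((j : ℤ) + 1)) (n - ((j : ℤ) + 1)))) :
    Function.Bijective
      ((T.fjRes X ((Nat.le_succ j).trans (Nat.le_add_right (j + 1) m)) i n).app M).hom := by
  by_cases hdim : WeilCoh.dim X.scheme ≤ j
  · have h1 := toFj_bijective_of_dim_le T X (j + 1 + m) (by omega) i n M
    have h2 := toFj_bijective_of_dim_le T X j hdim i n M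
    have h3 : (((T.toFj X j i n).app M).hom : T.gp X M i n → T.fjGp X j M i n) =
        ((T.fjRes X ((Nat.le_succ j).trans (Nat.le_add_right (j + 1) m)) i n).app M).hom ∘
          ((T.toFj X (j + 1 + m) i n).app M).hom :=
      funext (fun c => toFj_eq_fjRes_toFj T X _ i n M c)
    rw [h3] at h2
    exact (Function.Bijective.of_comp_iff _ h1).mp h2
  have hne : Nonempty X.scheme := by
    by_contra hcon
    rw [not_nonempty_iff] at hcon
    have := dim_eq_zero_of_isEmpty X.scheme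
    omega
  obtain ⟨x₀⟩ := exists_cdPt (X := X) (j + 1) (by omega) hne
  constructor
  · -- injectivity
    obtain ⟨k, rfl⟩ : ∃ k, i = k + 1 := ⟨i - 1, by ring⟩
    rw [injective_iff_map_eq_zero]
    intro γ hγ
    obtain ⟨X₁, a₁, rfl⟩ := exists_rep T X (ContainsFj X (j + 1 + m)) (k + 1) n M γ
    rw [fjRes_fjι_apply] at hγ
    obtain ⟨U, hleU, hU⟩ := rep_eq_zero T X (ContainsFj X j) (k + 1) n M
      ⟨X₁.1, containsFj_mono X ((Nat.le_succ j).trans (Nat.le_add_right (j + 1) m)) X₁.1 X₁.2.1,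
        X₁.2.2⟩ a₁ hγ
    have hleU' : U.1 ≤ X₁.1 := hleU
    have hU' : ContainsFj X j (U.1 ⊓ clCompl X x₀.1) := containsFj_inf_clCompl X j x₀ U.1 U.2.1
    have hx₀ : x₀.1 ∉ U.1 ⊓ clCompl X x₀.1 := fun h => not_mem_clCompl X x₀.1 h.2
    have hdZ := dim_cZ j _ hU' x₀ hx₀
    have hdU' := dim_of_containsFj X j _ hU'
    have hr : ∀ y : X.scheme, y ∈ U.1 ⊓ clCompl X x₀.1 ↔
        y ∉ Set.range (cZι (U.1 ⊓ clCompl X x₀.1)) := by
      intro y
      rw [range_cZι]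
      exact not_not.symm
    have hle' : U.1 ⊓ clCompl X x₀.1 ≤ X₁.1 := inf_le_left.trans hleU'
    have ha' : (T.pull (X.resLE hle' (hdU'.trans
        (dim_of_containsFj X (j + 1 + m) X₁.1 X₁.2.1).symm)) M (k + 1) n).hom a₁ = 0 := by
      have hfac : X.resLE hle' (hdU'.trans (dim_of_containsFj X (j + 1 + m) X₁.1 X₁.2.1).symm) =
          X.resLE (inf_le_left : U.1 ⊓ clCompl X x₀.1 ≤ U.1) (hdU'.trans U.2.2.symm) ≫
            (idxDiag X (ContainsFj X j)).map (homOfLE hleU) :=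
        Hom.ext (Scheme.homOfLE_homOfLE X.scheme inf_le_left hleU').symm
      rw [hfac]
      exact (pull_comp_apply T _ _ M (k + 1) n _).trans ((congrArg _ hU).trans (map_zero _))
    obtain ⟨X₂, hX₂, hle₂, h0⟩ := exists_vanishing_ci T (cZι (U.1 ⊓ clCompl X x₀.1)) (j + 1) m hdZ
      M k n (k + 1 - 2 * ((j : ℤ) + 1)) (n - ((j : ℤ) + 1)) (by push_cast; ring)
      (by push_cast; ring) (hZ _ (cZι (U.1 ⊓ clCompl X x₀.1)) hdZ).1 _ hr hdU' X₁.1 X₁.2.1 hle'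
      a₁ ha'
    rw [ocolimι_le_apply T X (ContainsFj X (j + 1 + m)) (k + 1) n M
      (fjMk X (j + 1 + m) X₂ hX₂) X₁ hle₂
      ((dim_of_containsFj X (j + 1 + m) X₂ hX₂).trans X₁.2.2.symm) a₁, h0, map_zero]
  · -- surjectivity
    intro β
    obtain ⟨U, a, rfl⟩ := exists_rep T X (ContainsFj X j) i n M β
    have hU' : ContainsFj X j (U.1 ⊓ clCompl X x₀.1) := containsFj_inf_clCompl X j x₀ U.1 U.2.1
    have hx₀ : x₀.1 ∉ U.1 ⊓ clCompl X x₀.1 := fun h => not_mem_clCompl X x₀.1 h.2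
    have hdZ := dim_cZ j _ hU' x₀ hx₀
    have hdU' := dim_of_containsFj X j _ hU'
    have hr : ∀ y : X.scheme, y ∈ U.1 ⊓ clCompl X x₀.1 ↔
        y ∉ Set.range (cZι (U.1 ⊓ clCompl X x₀.1)) := by
      intro y
      rw [range_cZι]
      exact not_not.symm
    obtain ⟨X₂, hX₂, hle₂, a₂, ha₂⟩ := exists_extension_ci T (cZι (U.1 ⊓ clCompl X x₀.1))
      (j + 1) m hdZ M i n (i + 1 - 2 * ((j : ℤ) + 1)) (n - ((j : ℤ) + 1)) (by push_cast; ring)
      (by push_cast; ring) (hZ _ (cZι (U.1 ⊓ clCompl X x₀.1)) hdZ).2 _ hr hdU' ⊤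
      (fun _ _ => trivial) le_top
      ((T.pull (X.resLE (inf_le_left : U.1 ⊓ clCompl X x₀.1 ≤ U.1) (hdU'.trans U.2.2.symm))
        M i n).hom a)
    refine ⟨((T.fjι X (j + 1 + m) i n (fjMk X (j + 1 + m) X₂ hX₂)).app M).hom a₂, ?_⟩
    rw [fjRes_fjι_apply]
    rw [ocolimι_le_apply T X (ContainsFj X j) i n M (fjMk X j _ hU') U inf_le_left
      (hdU'.trans U.2.2.symm) a, ← ha₂]
    exact ocolimι_le_apply T X (ContainsFj X j) i n M (fjMk X j _ hU')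
      ⟨X₂, containsFj_mono X ((Nat.le_succ j).trans (Nat.le_add_right (j + 1) m)) X₂ hX₂,
        dim_of_containsFj X (j + 1 + m) X₂ hX₂⟩ hle₂ _ a₂

end main

end Groth.Agent.H79.BMCohClosed
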