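import Groth.Agent.H79.BMCohFilt

set_option autoImplicit false
universe u
open CategoryTheory AlgebraicGeometry Opposite CategoryTheory.Limits

namespace Groth.Agent.H79.BMCohDecomp

open BMCoh Groth.Agent.H79.BMCohDim Groth.Agent.H79.BMCohRes Groth.Agent.H79.BMCohFilt

theorem isPullback_id_of_mono {C : Type*} [Category C] {W Y U : C} (g : W ⟶ Y) (m : Y ⟶ U)
    [Mono m] : IsPullback (𝟙 W) g (g ≫ m) m := by
  have h1 : IsPullback (𝟙 W) g g (𝟙 Y) := IsPullback.id_horiz g
  have h2 : IsPullback (𝟙 Y) (𝟙 Y) m m := IsKernelPair.id_of_mono m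
  have h3 := h1.paste_vert h2
  rwa [Category.comp_id] at h3

variable {V : ObjectProperty Scheme.{u}} [IsConstructible V]

/-- the open complement of the closure of a point -/
def clCompl (X : Obj V) (x : X.scheme) : X.scheme.Opens :=
  ⟨(closure ({x} : Set X.scheme))ᶜ, isClosed_closure.isOpen_compl⟩

omit [IsConstructible V] in
theorem mem_clCompl_iff (X : Obj V) (x y : X.scheme) :
    y ∈ clCompl X x ↔ y ∉ closure ({x} : Set X.scheme) := Iff.rfl

omit [IsConstructible V] in
theorem not_mem_clCompl (X : Obj V) (x : X.scheme) : x ∉ clCompl X x :=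
  fun h => h (subset_closure rfl)

theorem containsFj_inf_clCompl (X : Obj V) (j : ℕ) (x : X.cdPt (j + 1)) (U : X.scheme.Opens)
    (hU : ContainsFj X j U) : ContainsFj X j (U ⊓ clCompl X x.1) := by
  intro y hy
  refine ⟨hU y hy, ?_⟩
  change y ∉ closure ({x.1} : Set X.scheme)
  intro hycl
  have h3 : WeilCoh.codim X.scheme x.1 = j + 1 := x.2
  by_cases hyx : y = x.1
  · rw [hyx] at hy
    omega
  · have := codim_lt_of_mem_closure X x.1 y hycl hyx
    omega

omit [IsConstructible V] in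
/-- a point of codimension at most `m` lies in every open containing `F_m` -/
theorem mem_of_cdPt (X : Obj V) (m : ℕ) (x : X.cdPt m) (U : X.scheme.Opens)
    (hU : ContainsFj X m U) : x.1 ∈ U := hU x.1 (le_of_eq x.2)

theorem nonempty_preimage (X : Obj V) (x : X.scheme) (Y : X.scheme.Opens) (hx : x ∈ Y) :
    (((X.ptSubι x) ⁻¹ᵁ Y : (X.ptSub x).scheme.Opens) : Set (X.ptSub x).scheme).Nonempty := by
  obtain ⟨z₀, hz₀, -⟩ := exists_generic X x
  refine ⟨z₀, ?_⟩
  change X.ptSubι x z₀ ∈ Y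
  rw [hz₀]
  exact hx

/-- the trace on the closure of `x` of an open containing `x`, in the index family of `x` -/
noncomputable abbrev ptPre (X : Obj V) (x : X.scheme) (Y : X.scheme.Opens) (hx : x ∈ Y) : ptIdx X x :=
  ⟨(X.ptSubι x) ⁻¹ᵁ Y, nonempty_preimage X x Y hx,
    IsConstructible.dim_open (X.ptSub x).mem inferInstance _ (nonempty_preimage X x Y hx)⟩

theorem ptPre_val (X : Obj V) (x : X.scheme) (Y : X.scheme.Opens) (hx : x ∈ Y) :
    (ptPre X x Y hx).1 = (X.ptSubι x) ⁻¹ᵁ Y := rfl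

/-- the decomposition of an open `Yo` into its trace on the closure of `x` and a smaller open
`U` whose complement in `Yo` lies in that closure -/
noncomputable def cDecomp (X : Obj V) (U Yo : X.scheme.Opens) (hUY : U ≤ Yo)
    (hd : WeilCoh.dim (U : Scheme.{u}) = WeilCoh.dim (Yo : Scheme.{u})) (x : X.scheme)
    (hxU : x ∉ U) (hYT : ∀ y ∈ Yo, y ∉ U → y ∈ closure ({x} : Set X.scheme)) :
    Decomp (X.res Yo) where
  Z := (X.ptSub x).res ((X.ptSubι x) ⁻¹ᵁ Yo)
  U := X.res U
  i := X.ptSubι x ∣_ Yo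
  closedImm := inferInstance
  j := X.resLE hUY hd
  range_eq := range_eq_aux X U Yo hUY x hxU hYT

theorem cDecomp_codim (X : Obj V) (m : ℕ) (x : X.cdPt m) (U Yo : X.scheme.Opens) (hUY : U ≤ Yo)
    (hd : WeilCoh.dim (U : Scheme.{u}) = WeilCoh.dim (Yo : Scheme.{u}))
    (hxU : x.1 ∉ U) (hYT : ∀ y ∈ Yo, y ∉ U → y ∈ closure ({x.1} : Set X.scheme))
    (hxY : x.1 ∈ Yo) (hdY : WeilCoh.dim (Yo : Scheme.{u}) = WeilCoh.dim X.scheme) :
    (cDecomp X U Yo hUY hd x.1 hxU hYT).codim = (m : ℤ) :=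
  relCodim_eq X m x (ptPre X x.1 Yo hxY) Yo hdY

/-- the decomposition of an open `U` into its trace on the closure of `x` and the complement -/
noncomputable def cDecompCl (X : Obj V) (U : X.scheme.Opens) (x : X.scheme)
    (hd : WeilCoh.dim ((U ⊓ clCompl X x : X.scheme.Opens) : Scheme.{u}) =
      WeilCoh.dim (U : Scheme.{u})) : Decomp (X.res U) :=
  cDecomp X (U ⊓ clCompl X x) U inf_le_left hd x (fun h => not_mem_clCompl X x h.2)
    (fun y hyU hy => by
      by_contra hcl
      exact hy ⟨hyU, hcl⟩)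

/-- a morphism into an open `U₀` from the trace of `U₀` on the closure of `x`, over `X`, is a
closed immersion -/
theorem isClosedImmersion_of_fac (X : Obj V) (x : X.scheme) (U₀ : X.scheme.Opens)
    (W : (X.ptSub x).scheme.Opens) (hW : W = (X.ptSubι x) ⁻¹ᵁ U₀)
    (f : (W : Scheme.{u}) ⟶ (U₀ : Scheme.{u})) (hf : f ≫ U₀.ι = W.ι ≫ X.ptSubι x) :
    IsClosedImmersion f := by
  subst hW
  have h1 : f = X.ptSubι x ∣_ U₀ := by
    rw [← cancel_mono U₀.ι, hf, morphismRestrict_ι]
  rw [h1]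
  infer_instance

end Groth.Agent.H79.BMCohDecomp
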