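import Groth.Agent.H79.BMCohRes
import Mathlib.Algebra.Category.ModuleCat.FilteredColimits
import Mathlib.CategoryTheory.Limits.ConcreteCategory.Basic

set_option autoImplicit false
universe u
open CategoryTheory AlgebraicGeometry Opposite CategoryTheory.Limits

namespace Groth.Agent.H79.BMCohFilt

open BMCoh Groth.Agent.H79.BMCohDim

variable {V : ObjectProperty Scheme.{u}} [IsConstructible V]

omit [IsConstructible V] in
theorem containsFj_inf (X : Obj V) (j : ℕ) (U U' : X.scheme.Opens) (h : ContainsFj X j U)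
    (h' : ContainsFj X j U') : ContainsFj X j (U ⊓ U') := fun y hy => ⟨h y hy, h' y hy⟩

omit [IsConstructible V] in
theorem containsFj_of_le (X : Obj V) (j : ℕ) (U U' : X.scheme.Opens) (hle : U ≤ U')
    (h : ContainsFj X j U) : ContainsFj X j U' := fun y hy => hle (h y hy)

theorem dim_of_containsFj (X : Obj V) (j : ℕ) (U : X.scheme.Opens) (h : ContainsFj X j U) :
    WeilCoh.dim (U : Scheme.{u}) = WeilCoh.dim X.scheme :=
  dim_eq_of_containsF0 X U (fun y hy => h y (by omega))

/-- the member of the index family of `F_j` on an open containing `F_j` -/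
abbrev fjMk (X : Obj V) (j : ℕ) (U : X.scheme.Opens) (h : ContainsFj X j U) :
    Idx X (ContainsFj X j) := ⟨U, h, dim_of_containsFj X j U h⟩

instance nonempty_fjIdx (X : Obj V) (j : ℕ) : Nonempty (Idx X (ContainsFj X j)) :=
  ⟨⟨⊤, fun _ _ => trivial, dim_top _⟩⟩

instance isDirected_fjIdx (X : Obj V) (j : ℕ) :
    IsDirected (Idx X (ContainsFj X j)) (· ≥ ·) :=
  ⟨fun U U' => ⟨fjMk X j (U.1 ⊓ U'.1) (containsFj_inf X j _ _ U.2.1 U'.2.1),
    (inf_le_left : U.1 ⊓ U'.1 ≤ U.1), (inf_le_right : U.1 ⊓ U'.1 ≤ U'.1)⟩⟩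

theorem nonempty_top_ptSub (X : Obj V) (x : X.scheme) :
    ((⊤ : (X.ptSub x).scheme.Opens) : Set (X.ptSub x).scheme).Nonempty := by
  obtain ⟨z₀, -, -⟩ := exists_generic X x
  exact ⟨z₀, trivial⟩

instance nonempty_ptIdx (X : Obj V) (x : X.scheme) : Nonempty (ptIdx X x) :=
  ⟨⟨⊤, nonempty_top_ptSub X x, dim_top _⟩⟩

instance isDirected_ptIdx (X : Obj V) (x : X.scheme) : IsDirected (ptIdx X x) (· ≥ ·) := by
  refine ⟨fun W W' => ?_⟩
  have hne : ((W.1 ⊓ W'.1 : (X.ptSub x).scheme.Opens) : Set (X.ptSub x).scheme).Nonempty :=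
    nonempty_preirreducible_inter W.1.isOpen W'.1.isOpen W.2.1 W'.2.1
  exact ⟨⟨W.1 ⊓ W'.1, hne, IsConstructible.dim_open (X.ptSub x).mem inferInstance _ hne⟩,
    (inf_le_left : W.1 ⊓ W'.1 ≤ W.1), (inf_le_right : W.1 ⊓ W'.1 ≤ W'.1)⟩

example (X : Obj V) (j : ℕ) : IsFiltered (Idx X (ContainsFj X j))ᵒᵖ := inferInstance
example (X : Obj V) (x : X.scheme) : IsFiltered (ptIdx X x)ᵒᵖ := inferInstance

variable {R : Type u} [CommRing R] {A : Coefs R} (T : PreTheory V R A)

/-- every element of an open-system colimit comes from a member of the family -/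
theorem exists_rep (X : Obj V) (P : X.scheme.Opens → Prop) [IsFiltered (Idx X P)ᵒᵖ] (i n : ℤ)
    (M : A.Cat) (α : (T.ocolim X P i n).obj M) :
    ∃ (U : Idx X P) (a : T.gp (X.res U.1) M i n), ((T.ocolimι X P i n U).app M).hom a = α := by
  have hc := isColimitOfPreserves ((evaluation A.Cat (ModuleCat.{u} R)).obj M)
    (colimit.isColimit ((idxDiag X P).op ⋙ T.H i n))
  obtain ⟨U, a, ha⟩ := Concrete.isColimit_exists_rep _ hc α
  exact ⟨U.unop, a, ha⟩

/-- an element of a member of the family vanishing in the colimit vanishes on a smaller member -/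
theorem rep_eq_zero (X : Obj V) (P : X.scheme.Opens → Prop) [IsFiltered (Idx X P)ᵒᵖ] (i n : ℤ)
    (M : A.Cat) (U : Idx X P) (a : T.gp (X.res U.1) M i n)
    (h : ((T.ocolimι X P i n U).app M).hom a = 0) :
    ∃ (U' : Idx X P) (hle : U' ≤ U),
      (T.pull ((idxDiag X P).map (homOfLE hle)) M i n).hom a = 0 := by
  have hc := isColimitOfPreserves ((evaluation A.Cat (ModuleCat.{u} R)).obj M)
    (colimit.isColimit ((idxDiag X P).op ⋙ T.H i n))
  have h0 : ((T.ocolimι X P i n U).app M).hom a = ((T.ocolimι X P i n U).app M).hom 0 := by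
    rw [h, map_zero]
  obtain ⟨k, f, g, hfg⟩ := (Concrete.isColimit_rep_eq_iff_exists _ hc (i := op U) (j := op U)
    a 0).mp h0
  refine ⟨k.unop, f.unop.le, ?_⟩
  have hf : f = (homOfLE f.unop.le).op := Subsingleton.elim _ _
  rw [hf] at hfg
  refine Eq.trans hfg ?_
  exact map_zero _

/-- elementwise form of the compatibility of the canonical maps with restriction -/
theorem ocolimι_le_apply (X : Obj V) (P : X.scheme.Opens → Prop) (i n : ℤ) (M : A.Cat)
    (U U' : Idx X P) (h : U.1 ≤ U'.1)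
    (hd : WeilCoh.dim (U.1 : Scheme.{u}) = WeilCoh.dim (U'.1 : Scheme.{u}))
    (a : T.gp (X.res U'.1) M i n) :
    ((T.ocolimι X P i n U').app M).hom a =
      ((T.ocolimι X P i n U).app M).hom ((T.pull (X.resLE h hd) M i n).hom a) := by
  have h1 := ocolimι_le T X P i n M U U' h
  rw [h1]
  rfl

/-- the comparison map of the groups of `F_m` and `F_j` on a canonical map -/
theorem fjRes_fjι (X : Obj V) {j m : ℕ} (h : j ≤ m) (i n : ℤ) (M : A.Cat)
    (U : Idx X (ContainsFj X m)) :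
    (T.fjι X m i n U).app M ≫ (T.fjRes X h i n).app M =
      (T.fjι X j i n ⟨U.1, containsFj_mono X h U.1 U.2.1, U.2.2⟩).app M := by
  have h1 := colimit.ι_pre ((idxDiag X (ContainsFj X j)).op ⋙ T.H i n)
    (idxIncl X (containsFj_mono X h)).op (op U)
  have h2 := congrArg (fun φ => φ.app M) h1
  simp only [NatTrans.comp_app] at h2
  exact h2

theorem fjRes_fjι_apply (X : Obj V) {j m : ℕ} (h : j ≤ m) (i n : ℤ) (M : A.Cat)
    (U : Idx X (ContainsFj X m)) (a : T.gp (X.res U.1) M i n) :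
    ((T.fjRes X h i n).app M).hom (((T.fjι X m i n U).app M).hom a) =
      ((T.fjι X j i n ⟨U.1, containsFj_mono X h U.1 U.2.1, U.2.2⟩).app M).hom a := by
  rw [← fjRes_fjι T X h i n M U]
  rfl

end Groth.Agent.H79.BMCohFilt
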