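import Groth.Agent.H79.BMCohPieces

set_option autoImplicit false
universe u
open CategoryTheory AlgebraicGeometry Opposite CategoryTheory.Limits TopologicalSpace

namespace Groth.Agent.H79.BMCohGeo

open BMCoh Groth.Agent.H79.BMCohDim Groth.Agent.H79.BMCohRes Groth.Agent.H79.BMCohFilt
  Groth.Agent.H79.BMCohDecomp

variable {V : ObjectProperty Scheme.{u}} [IsConstructible V] (X : Obj V)

/-- the points of codimension `j + 1` outside an open containing `F_j` -/
abbrev outPts (j : ℕ) (U : X.scheme.Opens) : Type u := {x : X.cdPt (j + 1) // x.1 ∉ U}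

/-- there are finitely many points of codimension `j + 1` outside an open containing `F_j` -/
theorem finite_outPts (j : ℕ) (U : X.scheme.Opens) (hU : ContainsFj X j U) :
    Finite (outPts X j U) := by
  have hN : IsNoetherian X.scheme := IsConstructible.isNoetherian X.mem
  have hT : IsClosed ((U : Set X.scheme)ᶜ) := U.isOpen.isClosed_compl
  obtain ⟨S, hSf, hSc, hSi, hSU⟩ :=
    TopologicalSpace.NoetherianSpace.exists_finite_set_isClosed_irreducible hT
  have hmem : ∀ x : outPts X j U, closure ({x.1.1} : Set X.scheme) ∈ S := by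
    intro x
    have hx : x.1.1 ∈ (U : Set X.scheme)ᶜ := x.2
    rw [hSU] at hx
    obtain ⟨t, htS, hxt⟩ := hx
    obtain ⟨c, hc⟩ := QuasiSober.sober (hSi t htS) (hSc t htS)
    have hct : c ∈ t := hc.mem
    have hcU : c ∉ U := by
      have : c ∈ (U : Set X.scheme)ᶜ := by
        rw [hSU]
        exact ⟨t, htS, hct⟩
      exact this
    have hcx : c ⤳ x.1.1 := by
      rw [specializes_iff_mem_closure, hc.def]
      exact hxt
    have := isMaximal_of_not_mem X j x.1 (fjMk X j U hU) c hcU hcx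
    rw [← this, hc.def]
    exact htS
  have hfin : Finite ↥S := hSf.to_subtype
  refine Finite.of_injective (fun x : outPts X j U => (⟨_, hmem x⟩ : ↥S)) ?_
  intro x y hxy
  have h1 : closure ({x.1.1} : Set X.scheme) = closure ({y.1.1} : Set X.scheme) :=
    congrArg Subtype.val hxy
  have h2 : x.1.1 ⤳ y.1.1 := by
    rw [specializes_iff_mem_closure, h1]
    exact subset_closure rfl
  have h3 : y.1.1 ⤳ x.1.1 := by
    rw [specializes_iff_mem_closure, ← h1]
    exact subset_closure rfl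
  exact Subtype.ext (Subtype.ext (h2.antisymm h3).eq)

/-- an open `U` containing `F_j` inside an open `X₁` containing `F_{j+1}` such that the
complement of `U` in `X₁` is the disjoint union of the traces of the closures of the points of
codimension `j + 1` outside `U` -/
structure IsGoodPair (j : ℕ) (U X₁ : X.scheme.Opens) : Prop where
  hU : ContainsFj X j U
  hX₁ : ContainsFj X (j + 1) X₁
  hle : U ≤ X₁
  hcl : ∀ z ∈ X₁, z ∉ U → ∃ x : outPts X j U, z ∈ closure ({x.1.1} : Set X.scheme)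
  hdisj : ∀ z ∈ X₁, ∀ x y : outPts X j U, z ∈ closure ({x.1.1} : Set X.scheme) →
    z ∈ closure ({y.1.1} : Set X.scheme) → x = y

theorem exists_goodPair (j : ℕ) (U : X.scheme.Opens) (hU : ContainsFj X j U) :
    ∃ X₁ : X.scheme.Opens, IsGoodPair X j U X₁ := by
  have hfin := finite_outPts X j U hU
  have hiso : ∀ x : outPts X j U, ∃ Yo : X.scheme.Opens, U ≤ Yo ∧ x.1.1 ∈ Yo ∧
      ∀ y ∈ Yo, y ∉ U → y ∈ closure ({x.1.1} : Set X.scheme) := fun x =>
    exists_open_isolating X U x.1.1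
      (fun c hc hcx => isMaximal_of_not_mem X j x.1 (fjMk X j U hU) c hc hcx)
  choose Yo hYo1 hYo2 hYo3 using hiso
  have hBc : ∀ x : outPts X j U,
      IsClosed (⋃ y : {y : outPts X j U // y ≠ x}, closure ({y.1.1.1} : Set X.scheme)) :=
    fun x => isClosed_iUnion_of_finite (fun y => isClosed_closure)
  let yo' : outPts X j U → X.scheme.Opens := fun x => Yo x ⊓ ⟨_, (hBc x).isOpen_compl⟩
  have hmem_yo' : ∀ (x : outPts X j U) (z : X.scheme), z ∈ yo' x ↔
      z ∈ Yo x ∧ ∀ y : outPts X j U, y ≠ x → z ∉ closure ({y.1.1} : Set X.scheme) := by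
    intro x z
    change (z ∈ Yo x ∧ z ∈ (⋃ y : {y : outPts X j U // y ≠ x},
      closure ({y.1.1.1} : Set X.scheme))ᶜ) ↔ _
    rw [Set.mem_compl_iff, Set.mem_iUnion]
    constructor
    · rintro ⟨h1, h2⟩
      exact ⟨h1, fun y hy hz => h2 ⟨⟨y, hy⟩, hz⟩⟩
    · rintro ⟨h1, h2⟩
      exact ⟨h1, fun ⟨y, hz⟩ => h2 y.1 y.2 hz⟩
  have hne_closure : ∀ x y : outPts X j U, y ≠ x →
      x.1.1 ∉ closure ({y.1.1} : Set X.scheme) := by
    intro x y hyx hmem
    have hne : x.1.1 ≠ y.1.1 := fun h => hyx (Subtype.ext (Subtype.ext h.symm))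
    have h1 := codim_lt_of_mem_closure X y.1.1 x.1.1 hmem hne
    have h2 : WeilCoh.codim X.scheme x.1.1 = j + 1 := x.1.2
    have h3 : WeilCoh.codim X.scheme y.1.1 = j + 1 := y.1.2
    omega
  refine ⟨U ⊔ ⨆ x, yo' x, hU, ?_, le_sup_left, ?_, ?_⟩
  · intro y hy
    by_cases hyU : y ∈ U
    · exact Opens.mem_sup.mpr (Or.inl hyU)
    · have hy2 : WeilCoh.codim X.scheme y = j + 1 := by
        by_contra hne
        exact hyU (hU y (by omega))
      refine Opens.mem_sup.mpr (Or.inr (Opens.mem_iSup.mpr ⟨⟨⟨y, hy2⟩, hyU⟩, ?_⟩))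
      rw [hmem_yo']
      exact ⟨hYo2 _, fun w hw => hne_closure ⟨⟨y, hy2⟩, hyU⟩ w hw⟩
  · intro z hz hzU
    rcases Opens.mem_sup.mp hz with h | h
    · exact absurd h hzU
    · obtain ⟨x, hx⟩ := Opens.mem_iSup.mp h
      rw [hmem_yo'] at hx
      exact ⟨x, hYo3 x z hx.1 hzU⟩
  · intro z hz x y hzx hzy
    have hzU : z ∉ U := fun h => closure_subset_compl X U x.1.1 x.2 hzx h
    rcases Opens.mem_sup.mp hz with h | h
    · exact absurd h hzU
    · obtain ⟨w, hw⟩ := Opens.mem_iSup.mp h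
      rw [hmem_yo'] at hw
      have hxw : x = w := by
        by_contra hne
        exact hw.2 x hne hzx
      have hyw : y = w := by
        by_contra hne
        exact hw.2 y hne hzy
      rw [hxw, hyw]

variable {X}

/-- shrinking the larger open of a good pair gives a good pair -/
theorem IsGoodPair.shrink {j : ℕ} {U X₁ : X.scheme.Opens} (h : IsGoodPair X j U X₁)
    (X₁' : X.scheme.Opens) (hle : X₁' ≤ X₁) (hX₁' : ContainsFj X (j + 1) X₁') :
    IsGoodPair X j (U ⊓ X₁') X₁' := by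
  have hmemU : ∀ x : outPts X j (U ⊓ X₁'), x.1.1 ∉ U := fun x hx =>
    x.2 ⟨hx, mem_of_cdPt X (j + 1) x.1 X₁' hX₁'⟩
  refine ⟨containsFj_inf X j U X₁' h.hU (containsFj_mono X (Nat.le_succ j) X₁' hX₁'), hX₁',
    inf_le_right, ?_, ?_⟩
  · intro z hz hzU
    have hzU' : z ∉ U := fun h' => hzU ⟨h', hz⟩
    obtain ⟨x, hx⟩ := h.hcl z (hle hz) hzU'
    exact ⟨⟨x.1, fun h' => x.2 h'.1⟩, hx⟩
  · intro z hz x y hzx hzy
    have := h.hdisj z (hle hz) ⟨x.1, hmemU x⟩ ⟨y.1, hmemU y⟩ hzx hzy
    exact Subtype.ext (congrArg (fun w : outPts X j U => w.1) this)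

end Groth.Agent.H79.BMCohGeo
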