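import Groth.Agent.H79.BMCohGeo

set_option autoImplicit false
universe u
open CategoryTheory AlgebraicGeometry Opposite CategoryTheory.Limits TopologicalSpace

namespace Groth.Agent.H79.BMCohGood

open BMCoh Groth.Agent.H79.BMCohDim Groth.Agent.H79.BMCohRes Groth.Agent.H79.BMCohFilt
  Groth.Agent.H79.BMCohDecomp Groth.Agent.H79.BMCohGeo Groth.Agent.H79.BMCohPieces

variable {V : ObjectProperty Scheme.{u}} [IsConstructible V] {X : Obj V}

/-- a scheme embedded in an object with image in the points whose closure has dimension at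
most `e` has dimension at most `e` -/
theorem dim_le_of_forall_pdim_le {Z' : Scheme.{u}} (φ : Z' ⟶ X.scheme)
    (hφ : Topology.IsEmbedding φ) (e : ℕ)
    (h : ∀ z : Z', WeilCoh.pdim X.scheme (φ z) ≤ e) : WeilCoh.dim Z' ≤ e := by
  unfold WeilCoh.dim WeilCoh.natDim
  have hle : topologicalKrullDim Z' ≤ ((e : ℕ∞) : WithBot ℕ∞) := by
    rw [tkd_eq, Order.krullDim_eq_iSup_height]
    apply iSup_le
    intro z
    have hsm : StrictMono (fun w : Z' => φ w) := by
      apply strictMono_of_le_iff_le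
      intro a b
      rw [Scheme.le_iff_specializes, Scheme.le_iff_specializes]
      exact (hφ.isInducing.specializes_iff).symm
    have h1 := Order.height_le_height_apply_of_strictMono _ hsm z
    rw [height_eq_cast X.scheme (finDim X) (φ z)] at h1
    have h2 : ((WeilCoh.pdim X.scheme (φ z) : ℕ) : ℕ∞) ≤ (e : ℕ∞) := by exact_mod_cast h z
    exact WithBot.coe_le_coe.mpr (h1.trans h2)
  have hlt : (((e : ℕ∞) : WithBot ℕ∞)) < ⊤ := by
    rw [lt_top_iff_ne_top]
    intro h0
    have h1 : ((e : ℕ∞) : WithBot ℕ∞) = ((⊤ : ℕ∞) : WithBot ℕ∞) := h0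
    exact ENat.natCast_ne_top e (WithBot.coe_injective h1)
  have h3 := natDim_mono hle hlt
  simpa using h3

/-- the complement of `U` in `X₁`, as a closed subset of the open subscheme `X₁` -/
def cmpl (U X₁ : X.scheme.Opens) : Closeds ↥(X₁ : Scheme.{u}) :=
  ⟨{z | (z.1 : X.scheme) ∉ U}, U.isOpen.isClosed_compl.preimage continuous_subtype_val⟩

/-- the reduced structure on the complement of `U` in `X₁`, as an object -/
noncomputable abbrev cmplObj (U X₁ : X.scheme.Opens) : Obj V :=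
  ⟨(Scheme.IdealSheafData.vanishingIdeal (cmpl U X₁)).subscheme,
    IsConstructible.of_isClosedImmersion
      (Scheme.IdealSheafData.vanishingIdeal (cmpl U X₁)).subschemeι
      (h := (inferInstance : IsClosedImmersion
        (Scheme.IdealSheafData.vanishingIdeal (cmpl U X₁)).subschemeι)) (X.res X₁).mem⟩

/-- the closed immersion of the reduced complement -/
noncomputable abbrev cmplι (U X₁ : X.scheme.Opens) :
    (cmplObj (X := X) U X₁).scheme ⟶ (X.res X₁).scheme :=
  (Scheme.IdealSheafData.vanishingIdeal (cmpl U X₁)).subschemeι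

theorem range_cmplι (U X₁ : X.scheme.Opens) :
    Set.range (cmplι (X := X) U X₁) = {z | (z.1 : X.scheme) ∉ U} := by
  rw [Scheme.IdealSheafData.range_subschemeι, Scheme.IdealSheafData.coe_support_vanishingIdeal]
  rfl

instance isReduced_cmplObj (U X₁ : X.scheme.Opens) :
    IsReduced (cmplObj (X := X) U X₁).scheme :=
  Groth.Agent.H22.isReduced_subscheme_vanishingIdeal _

instance isReduced_ptSub (x : X.scheme) : IsReduced (X.ptSub x).scheme :=
  Groth.Agent.H22.isReduced_subscheme_vanishingIdeal _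

/-- the Gysin decomposition of `X₁` into the reduced complement of `U` and `U` -/
noncomputable def gDecomp (U X₁ : X.scheme.Opens) (hle : U ≤ X₁)
    (hd : WeilCoh.dim (U : Scheme.{u}) = WeilCoh.dim (X₁ : Scheme.{u})) : Decomp (X.res X₁) where
  Z := cmplObj U X₁
  U := X.res U
  i := cmplι U X₁
  closedImm := inferInstance
  j := X.resLE hle hd
  range_eq := by
    rw [range_cmplι]
    ext z
    constructor
    · rintro ⟨w, rfl⟩ hz
      have h1 : ((X.scheme.homOfLE hle w).1 : X.scheme) = w.1 := Scheme.homOfLE_apply hle w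
      apply hz
      change ((X.scheme.homOfLE hle w).1 : X.scheme) ∈ U
      rw [h1]
      exact w.2
    · intro hz
      have hzU : (z.1 : X.scheme) ∈ U := by
        by_contra h0
        exact hz h0
      refine ⟨⟨z.1, hzU⟩, ?_⟩
      apply Subtype.ext
      exact Scheme.homOfLE_apply hle ⟨z.1, hzU⟩

theorem range_restrict_subset (x : X.scheme) (U X₁ : X.scheme.Opens) (hxU : x ∉ U) :
    Set.range (X.ptSubι x ∣_ X₁) ⊆ (cmpl U X₁ : Set ↥(X₁ : Scheme.{u})) := by
  rintro _ ⟨w, rfl⟩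
  change (((X.ptSubι x ∣_ X₁) w).1 : X.scheme) ∉ U
  rw [morphismRestrict_base_coe]
  intro hU
  have hcl : X.ptSubι x w.1 ∈ closure ({x} : Set X.scheme) := by
    rw [← range_ptSubι]
    exact ⟨w.1, rfl⟩
  exact closure_subset_compl X U x hxU hcl hU

theorem exists_pieceHom (x : X.scheme) (U X₁ : X.scheme.Opens) (hxU : x ∉ U) :
    ∃ g : (((X.ptSubι x) ⁻¹ᵁ X₁ : (X.ptSub x).scheme.Opens) : Scheme.{u}) ⟶
        (cmplObj (X := X) U X₁).scheme,
      g ≫ cmplι U X₁ = X.ptSubι x ∣_ X₁ := by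
  have hred : IsReduced (((X.ptSubι x) ⁻¹ᵁ X₁ : (X.ptSub x).scheme.Opens) : Scheme.{u}) :=
    isReduced_of_isOpenImmersion (Scheme.Opens.ι _)
  exact exists_lift_reduced _ _ (range_restrict_subset x U X₁ hxU)

/-- the morphism from the trace of the closure of `x` on `X₁` to the reduced complement of `U` -/
noncomputable def pieceHom (x : X.scheme) (U X₁ : X.scheme.Opens) (hxU : x ∉ U) :
    (((X.ptSubι x) ⁻¹ᵁ X₁ : (X.ptSub x).scheme.Opens) : Scheme.{u}) ⟶
      (cmplObj (X := X) U X₁).scheme :=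
  Classical.choose (exists_pieceHom x U X₁ hxU)

theorem pieceHom_fac (x : X.scheme) (U X₁ : X.scheme.Opens) (hxU : x ∉ U) :
    pieceHom x U X₁ hxU ≫ cmplι U X₁ = X.ptSubι x ∣_ X₁ :=
  Classical.choose_spec (exists_pieceHom x U X₁ hxU)

instance isClosedImmersion_pieceHom (x : X.scheme) (U X₁ : X.scheme.Opens) (hxU : x ∉ U) :
    IsClosedImmersion (pieceHom x U X₁ hxU) := by
  have h1 : IsClosedImmersion (pieceHom x U X₁ hxU ≫ cmplι U X₁) := by
    rw [pieceHom_fac]
    infer_instance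
  exact IsClosedImmersion.of_comp_isClosedImmersion (pieceHom x U X₁ hxU) (cmplι U X₁)

theorem mem_range_pieceHom (x : X.scheme) (U X₁ : X.scheme.Opens) (hxU : x ∉ U)
    (z : (cmplObj (X := X) U X₁).scheme) :
    z ∈ Set.range (pieceHom x U X₁ hxU) ↔
      ((cmplι U X₁ z).1 : X.scheme) ∈ closure ({x} : Set X.scheme) := by
  constructor
  · rintro ⟨w, rfl⟩
    have h1 : cmplι U X₁ (pieceHom x U X₁ hxU w) = (X.ptSubι x ∣_ X₁) w := by
      rw [← pieceHom_fac x U X₁ hxU]
      rfl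
    rw [h1, morphismRestrict_base_coe, ← range_ptSubι]
    exact ⟨w.1, rfl⟩
  · intro hz
    rw [← range_ptSubι] at hz
    obtain ⟨w, hw⟩ := hz
    have hwX₁ : w ∈ (X.ptSubι x) ⁻¹ᵁ X₁ := by
      change X.ptSubι x w ∈ X₁
      rw [hw]
      exact (cmplι U X₁ z).2
    refine ⟨⟨w, hwX₁⟩, ?_⟩
    apply (cmplι U X₁).isClosedEmbedding.injective
    have h1 : cmplι U X₁ (pieceHom x U X₁ hxU ⟨w, hwX₁⟩) = (X.ptSubι x ∣_ X₁) ⟨w, hwX₁⟩ := by
      rw [← pieceHom_fac x U X₁ hxU]
      rfl
    rw [h1]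
    apply Subtype.ext
    exact (morphismRestrict_base_coe (X.ptSubι x) X₁ ⟨w, hwX₁⟩).trans hw

section good

variable {j : ℕ} {U X₁ : X.scheme.Opens} (h : IsGoodPair X j U X₁)

include h in
theorem isOpen_range_pieceHom (x : outPts X j U) :
    IsOpen (Set.range (pieceHom x.1.1 U X₁ x.2)) := by
  have hfin := finite_outPts X j U h.hU
  have hcompl : (Set.range (pieceHom x.1.1 U X₁ x.2))ᶜ =
      ⋃ y : {y : outPts X j U // y ≠ x}, (fun z : (cmplObj (X := X) U X₁).scheme =>
        ((cmplι U X₁ z).1 : X.scheme)) ⁻¹' closure ({y.1.1.1} : Set X.scheme) := by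
    ext z
    rw [Set.mem_compl_iff, mem_range_pieceHom, Set.mem_iUnion]
    have hzmem : (cmplι U X₁ z) ∈ Set.range (cmplι (X := X) U X₁) := ⟨z, rfl⟩
    rw [range_cmplι] at hzmem
    constructor
    · intro hzx
      obtain ⟨y, hy⟩ := h.hcl _ (cmplι U X₁ z).2 hzmem
      refine ⟨⟨y, ?_⟩, hy⟩
      rintro rfl
      exact hzx hy
    · rintro ⟨y, hy⟩ hzx
      exact y.2 (h.hdisj _ (cmplι U X₁ z).2 y.1 x hy hzx)
  rw [← isClosed_compl_iff, hcompl]
  refine isClosed_iUnion_of_finite (fun y => ?_)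
  exact isClosed_closure.preimage
    (continuous_subtype_val.comp (cmplι (X := X) U X₁).continuous)

include h in
theorem isOpenImmersion_pieceHom (x : outPts X j U) :
    IsOpenImmersion (pieceHom x.1.1 U X₁ x.2) :=
  isOpenImmersion_of_isClosedImmersion_of_isOpen_range _ (isOpen_range_pieceHom h x)

include h in
theorem mem_X₁ (x : outPts X j U) : x.1.1 ∈ X₁ := mem_of_cdPt X (j + 1) x.1 X₁ h.hX₁

include h in
theorem pdim_eq (x : outPts X j U) :
    (WeilCoh.dim X.scheme : ℤ) - (WeilCoh.pdim X.scheme x.1.1 : ℤ) = ((j + 1 : ℕ) : ℤ) := by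
  have h3 := pdim_le_dim X.scheme (finDim X) x.1.1
  have h4 : WeilCoh.dim X.scheme - WeilCoh.pdim X.scheme x.1.1 = j + 1 := x.1.2
  omega

include h in
theorem dim_cmplObj (x : outPts X j U) :
    WeilCoh.dim (cmplObj (X := X) U X₁).scheme = WeilCoh.pdim X.scheme x.1.1 := by
  apply le_antisymm
  · refine dim_le_of_forall_pdim_le (X := X) (cmplι U X₁ ≫ X₁.ι)
      ((X₁.ι.isOpenEmbedding.isEmbedding).comp (cmplι U X₁).isClosedEmbedding.isEmbedding) _ ?_
    intro z
    have hzmem : (cmplι U X₁ z) ∈ Set.range (cmplι (X := X) U X₁) := ⟨z, rfl⟩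
    rw [range_cmplι] at hzmem
    obtain ⟨y, hy⟩ := h.hcl _ (cmplι U X₁ z).2 hzmem
    have h1 : WeilCoh.pdim X.scheme ((cmplι U X₁ z).1 : X.scheme) ≤
        WeilCoh.pdim X.scheme y.1.1 := by
      by_cases heq : ((cmplι U X₁ z).1 : X.scheme) = y.1.1
      · rw [heq]
      · have hsp : y.1.1 ⤳ ((cmplι U X₁ z).1 : X.scheme) := specializes_iff_mem_closure.mpr hy
        have hlt : ((cmplι U X₁ z).1 : X.scheme) < y.1.1 := by
          apply lt_of_le_not_ge
          · exact (Scheme.le_iff_specializes).mpr hsp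
          · intro h'
            have h'' : ((cmplι U X₁ z).1 : X.scheme) ⤳ y.1.1 := (Scheme.le_iff_specializes).mp h'
            exact heq (h''.antisymm hsp).eq
        exact le_of_lt (pdim_lt_of_lt X.scheme (finDim X) hlt)
    have h2 := pdim_eq h x
    have h3 := pdim_eq h y
    have h4 : WeilCoh.pdim X.scheme y.1.1 = WeilCoh.pdim X.scheme x.1.1 := by omega
    exact h1.trans (le_of_eq h4)
  · have hoi := isOpenImmersion_pieceHom h x
    have h1 := dim_le_of_isEmbedding (pieceHom x.1.1 U X₁ x.2)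
      (pieceHom x.1.1 U X₁ x.2).isOpenEmbedding.isEmbedding
      (IsConstructible.finiteDim (cmplObj (X := X) U X₁).mem)
    have h2 : WeilCoh.dim (((X.ptSubι x.1.1) ⁻¹ᵁ X₁ : (X.ptSub x.1.1).scheme.Opens) :
        Scheme.{u}) = WeilCoh.pdim X.scheme x.1.1 := by
      rw [← dim_ptSub]
      exact (ptPre X x.1.1 X₁ (mem_X₁ h x)).2.2
    rw [← h2]
    exact h1

include h in
theorem dim_piece (x : outPts X j U) :
    WeilCoh.dim (((X.ptSubι x.1.1) ⁻¹ᵁ X₁ : (X.ptSub x.1.1).scheme.Opens) : Scheme.{u}) =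
      WeilCoh.dim (cmplObj (X := X) U X₁).scheme := by
  rw [dim_cmplObj h x, ← dim_ptSub]
  exact (ptPre X x.1.1 X₁ (mem_X₁ h x)).2.2

/-- the pieces of the reduced complement of a good pair, as morphisms of objects -/
noncomputable def pieceObjHom (x : outPts X j U) :
    (X.ptSub x.1.1).res ((X.ptSubι x.1.1) ⁻¹ᵁ X₁) ⟶ cmplObj (X := X) U X₁ :=
  ⟨pieceHom x.1.1 U X₁ x.2, isOpenImmersion_pieceHom h x, dim_piece h x⟩

theorem pieceObjHom_hom (x : outPts X j U) :
    (pieceObjHom h x).hom = pieceHom x.1.1 U X₁ x.2 := rfl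

instance isClosedImmersion_pieceObjHom (x : outPts X j U) :
    IsClosedImmersion (pieceObjHom h x).hom :=
  isClosedImmersion_pieceHom x.1.1 U X₁ x.2

theorem pieces_disjoint (x y : outPts X j U) (hxy : x ≠ y) :
    Disjoint (Set.range (pieceObjHom h x).hom) (Set.range (pieceObjHom h y).hom) := by
  rw [Set.disjoint_left]
  intro z hzx hzy
  rw [pieceObjHom_hom, mem_range_pieceHom] at hzx hzy
  exact hxy (h.hdisj _ (cmplι U X₁ z).2 x y hzx hzy)

theorem pieces_cover (z : (cmplObj (X := X) U X₁).scheme) :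
    ∃ x : outPts X j U, z ∈ Set.range (pieceObjHom h x).hom := by
  have hzmem : (cmplι U X₁ z) ∈ Set.range (cmplι (X := X) U X₁) := ⟨z, rfl⟩
  rw [range_cmplι] at hzmem
  obtain ⟨x, hx⟩ := h.hcl _ (cmplι U X₁ z).2 hzmem
  refine ⟨x, ?_⟩
  rw [pieceObjHom_hom, mem_range_pieceHom]
  exact hx

include h in
theorem dim_U_eq : WeilCoh.dim (U : Scheme.{u}) = WeilCoh.dim (X₁ : Scheme.{u}) :=
  (dim_of_containsFj X j U h.hU).trans (dim_of_containsFj X (j + 1) X₁ h.hX₁).symm

theorem gDecomp_codim (x : outPts X j U) :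
    (gDecomp U X₁ h.hle (dim_U_eq h)).codim = ((j + 1 : ℕ) : ℤ) := by
  change relCodim (cmplObj (X := X) U X₁).scheme (X₁ : Scheme.{u}) = _
  unfold relCodim
  rw [dim_cmplObj h x, dim_of_containsFj X (j + 1) X₁ h.hX₁]
  exact pdim_eq h x

include h in
theorem relCodim_cmplObj (x : outPts X j U) :
    relCodim (cmplObj (X := X) U X₁).scheme (X.res X₁).scheme = ((j + 1 : ℕ) : ℤ) :=
  gDecomp_codim h x

end good

end Groth.Agent.H79.BMCohGood
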