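import Groth.Agent.H79.BMCohPtPush
import Mathlib.AlgebraicGeometry.Normalization
import Mathlib.AlgebraicGeometry.FunctionField
import Mathlib.AlgebraicGeometry.Morphisms.IsIso
import Mathlib.AlgebraicGeometry.Morphisms.Affine
import Mathlib.AlgebraicGeometry.Morphisms.Finite
import Groth.Prelude.Def_Curv2

set_option autoImplicit false
universe u
open CategoryTheory AlgebraicGeometry Opposite CategoryTheory.Limits TopologicalSpace

namespace Groth.Agent.H79.BMCohNorm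

section ring

/-- a finite ring map out of a domain all of whose elements of the target are fractions with
denominator from the source admits a common denominator -/
theorem exists_common_denominator {A B : Type u} [CommRing A] [IsDomain A] [CommRing B]
    (f : A →+* B) (hf : f.Finite)
    (h : ∀ b : B, ∃ a s : A, s ≠ 0 ∧ f a = f s * b) :
    ∃ s : A, s ≠ 0 ∧ ∀ b : B, ∃ a : A, f a = f s * b := by
  classical
  let _ := f.toAlgebra
  have hfin : Module.Finite A B := hf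
  obtain ⟨G, hG⟩ := hfin.fg_top
  choose a s hs has using h
  refine ⟨∏ g ∈ G, s g, Finset.prod_ne_zero_iff.mpr (fun g _ => hs g), ?_⟩
  intro b
  have hb : b ∈ Submodule.span A (G : Set B) := by
    rw [hG]
    trivial
  induction hb using Submodule.span_induction with
  | mem g hg =>
    refine ⟨(∏ g' ∈ G.erase g, s g') * a g, ?_⟩
    rw [← Finset.mul_prod_erase G s hg, map_mul, map_mul, has g]
    ring
  | zero => exact ⟨0, by rw [map_zero, mul_zero]⟩
  | add x y _ _ hx hy =>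
    obtain ⟨ax, hax⟩ := hx
    obtain ⟨ay, hay⟩ := hy
    exact ⟨ax + ay, by rw [map_add, hax, hay, mul_add]⟩
  | smul r x _ hx =>
    obtain ⟨ax, hax⟩ := hx
    refine ⟨r * ax, ?_⟩
    rw [map_mul, hax, Algebra.smul_def]
    change f r * (f (∏ g ∈ G, s g) * x) = f (∏ g ∈ G, s g) * (f r * x)
    ring

end ring

section affine

theorem isIso_of_isAffine_of_isIso_appTop {X Y : Scheme.{u}} (f : X ⟶ Y) [IsAffine X] [IsAffine Y]
    [IsIso f.appTop] : IsIso f :=
  (MorphismProperty.arrow_mk_iso_iff (MorphismProperty.isomorphisms _)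
    (arrowIsoSpecΓOfIsAffine f)).mpr (inferInstanceAs (IsIso (Spec.map (f.appTop))))

/-- an affine morphism inducing a bijection on sections over an affine open is an isomorphism
over that open -/
theorem isIso_morphismRestrict_of_bijective_app {X Y : Scheme.{u}} (f : X ⟶ Y) [IsAffineHom f]
    (U : Y.Opens) (hU : IsAffineOpen U) (hbij : Function.Bijective (f.app U).hom) :
    IsIso (f ∣_ U) := by
  have hUa : IsAffine U.toScheme := hU
  have hpre : IsAffineOpen (f ⁻¹ᵁ U) := hU.preimage f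
  have hpa : IsAffine (f ⁻¹ᵁ U).toScheme := hpre
  have hiso : IsIso (f.app U) := (ConcreteCategory.isIso_iff_bijective (f.app U)).mpr hbij
  have : IsIso (f ∣_ U).appTop := by
    rw [morphismRestrict_appTop]
    have h1 : IsIso (f.app (U.ι ''ᵁ ⊤)) := by
      have hUe : U.ι ''ᵁ ⊤ = U := Scheme.Opens.ι_image_top U
      rw [hUe]
      exact hiso
    have h2 : IsIso (X.presheaf.map (eqToHom (image_morphismRestrict_preimage f U ⊤)).op) :=
      inferInstance
    exact @IsIso.comp_isIso _ _ _ _ _ _ _ h1 h2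
  exact isIso_of_isAffine_of_isIso_appTop _

/-- if every section over the preimage of an affine open becomes, after multiplication by the image
of `s`, the image of a section downstairs, the map on sections over the basic open of `s` is
surjective -/
theorem app_basicOpen_surjective {X Y : Scheme.{u}} (f : X ⟶ Y) [IsAffineHom f] (U : Y.Opens)
    (hU : IsAffineOpen U) (s : Γ(Y, U))
    (h : ∀ b : Γ(X, f ⁻¹ᵁ U), ∃ a : Γ(Y, U), (f.app U).hom a = (f.app U).hom s * b) :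
    Function.Surjective (f.app (Y.basicOpen s)).hom := by
  intro t
  have hpre : IsAffineOpen (f ⁻¹ᵁ U) := hU.preimage f
  have e : f ⁻¹ᵁ Y.basicOpen s = X.basicOpen ((f.app U).hom s) := Scheme.preimage_basicOpen f s
  have hle : f ⁻¹ᵁ Y.basicOpen s ≤ f ⁻¹ᵁ U := f.preimage_mono (Y.basicOpen_le s)
  let i : f ⁻¹ᵁ Y.basicOpen s ⟶ f ⁻¹ᵁ U := homOfLE hle
  let _ := (X.presheaf.map i.op).hom.toAlgebra
  have hloc : IsLocalization.Away ((f.app U).hom s) Γ(X, f ⁻¹ᵁ Y.basicOpen s) :=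
    hpre.isLocalization_of_eq_basicOpen ((f.app U).hom s) i e
  obtain ⟨⟨b, m⟩, hbm⟩ := IsLocalization.surj (Submonoid.powers ((f.app U).hom s)) t
  obtain ⟨k, hk⟩ := m.2
  obtain ⟨a, ha⟩ := h b
  have hu : IsUnit ((Y.presheaf.map (homOfLE (Y.basicOpen_le s)).op).hom s) :=
    RingedSpace.isUnit_res_basicOpen _ s
  obtain ⟨u, hu⟩ := hu
  have hnat : ∀ c : Γ(Y, U), (X.presheaf.map i.op).hom ((f.app U).hom c) =
      (f.app (Y.basicOpen s)).hom ((Y.presheaf.map (homOfLE (Y.basicOpen_le s)).op).hom c) := by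
    intro c
    have := f.naturality (homOfLE (Y.basicOpen_le s)).op
    have h2 := congrArg (fun g => g.hom c) this
    exact h2.symm
  have hρm : algebraMap Γ(X, f ⁻¹ᵁ U) Γ(X, f ⁻¹ᵁ Y.basicOpen s) m.1 =
      ((f.app (Y.basicOpen s)).hom (u : Γ(Y, Y.basicOpen s))) ^ k := by
    rw [← hk, map_pow]
    change ((X.presheaf.map i.op).hom ((f.app U).hom s)) ^ k = _
    rw [hnat s, hu]
  have hρa : (f.app (Y.basicOpen s)).hom ((Y.presheaf.map (homOfLE (Y.basicOpen_le s)).op).hom a) =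
      (f.app (Y.basicOpen s)).hom (u : Γ(Y, Y.basicOpen s)) *
        algebraMap Γ(X, f ⁻¹ᵁ U) Γ(X, f ⁻¹ᵁ Y.basicOpen s) b := by
    rw [← hnat a, ha, map_mul, hnat s, hu]
    rfl
  refine ⟨(Y.presheaf.map (homOfLE (Y.basicOpen_le s)).op).hom a *
    ((u⁻¹ : (Γ(Y, Y.basicOpen s))ˣ) : Γ(Y, Y.basicOpen s)) ^ (k + 1), ?_⟩
  rw [map_mul, hρa, ← hbm, hρm, map_pow]
  have h1 : (f.app (Y.basicOpen s)).hom (u : Γ(Y, Y.basicOpen s)) *
      (f.app (Y.basicOpen s)).hom ((u⁻¹ : (Γ(Y, Y.basicOpen s))ˣ) : Γ(Y, Y.basicOpen s)) = 1 := by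
    rw [← map_mul, Units.mul_inv, map_one]
  calc (f.app (Y.basicOpen s)).hom (u : Γ(Y, Y.basicOpen s)) *
        (t * (f.app (Y.basicOpen s)).hom (u : Γ(Y, Y.basicOpen s)) ^ k) *
        (f.app (Y.basicOpen s)).hom ((u⁻¹ : (Γ(Y, Y.basicOpen s))ˣ) : Γ(Y, Y.basicOpen s)) ^ (k + 1)
      = t * ((f.app (Y.basicOpen s)).hom (u : Γ(Y, Y.basicOpen s)) *
        (f.app (Y.basicOpen s)).hom ((u⁻¹ : (Γ(Y, Y.basicOpen s))ˣ) : Γ(Y, Y.basicOpen s))) ^ (k + 1) := by
        ring
    _ = t := by rw [h1, one_pow, mul_one]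

/-- a morphism which is an isomorphism over an open is an isomorphism over every smaller open -/
theorem isIso_morphismRestrict_of_le {X Y : Scheme.{u}} (f : X ⟶ Y) {U' U : Y.Opens} (hle : U' ≤ U)
    (h : IsIso (f ∣_ U)) : IsIso (f ∣_ U') :=
  (Groth.Agent.H79.BMCohBij.isPullback_restrict_le f hle (f.preimage_mono hle)).isIso_snd_of_isIso

end affine

section norm

variable (Z : Scheme.{u}) [IsIntegral Z]

theorem preimage_fromSpecStalk_eq_top (U : Z.Opens) (hη : genericPoint Z ∈ U) :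
    (Z.fromSpecStalk (genericPoint Z)) ⁻¹ᵁ U = ⊤ := by
  apply top_unique
  intro p _
  change Z.fromSpecStalk (genericPoint Z) p ∈ U
  have h1 : Z.fromSpecStalk (genericPoint Z) p ∈ Set.range (Z.fromSpecStalk (genericPoint Z)) :=
    ⟨p, rfl⟩
  rw [Scheme.range_fromSpecStalk] at h1
  exact h1.mem_open U.isOpen hη

/-- on an open containing the generic point, the canonical morphism from the spectrum of the
function field is, on sections, the germ map followed by an isomorphism -/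
theorem exists_fromSpecStalk_app_eq (U : Z.Opens) (hη : genericPoint Z ∈ U) :
    ∃ θ : Z.presheaf.stalk (genericPoint Z) ⟶
        Γ(Spec (Z.presheaf.stalk (genericPoint Z)), (Z.fromSpecStalk (genericPoint Z)) ⁻¹ᵁ U),
      IsIso θ ∧ (Z.fromSpecStalk (genericPoint Z)).app U =
        Z.presheaf.germ U (genericPoint Z) hη ≫ θ := by
  have htop := preimage_fromSpecStalk_eq_top Z U hη
  have hle : (⊤ : (Spec (Z.presheaf.stalk (genericPoint Z))).Opens) ≤
      (Z.fromSpecStalk (genericPoint Z)) ⁻¹ᵁ U := le_of_eq htop.symm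
  have hiso1 : IsIso (homOfLE (le_top : (Z.fromSpecStalk (genericPoint Z)) ⁻¹ᵁ U ≤ ⊤)) :=
    ⟨homOfLE hle, Subsingleton.elim _ _, Subsingleton.elim _ _⟩
  have hiso2 : IsIso ((Spec (Z.presheaf.stalk (genericPoint Z))).presheaf.map
      (homOfLE (le_top : (Z.fromSpecStalk (genericPoint Z)) ⁻¹ᵁ U ≤ ⊤)).op) := inferInstance
  refine ⟨(Scheme.ΓSpecIso (Z.presheaf.stalk (genericPoint Z))).inv ≫
    (Spec (Z.presheaf.stalk (genericPoint Z))).presheaf.map
      (homOfLE (le_top : (Z.fromSpecStalk (genericPoint Z)) ⁻¹ᵁ U ≤ ⊤)).op, inferInstance,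
    Scheme.fromSpecStalk_app hη⟩

theorem fromSpecStalk_app_injective (U : Z.Opens) (hη : genericPoint Z ∈ U) :
    Function.Injective ((Z.fromSpecStalk (genericPoint Z)).app U).hom := by
  obtain ⟨θ, hθ, happ⟩ := exists_fromSpecStalk_app_eq Z U hη
  rw [happ]
  intro a a' h
  have h1 : θ.hom ((Z.presheaf.germ U (genericPoint Z) hη).hom a) =
      θ.hom ((Z.presheaf.germ U (genericPoint Z) hη).hom a') := h
  have h2 : Function.Injective θ.hom :=
    ((ConcreteCategory.isIso_iff_bijective θ).mp hθ).1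
  exact germ_injective_of_isIntegral Z (genericPoint Z) hη (h2 h1)

/-- every section of the function field over an affine open is a fraction of sections of the
affine open -/
theorem exists_fraction (U : Z.Opens) (hU : IsAffineOpen U) (hη : genericPoint Z ∈ U)
    (κ : Γ(Spec (Z.presheaf.stalk (genericPoint Z)), (Z.fromSpecStalk (genericPoint Z)) ⁻¹ᵁ U)) :
    ∃ a s : Γ(Z, U), s ≠ 0 ∧ ((Z.fromSpecStalk (genericPoint Z)).app U).hom a =
      ((Z.fromSpecStalk (genericPoint Z)).app U).hom s * κ := by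
  have hne : Nonempty U := ⟨⟨genericPoint Z, hη⟩⟩
  have hfr := functionField_isFractionRing_of_isAffineOpen Z U hU
  obtain ⟨θ, hθiso, happ⟩ := exists_fromSpecStalk_app_eq Z U hη
  obtain ⟨⟨a, s⟩, has⟩ := IsLocalization.surj (nonZeroDivisors Γ(Z, U)) ((inv θ).hom κ)
  refine ⟨a, s.1, nonZeroDivisors.ne_zero s.2, ?_⟩
  have h1 : (inv θ).hom κ * (Z.presheaf.germ U (genericPoint Z) hη).hom s.1 =
      (Z.presheaf.germ U (genericPoint Z) hη).hom a := has
  have h2 := congrArg θ.hom h1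
  rw [map_mul] at h2
  have h3 : θ.hom ((inv θ).hom κ) = κ := by
    change (inv θ ≫ θ).hom κ = κ
    rw [IsIso.inv_hom_id]
    rfl
  rw [h3] at h2
  rw [happ]
  change θ.hom ((Z.presheaf.germ U (genericPoint Z) hη).hom a) =
    θ.hom ((Z.presheaf.germ U (genericPoint Z) hη).hom s.1) * κ
  rw [← h2, mul_comm]

variable [QuasiCompact (Z.fromSpecStalk (genericPoint Z))]
  [QuasiSeparated (Z.fromSpecStalk (genericPoint Z))]

/-- every section of the normalization over the preimage of an affine open is a fraction of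
sections of the affine open -/
theorem exists_denominator (U : Z.Opens) (hU : IsAffineOpen U) (hη : genericPoint Z ∈ U)
    (b : Γ((Z.fromSpecStalk (genericPoint Z)).normalization,
      (Z.fromSpecStalk (genericPoint Z)).fromNormalization ⁻¹ᵁ U)) :
    ∃ a s : Γ(Z, U), s ≠ 0 ∧
      ((Z.fromSpecStalk (genericPoint Z)).fromNormalization.app U).hom a =
        ((Z.fromSpecStalk (genericPoint Z)).fromNormalization.app U).hom s * b := by
  let _ := ((Z.fromSpecStalk (genericPoint Z)).app U).hom.toAlgebra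
  set e := (Z.fromSpecStalk (genericPoint Z)).normalizationObjIso hU with he
  obtain ⟨a, s, hs, has⟩ := exists_fraction Z U hU hη ((e.hom.hom b).1)
  refine ⟨a, s, hs, ?_⟩
  rw [Scheme.Hom.fromNormalization_app _ hU]
  have h1 : algebraMap Γ(Z, U) (integralClosure Γ(Z, U)
      Γ(Spec (Z.presheaf.stalk (genericPoint Z)), (Z.fromSpecStalk (genericPoint Z)) ⁻¹ᵁ U)) a =
      algebraMap Γ(Z, U) (integralClosure Γ(Z, U)
      Γ(Spec (Z.presheaf.stalk (genericPoint Z)), (Z.fromSpecStalk (genericPoint Z)) ⁻¹ᵁ U)) s *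
        e.hom.hom b := by
    apply Subtype.ext
    exact has
  change e.inv.hom (algebraMap _ _ a) = e.inv.hom (algebraMap _ _ s) * b
  rw [h1, map_mul]
  congr 1
  change (e.hom ≫ e.inv).hom b = b
  rw [Iso.hom_inv_id]
  rfl

theorem fromNormalization_app_injective (U : Z.Opens) (hη : genericPoint Z ∈ U) :
    Function.Injective ((Z.fromSpecStalk (genericPoint Z)).fromNormalization.app U).hom := by
  intro a a' h
  apply fromSpecStalk_app_injective Z U hη
  have h1 := Scheme.Hom.congr_app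
    (Z.fromSpecStalk (genericPoint Z)).toNormalization_fromNormalization.symm U
  have key : ∀ c : Γ(Z, U), ((Z.fromSpecStalk (genericPoint Z)).app U).hom c =
      ((Spec (Z.presheaf.stalk (genericPoint Z))).presheaf.map (eqToHom (by
        rw [← Scheme.Hom.comp_preimage,
          (Z.fromSpecStalk (genericPoint Z)).toNormalization_fromNormalization])).op).hom
        (((Z.fromSpecStalk (genericPoint Z)).toNormalization.app
          ((Z.fromSpecStalk (genericPoint Z)).fromNormalization ⁻¹ᵁ U)).hom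
          (((Z.fromSpecStalk (genericPoint Z)).fromNormalization.app U).hom c)) := by
    intro c
    rw [h1]
    rfl
  rw [key a, key a', h]

omit [QuasiCompact (Z.fromSpecStalk (genericPoint Z))]
  [QuasiSeparated (Z.fromSpecStalk (genericPoint Z))] in
theorem genericPoint_mem_basicOpen (U : Z.Opens) (hη : genericPoint Z ∈ U) (s : Γ(Z, U))
    (hs : s ≠ 0) : genericPoint Z ∈ Z.basicOpen s := by
  rw [Scheme.mem_basicOpen Z s (genericPoint Z) hη]
  have h1 : (Z.presheaf.germ U (genericPoint Z) hη).hom s ≠ 0 := by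
    intro h0
    apply hs
    apply germ_injective_of_isIntegral Z (genericPoint Z) hη
    rw [h0, map_zero]
  have hfield : IsField (Z.presheaf.stalk (genericPoint Z)) :=
    Field.toIsField Z.functionField
  let _ := hfield.toField
  exact isUnit_iff_ne_zero.mpr h1

/-- a finite normalization morphism of an integral scheme is an isomorphism over a nonempty
open -/
theorem exists_isIso_restrict [IsFinite (Z.fromSpecStalk (genericPoint Z)).fromNormalization] :
    ∃ W₀ : Z.Opens, genericPoint Z ∈ W₀ ∧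
      IsIso ((Z.fromSpecStalk (genericPoint Z)).fromNormalization ∣_ W₀) := by
  obtain ⟨_, ⟨U, hU, rfl⟩, hηU, -⟩ := Z.isBasis_affineOpens.exists_subset_of_mem_open
    (Set.mem_univ (genericPoint Z)) isOpen_univ
  change genericPoint Z ∈ U at hηU
  have hne : Nonempty U := ⟨⟨genericPoint Z, hηU⟩⟩
  have hfin : ((Z.fromSpecStalk (genericPoint Z)).fromNormalization.app U).hom.Finite :=
    IsFinite.finite_app _ U hU
  obtain ⟨s, hs0, hs⟩ := exists_common_denominator
    ((Z.fromSpecStalk (genericPoint Z)).fromNormalization.app U).hom hfin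
    (exists_denominator Z U hU hηU)
  have hηW : genericPoint Z ∈ Z.basicOpen s := genericPoint_mem_basicOpen Z U hηU s hs0
  have hWaff : IsAffineOpen (Z.basicOpen s) := hU.basicOpen s
  refine ⟨Z.basicOpen s, hηW, ?_⟩
  exact isIso_morphismRestrict_of_bijective_app _ _ hWaff
    ⟨fromNormalization_app_injective Z _ hηW, app_basicOpen_surjective _ U hU s hs⟩

end norm

section push

open BMCoh

variable {V : ObjectProperty Scheme.{u}} [IsConstructible V] {R : Type u} [CommRing R]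
  {A : Coefs R} (T : PreTheory V R A)

omit [IsConstructible V] in
theorem push_congr {X Y : Obj V} {f g : X.scheme ⟶ Y.scheme} [IsProper f] [IsProper g]
    (h : f = g) (M : A.Cat) (i n i' n' : ℤ) (hi : i' = i + 2 * relCodim X.scheme Y.scheme)
    (hn : n' = n + relCodim X.scheme Y.scheme) :
    T.push f M i n i' n' hi hn = T.push g M i n i' n' hi hn := by
  subst h
  rfl

omit [IsConstructible V] in
/-- push-forward along an isomorphism of schemes is bijective -/
theorem push_bijective_of_isIso {X Y : Obj V} (f : X.scheme ⟶ Y.scheme) [IsIso f] [IsProper f]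
    (M : A.Cat) (i n : ℤ) (hi : i = i + 2 * relCodim X.scheme Y.scheme)
    (hn : n = n + relCodim X.scheme Y.scheme) :
    Function.Bijective (T.push f M i n i n hi hn).hom := by
  have hrc : relCodim X.scheme Y.scheme = 0 := by omega
  have hrc' : relCodim Y.scheme X.scheme = 0 := by
    unfold relCodim at hrc ⊢
    omega
  have hXX : relCodim X.scheme X.scheme = 0 := by
    unfold relCodim
    ring
  have hYY : relCodim Y.scheme Y.scheme = 0 := by
    unfold relCodim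
    ring
  have hpg : IsProper (inv f) := inferInstance
  have h1 := T.push_comp f (inv f) M i n i n i n hi hn (by rw [hrc']; ring) (by rw [hrc']; ring)
    (by rw [hXX]; ring) (by rw [hXX]; ring)
  have h2 := T.push_comp (inv f) f M i n i n i n (by rw [hrc']; ring) (by rw [hrc']; ring) hi hn
    (by rw [hYY]; ring) (by rw [hYY]; ring)
  rw [push_congr T (IsIso.hom_inv_id f), T.push_id] at h1
  rw [push_congr T (IsIso.inv_hom_id f), T.push_id] at h2
  constructor
  · intro a a' h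
    have h3 : (T.push (inv f) M i n i n (by rw [hrc']; ring) (by rw [hrc']; ring)).hom
        ((T.push f M i n i n hi hn).hom a) = a := congrArg (fun g => g.hom a) h1
    have h4 : (T.push (inv f) M i n i n (by rw [hrc']; ring) (by rw [hrc']; ring)).hom
        ((T.push f M i n i n hi hn).hom a') = a' := congrArg (fun g => g.hom a') h1
    rw [← h3, ← h4, h]
  · intro b
    exact ⟨_, congrArg (fun g => g.hom b) h2⟩

end push

section bij

open BMCoh Groth.Agent.H79.BMCohDim Groth.Agent.H79.BMCohRes Groth.Agent.H79.BMCohFilt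
  Groth.Agent.H79.BMCohDecomp Groth.Agent.H79.BMCohPieces Groth.Agent.H79.BMCohGood

variable {V : ObjectProperty Scheme.{u}} [IsConstructible V] {R : Type u} [CommRing R]
  {A : Coefs R} (T : PreTheory V R A) {Y X : Obj V}
  (φ : Y.scheme ⟶ X.scheme) (y : Y.scheme) (w : X.scheme)
  (ψ : (Y.ptSub y).scheme ⟶ (X.ptSub w).scheme)

/-- the index of the closure of a point given by a nonempty open -/
noncomputable abbrev mkIdx (X : Obj V) (x : X.scheme) (W : (X.ptSub x).scheme.Opens)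
    (hW : (W : Set (X.ptSub x).scheme).Nonempty) : ptIdx X x :=
  ⟨W, hW, IsConstructible.dim_open (X.ptSub x).mem inferInstance _ hW⟩

include ψ in
theorem restrict_comp (hψ : ψ ≫ X.ptSubι w = Y.ptSubι y ≫ φ) (W' : (X.ptSub w).scheme.Opens) :
    (ψ ∣_ W') ≫ W'.ι ≫ X.ptSubι w = (ψ ⁻¹ᵁ W').ι ≫ Y.ptSubι y ≫ φ := by
  rw [← Category.assoc, morphismRestrict_ι, Category.assoc, hψ]

theorem map_generic (hψ : ψ ≫ X.ptSubι w = Y.ptSubι y ≫ φ) (hyx : φ y = w)
    (ηy : (Y.ptSub y).scheme) (hηy : Y.ptSubι y ηy = y) (ηw : (X.ptSub w).scheme)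
    (hηw : X.ptSubι w ηw = w) : ψ ηy = ηw := by
  have hψapp : X.ptSubι w (ψ ηy) = φ (Y.ptSubι y ηy) := by
    have := congrArg (fun g : (Y.ptSub y).scheme ⟶ X.scheme => g ηy) hψ
    exact this
  apply (X.ptSubι w).isClosedEmbedding.injective
  rw [hψapp, hηy, hηw, hyx]

theorem preimage_nonempty (hψ : ψ ≫ X.ptSubι w = Y.ptSubι y ≫ φ) (hyx : φ y = w)
    (W' : (X.ptSub w).scheme.Opens) (hW' : (W' : Set (X.ptSub w).scheme).Nonempty) :
    ((ψ ⁻¹ᵁ W' : (Y.ptSub y).scheme.Opens) : Set (Y.ptSub y).scheme).Nonempty := by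
  obtain ⟨ηy, hηy, hgeny⟩ := exists_generic Y y
  obtain ⟨ηw, hηw, hgenw⟩ := exists_generic X w
  refine ⟨ηy, ?_⟩
  change ψ ηy ∈ W'
  rw [map_generic φ y w ψ hψ hyx ηy hηy ηw hηw]
  exact generic_mem_of_nonempty X w W' hW' ηw hgenw

theorem relCodim_res_eq_zero (hcd : relCodim (Y.ptSub y).scheme (X.ptSub w).scheme = 0)
    (W : ptIdx Y y) (W' : ptIdx X w) :
    relCodim ((Y.ptSub y).res W.1).scheme ((X.ptSub w).res W'.1).scheme = 0 := by
  have h1 : WeilCoh.dim ((Y.ptSub y).res W.1).scheme = WeilCoh.dim (Y.ptSub y).scheme := W.2.2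
  have h2 : WeilCoh.dim ((X.ptSub w).res W'.1).scheme = WeilCoh.dim (X.ptSub w).scheme := W'.2.2
  unfold relCodim at hcd ⊢
  rw [h1, h2]
  exact hcd

variable [IsProper φ]

omit [IsProper φ] in
/-- if the morphism induced on reduced closures is an isomorphism over a nonempty open, the
push-forward of groups of points is surjective -/
theorem cpt_surjective (hψ : ψ ≫ X.ptSubι w = Y.ptSubι y ≫ φ)
    (W₀ : (X.ptSub w).scheme.Opens) (hW₀ : (W₀ : Set (X.ptSub w).scheme).Nonempty)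
    (hiso : IsIso (ψ ∣_ W₀)) (L : T.PtPush φ y w) (M : A.Cat) (i n : ℤ) :
    Function.Surjective (L.cpt M i n).hom := by
  intro β
  obtain ⟨W', b, rfl⟩ := exists_rep T (X.ptSub w)
    (fun U => (U : Set (X.ptSub w).scheme).Nonempty) i n M β
  have hne : ((W'.1 ⊓ W₀ : (X.ptSub w).scheme.Opens) : Set (X.ptSub w).scheme).Nonempty :=
    nonempty_preirreducible_inter W'.1.isOpen W₀.isOpen W'.2.1 hW₀
  obtain ⟨W'', hW''⟩ : ∃ W'' : ptIdx X w, W''.1 = W'.1 ⊓ W₀ := ⟨mkIdx X w (W'.1 ⊓ W₀) hne, rfl⟩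
  have hle : W''.1 ≤ W'.1 := hW''.le.trans inf_le_left
  have hle₀ : W''.1 ≤ W₀ := hW''.le.trans inf_le_right
  rw [ocolimι_le_apply T (X.ptSub w) _ i n M W'' W' hle (W''.2.2.trans W'.2.2.symm) b]
  obtain ⟨b'', hb''⟩ : ∃ b'', b'' =
    (T.pull ((X.ptSub w).resLE hle (W''.2.2.trans W'.2.2.symm)) M i n).hom b := ⟨_, rfl⟩
  rw [← hb'']
  have hnep := preimage_nonempty φ y w ψ hψ L.maps_pt W''.1 W''.2.1
  have hisof : IsIso (ψ ∣_ W''.1) := isIso_morphismRestrict_of_le ψ hle₀ hiso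
  have hrc := relCodim_res_eq_zero y w L.codim_eq (mkIdx Y y (ψ ⁻¹ᵁ W''.1) hnep) W''
  have hi' : i = i + 2 * relCodim ((Y.ptSub y).res (ψ ⁻¹ᵁ W''.1)).scheme
      ((X.ptSub w).res W''.1).scheme := by
    rw [hrc]
    ring
  have hn' : n = n + relCodim ((Y.ptSub y).res (ψ ⁻¹ᵁ W''.1)).scheme
      ((X.ptSub w).res W''.1).scheme := by
    rw [hrc]
    ring
  have hprop : IsProper (ψ ∣_ W''.1) := inferInstance
  have hspec := L.cpt_spec M i n (mkIdx Y y (ψ ⁻¹ᵁ W''.1) hnep) W'' (ψ ∣_ W''.1)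
    (restrict_comp φ y w ψ hψ W''.1) hi' hn'
  obtain ⟨a, ha⟩ := (push_bijective_of_isIso T (X := (Y.ptSub y).res (ψ ⁻¹ᵁ W''.1))
    (Y := (X.ptSub w).res W''.1) (ψ ∣_ W''.1) M i n hi' hn').2 b''
  refine ⟨((T.ptι Y y i n (mkIdx Y y (ψ ⁻¹ᵁ W''.1) hnep)).app M).hom a, ?_⟩
  have h2 := congrArg (fun g => g.hom a) hspec
  refine Eq.trans h2 ?_
  change ((T.ptι X w i n W'').app M).hom ((T.push (ψ ∣_ W''.1) M i n i n hi' hn').hom a) = _
  rw [ha]

/-- if the morphism induced on reduced closures is an isomorphism over a nonempty open, the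
push-forward of groups of points is injective -/
theorem cpt_injective (hψ : ψ ≫ X.ptSubι w = Y.ptSubι y ≫ φ)
    (W₀ : (X.ptSub w).scheme.Opens) (hW₀ : (W₀ : Set (X.ptSub w).scheme).Nonempty)
    (hiso : IsIso (ψ ∣_ W₀)) (L : T.PtPush φ y w) (M : A.Cat) (i n : ℤ) :
    Function.Injective (L.cpt M i n).hom := by
  rw [injective_iff_map_eq_zero]
  intro α hα
  obtain ⟨W, a, rfl⟩ := exists_rep T (Y.ptSub y)
    (fun U => (U : Set (Y.ptSub y).scheme).Nonempty) i n M α
  have hψp : IsProper ψ := by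
    have h1 : IsProper (ψ ≫ X.ptSubι w) := by
      rw [hψ]
      infer_instance
    exact IsProper.of_comp ψ (X.ptSubι w)
  obtain ⟨ηy, hηy, hgeny⟩ := exists_generic Y y
  obtain ⟨ηw, hηw, hgenw⟩ := exists_generic X w
  have hψη : ψ ηy = ηw := map_generic φ y w ψ hψ L.maps_pt ηy hηy ηw hηw
  have hηwW₀ : ηw ∈ W₀ := generic_mem_of_nonempty X w W₀ hW₀ ηw hgenw
  have hηyW : ηy ∈ W.1 := generic_mem_of_nonempty Y y W.1 W.2.1 ηy hgeny
  -- injectivity of ψ over W₀
  have hinj : ∀ z z' : (Y.ptSub y).scheme, ψ z ∈ W₀ → ψ z = ψ z' → z = z' := by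
    intro z z' hz hzz'
    have hbij : Function.Bijective (ψ ∣_ W₀) :=
      (TopCat.homeoOfIso (asIso (ψ ∣_ W₀).base)).bijective
    have hz' : ψ z' ∈ W₀ := hzz' ▸ hz
    have hzp : z ∈ ψ ⁻¹ᵁ W₀ := hz
    have hzp' : z' ∈ ψ ⁻¹ᵁ W₀ := hz'
    have h1 : (ψ ∣_ W₀) ⟨z, hzp⟩ = (ψ ∣_ W₀) ⟨z', hzp'⟩ :=
      Subtype.ext ((morphismRestrict_base_coe ψ W₀ ⟨z, hzp⟩).trans
        (hzz'.trans (morphismRestrict_base_coe ψ W₀ ⟨z', hzp'⟩).symm))
    exact congrArg Subtype.val (hbij.1 h1)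
  have hCcl : IsClosed (ψ '' ((W.1 : Set (Y.ptSub y).scheme)ᶜ)) :=
    ψ.isClosedMap _ W.1.isOpen.isClosed_compl
  have hηwC : ηw ∉ ψ '' ((W.1 : Set (Y.ptSub y).scheme)ᶜ) := by
    rintro ⟨z, hzW, hz⟩
    have h1 : z = ηy := hinj z ηy (by rw [hz]; exact hηwW₀) (hz.trans hψη.symm)
    rw [h1] at hzW
    exact hzW hηyW
  let Cc : (X.ptSub w).scheme.Opens :=
    ⟨(ψ '' ((W.1 : Set (Y.ptSub y).scheme)ᶜ))ᶜ, hCcl.isOpen_compl⟩
  have hne₁ : ((W₀ ⊓ Cc : (X.ptSub w).scheme.Opens) : Set (X.ptSub w).scheme).Nonempty :=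
    ⟨ηw, hηwW₀, hηwC⟩
  obtain ⟨W'₁, hW'₁⟩ : ∃ W'₁ : ptIdx X w, W'₁.1 = W₀ ⊓ Cc := ⟨mkIdx X w (W₀ ⊓ Cc) hne₁, rfl⟩
  have hle₀ : W'₁.1 ≤ W₀ := hW'₁.le.trans inf_le_left
  have hleW : ψ ⁻¹ᵁ W'₁.1 ≤ W.1 := by
    intro z hz
    have hz2 : ψ z ∈ Cc := (hW'₁.le hz).2
    by_contra hzW
    exact hz2 ⟨z, hzW, rfl⟩
  have hnep₁ := preimage_nonempty φ y w ψ hψ L.maps_pt W'₁.1 W'₁.2.1
  rw [ocolimι_le_apply T (Y.ptSub y) _ i n M (mkIdx Y y (ψ ⁻¹ᵁ W'₁.1) hnep₁) W hleW
    ((mkIdx Y y (ψ ⁻¹ᵁ W'₁.1) hnep₁).2.2.trans W.2.2.symm) a] at hα ⊢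
  obtain ⟨a₁, ha₁⟩ : ∃ a₁, a₁ = (T.pull ((Y.ptSub y).resLE hleW
    ((mkIdx Y y (ψ ⁻¹ᵁ W'₁.1) hnep₁).2.2.trans W.2.2.symm)) M i n).hom a := ⟨_, rfl⟩
  rw [← ha₁] at hα ⊢
  have hisof₁ : IsIso (ψ ∣_ W'₁.1) := isIso_morphismRestrict_of_le ψ hle₀ hiso
  have hrc₁ := relCodim_res_eq_zero y w L.codim_eq (mkIdx Y y (ψ ⁻¹ᵁ W'₁.1) hnep₁) W'₁
  have hi₁ : i = i + 2 * relCodim ((Y.ptSub y).res (ψ ⁻¹ᵁ W'₁.1)).scheme
      ((X.ptSub w).res W'₁.1).scheme := by
    rw [hrc₁]
    ring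
  have hn₁ : n = n + relCodim ((Y.ptSub y).res (ψ ⁻¹ᵁ W'₁.1)).scheme
      ((X.ptSub w).res W'₁.1).scheme := by
    rw [hrc₁]
    ring
  have hspec₁ := L.cpt_spec M i n (mkIdx Y y (ψ ⁻¹ᵁ W'₁.1) hnep₁) W'₁ (ψ ∣_ W'₁.1)
    (restrict_comp φ y w ψ hψ W'₁.1) hi₁ hn₁
  have h2 := congrArg (fun g => g.hom a₁) hspec₁
  have h3 : ((T.ptι X w i n W'₁).app M).hom
      ((T.push (ψ ∣_ W'₁.1) M i n i n hi₁ hn₁).hom a₁) = 0 := h2.symm.trans hα
  obtain ⟨W'₂, hle₂, h4⟩ := rep_eq_zero T (X.ptSub w)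
    (fun U => (U : Set (X.ptSub w).scheme).Nonempty) i n M W'₁ _ h3
  have hle₂' : W'₂.1 ≤ W'₁.1 := hle₂
  have hpre₂ : ψ ⁻¹ᵁ W'₂.1 ≤ ψ ⁻¹ᵁ W'₁.1 := ψ.preimage_mono hle₂'
  have hnep₂ := preimage_nonempty φ y w ψ hψ L.maps_pt W'₂.1 W'₂.2.1
  have hisof₂ : IsIso (ψ ∣_ W'₂.1) := isIso_morphismRestrict_of_le ψ (hle₂'.trans hle₀) hiso
  have hrc₂ := relCodim_res_eq_zero y w L.codim_eq (mkIdx Y y (ψ ⁻¹ᵁ W'₂.1) hnep₂) W'₂
  have hi₂ : i = i + 2 * relCodim ((Y.ptSub y).res (ψ ⁻¹ᵁ W'₂.1)).scheme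
      ((X.ptSub w).res W'₂.1).scheme := by
    rw [hrc₂]
    ring
  have hn₂ : n = n + relCodim ((Y.ptSub y).res (ψ ⁻¹ᵁ W'₂.1)).scheme
      ((X.ptSub w).res W'₂.1).scheme := by
    rw [hrc₂]
    ring
  have hd₂ : WeilCoh.dim ((ψ ⁻¹ᵁ W'₂.1 : (Y.ptSub y).scheme.Opens) : Scheme.{u}) =
      WeilCoh.dim ((ψ ⁻¹ᵁ W'₁.1 : (Y.ptSub y).scheme.Opens) : Scheme.{u}) :=
    (mkIdx Y y (ψ ⁻¹ᵁ W'₂.1) hnep₂).2.2.trans (mkIdx Y y (ψ ⁻¹ᵁ W'₁.1) hnep₁).2.2.symm
  have hprop₁ : IsProper (ψ ∣_ W'₁.1) := inferInstance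
  have hprop₂ : IsProper (ψ ∣_ W'₂.1) := inferInstance
  have hpp := T.push_pull (X := (Y.ptSub y).res (ψ ⁻¹ᵁ W'₁.1)) (Y := (X.ptSub w).res W'₁.1)
    (X' := (Y.ptSub y).res (ψ ⁻¹ᵁ W'₂.1)) (Y' := (X.ptSub w).res W'₂.1)
    (ψ ∣_ W'₁.1) (ψ ∣_ W'₂.1)
    ((X.ptSub w).resLE hle₂' (W'₂.2.2.trans W'₁.2.2.symm))
    ((Y.ptSub y).resLE hpre₂ hd₂)
    (Groth.Agent.H79.BMCohBij.isPullback_restrict_le ψ hle₂' hpre₂) M i n i n hi₁ hn₁ hi₂ hn₂
  have hpp2 := congrArg (fun g => g.hom a₁) hpp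
  have h5 : (T.push (X := (Y.ptSub y).res (ψ ⁻¹ᵁ W'₂.1)) (Y := (X.ptSub w).res W'₂.1)
      (ψ ∣_ W'₂.1) M i n i n hi₂ hn₂).hom
      ((T.pull ((Y.ptSub y).resLE hpre₂ hd₂) M i n).hom a₁) = 0 := hpp2.symm.trans h4
  have h6 : (T.pull ((Y.ptSub y).resLE hpre₂ hd₂) M i n).hom a₁ = 0 := by
    apply (push_bijective_of_isIso T (X := (Y.ptSub y).res (ψ ⁻¹ᵁ W'₂.1))
      (Y := (X.ptSub w).res W'₂.1) (ψ ∣_ W'₂.1) M i n hi₂ hn₂).1
    rw [h5, map_zero]
  rw [ocolimι_le_apply T (Y.ptSub y) _ i n M (mkIdx Y y (ψ ⁻¹ᵁ W'₂.1) hnep₂)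
    (mkIdx Y y (ψ ⁻¹ᵁ W'₁.1) hnep₁) hpre₂ hd₂ a₁]
  refine Eq.trans (congrArg _ h6) ?_
  exact map_zero _

end bij

section main

open BMCoh Groth.Agent.H79.BMCohDim

variable {V : ObjectProperty Scheme.{u}} [IsConstructible V] {R : Type u} [CommRing R]
  {A : Coefs R} (T : PreTheory V R A)

/-- the reduced closure of the generic point of an integral object is the whole object -/
theorem isIso_ptSubι_genericPoint (Y : Obj V) [IsIntegral Y.scheme] :
    IsIso (Y.ptSubι (genericPoint Y.scheme)) := by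
  have hs : Surjective (Y.ptSubι (genericPoint Y.scheme)) := by
    refine ⟨fun z => ?_⟩
    have h1 : z ∈ Set.range (Y.ptSubι (genericPoint Y.scheme)) := by
      rw [range_ptSubι, (genericPoint_spec Y.scheme).def]
      trivial
    exact h1
  exact isIso_of_isClosedImmersion_of_surjective _

/-- the push-forward of groups of points along the normalisation of the closure of a point is
bijective -/
theorem ptPush_cpt_bijective_normalization (X : Obj V) (w : X.scheme)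
    [IsIntegral (X.ptSub w).scheme]
    [QuasiCompact ((X.ptSub w).scheme.fromSpecStalk (genericPoint (X.ptSub w).scheme))]
    [QuasiSeparated ((X.ptSub w).scheme.fromSpecStalk (genericPoint (X.ptSub w).scheme))]
    (Y : Obj V) [IsIntegral Y.scheme]
    (e : Y.scheme ≅ ((X.ptSub w).scheme.fromSpecStalk
      (genericPoint (X.ptSub w).scheme)).normalization)
    (φ : Y.scheme ⟶ X.scheme) [IsProper φ]
    (hφ : φ = e.hom ≫ ((X.ptSub w).scheme.fromSpecStalk
      (genericPoint (X.ptSub w).scheme)).fromNormalization ≫ X.ptSubι w)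
    (L : T.PtPush φ (genericPoint Y.scheme) w) (M : A.Cat) (i n : ℤ) :
    Function.Bijective (L.cpt M i n).hom := by
  have hpr : IsProper (((X.ptSub w).scheme.fromSpecStalk
      (genericPoint (X.ptSub w).scheme)).fromNormalization ≫ X.ptSubι w) := by
    have h1 : ((X.ptSub w).scheme.fromSpecStalk
        (genericPoint (X.ptSub w).scheme)).fromNormalization ≫ X.ptSubι w = e.inv ≫ φ := by
      rw [hφ, Iso.inv_hom_id_assoc]
    rw [h1]
    infer_instance
  have hνp : IsProper ((X.ptSub w).scheme.fromSpecStalk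
      (genericPoint (X.ptSub w).scheme)).fromNormalization :=
    IsProper.of_comp _ (X.ptSubι w)
  have hνf : IsFinite ((X.ptSub w).scheme.fromSpecStalk
      (genericPoint (X.ptSub w).scheme)).fromNormalization :=
    (IsFinite.iff_isIntegralHom_and_locallyOfFiniteType _).mpr ⟨inferInstance, inferInstance⟩
  obtain ⟨W₀, hηW₀, hiso⟩ := exists_isIso_restrict (X.ptSub w).scheme
  have hιy : IsIso (Y.ptSubι (genericPoint Y.scheme)) := isIso_ptSubι_genericPoint Y
  have hψ : ((Y.ptSubι (genericPoint Y.scheme) ≫ e.hom) ≫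
      ((X.ptSub w).scheme.fromSpecStalk
        (genericPoint (X.ptSub w).scheme)).fromNormalization) ≫ X.ptSubι w =
      Y.ptSubι (genericPoint Y.scheme) ≫ φ := by
    rw [hφ, Category.assoc, Category.assoc]
  have hisoψ : IsIso (((Y.ptSubι (genericPoint Y.scheme) ≫ e.hom) ≫
      ((X.ptSub w).scheme.fromSpecStalk
        (genericPoint (X.ptSub w).scheme)).fromNormalization) ∣_ W₀) := by
    rw [morphismRestrict_comp]
    have h1 : IsIso (Y.ptSubι (genericPoint Y.scheme) ≫ e.hom) := inferInstance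
    have h2 : IsIso ((Y.ptSubι (genericPoint Y.scheme) ≫ e.hom) ∣_
        (((X.ptSub w).scheme.fromSpecStalk
          (genericPoint (X.ptSub w).scheme)).fromNormalization ⁻¹ᵁ W₀)) := inferInstance
    exact @IsIso.comp_isIso _ _ _ _ _ _ _ h2 hiso
  exact ⟨cpt_injective T φ _ w _ hψ W₀ ⟨_, hηW₀⟩ hisoψ L M i n,
    cpt_surjective T φ _ w _ hψ W₀ ⟨_, hηW₀⟩ hisoψ L M i n⟩

end main

end Groth.Agent.H79.BMCohNorm
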