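import Groth.Agent.H79.BMCohSeqMid

set_option autoImplicit false
universe u
open CategoryTheory AlgebraicGeometry Opposite CategoryTheory.Limits TopologicalSpace

namespace Groth.Agent.H79.BMCohSeqMid2

open BMCoh Groth.Agent.H79.BMCohDim Groth.Agent.H79.BMCohRes Groth.Agent.H79.BMCohFilt
  Groth.Agent.H79.BMCohDecomp Groth.Agent.H79.BMCohGeo Groth.Agent.H79.BMCohPieces
  Groth.Agent.H79.BMCohGood Groth.Agent.H79.BMCohSeqRes Groth.Agent.H79.BMCohSeqPush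
  Groth.Agent.H79.BMCohSeqMid

variable {V : ObjectProperty Scheme.{u}} [IsConstructible V] {R : Type u} [CommRing R]
  {A : Coefs R} (T : PreTheory V R A) {X : Obj V} {j : ℕ}

/-- the open complement of the closures of finitely many points -/
def supportOpen (F : Finset (X.cdPt (j + 1))) : X.scheme.Opens :=
  ⟨(⋃ x ∈ F, closure ({x.1} : Set X.scheme))ᶜ,
    (F.finite_toSet.isClosed_biUnion (fun _ _ => isClosed_closure)).isOpen_compl⟩

omit [IsConstructible V] in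
theorem mem_supportOpen (F : Finset (X.cdPt (j + 1))) (y : X.scheme) :
    y ∈ supportOpen F ↔ ∀ x ∈ F, y ∉ closure ({x.1} : Set X.scheme) := by
  change y ∈ (⋃ x ∈ F, closure ({x.1} : Set X.scheme))ᶜ ↔ _
  simp only [Set.mem_compl_iff, Set.mem_iUnion, not_exists]

theorem containsFj_supportOpen (F : Finset (X.cdPt (j + 1))) :
    ContainsFj X j (supportOpen F) := by
  intro y hy
  rw [mem_supportOpen]
  intro x _ hycl
  have h3 : WeilCoh.codim X.scheme x.1 = j + 1 := x.2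
  by_cases hyx : y = x.1
  · rw [hyx] at hy
    omega
  · have := codim_lt_of_mem_closure X x.1 y hycl hyx
    omega

theorem not_mem_supportOpen_iff (F : Finset (X.cdPt (j + 1))) (x : X.cdPt (j + 1)) :
    x.1 ∉ supportOpen F ↔ x ∈ F := by
  rw [mem_supportOpen]
  constructor
  · intro hx
    by_contra hxF
    apply hx
    intro y hy hxy
    have hne : x.1 ≠ y.1 := by
      intro heq
      apply hxF
      have : x = y := Subtype.ext heq
      rw [this]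
      exact hy
    have h1 := codim_lt_of_mem_closure X y.1 x.1 hxy hne
    have h2 : WeilCoh.codim X.scheme x.1 = j + 1 := x.2
    have h3 : WeilCoh.codim X.scheme y.1 = j + 1 := y.2
    omega
  · intro hxF hx
    exact hx x hxF (subset_closure rfl)

/-- the open on which given traces of the closures of finitely many points are attained -/
def traceOpen (F : Finset (X.cdPt (j + 1))) (W : ∀ x : X.cdPt (j + 1), ptIdx X x.1) :
    X.scheme.Opens :=
  ⟨⋂ x ∈ F, (complOpen X x.1 (W x).1 : Set X.scheme),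
    isOpen_biInter_finset (fun x _ => (complOpen X x.1 (W x).1).isOpen)⟩

theorem mem_traceOpen (F : Finset (X.cdPt (j + 1))) (W : ∀ x : X.cdPt (j + 1), ptIdx X x.1)
    (y : X.scheme) : y ∈ traceOpen F W ↔ ∀ x ∈ F, y ∈ complOpen X x.1 (W x).1 := by
  change y ∈ ⋂ x ∈ F, (complOpen X x.1 (W x).1 : Set X.scheme) ↔ _
  simp only [Set.mem_iInter, SetLike.mem_coe]

theorem containsFj_traceOpen (F : Finset (X.cdPt (j + 1)))
    (W : ∀ x : X.cdPt (j + 1), ptIdx X x.1) : ContainsFj X (j + 1) (traceOpen F W) := by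
  intro y hy
  rw [mem_traceOpen]
  intro x _
  apply complOpen_containsFj X x.1 (W x).1 (W x).2.1 y
  have : WeilCoh.codim X.scheme x.1 = j + 1 := x.2
  omega

theorem preimage_le_of_le_traceOpen (F : Finset (X.cdPt (j + 1)))
    (W : ∀ x : X.cdPt (j + 1), ptIdx X x.1) (Y : X.scheme.Opens) (hY : Y ≤ traceOpen F W)
    (x : X.cdPt (j + 1)) (hx : x ∈ F) : (X.ptSubι x.1) ⁻¹ᵁ Y ≤ (W x).1 := by
  intro z hz
  have h1 : X.ptSubι x.1 z ∈ traceOpen F W := hY hz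
  rw [mem_traceOpen] at h1
  have h2 := h1 x hx
  rw [mem_complOpen_iff] at h2
  exact h2 z rfl

/-- the push-forward of a point class represented on a trace `W`, through an open `Y`
containing `F_{j+1}` whose trace is inside `W` -/
theorem cpt_ptι_eq (P : T.PushData X (j + 1)) (x : X.cdPt (j + 1)) (W : ptIdx X x.1)
    (M : A.Cat) (i' n' k n : ℤ) (hi2 : k = i' + 2 * ((j + 1 : ℕ) : ℤ))
    (hn2 : n = n' + ((j + 1 : ℕ) : ℤ)) (b : T.gp ((X.ptSub x.1).res W.1) M i' n')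
    (Y : X.scheme.Opens) (hY : ContainsFj X (j + 1) Y) (hpre : (X.ptSubι x.1) ⁻¹ᵁ Y ≤ W.1)
    (hi' : k = i' + 2 * relCodim ((X.ptSub x.1).res ((X.ptSubι x.1) ⁻¹ᵁ Y)).scheme
      (X.res Y).scheme)
    (hn' : n = n' + relCodim ((X.ptSub x.1).res ((X.ptSubι x.1) ⁻¹ᵁ Y)).scheme
      (X.res Y).scheme) :
    (P.cpt x M i' n' k n hi2 hn2).hom (((T.ptι X x.1 i' n' W).app M).hom b) =
      ((T.fjι X (j + 1) k n (fjMk X (j + 1) Y hY)).app M).hom
        ((T.push (X := (X.ptSub x.1).res ((X.ptSubι x.1) ⁻¹ᵁ Y)) (Y := X.res Y)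
          (X.ptSubι x.1 ∣_ Y) M i' n' k n hi' hn').hom
          ((T.pull ((X.ptSub x.1).resLE hpre
            ((ptPre X x.1 Y (mem_of_cdPt X (j + 1) x Y hY)).2.2.trans W.2.2.symm))
              M i' n').hom b)) := by
  rw [ocolimι_le_apply T (X.ptSub x.1) _ i' n' M (ptPre X x.1 Y (mem_of_cdPt X (j + 1) x Y hY))
    W hpre ((ptPre X x.1 Y (mem_of_cdPt X (j + 1) x Y hY)).2.2.trans W.2.2.symm) b]
  exact push_formula T P x M i' n' k n hi2 hn2 Y hY hi' hn' _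

/-- restricting the push-forward of a represented point class to a smaller open -/
theorem pull_pushPt (x : X.scheme) (W : ptIdx X x) (M : A.Cat) (i' n' k n : ℤ)
    (b : T.gp ((X.ptSub x).res W.1) M i' n') (Y Y' : X.scheme.Opens) (hle : Y' ≤ Y)
    (hd : WeilCoh.dim (Y' : Scheme.{u}) = WeilCoh.dim (Y : Scheme.{u})) (hx : x ∈ Y')
    (hpre : (X.ptSubι x) ⁻¹ᵁ Y ≤ W.1) (hpre' : (X.ptSubι x) ⁻¹ᵁ Y' ≤ W.1)
    (hi2 : k = i' + 2 * relCodim ((X.ptSub x).res ((X.ptSubι x) ⁻¹ᵁ Y)).scheme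
      (X.res Y).scheme)
    (hn2 : n = n' + relCodim ((X.ptSub x).res ((X.ptSubι x) ⁻¹ᵁ Y)).scheme (X.res Y).scheme)
    (hi3 : k = i' + 2 * relCodim ((X.ptSub x).res ((X.ptSubι x) ⁻¹ᵁ Y')).scheme
      (X.res Y').scheme)
    (hn3 : n = n' + relCodim ((X.ptSub x).res ((X.ptSubι x) ⁻¹ᵁ Y')).scheme
      (X.res Y').scheme) :
    (T.pull (X.resLE hle hd) M k n).hom
      ((T.push (X := (X.ptSub x).res ((X.ptSubι x) ⁻¹ᵁ Y)) (Y := X.res Y)
        (X.ptSubι x ∣_ Y) M i' n' k n hi2 hn2).hom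
        ((T.pull ((X.ptSub x).resLE hpre
          ((ptPre X x Y (hle hx)).2.2.trans W.2.2.symm)) M i' n').hom b)) =
    (T.push (X := (X.ptSub x).res ((X.ptSubι x) ⁻¹ᵁ Y')) (Y := X.res Y')
        (X.ptSubι x ∣_ Y') M i' n' k n hi3 hn3).hom
      ((T.pull ((X.ptSub x).resLE hpre'
        ((ptPre X x Y' hx).2.2.trans W.2.2.symm)) M i' n').hom b) := by
  have hpp : (X.ptSubι x) ⁻¹ᵁ Y' ≤ (X.ptSubι x) ⁻¹ᵁ Y := fun z hz => hle hz
  rw [pull_push_restrict T x Y Y' hle hd hx M i' n' k n hi2 hn2 hi3 hn3 hpp, ← pull_comp_apply]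
  have hfac : (X.ptSub x).resLE hpp
      ((ptPre X x Y' hx).2.2.trans (ptPre X x Y (hle hx)).2.2.symm) ≫
      (X.ptSub x).resLE hpre ((ptPre X x Y (hle hx)).2.2.trans W.2.2.symm) =
      (X.ptSub x).resLE hpre' ((ptPre X x Y' hx).2.2.trans W.2.2.symm) :=
    Hom.ext (Scheme.homOfLE_homOfLE (X.ptSub x).scheme hpp hpre)
  rw [hfac]

/-- a family of point classes killed by the total push-forward is a total residue -/
theorem exists_tot_eq (Q : T.ResData X j) (P : T.PushData X (j + 1)) (M : A.Cat)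
    (i n i' n' : ℤ) (hi : i' = i + 1 - 2 * ((j : ℤ) + 1)) (hn : n' = n - ((j : ℤ) + 1))
    (hi2 : i + 1 = i' + 2 * ((j + 1 : ℕ) : ℤ)) (hn2 : n = n' + ((j + 1 : ℕ) : ℤ))
    (s : T.ptSum X (j + 1) M i' n') (hs : (P.tot M i' n' (i + 1) n hi2 hn2).hom s = 0) :
    ∃ γ : T.fjGp X j M i n, (Q.tot M i n i' n' hi hn).hom γ = s := by
  classical
  have hrep : ∀ x : X.cdPt (j + 1), ∃ (W : ptIdx X x.1)
      (b : T.gp ((X.ptSub x.1).res W.1) M i' n'),
      ((T.ptι X x.1 i' n' W).app M).hom b =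
        (s : Π₀ y : X.cdPt (j + 1), T.ptGp X y.1 M i' n') x :=
    fun x => exists_rep T (X.ptSub x.1) _ i' n' M _
  choose W b hb using hrep
  set F : Finset (X.cdPt (j + 1)) :=
    DFinsupp.support (s : Π₀ y : X.cdPt (j + 1), T.ptGp X y.1 M i' n') with hFdef
  by_cases hF0 : F = ∅
  · have hs0 : s = 0 := DFinsupp.support_eq_empty.mp hF0
    exact ⟨0, by rw [map_zero, hs0]⟩
  have hFne : F.Nonempty := Finset.nonempty_iff_ne_empty.mpr hF0
  obtain ⟨X₁, h₁⟩ := exists_goodPair X j (supportOpen F) (containsFj_supportOpen F)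
  have hX₂ : ContainsFj X (j + 1) (X₁ ⊓ traceOpen F W) :=
    containsFj_inf X (j + 1) _ _ h₁.hX₁ (containsFj_traceOpen F W)
  have hdimX₂ := dim_of_containsFj X (j + 1) _ hX₂
  have hpre₂ : ∀ x ∈ F, (X.ptSubι x.1) ⁻¹ᵁ (X₁ ⊓ traceOpen F W) ≤ (W x).1 :=
    fun x hx => preimage_le_of_le_traceOpen F W _ inf_le_right x hx
  have hrc₂ : ∀ x : X.cdPt (j + 1),
      relCodim ((X.ptSub x.1).res ((X.ptSubι x.1) ⁻¹ᵁ (X₁ ⊓ traceOpen F W))).scheme
        (X.res (X₁ ⊓ traceOpen F W)).scheme = ((j + 1 : ℕ) : ℤ) :=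
    fun x => relCodim_eq X (j + 1) x (ptPre X x.1 _ (mem_of_cdPt X (j + 1) x _ hX₂)) _ hdimX₂
  have hi₂ : ∀ x : X.cdPt (j + 1), i + 1 = i' + 2 *
      relCodim ((X.ptSub x.1).res ((X.ptSubι x.1) ⁻¹ᵁ (X₁ ⊓ traceOpen F W))).scheme
        (X.res (X₁ ⊓ traceOpen F W)).scheme := fun x => by
    rw [hrc₂ x]
    exact hi2
  have hn₂ : ∀ x : X.cdPt (j + 1), n = n' +
      relCodim ((X.ptSub x.1).res ((X.ptSubι x.1) ⁻¹ᵁ (X₁ ⊓ traceOpen F W))).scheme
        (X.res (X₁ ⊓ traceOpen F W)).scheme := fun x => by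
    rw [hrc₂ x]
    exact hn2
  -- the total push-forward as a class on `X₂`
  have hsum : s = ∑ x ∈ F, DirectSum.lof R (X.cdPt (j + 1))
      (fun y : X.cdPt (j + 1) => T.ptGp X y.1 M i' n') x
      ((s : Π₀ y : X.cdPt (j + 1), T.ptGp X y.1 M i' n') x) :=
    (DirectSum.sum_support_of (β := fun y : X.cdPt (j + 1) => T.ptGp X y.1 M i' n') s).symm
  have htot : (P.tot M i' n' (i + 1) n hi2 hn2).hom s =
      ((T.fjι X (j + 1) (i + 1) n (fjMk X (j + 1) _ hX₂)).app M).hom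
        (∑ x ∈ F.attach,
          (T.push (X := (X.ptSub x.1.1).res ((X.ptSubι x.1.1) ⁻¹ᵁ (X₁ ⊓ traceOpen F W)))
            (Y := X.res (X₁ ⊓ traceOpen F W)) (X.ptSubι x.1.1 ∣_ (X₁ ⊓ traceOpen F W)) M i' n'
              (i + 1) n (hi₂ x.1) (hn₂ x.1)).hom
            ((T.pull ((X.ptSub x.1.1).resLE (hpre₂ x.1 x.2)
              ((ptPre X x.1.1 _ (mem_of_cdPt X (j + 1) x.1 _ hX₂)).2.2.trans
                (W x.1).2.2.symm)) M i' n').hom (b x.1))) := by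
    rw [map_sum]
    conv_lhs => rw [hsum]
    rw [map_sum, ← Finset.sum_attach]
    apply Finset.sum_congr rfl
    intro x _
    rw [PreTheory.PushData.tot_lof, ← hb x.1]
    exact cpt_ptι_eq T P x.1 (W x.1) M i' n' (i + 1) n hi2 hn2 (b x.1) _ hX₂ (hpre₂ x.1 x.2)
      (hi₂ x.1) (hn₂ x.1)
  rw [htot] at hs
  obtain ⟨Y₃, hle₃, hY₃⟩ := rep_eq_zero T X (ContainsFj X (j + 1)) (i + 1) n M
    (fjMk X (j + 1) _ hX₂) _ hs
  obtain ⟨X₃, hX₃, hdX₃⟩ := Y₃
  have hle₃' : X₃ ≤ X₁ ⊓ traceOpen F W := hle₃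
  have hpre₃ : ∀ x ∈ F, (X.ptSubι x.1) ⁻¹ᵁ X₃ ≤ (W x).1 :=
    fun x hx => preimage_le_of_le_traceOpen F W _ (hle₃'.trans inf_le_right) x hx
  have hrc₃ : ∀ x : X.cdPt (j + 1),
      relCodim ((X.ptSub x.1).res ((X.ptSubι x.1) ⁻¹ᵁ X₃)).scheme
        (X.res X₃).scheme = ((j + 1 : ℕ) : ℤ) :=
    fun x => relCodim_eq X (j + 1) x (ptPre X x.1 _ (mem_of_cdPt X (j + 1) x _ hX₃)) _ hdX₃
  have hi₃ : ∀ x : X.cdPt (j + 1), i + 1 = i' + 2 *
      relCodim ((X.ptSub x.1).res ((X.ptSubι x.1) ⁻¹ᵁ X₃)).scheme (X.res X₃).scheme :=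
    fun x => by
      rw [hrc₃ x]
      exact hi2
  have hn₃ : ∀ x : X.cdPt (j + 1), n = n' +
      relCodim ((X.ptSub x.1).res ((X.ptSubι x.1) ⁻¹ᵁ X₃)).scheme (X.res X₃).scheme :=
    fun x => by
      rw [hrc₃ x]
      exact hn2
  -- the class vanishes on `X₃`
  have hP₃ : (∑ x ∈ F.attach,
      (T.push (X := (X.ptSub x.1.1).res ((X.ptSubι x.1.1) ⁻¹ᵁ X₃))
        (Y := X.res X₃) (X.ptSubι x.1.1 ∣_ X₃) M i' n' (i + 1) n (hi₃ x.1) (hn₃ x.1)).hom
        ((T.pull ((X.ptSub x.1.1).resLE (hpre₃ x.1 x.2)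
          ((ptPre X x.1.1 _ (mem_of_cdPt X (j + 1) x.1 _ hX₃)).2.2.trans
            (W x.1).2.2.symm)) M i' n').hom (b x.1))) = 0 := by
    have hY₃' : (T.pull (X.resLE hle₃' (hdX₃.trans hdimX₂.symm)) M (i + 1) n).hom
        (∑ x ∈ F.attach,
          (T.push (X := (X.ptSub x.1.1).res ((X.ptSubι x.1.1) ⁻¹ᵁ (X₁ ⊓ traceOpen F W)))
            (Y := X.res (X₁ ⊓ traceOpen F W)) (X.ptSubι x.1.1 ∣_ (X₁ ⊓ traceOpen F W)) M i' n'
              (i + 1) n (hi₂ x.1) (hn₂ x.1)).hom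
            ((T.pull ((X.ptSub x.1.1).resLE (hpre₂ x.1 x.2)
              ((ptPre X x.1.1 _ (mem_of_cdPt X (j + 1) x.1 _ hX₂)).2.2.trans
                (W x.1).2.2.symm)) M i' n').hom (b x.1))) = 0 := hY₃
    rw [map_sum] at hY₃'
    refine Eq.trans ?_ hY₃'
    apply Finset.sum_congr rfl
    intro x _
    exact (pull_pushPt T x.1.1 (W x.1) M i' n' (i + 1) n (b x.1) _ X₃ hle₃'
      (hdX₃.trans hdimX₂.symm) (mem_of_cdPt X (j + 1) x.1 _ hX₃) (hpre₂ x.1 x.2)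
      (hpre₃ x.1 x.2) (hi₂ x.1) (hn₂ x.1) (hi₃ x.1) (hn₃ x.1)).symm
  -- the good pair on `X₃`
  have h₃ := h₁.shrink X₃ (hle₃'.trans inf_le_left) hX₃
  have hout : ∀ x : X.cdPt (j + 1), x.1 ∉ supportOpen F ⊓ X₃ ↔ x ∈ F := by
    intro x
    rw [← not_mem_supportOpen_iff F x]
    constructor
    · intro hx hx'
      exact hx ⟨hx', mem_of_cdPt X (j + 1) x X₃ hX₃⟩
    · intro hx hx'
      exact hx hx'.1
  have hfin := finite_outPts X j _ h₃.hU
  have hft : Fintype (outPts X j (supportOpen F ⊓ X₃)) := Fintype.ofFinite _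
  have hne : Nonempty (outPts X j (supportOpen F ⊓ X₃)) := by
    obtain ⟨x, hx⟩ := hFne
    exact ⟨⟨x, (hout x).mpr hx⟩⟩
  have x₀ : outPts X j (supportOpen F ⊓ X₃) := Classical.arbitrary _
  have hcod := gDecomp_codim h₃ x₀
  have hiD : i' = i + 1 - 2 * (gDecomp (supportOpen F ⊓ X₃) X₃ h₃.hle (dim_U_eq h₃)).codim := by
    rw [hcod]
    push_cast
    exact hi
  have hnD : n' = n - (gDecomp (supportOpen F ⊓ X₃) X₃ h₃.hle (dim_U_eq h₃)).codim := by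
    rw [hcod]
    push_cast
    exact hn
  have hrc0 : ∀ x : outPts X j (supportOpen F ⊓ X₃),
      relCodim ((X.ptSub x.1.1).res ((X.ptSubι x.1.1) ⁻¹ᵁ X₃)).scheme
        (cmplObj (X := X) (supportOpen F ⊓ X₃) X₃).scheme = 0 :=
    fun x => Groth.Agent.H79.relCodim_eq_zero (pieceObjHom h₃ x)
  have hi0 : ∀ x : outPts X j (supportOpen F ⊓ X₃), i' = i' + 2 *
      relCodim ((X.ptSub x.1.1).res ((X.ptSubι x.1.1) ⁻¹ᵁ X₃)).scheme
        (cmplObj (X := X) (supportOpen F ⊓ X₃) X₃).scheme := fun x => by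
    rw [hrc0 x]
    ring
  have hn0 : ∀ x : outPts X j (supportOpen F ⊓ X₃), n' = n' +
      relCodim ((X.ptSub x.1.1).res ((X.ptSubι x.1.1) ⁻¹ᵁ X₃)).scheme
        (cmplObj (X := X) (supportOpen F ⊓ X₃) X₃).scheme := fun x => by
    rw [hrc0 x]
    ring
  have hrcZ := relCodim_cmplObj h₃ x₀
  have hiZ : i + 1 = i' + 2 *
      relCodim (cmplObj (X := X) (supportOpen F ⊓ X₃) X₃).scheme (X.res X₃).scheme := by
    rw [hrcZ]
    exact hi2
  have hnZ : n = n' +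
      relCodim (cmplObj (X := X) (supportOpen F ⊓ X₃) X₃).scheme (X.res X₃).scheme := by
    rw [hrcZ]
    exact hn2
  -- the class on the reduced complement
  have hpush : (T.push (X := cmplObj (X := X) (supportOpen F ⊓ X₃) X₃) (Y := X.res X₃)
      (cmplι (supportOpen F ⊓ X₃) X₃) M i' n' (i + 1) n hiZ hnZ).hom
      (∑ x : outPts X j (supportOpen F ⊓ X₃),
        (T.push (X := (X.ptSub x.1.1).res ((X.ptSubι x.1.1) ⁻¹ᵁ X₃))
          (Y := cmplObj (X := X) (supportOpen F ⊓ X₃) X₃) (pieceObjHom h₃ x).hom M i' n' i' n'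
            (hi0 x) (hn0 x)).hom
          ((T.pull ((X.ptSub x.1.1).resLE (hpre₃ x.1 ((hout x.1).mp x.2))
            ((ptPre X x.1.1 _ (mem_of_cdPt X (j + 1) x.1 _ hX₃)).2.2.trans
              (W x.1).2.2.symm)) M i' n').hom (b x.1))) = 0 := by
    rw [map_sum, Finset.sum_congr rfl (fun x _ => push_cmplι_push_piece T h₃ x M i' n' (i + 1) n
      (hi0 x) (hn0 x) hiZ hnZ (hi₃ x.1) (hn₃ x.1) _)]
    refine Eq.trans ?_ hP₃
    rw [← Finset.univ_eq_attach]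
    exact Fintype.sum_equiv (Equiv.subtypeEquivRight hout) _ _ (fun x => rfl)
  obtain ⟨a, ha⟩ := ((T.exact_res_push (gDecomp (supportOpen F ⊓ X₃) X₃ h₃.hle (dim_U_eq h₃))
    M i n i' n' hiD hnD hiZ hnZ) _).mp hpush
  refine ⟨((T.fjι X j i n (fjMk X j _ h₃.hU)).app M).hom a, ?_⟩
  refine DFinsupp.ext (fun y => ?_)
  rw [PreTheory.ResData.tot_apply]
  by_cases hyU : y.1 ∈ supportOpen F ⊓ X₃
  · rw [cpt_fjι_eq_zero_of_mem T Q y M i n i' n' hi hn _ h₃.hU hyU a]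
    have hyF : y ∉ F := fun hy => (hout y).mpr hy hyU
    exact (DFinsupp.notMem_support_iff.mp hyF).symm
  · rw [res_formula_good T h₃ Q ⟨y, hyU⟩ M i n i' n' hi hn hiD hnD a, ha,
      pull_sum_push T _ (pieceObjHom h₃) (pieces_disjoint h₃) M i' n' hi0 hn0 _ ⟨y, hyU⟩]
    rw [← hb y]
    exact (ocolimι_le_apply T (X.ptSub y.1) _ i' n' M
      (ptPre X y.1 X₃ (mem_of_cdPt X (j + 1) y X₃ hX₃)) (W y)
      (hpre₃ y ((hout y).mp hyU)) _ (b y)).symm

end Groth.Agent.H79.BMCohSeqMid2
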