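import Groth.Agent.H79.BMCohNorm
import Groth.Agent.H79.BMCohSeqMid2

set_option autoImplicit false
universe u
open CategoryTheory AlgebraicGeometry Opposite CategoryTheory.Limits TopologicalSpace

namespace Groth.Agent.H79.BMCohNormGeo

open BMCoh Groth.Agent.H79.BMCohDim Groth.Agent.H79.BMCohRes Groth.Agent.H79.BMCohFilt
  Groth.Agent.H79.BMCohDecomp Groth.Agent.H79.BMCohGeo Groth.Agent.H79.BMCohPieces
  Groth.Agent.H79.BMCohGood Groth.Agent.H79.BMCohPtPush

variable {V : ObjectProperty Scheme.{u}} [IsConstructible V] {Y X : Obj V}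
  (φ : Y.scheme ⟶ X.scheme)

section codim

/-- a closed map between objects whose dimensions differ by `q` raises codimension by at
least `q` -/
theorem codim_map_ge (hcl : IsClosedMap φ) (q : ℕ)
    (hdim : WeilCoh.dim Y.scheme + q = WeilCoh.dim X.scheme) (z : Y.scheme) :
    WeilCoh.codim Y.scheme z + q ≤ WeilCoh.codim X.scheme (φ z) := by
  have h1 := pdim_le_of_isClosedMap φ hcl (finDim Y) (finDim X) z
  have h2 := pdim_le_dim Y.scheme (finDim Y) z
  unfold WeilCoh.codim
  omega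

/-- the open complement of the image of a closed set under a closed map -/
def pushCompl (hcl : IsClosedMap φ) (C : Set Y.scheme) (hC : IsClosed C) : X.scheme.Opens :=
  ⟨(φ '' C)ᶜ, (hcl C hC).isOpen_compl⟩

omit [IsConstructible V] in
theorem preimage_pushCompl_le (hcl : IsClosedMap φ) (C : Set Y.scheme) (hC : IsClosed C)
    (z : Y.scheme) (hz : φ z ∈ pushCompl φ hcl C hC) : z ∉ C := by
  intro hzC
  exact hz ⟨z, hzC, rfl⟩

theorem containsFj_pushCompl (hcl : IsClosedMap φ) (q m : ℕ)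
    (hdim : WeilCoh.dim Y.scheme + q = WeilCoh.dim X.scheme) (C : Set Y.scheme)
    (hC : IsClosed C) (hCc : ∀ c ∈ C, m + 1 ≤ WeilCoh.codim Y.scheme c) :
    ContainsFj X (q + m) (pushCompl φ hcl C hC) := by
  intro x hx
  rintro ⟨c, hcC, rfl⟩
  have h1 := codim_map_ge φ hcl q hdim c
  have h2 := hCc c hcC
  omega

end codim

section integral

variable (Y)

/-- in an integral object a point other than the generic point has positive codimension -/
theorem codim_pos_of_ne_genericPoint [IsIntegral Y.scheme] (z : Y.scheme)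
    (hz : z ≠ genericPoint Y.scheme) : 1 ≤ WeilCoh.codim Y.scheme z := by
  have hsp : genericPoint Y.scheme ⤳ z := (genericPoint_spec Y.scheme).specializes trivial
  have hlt : z < genericPoint Y.scheme := by
    apply lt_of_le_not_ge
    · exact (Scheme.le_iff_specializes).mpr hsp
    · intro h
      have h' : z ⤳ genericPoint Y.scheme := (Scheme.le_iff_specializes).mp h
      exact hz (h'.antisymm hsp).eq
  have h1 := pdim_lt_of_lt Y.scheme (finDim Y) hlt
  have h2 := pdim_le_dim Y.scheme (finDim Y) (genericPoint Y.scheme)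
  unfold WeilCoh.codim
  omega

theorem containsFj_zero_of_mem [IsIntegral Y.scheme] (U : Y.scheme.Opens)
    (hU : genericPoint Y.scheme ∈ U) : ContainsFj Y 0 U := by
  intro z hz
  by_contra hzU
  have hne : z ≠ genericPoint Y.scheme := by
    rintro rfl
    exact hzU hU
  have := codim_pos_of_ne_genericPoint Y z hne
  omega

end integral

section pairs

variable [IsIntegral Y.scheme]

/-- compatible good pairs on `X` (at level `q`) and on `Y` (at level `0`) below a given open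
of `X` containing `F_q` -/
theorem exists_goodPairs (hcl : IsClosedMap φ) (q : ℕ)
    (hdim : WeilCoh.dim Y.scheme + q = WeilCoh.dim X.scheme)
    (hgen : WeilCoh.codim X.scheme (φ (genericPoint Y.scheme)) = q)
    (hcod1 : ∀ y : Y.cdPt 1, WeilCoh.codim X.scheme (φ y.1) = q + 1)
    (U₀ : X.scheme.Opens) (hU₀ : ContainsFj X q U₀) :
    ∃ X₁ : X.scheme.Opens, IsGoodPair X q (U₀ ⊓ X₁) X₁ ∧
      IsGoodPair Y 0 (φ ⁻¹ᵁ (U₀ ⊓ X₁)) (φ ⁻¹ᵁ X₁) := by
  obtain ⟨Xa, hXa⟩ := exists_goodPair X q U₀ hU₀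
  have hηU : genericPoint Y.scheme ∈ φ ⁻¹ᵁ U₀ := hU₀ _ (le_of_eq hgen)
  have hUY : ContainsFj Y 0 (φ ⁻¹ᵁ U₀) := containsFj_zero_of_mem Y _ hηU
  obtain ⟨Ya, hYa⟩ := exists_goodPair Y 0 (φ ⁻¹ᵁ U₀) hUY
  have hBcl : IsClosed ((Ya : Set Y.scheme)ᶜ) := Ya.isOpen.isClosed_compl
  have hBc : ∀ c ∈ (Ya : Set Y.scheme)ᶜ, 1 + 1 ≤ WeilCoh.codim Y.scheme c := by
    intro c hc
    by_contra hlt
    exact hc (hYa.hX₁ c (by omega))
  have hP := containsFj_pushCompl φ hcl q 1 hdim _ hBcl hBc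
  have hX₁ : ContainsFj X (q + 1) (Xa ⊓ pushCompl φ hcl _ hBcl) :=
    containsFj_inf X (q + 1) _ _ hXa.hX₁ hP
  refine ⟨Xa ⊓ pushCompl φ hcl _ hBcl, hXa.shrink _ inf_le_left hX₁, ?_⟩
  have hle : φ ⁻¹ᵁ (Xa ⊓ pushCompl φ hcl _ hBcl) ≤ Ya := by
    intro z hz
    have hz2 : φ z ∈ pushCompl φ hcl _ hBcl := hz.2
    have := preimage_pushCompl_le φ hcl _ hBcl z hz2
    by_contra h
    exact this h
  have hY₁ : ContainsFj Y (0 + 1) (φ ⁻¹ᵁ (Xa ⊓ pushCompl φ hcl _ hBcl)) := by
    intro z hz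
    change φ z ∈ Xa ⊓ pushCompl φ hcl _ hBcl
    apply hX₁
    by_cases h0 : WeilCoh.codim Y.scheme z = 1
    · rw [hcod1 ⟨z, h0⟩]
    · have hz0 : z = genericPoint Y.scheme := by
        by_contra hne
        have := codim_pos_of_ne_genericPoint Y z hne
        omega
      rw [hz0, hgen]
      omega
  exact hYa.shrink _ hle hY₁

end pairs

end Groth.Agent.H79.BMCohNormGeo
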