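import Groth.Agent.H79.BMCohNormRes

set_option autoImplicit false
universe u
open CategoryTheory AlgebraicGeometry Opposite CategoryTheory.Limits TopologicalSpace

namespace Groth.Agent.H79.BMCohNormMain

open BMCoh Groth.Agent.H79.BMCohDim Groth.Agent.H79.BMCohRes Groth.Agent.H79.BMCohFilt
  Groth.Agent.H79.BMCohDecomp Groth.Agent.H79.BMCohGeo Groth.Agent.H79.BMCohPieces
  Groth.Agent.H79.BMCohGood Groth.Agent.H79.BMCohPtPush Groth.Agent.H79.BMCohSeqRes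
  Groth.Agent.H79.BMCohSeqPush Groth.Agent.H79.BMCohNormGeo Groth.Agent.H79.BMCohNormRes

variable {V : ObjectProperty Scheme.{u}} [IsConstructible V] {R : Type u} [CommRing R]
  {A : Coefs R} (T : PreTheory V R A) {Y X : Obj V}
  (φ : Y.scheme ⟶ X.scheme) [IsProper φ] [IsIntegral Y.scheme]

section dims

variable {q : ℕ} (w : X.cdPt q)

omit [IsProper φ] in
/-- the dimension count for a morphism carrying the generic point of `Y`, of codimension `0`, to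
a point of codimension `q` with closure of the dimension of `Y` -/
theorem dim_add_eq (hη : WeilCoh.codim Y.scheme (genericPoint Y.scheme) = 0)
    (hcd : relCodim (Y.ptSub (genericPoint Y.scheme)).scheme (X.ptSub w.1).scheme = 0) :
    WeilCoh.dim Y.scheme + q = WeilCoh.dim X.scheme := by
  have h1 := dim_ptSub X w.1
  have h2 := dim_ptSub Y (genericPoint Y.scheme)
  have h3 := pdim_le_dim X.scheme (finDim X) w.1
  have h4 := pdim_le_dim Y.scheme (finDim Y) (genericPoint Y.scheme)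
  have h5 : WeilCoh.dim X.scheme - WeilCoh.pdim X.scheme w.1 = q := w.2
  have h6 : WeilCoh.dim Y.scheme - WeilCoh.pdim Y.scheme (genericPoint Y.scheme) = 0 := hη
  unfold relCodim at hcd
  omega

end dims

section rep

variable {q : ℕ} (w : X.cdPt q)

instance isIntegral_ptSub_genericPoint : IsIntegral (Y.ptSub (genericPoint Y.scheme)).scheme := by
  have := Groth.Agent.H79.BMCohNorm.isIso_ptSubι_genericPoint Y
  exact isIntegral_of_isOpenImmersion (Y.ptSubι (genericPoint Y.scheme))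

/-- the class of a point class of the generic point of `Y`, pushed into `F_0 Y` and (through
`L`) into `F_q X`, is represented on compatible good pairs -/
theorem exists_rep_goodPairs (hη : WeilCoh.codim Y.scheme (genericPoint Y.scheme) = 0)
    (hcod1 : ∀ y : Y.cdPt 1, WeilCoh.codim X.scheme (φ y.1) = q + 1)
    (P : T.PushData X q) (L : T.PtPush φ (genericPoint Y.scheme) w.1) (P' : T.PushData Y 0)
    (M : A.Cat) (i n i₁ n₁ i₃ n₃ : ℤ)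
    (h1 : i₁ = i + 2 * (q : ℤ)) (h1' : n₁ = n + (q : ℤ))
    (h3 : i₃ = i + 2 * ((0 : ℕ) : ℤ)) (h3' : n₃ = n + ((0 : ℕ) : ℤ))
    (a : T.ptGp Y (genericPoint Y.scheme) M i n) :
    ∃ (U X₁ : X.scheme.Opens) (hX : IsGoodPair X q U X₁)
      (hY : IsGoodPair Y 0 (φ ⁻¹ᵁ U) (φ ⁻¹ᵁ X₁))
      (hc : i₁ = i₃ + 2 * relCodim (Y.res (φ ⁻¹ᵁ U)).scheme (X.res U).scheme)
      (hd : n₁ = n₃ + relCodim (Y.res (φ ⁻¹ᵁ U)).scheme (X.res U).scheme)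
      (a₀ : T.gp (Y.res (φ ⁻¹ᵁ U)) M i₃ n₃),
      (P'.cpt ⟨genericPoint Y.scheme, hη⟩ M i n i₃ n₃ h3 h3').hom a =
        ((T.fjι Y 0 i₃ n₃ (fjMk Y 0 (φ ⁻¹ᵁ U) hY.hU)).app M).hom a₀ ∧
      (P.cpt w M i n i₁ n₁ h1 h1').hom ((L.cpt M i n).hom a) =
        ((T.fjι X q i₁ n₁ (fjMk X q U hX.hU)).app M).hom
          ((T.push (X := Y.res (φ ⁻¹ᵁ U)) (Y := X.res U) (φ ∣_ U) M i₃ n₃ i₁ n₁ hc hd).hom a₀) := by
  have hdim := dim_add_eq w hη L.codim_eq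
  have hdimη : WeilCoh.dim (Y.ptSub (genericPoint Y.scheme)).scheme = WeilCoh.dim Y.scheme := by
    have h2 := dim_ptSub Y (genericPoint Y.scheme)
    have h4 := pdim_le_dim Y.scheme (finDim Y) (genericPoint Y.scheme)
    have h6 : WeilCoh.dim Y.scheme - WeilCoh.pdim Y.scheme (genericPoint Y.scheme) = 0 := hη
    omega
  obtain ⟨Wa, a₁, rfl⟩ := exists_rep T (Y.ptSub (genericPoint Y.scheme))
    (fun U => (U : Set (Y.ptSub (genericPoint Y.scheme)).scheme).Nonempty) i n M a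
  -- the open `U₀`
  have hclη : IsClosedMap (Y.ptSubι (genericPoint Y.scheme) ≫ φ) :=
    (Y.ptSubι (genericPoint Y.scheme) ≫ φ).isClosedMap
  have hCcl : IsClosed ((Wa.1 : Set (Y.ptSub (genericPoint Y.scheme)).scheme)ᶜ) :=
    Wa.1.isOpen.isClosed_compl
  have hCc : ∀ c ∈ (Wa.1 : Set (Y.ptSub (genericPoint Y.scheme)).scheme)ᶜ,
      0 + 1 ≤ WeilCoh.codim (Y.ptSub (genericPoint Y.scheme)).scheme c := by
    intro c hc
    apply codim_pos_of_ne_genericPoint (Y.ptSub (genericPoint Y.scheme)) c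
    rintro rfl
    apply hc
    obtain ⟨z, hz⟩ := Wa.2.1
    exact ((genericPoint_spec (Y.ptSub (genericPoint Y.scheme)).scheme).specializes
      (Set.mem_univ z)).mem_open Wa.1.isOpen hz
  have hU₀ : ContainsFj X q (pushCompl (Y := Y.ptSub (genericPoint Y.scheme))
      (Y.ptSubι (genericPoint Y.scheme) ≫ φ) hclη _ hCcl) :=
    containsFj_pushCompl (Y := Y.ptSub (genericPoint Y.scheme))
      (Y.ptSubι (genericPoint Y.scheme) ≫ φ) hclη q 0 (by rw [hdimη]; exact hdim) _ hCcl hCc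
  have hgen : WeilCoh.codim X.scheme (φ (genericPoint Y.scheme)) = q := by
    rw [L.maps_pt]
    exact w.2
  obtain ⟨U₀, hU₀def⟩ : ∃ U₀ : X.scheme.Opens, U₀ = pushCompl
    (Y := Y.ptSub (genericPoint Y.scheme)) (Y.ptSubι (genericPoint Y.scheme) ≫ φ) hclη _ hCcl :=
    ⟨_, rfl⟩
  rw [← hU₀def] at hU₀
  obtain ⟨X₁, hX, hY⟩ := exists_goodPairs φ φ.isClosedMap q hdim hgen hcod1 U₀ hU₀
  have hrcU := relCodim_res_eq hX hY hdim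
  have hc : i₁ = i₃ + 2 * relCodim (Y.res (φ ⁻¹ᵁ (U₀ ⊓ X₁))).scheme
      (X.res (U₀ ⊓ X₁)).scheme := by
    rw [hrcU]
    push_cast at h3
    omega
  have hd : n₁ = n₃ + relCodim (Y.res (φ ⁻¹ᵁ (U₀ ⊓ X₁))).scheme
      (X.res (U₀ ⊓ X₁)).scheme := by
    rw [hrcU]
    push_cast at h3'
    omega
  -- the induced morphism on closures and the traces
  have hψ := ptMap_fac φ (genericPoint Y.scheme) w.1 L.maps_pt
  have hwU : w.1 ∈ U₀ ⊓ X₁ := mem_of_cdPt X q w _ hX.hU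
  have hneη := Groth.Agent.H79.BMCohNorm.preimage_nonempty φ (genericPoint Y.scheme) w.1
    (ptMap φ (genericPoint Y.scheme) w.1 L.maps_pt) hψ L.maps_pt
    (ptPre X w.1 (U₀ ⊓ X₁) hwU).1 (ptPre X w.1 (U₀ ⊓ X₁) hwU).2.1
  have hpre := preimage_ptMap φ (genericPoint Y.scheme) w.1 L.maps_pt (U₀ ⊓ X₁)
  have hle : (ptMap φ (genericPoint Y.scheme) w.1 L.maps_pt) ⁻¹ᵁ
      ((X.ptSubι w.1) ⁻¹ᵁ (U₀ ⊓ X₁)) ≤ Wa.1 := by
    intro z hz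
    rw [hpre] at hz
    have hz1 : (Y.ptSubι (genericPoint Y.scheme) ≫ φ) z ∈ U₀ := hz.1
    rw [hU₀def] at hz1
    have := preimage_pushCompl_le (Y := Y.ptSub (genericPoint Y.scheme))
      (Y.ptSubι (genericPoint Y.scheme) ≫ φ) hclη _ hCcl z hz1
    by_contra hzW
    exact this hzW
  -- re-represent the class on the smaller trace
  rw [ocolimι_le_apply T (Y.ptSub (genericPoint Y.scheme)) _ i n M
    (Groth.Agent.H79.BMCohNorm.mkIdx Y (genericPoint Y.scheme) _ hneη) Wa hle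
    ((Groth.Agent.H79.BMCohNorm.mkIdx Y (genericPoint Y.scheme) _ hneη).2.2.trans
      Wa.2.2.symm) a₁]
  obtain ⟨a₂, ha₂⟩ : ∃ a₂, a₂ = (T.pull ((Y.ptSub (genericPoint Y.scheme)).resLE hle
    ((Groth.Agent.H79.BMCohNorm.mkIdx Y (genericPoint Y.scheme) _ hneη).2.2.trans
      Wa.2.2.symm)) M i n).hom a₁ := ⟨_, rfl⟩
  rw [← ha₂]
  -- the isomorphism from the trace to the preimage of `U`
  have hιη := Groth.Agent.H79.BMCohNorm.isIso_ptSubι_genericPoint Y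
  have hρiso : IsIso ((Y.ptSubι (genericPoint Y.scheme)).resLE (φ ⁻¹ᵁ (U₀ ⊓ X₁))
      ((ptMap φ (genericPoint Y.scheme) w.1 L.maps_pt) ⁻¹ᵁ ((X.ptSubι w.1) ⁻¹ᵁ (U₀ ⊓ X₁)))
      hpre.le) := by
    have h1 := isIso_homOfLE_of_le hpre.le hpre.ge
    unfold Scheme.Hom.resLE
    infer_instance
  have hρprop : IsProper ((Y.ptSubι (genericPoint Y.scheme)).resLE (φ ⁻¹ᵁ (U₀ ⊓ X₁))
      ((ptMap φ (genericPoint Y.scheme) w.1 L.maps_pt) ⁻¹ᵁ ((X.ptSubι w.1) ⁻¹ᵁ (U₀ ⊓ X₁)))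
      hpre.le) := inferInstance
  -- index equations
  have hdU : WeilCoh.dim ((U₀ ⊓ X₁ : X.scheme.Opens) : Scheme.{u}) = WeilCoh.dim X.scheme :=
    dim_of_containsFj X q _ hX.hU
  have hdUY : WeilCoh.dim ((φ ⁻¹ᵁ (U₀ ⊓ X₁) : Y.scheme.Opens) : Scheme.{u}) =
      WeilCoh.dim Y.scheme := dim_of_containsFj Y 0 _ hY.hU
  have hrcL := Groth.Agent.H79.BMCohNorm.relCodim_res_eq_zero (genericPoint Y.scheme) w.1
    L.codim_eq (Groth.Agent.H79.BMCohNorm.mkIdx Y (genericPoint Y.scheme) _ hneη)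
    (ptPre X w.1 (U₀ ⊓ X₁) hwU)
  have hrcP := relCodim_eq X q w (ptPre X w.1 (U₀ ⊓ X₁) hwU) (U₀ ⊓ X₁) hdU
  have hdW : WeilCoh.dim (((ptMap φ (genericPoint Y.scheme) w.1 L.maps_pt) ⁻¹ᵁ
      ((X.ptSubι w.1) ⁻¹ᵁ (U₀ ⊓ X₁)) : (Y.ptSub (genericPoint Y.scheme)).scheme.Opens) :
      Scheme.{u}) = WeilCoh.dim Y.scheme :=
    (Groth.Agent.H79.BMCohNorm.mkIdx Y (genericPoint Y.scheme) _ hneη).2.2.trans hdimη
  have hrcρ : relCodim ((Y.ptSub (genericPoint Y.scheme)).res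
      ((ptMap φ (genericPoint Y.scheme) w.1 L.maps_pt) ⁻¹ᵁ
        ((X.ptSubι w.1) ⁻¹ᵁ (U₀ ⊓ X₁)))).scheme (Y.res (φ ⁻¹ᵁ (U₀ ⊓ X₁))).scheme = 0 := by
    change relCodim (((ptMap φ (genericPoint Y.scheme) w.1 L.maps_pt) ⁻¹ᵁ
      ((X.ptSubι w.1) ⁻¹ᵁ (U₀ ⊓ X₁)) : (Y.ptSub (genericPoint Y.scheme)).scheme.Opens) :
      Scheme.{u}) ((φ ⁻¹ᵁ (U₀ ⊓ X₁) : Y.scheme.Opens) : Scheme.{u}) = 0
    unfold relCodim
    rw [hdW, hdUY]
    ring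
  have hrcC : relCodim ((Y.ptSub (genericPoint Y.scheme)).res
      ((ptMap φ (genericPoint Y.scheme) w.1 L.maps_pt) ⁻¹ᵁ
        ((X.ptSubι w.1) ⁻¹ᵁ (U₀ ⊓ X₁)))).scheme (X.res (U₀ ⊓ X₁)).scheme = (q : ℤ) := by
    change relCodim (((ptMap φ (genericPoint Y.scheme) w.1 L.maps_pt) ⁻¹ᵁ
      ((X.ptSubι w.1) ⁻¹ᵁ (U₀ ⊓ X₁)) : (Y.ptSub (genericPoint Y.scheme)).scheme.Opens) :
      Scheme.{u}) ((U₀ ⊓ X₁ : X.scheme.Opens) : Scheme.{u}) = _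
    unfold relCodim
    rw [hdW, hdU]
    omega
  have hiρ : i₃ = i + 2 * relCodim ((Y.ptSub (genericPoint Y.scheme)).res
      ((ptMap φ (genericPoint Y.scheme) w.1 L.maps_pt) ⁻¹ᵁ
        ((X.ptSubι w.1) ⁻¹ᵁ (U₀ ⊓ X₁)))).scheme (Y.res (φ ⁻¹ᵁ (U₀ ⊓ X₁))).scheme := by
    rw [hrcρ]
    push_cast at h3
    omega
  have hnρ : n₃ = n + relCodim ((Y.ptSub (genericPoint Y.scheme)).res
      ((ptMap φ (genericPoint Y.scheme) w.1 L.maps_pt) ⁻¹ᵁ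
        ((X.ptSubι w.1) ⁻¹ᵁ (U₀ ⊓ X₁)))).scheme (Y.res (φ ⁻¹ᵁ (U₀ ⊓ X₁))).scheme := by
    rw [hrcρ]
    push_cast at h3'
    omega
  have hiL : i = i + 2 * relCodim ((Y.ptSub (genericPoint Y.scheme)).res
      ((ptMap φ (genericPoint Y.scheme) w.1 L.maps_pt) ⁻¹ᵁ
        ((X.ptSubι w.1) ⁻¹ᵁ (U₀ ⊓ X₁)))).scheme
      ((X.ptSub w.1).res ((X.ptSubι w.1) ⁻¹ᵁ (U₀ ⊓ X₁))).scheme := by
    rw [hrcL]
    ring
  have hnL : n = n + relCodim ((Y.ptSub (genericPoint Y.scheme)).res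
      ((ptMap φ (genericPoint Y.scheme) w.1 L.maps_pt) ⁻¹ᵁ
        ((X.ptSubι w.1) ⁻¹ᵁ (U₀ ⊓ X₁)))).scheme
      ((X.ptSub w.1).res ((X.ptSubι w.1) ⁻¹ᵁ (U₀ ⊓ X₁))).scheme := by
    rw [hrcL]
    ring
  have hiP : i₁ = i + 2 * relCodim ((X.ptSub w.1).res ((X.ptSubι w.1) ⁻¹ᵁ (U₀ ⊓ X₁))).scheme
      (X.res (U₀ ⊓ X₁)).scheme := by
    rw [hrcP]
    exact h1
  have hnP : n₁ = n + relCodim ((X.ptSub w.1).res ((X.ptSubι w.1) ⁻¹ᵁ (U₀ ⊓ X₁))).scheme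
      (X.res (U₀ ⊓ X₁)).scheme := by
    rw [hrcP]
    exact h1'
  have hiC : i₁ = i + 2 * relCodim ((Y.ptSub (genericPoint Y.scheme)).res
      ((ptMap φ (genericPoint Y.scheme) w.1 L.maps_pt) ⁻¹ᵁ
        ((X.ptSubι w.1) ⁻¹ᵁ (U₀ ⊓ X₁)))).scheme (X.res (U₀ ⊓ X₁)).scheme := by
    rw [hrcC]
    exact h1
  have hnC : n₁ = n + relCodim ((Y.ptSub (genericPoint Y.scheme)).res
      ((ptMap φ (genericPoint Y.scheme) w.1 L.maps_pt) ⁻¹ᵁ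
        ((X.ptSubι w.1) ⁻¹ᵁ (U₀ ⊓ X₁)))).scheme (X.res (U₀ ⊓ X₁)).scheme := by
    rw [hrcC]
    exact h1'
  refine ⟨U₀ ⊓ X₁, X₁, hX, hY, hc, hd,
    (T.push (X := (Y.ptSub (genericPoint Y.scheme)).res
      ((ptMap φ (genericPoint Y.scheme) w.1 L.maps_pt) ⁻¹ᵁ
        ((X.ptSubι w.1) ⁻¹ᵁ (U₀ ⊓ X₁)))) (Y := Y.res (φ ⁻¹ᵁ (U₀ ⊓ X₁)))
      ((Y.ptSubι (genericPoint Y.scheme)).resLE (φ ⁻¹ᵁ (U₀ ⊓ X₁))
        ((ptMap φ (genericPoint Y.scheme) w.1 L.maps_pt) ⁻¹ᵁ ((X.ptSubι w.1) ⁻¹ᵁ (U₀ ⊓ X₁)))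
        hpre.le) M i n i₃ n₃ hiρ hnρ).hom a₂, ?_, ?_⟩
  · have hspec := P'.cpt_spec ⟨genericPoint Y.scheme, hη⟩ M i n i₃ n₃ h3 h3'
      (fjMk Y 0 (φ ⁻¹ᵁ (U₀ ⊓ X₁)) hY.hU)
      (Groth.Agent.H79.BMCohNorm.mkIdx Y (genericPoint Y.scheme) _ hneη)
      ((Y.ptSubι (genericPoint Y.scheme)).resLE (φ ⁻¹ᵁ (U₀ ⊓ X₁))
        ((ptMap φ (genericPoint Y.scheme) w.1 L.maps_pt) ⁻¹ᵁ ((X.ptSubι w.1) ⁻¹ᵁ (U₀ ⊓ X₁)))
        hpre.le) (Scheme.Hom.resLE_comp_ι _ _) hiρ hnρ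
    exact congrArg (fun g => g.hom a₂) hspec
  · have hψprop : IsProper (ptMap φ (genericPoint Y.scheme) w.1 L.maps_pt ∣_
        ((X.ptSubι w.1) ⁻¹ᵁ (U₀ ⊓ X₁))) := inferInstance
    have hL := L.cpt_spec M i n (Groth.Agent.H79.BMCohNorm.mkIdx Y (genericPoint Y.scheme) _ hneη)
      (ptPre X w.1 (U₀ ⊓ X₁) hwU)
      (ptMap φ (genericPoint Y.scheme) w.1 L.maps_pt ∣_ ((X.ptSubι w.1) ⁻¹ᵁ (U₀ ⊓ X₁)))
      (Groth.Agent.H79.BMCohNorm.restrict_comp φ (genericPoint Y.scheme) w.1 _ hψ _) hiL hnL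
    have hL2 := congrArg (fun g => g.hom a₂) hL
    refine (congrArg (fun c => (P.cpt w M i n i₁ n₁ h1 h1').hom c) hL2).trans ?_
    refine (push_formula T P w M i n i₁ n₁ h1 h1' (U₀ ⊓ X₁) hX.hU hiP hnP _).trans ?_
    have hcomp : (ptMap φ (genericPoint Y.scheme) w.1 L.maps_pt ∣_
        ((X.ptSubι w.1) ⁻¹ᵁ (U₀ ⊓ X₁))) ≫ (X.ptSubι w.1 ∣_ (U₀ ⊓ X₁)) =
        ((Y.ptSubι (genericPoint Y.scheme)).resLE (φ ⁻¹ᵁ (U₀ ⊓ X₁))
          ((ptMap φ (genericPoint Y.scheme) w.1 L.maps_pt) ⁻¹ᵁ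
            ((X.ptSubι w.1) ⁻¹ᵁ (U₀ ⊓ X₁))) hpre.le) ≫ (φ ∣_ (U₀ ⊓ X₁)) := by
      rw [← cancel_mono (U₀ ⊓ X₁).ι, Category.assoc, Category.assoc, morphismRestrict_ι,
        morphismRestrict_ι, ← Category.assoc, morphismRestrict_ι, Category.assoc, hψ,
        ← Category.assoc ((Y.ptSubι (genericPoint Y.scheme)).resLE _ _ _),
        Scheme.Hom.resLE_comp_ι, Category.assoc]
    have hc1 := T.push_comp (X := (Y.ptSub (genericPoint Y.scheme)).res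
        ((ptMap φ (genericPoint Y.scheme) w.1 L.maps_pt) ⁻¹ᵁ ((X.ptSubι w.1) ⁻¹ᵁ (U₀ ⊓ X₁))))
      (Y := (X.ptSub w.1).res ((X.ptSubι w.1) ⁻¹ᵁ (U₀ ⊓ X₁))) (Z := X.res (U₀ ⊓ X₁))
      (ptMap φ (genericPoint Y.scheme) w.1 L.maps_pt ∣_ ((X.ptSubι w.1) ⁻¹ᵁ (U₀ ⊓ X₁)))
      (X.ptSubι w.1 ∣_ (U₀ ⊓ X₁)) M i n i n i₁ n₁ hiL hnL hiP hnP hiC hnC
    have hc2 := T.push_comp (X := (Y.ptSub (genericPoint Y.scheme)).res
        ((ptMap φ (genericPoint Y.scheme) w.1 L.maps_pt) ⁻¹ᵁ ((X.ptSubι w.1) ⁻¹ᵁ (U₀ ⊓ X₁))))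
      (Y := Y.res (φ ⁻¹ᵁ (U₀ ⊓ X₁))) (Z := X.res (U₀ ⊓ X₁))
      ((Y.ptSubι (genericPoint Y.scheme)).resLE (φ ⁻¹ᵁ (U₀ ⊓ X₁))
        ((ptMap φ (genericPoint Y.scheme) w.1 L.maps_pt) ⁻¹ᵁ ((X.ptSubι w.1) ⁻¹ᵁ (U₀ ⊓ X₁)))
        hpre.le) (φ ∣_ (U₀ ⊓ X₁)) M i n i₃ n₃ i₁ n₁ hiρ hnρ hc hd hiC hnC
    have e1 := congrArg (fun g => g.hom a₂) hc1
    have e2 := congrArg (fun g => g.hom a₂) hc2
    refine congrArg (fun c => ((T.fjι X q i₁ n₁ (fjMk X q (U₀ ⊓ X₁) hX.hU)).app M).hom c) ?_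
    refine e1.trans (Eq.trans ?_ e2.symm)
    exact congrArg (fun g => g.hom a₂)
      (Groth.Agent.H79.BMCohSeqMid.push_congr T hcomp M i n i₁ n₁ hiC hnC)

end rep

section final

variable {q : ℕ} (w : X.cdPt q)

/-- the first differential of the coniveau filtration commutes with push-forward from an
integral object mapping properly and generically finitely onto the closure of a point -/
theorem resTot_pushCpt_ptPush_eq_famTot_resTot (hred : RedHyp T)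
    (hη : WeilCoh.codim Y.scheme (genericPoint Y.scheme) = 0)
    (P : T.PushData X q) (Q : T.ResData X q) (L : T.PtPush φ (genericPoint Y.scheme) w.1)
    (P' : T.PushData Y 0) (Q' : T.ResData Y 0) (t : Y.cdPt 1 → X.cdPt (q + 1))
    (F : ∀ y : Y.cdPt 1, T.PtPush φ y.1 (t y).1)
    (M : A.Cat) (i n i₁ n₁ i₂ n₂ i₃ n₃ : ℤ)
    (h1 : i₁ = i + 2 * (q : ℤ)) (h1' : n₁ = n + (q : ℤ))
    (h2 : i₂ = i₁ + 1 - 2 * ((q : ℤ) + 1)) (h2' : n₂ = n₁ - ((q : ℤ) + 1))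
    (h3 : i₃ = i + 2 * ((0 : ℕ) : ℤ)) (h3' : n₃ = n + ((0 : ℕ) : ℤ))
    (h4 : i₂ = i₃ + 1 - 2 * (((0 : ℕ) : ℤ) + 1)) (h4' : n₂ = n₃ - (((0 : ℕ) : ℤ) + 1))
    (a : T.ptGp Y (genericPoint Y.scheme) M i n) :
    (Q.tot M i₁ n₁ i₂ n₂ h2 h2').hom ((P.cpt w M i n i₁ n₁ h1 h1').hom ((L.cpt M i n).hom a)) =
      (BMCoh.PreTheory.PtPush.famTot t F M i₂ n₂).hom
        ((Q'.tot M i₃ n₃ i₂ n₂ h4 h4').hom
          ((P'.cpt ⟨genericPoint Y.scheme, hη⟩ M i n i₃ n₃ h3 h3').hom a)) := by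
  have hdim := dim_add_eq w hη L.codim_eq
  have hcod1 : ∀ y : Y.cdPt 1, WeilCoh.codim X.scheme (φ y.1) = q + 1 := by
    intro y
    have h := (F y).maps_pt
    have h' : φ y.1 = (t y).1 := h
    rw [h']
    exact (t y).2
  obtain ⟨U, X₁, hX, hY, hc, hd, a₀, hP', hP⟩ := exists_rep_goodPairs T φ w hη hcod1 P L P' M
    i n i₁ n₁ i₃ n₃ h1 h1' h3 h3' a
  rw [hP', hP]
  have h13 : i₁ = i₃ + 2 * (q : ℤ) := by
    push_cast at h3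
    omega
  have h13' : n₁ = n₃ + (q : ℤ) := by
    push_cast at h3'
    omega
  exact tot_push_eq_famTot T hX hY t hred hdim Q Q' F M i₁ n₁ i₂ n₂ i₃ n₃ h13 h13' h2 h2' h4 h4'
    hc hd a₀

end final

end Groth.Agent.H79.BMCohNormMain
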