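import Groth.Agent.H79.BMCohNormGeo
import Mathlib.AlgebraicGeometry.PullbackCarrier

set_option autoImplicit false
universe u
open CategoryTheory AlgebraicGeometry Opposite CategoryTheory.Limits TopologicalSpace

namespace Groth.Agent.H79.BMCohNormRes

open BMCoh Groth.Agent.H79.BMCohDim Groth.Agent.H79.BMCohRes Groth.Agent.H79.BMCohFilt
  Groth.Agent.H79.BMCohDecomp Groth.Agent.H79.BMCohGeo Groth.Agent.H79.BMCohPieces
  Groth.Agent.H79.BMCohGood Groth.Agent.H79.BMCohPtPush Groth.Agent.H79.BMCohSeqRes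
  Groth.Agent.H79.BMCohSeqPush

variable {V : ObjectProperty Scheme.{u}} [IsConstructible V] {Y X : Obj V}
  (φ : Y.scheme ⟶ X.scheme) (U X₁ : X.scheme.Opens)

section pb

/-- the scheme-theoretic preimage of the reduced complement of `U` in `X₁`, as an object -/
noncomputable abbrev pbObj : Obj V :=
  ⟨pullback (φ ∣_ X₁) (cmplι (X := X) U X₁),
    IsConstructible.of_isClosedImmersion (pullback.fst (φ ∣_ X₁) (cmplι (X := X) U X₁))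
      (h := (inferInstance : IsClosedImmersion
        (pullback.fst (φ ∣_ X₁) (cmplι (X := X) U X₁)))) (Y.res (φ ⁻¹ᵁ X₁)).mem⟩

theorem range_pbFst :
    Set.range (pullback.fst (φ ∣_ X₁) (cmplι (X := X) U X₁)) =
      {z | (z.1 : Y.scheme) ∉ φ ⁻¹ᵁ U} := by
  rw [Scheme.Pullback.range_fst, range_cmplι]
  ext z
  change ((φ ∣_ X₁) z).1 ∉ U ↔ _
  rw [morphismRestrict_base_coe]
  rfl

/-- the decomposition of the preimage of `X₁` into the scheme-theoretic preimage of the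
reduced complement of `U` and the preimage of `U` -/
noncomputable def pbDecomp (hle : U ≤ X₁)
    (hd : WeilCoh.dim ((φ ⁻¹ᵁ U : Y.scheme.Opens) : Scheme.{u}) =
      WeilCoh.dim ((φ ⁻¹ᵁ X₁ : Y.scheme.Opens) : Scheme.{u})) : Decomp (Y.res (φ ⁻¹ᵁ X₁)) where
  Z := pbObj φ U X₁
  U := Y.res (φ ⁻¹ᵁ U)
  i := pullback.fst (φ ∣_ X₁) (cmplι (X := X) U X₁)
  closedImm := inferInstance
  j := Y.resLE (φ.preimage_mono hle) hd
  range_eq := by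
    rw [range_pbFst]
    ext z
    constructor
    · rintro ⟨w, rfl⟩ hz
      have h1 : ((Y.scheme.homOfLE (φ.preimage_mono hle) w).1 : Y.scheme) = w.1 :=
        Scheme.homOfLE_apply (φ.preimage_mono hle) w
      apply hz
      change ((Y.scheme.homOfLE (φ.preimage_mono hle) w).1 : Y.scheme) ∈ φ ⁻¹ᵁ U
      rw [h1]
      exact w.2
    · intro hz
      have hzU : (z.1 : Y.scheme) ∈ φ ⁻¹ᵁ U := by
        by_contra h0
        exact hz h0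
      refine ⟨⟨z.1, hzU⟩, ?_⟩
      apply Subtype.ext
      exact Scheme.homOfLE_apply (φ.preimage_mono hle) ⟨z.1, hzU⟩

theorem exists_cmplMap :
    ∃ θ : (cmplObj (X := Y) (φ ⁻¹ᵁ U) (φ ⁻¹ᵁ X₁)).scheme ⟶ (cmplObj (X := X) U X₁).scheme,
      θ ≫ cmplι (X := X) U X₁ = cmplι (X := Y) (φ ⁻¹ᵁ U) (φ ⁻¹ᵁ X₁) ≫ (φ ∣_ X₁) := by
  refine exists_lift_reduced (cmplι (X := Y) (φ ⁻¹ᵁ U) (φ ⁻¹ᵁ X₁) ≫ (φ ∣_ X₁)) (cmpl U X₁) ?_
  rintro _ ⟨z, rfl⟩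
  change ((φ ∣_ X₁) (cmplι (X := Y) (φ ⁻¹ᵁ U) (φ ⁻¹ᵁ X₁) z)).1 ∉ U
  rw [morphismRestrict_base_coe]
  have hz : cmplι (X := Y) (φ ⁻¹ᵁ U) (φ ⁻¹ᵁ X₁) z ∈
      Set.range (cmplι (X := Y) (φ ⁻¹ᵁ U) (φ ⁻¹ᵁ X₁)) := ⟨z, rfl⟩
  rw [range_cmplι] at hz
  exact hz

/-- the morphism induced between the reduced complements -/
noncomputable def cmplMap :
    (cmplObj (X := Y) (φ ⁻¹ᵁ U) (φ ⁻¹ᵁ X₁)).scheme ⟶ (cmplObj (X := X) U X₁).scheme :=
  Classical.choose (exists_cmplMap φ U X₁)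

theorem cmplMap_fac :
    cmplMap φ U X₁ ≫ cmplι (X := X) U X₁ =
      cmplι (X := Y) (φ ⁻¹ᵁ U) (φ ⁻¹ᵁ X₁) ≫ (φ ∣_ X₁) :=
  Classical.choose_spec (exists_cmplMap φ U X₁)

instance isProper_cmplMap [IsProper φ] : IsProper (cmplMap φ U X₁) := by
  have h1 : IsProper (cmplMap φ U X₁ ≫ cmplι (X := X) U X₁) := by
    rw [cmplMap_fac]
    infer_instance
  exact IsProper.of_comp _ (cmplι (X := X) U X₁)

/-- the comparison from the reduced complement to the scheme-theoretic preimage -/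
noncomputable def pbLift :
    (cmplObj (X := Y) (φ ⁻¹ᵁ U) (φ ⁻¹ᵁ X₁)).scheme ⟶ (pbObj φ U X₁).scheme :=
  pullback.lift (cmplι (X := Y) (φ ⁻¹ᵁ U) (φ ⁻¹ᵁ X₁)) (cmplMap φ U X₁) (cmplMap_fac φ U X₁).symm

theorem pbLift_fst :
    pbLift φ U X₁ ≫ pullback.fst (φ ∣_ X₁) (cmplι (X := X) U X₁) =
      cmplι (X := Y) (φ ⁻¹ᵁ U) (φ ⁻¹ᵁ X₁) :=
  pullback.lift_fst _ _ _

theorem pbLift_snd :
    pbLift φ U X₁ ≫ pullback.snd (φ ∣_ X₁) (cmplι (X := X) U X₁) = cmplMap φ U X₁ :=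
  pullback.lift_snd _ _ _

instance isClosedImmersion_pbLift : IsClosedImmersion (pbLift φ U X₁) := by
  have h1 : IsClosedImmersion (pbLift φ U X₁ ≫
      pullback.fst (φ ∣_ X₁) (cmplι (X := X) U X₁)) := by
    rw [pbLift_fst]
    infer_instance
  exact IsClosedImmersion.of_comp_isClosedImmersion (pbLift φ U X₁)
    (pullback.fst (φ ∣_ X₁) (cmplι (X := X) U X₁))

theorem surjective_pbLift : Function.Surjective (pbLift φ U X₁) := by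
  intro p
  have h1 : pullback.fst (φ ∣_ X₁) (cmplι (X := X) U X₁) p ∈
      Set.range (pullback.fst (φ ∣_ X₁) (cmplι (X := X) U X₁)) := ⟨p, rfl⟩
  rw [range_pbFst, ← range_cmplι] at h1
  obtain ⟨z, hz⟩ := h1
  refine ⟨z, ?_⟩
  apply (pullback.fst (φ ∣_ X₁) (cmplι (X := X) U X₁)).isClosedEmbedding.injective
  rw [← hz, ← pbLift_fst φ U X₁]
  rfl

instance surjective_pbLift' : Surjective (pbLift φ U X₁) := ⟨surjective_pbLift φ U X₁⟩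

theorem dim_pbObj :
    WeilCoh.dim (pbObj φ U X₁).scheme =
      WeilCoh.dim (cmplObj (X := Y) (φ ⁻¹ᵁ U) (φ ⁻¹ᵁ X₁)).scheme := by
  have hh : IsHomeomorph (pbLift φ U X₁) :=
    isHomeomorph_iff_isEmbedding_surjective.mpr
      ⟨(pbLift φ U X₁).isClosedEmbedding.isEmbedding, surjective_pbLift φ U X₁⟩
  unfold WeilCoh.dim WeilCoh.natDim
  rw [IsHomeomorph.topologicalKrullDim_eq _ hh]

end pb

section ptmap

variable (y : Y.scheme) (x : X.scheme) (hyx : φ y = x)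

/-- the morphism induced between the reduced closures of a point and of its image -/
noncomputable def ptMap : (Y.ptSub y).scheme ⟶ (X.ptSub x).scheme :=
  Classical.choose (exists_ptMap φ y x hyx)

theorem ptMap_fac : ptMap φ y x hyx ≫ X.ptSubι x = Y.ptSubι y ≫ φ :=
  Classical.choose_spec (exists_ptMap φ y x hyx)

instance isProper_ptMap [IsProper φ] : IsProper (ptMap φ y x hyx) := by
  have h1 : IsProper (ptMap φ y x hyx ≫ X.ptSubι x) := by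
    rw [ptMap_fac]
    infer_instance
  exact IsProper.of_comp _ (X.ptSubι x)

theorem preimage_ptMap (O : X.scheme.Opens) :
    (ptMap φ y x hyx) ⁻¹ᵁ ((X.ptSubι x) ⁻¹ᵁ O) = (Y.ptSubι y) ⁻¹ᵁ (φ ⁻¹ᵁ O) := by
  rw [← Scheme.Hom.comp_preimage, ptMap_fac]
  rfl

end ptmap

section pieces

variable {φ U} {q : ℕ} (hX : IsGoodPair X q U X₁)
  (hY : IsGoodPair Y 0 (φ ⁻¹ᵁ U) (φ ⁻¹ᵁ X₁))
  (t : Y.cdPt 1 → X.cdPt (q + 1)) (ht : ∀ y : Y.cdPt 1, φ y.1 = (t y).1)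

/-- the image of a point of codimension one outside the preimage of `U` -/
abbrev tauPt (y : outPts Y 0 (φ ⁻¹ᵁ U)) : outPts X q U :=
  ⟨t y.1, fun h => y.2 (by
    change φ y.1.1 ∈ U
    rw [ht y.1]
    exact h)⟩

/-- the trace on the closure of `y` of the preimage of `X₁`, through the closure of the image -/
noncomputable abbrev pieceW (y : outPts Y 0 (φ ⁻¹ᵁ U)) : (Y.ptSub y.1.1).scheme.Opens :=
  (ptMap φ y.1.1 (t y.1).1 (ht y.1)) ⁻¹ᵁ ((X.ptSubι (t y.1).1) ⁻¹ᵁ X₁)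

theorem pieceW_le (y : outPts Y 0 (φ ⁻¹ᵁ U)) :
    pieceW X₁ t ht y ≤ (Y.ptSubι y.1.1) ⁻¹ᵁ (φ ⁻¹ᵁ X₁) :=
  le_of_eq (preimage_ptMap φ y.1.1 (t y.1).1 (ht y.1) X₁)

theorem le_pieceW (y : outPts Y 0 (φ ⁻¹ᵁ U)) :
    (Y.ptSubι y.1.1) ⁻¹ᵁ (φ ⁻¹ᵁ X₁) ≤ pieceW X₁ t ht y :=
  le_of_eq (preimage_ptMap φ y.1.1 (t y.1).1 (ht y.1) X₁).symm

include hY in
theorem pieceW_nonempty (y : outPts Y 0 (φ ⁻¹ᵁ U)) :
    ((pieceW X₁ t ht y : (Y.ptSub y.1.1).scheme.Opens) : Set (Y.ptSub y.1.1).scheme).Nonempty := by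
  obtain ⟨z, hz⟩ := (ptPre Y y.1.1 (φ ⁻¹ᵁ X₁) (mem_X₁ hY y)).2.1
  exact ⟨z, le_pieceW X₁ t ht y hz⟩

include hY in
/-- the index of the closure of `y` given by `pieceW` -/
noncomputable abbrev pieceIdx (y : outPts Y 0 (φ ⁻¹ᵁ U)) : ptIdx Y y.1.1 :=
  Groth.Agent.H79.BMCohNorm.mkIdx Y y.1.1 (pieceW X₁ t ht y) (pieceW_nonempty X₁ hY t ht y)

include hY in
theorem pieceIdx_dim (y : outPts Y 0 (φ ⁻¹ᵁ U)) :
    WeilCoh.dim ((pieceW X₁ t ht y : (Y.ptSub y.1.1).scheme.Opens) : Scheme.{u}) =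
      WeilCoh.dim (((Y.ptSubι y.1.1) ⁻¹ᵁ (φ ⁻¹ᵁ X₁) : (Y.ptSub y.1.1).scheme.Opens) :
        Scheme.{u}) :=
  (pieceIdx X₁ hY t ht y).2.2.trans (ptPre Y y.1.1 (φ ⁻¹ᵁ X₁) (mem_X₁ hY y)).2.2.symm

include hY in
/-- the comparison of the two descriptions of the trace -/
noncomputable abbrev pieceRho (y : outPts Y 0 (φ ⁻¹ᵁ U)) :
    (Y.ptSub y.1.1).res (pieceW X₁ t ht y) ⟶
      (Y.ptSub y.1.1).res ((Y.ptSubι y.1.1) ⁻¹ᵁ (φ ⁻¹ᵁ X₁)) :=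
  (Y.ptSub y.1.1).resLE (pieceW_le X₁ t ht y) (pieceIdx_dim X₁ hY t ht y)

include hY in
/-- the pieces of the reduced complement on `Y`, on the traces `pieceW` -/
noncomputable abbrev pieceG (y : outPts Y 0 (φ ⁻¹ᵁ U)) :
    (Y.ptSub y.1.1).res (pieceW X₁ t ht y) ⟶ cmplObj (X := Y) (φ ⁻¹ᵁ U) (φ ⁻¹ᵁ X₁) :=
  pieceRho X₁ hY t ht y ≫ pieceObjHom hY y

/-- the proper morphism between the traces of the closures -/
noncomputable abbrev pieceF (y : outPts Y 0 (φ ⁻¹ᵁ U)) :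
    ((Y.ptSub y.1.1).res (pieceW X₁ t ht y)).scheme ⟶
      ((X.ptSub (t y.1).1).res ((X.ptSubι (t y.1).1) ⁻¹ᵁ X₁)).scheme :=
  (ptMap φ y.1.1 (t y.1).1 (ht y.1)) ∣_ ((X.ptSubι (t y.1).1) ⁻¹ᵁ X₁)

theorem pieceF_comp (y : outPts Y 0 (φ ⁻¹ᵁ U)) :
    pieceF X₁ t ht y ≫ ((X.ptSubι (t y.1).1) ⁻¹ᵁ X₁).ι ≫ X.ptSubι (t y.1).1 =
      (pieceW X₁ t ht y).ι ≫ Y.ptSubι y.1.1 ≫ φ :=
  Groth.Agent.H79.BMCohNorm.restrict_comp φ y.1.1 (t y.1).1 _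
    (ptMap_fac φ y.1.1 (t y.1).1 (ht y.1)) _

/-- the square relating the pieces on `Y` and on `X` -/
theorem pieceG_cmplMap (y : outPts Y 0 (φ ⁻¹ᵁ U)) :
    (pieceG X₁ hY t ht y).hom ≫ cmplMap φ U X₁ =
      pieceF X₁ t ht y ≫ (pieceObjHom hX (tauPt t ht y)).hom := by
  rw [← cancel_mono (cmplι (X := X) U X₁ ≫ X₁.ι)]
  have e1 : cmplMap φ U X₁ ≫ cmplι (X := X) U X₁ ≫ X₁.ι =
      cmplι (X := Y) (φ ⁻¹ᵁ U) (φ ⁻¹ᵁ X₁) ≫ (φ ⁻¹ᵁ X₁).ι ≫ φ := by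
    rw [← Category.assoc, cmplMap_fac, Category.assoc, morphismRestrict_ι]
  have e2 : pieceHom y.1.1 (φ ⁻¹ᵁ U) (φ ⁻¹ᵁ X₁) y.2 ≫
      cmplι (X := Y) (φ ⁻¹ᵁ U) (φ ⁻¹ᵁ X₁) ≫ (φ ⁻¹ᵁ X₁).ι =
      ((Y.ptSubι y.1.1) ⁻¹ᵁ (φ ⁻¹ᵁ X₁)).ι ≫ Y.ptSubι y.1.1 := by
    rw [← Category.assoc, pieceHom_fac, morphismRestrict_ι]
  have e3 : pieceHom (t y.1).1 U X₁ (tauPt t ht y).2 ≫ cmplι (X := X) U X₁ ≫ X₁.ι =
      ((X.ptSubι (t y.1).1) ⁻¹ᵁ X₁).ι ≫ X.ptSubι (t y.1).1 := by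
    rw [← Category.assoc, pieceHom_fac, morphismRestrict_ι]
  have hL : (pieceG X₁ hY t ht y).hom ≫ cmplMap φ U X₁ ≫ cmplι (X := X) U X₁ ≫ X₁.ι =
      (pieceW X₁ t ht y).ι ≫ Y.ptSubι y.1.1 ≫ φ := by
    change ((Y.ptSub y.1.1).scheme.homOfLE (pieceW_le X₁ t ht y) ≫
      pieceHom y.1.1 (φ ⁻¹ᵁ U) (φ ⁻¹ᵁ X₁) y.2) ≫ _ = _
    rw [e1, Category.assoc, reassoc_of% e2, Scheme.homOfLE_ι_assoc]
  have hR : (pieceF X₁ t ht y ≫ (pieceObjHom hX (tauPt t ht y)).hom) ≫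
      cmplι (X := X) U X₁ ≫ X₁.ι = (pieceW X₁ t ht y).ι ≫ Y.ptSubι y.1.1 ≫ φ := by
    change (pieceF X₁ t ht y ≫ pieceHom (t y.1).1 U X₁ (tauPt t ht y).2) ≫ _ = _
    rw [Category.assoc, e3]
    exact pieceF_comp X₁ t ht y
  rw [Category.assoc, hL, hR]

end pieces

section sums

theorem isIso_homOfLE_of_le {S : Scheme.{u}} {O O' : S.Opens} (h : O ≤ O') (h' : O' ≤ O) :
    IsIso (S.homOfLE h) := by
  refine ⟨S.homOfLE h', ?_, ?_⟩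
  · rw [Scheme.homOfLE_homOfLE]
    exact Scheme.homOfLE_rfl _ _
  · rw [Scheme.homOfLE_homOfLE]
    exact Scheme.homOfLE_rfl _ _

variable {φ U} {q : ℕ} (hX : IsGoodPair X q U X₁)
  (hY : IsGoodPair Y 0 (φ ⁻¹ᵁ U) (φ ⁻¹ᵁ X₁))
  (t : Y.cdPt 1 → X.cdPt (q + 1)) (ht : ∀ y : Y.cdPt 1, φ y.1 = (t y).1)

instance isIso_pieceRho (y : outPts Y 0 (φ ⁻¹ᵁ U)) : IsIso (pieceRho X₁ hY t ht y).hom :=
  isIso_homOfLE_of_le (pieceW_le X₁ t ht y) (le_pieceW X₁ t ht y)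

instance isClosedImmersion_pieceG (y : outPts Y 0 (φ ⁻¹ᵁ U)) :
    IsClosedImmersion (pieceG X₁ hY t ht y).hom := by
  change IsClosedImmersion ((pieceRho X₁ hY t ht y).hom ≫ (pieceObjHom hY y).hom)
  infer_instance

theorem range_pieceG (y : outPts Y 0 (φ ⁻¹ᵁ U)) :
    Set.range (pieceG X₁ hY t ht y).hom = Set.range (pieceObjHom hY y).hom := by
  change Set.range ((pieceRho X₁ hY t ht y).hom ≫ (pieceObjHom hY y).hom) = _
  have hs : Function.Surjective (pieceRho X₁ hY t ht y).hom :=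
    (TopCat.homeoOfIso (asIso (pieceRho X₁ hY t ht y).hom.base)).surjective
  ext z
  constructor
  · rintro ⟨w, rfl⟩
    exact ⟨(pieceRho X₁ hY t ht y).hom w, rfl⟩
  · rintro ⟨w, rfl⟩
    obtain ⟨w', rfl⟩ := hs w
    exact ⟨w', rfl⟩

theorem pieceG_disjoint (y y' : outPts Y 0 (φ ⁻¹ᵁ U)) (hyy' : y ≠ y') :
    Disjoint (Set.range (pieceG X₁ hY t ht y).hom) (Set.range (pieceG X₁ hY t ht y').hom) := by
  rw [range_pieceG, range_pieceG]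
  exact pieces_disjoint hY y y' hyy'

theorem pieceG_cover (z : (cmplObj (X := Y) (φ ⁻¹ᵁ U) (φ ⁻¹ᵁ X₁)).scheme) :
    ∃ y : outPts Y 0 (φ ⁻¹ᵁ U), z ∈ Set.range (pieceG X₁ hY t ht y).hom := by
  obtain ⟨y, hy⟩ := pieces_cover hY z
  exact ⟨y, by rw [range_pieceG]; exact hy⟩

end sums

section resPush

variable {R : Type u} [CommRing R] {A : Coefs R} (T : PreTheory V R A) [IsProper φ]

/-- the hypothesis that residue maps do not see nilpotents in the closed part -/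
def RedHyp : Prop :=
  ∀ (S : Obj V) (D D'' : Decomp S) (gU : D''.U ⟶ D.U)
    (k : D''.Z.scheme ⟶ D.Z.scheme) [IsClosedImmersion k] [AlgebraicGeometry.Surjective k],
    gU ≫ D.j = D''.j → k ≫ D.i = D''.i →
    ∀ (M : A.Cat) (i n i' n' : ℤ) (hi : i' = i + 1 - 2 * D.codim) (hn : n' = n - D.codim)
      (hi'' : i' = i + 1 - 2 * D''.codim) (hn'' : n' = n - D''.codim)
      (hk : i' = i' + 2 * relCodim D''.Z.scheme D.Z.scheme)
      (hk' : n' = n' + relCodim D''.Z.scheme D.Z.scheme),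
    T.pull gU M i n ≫ T.res D'' M i n i' n' hi'' hn'' ≫ T.push k M i' n' i' n' hk hk' =
      T.res D M i n i' n' hi hn

/-- the residue of a push-forward along `φ` is the push-forward, along the induced morphism of
reduced complements, of the residue -/
theorem res_push_formula (hred : RedHyp T) (hle : U ≤ X₁)
    (hdX : WeilCoh.dim (U : Scheme.{u}) = WeilCoh.dim (X₁ : Scheme.{u}))
    (hdY : WeilCoh.dim ((φ ⁻¹ᵁ U : Y.scheme.Opens) : Scheme.{u}) =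
      WeilCoh.dim ((φ ⁻¹ᵁ X₁ : Y.scheme.Opens) : Scheme.{u}))
    (M : A.Cat) (i n a b c d e k : ℤ)
    (ha : a = i + 1 - 2 * (gDecomp (X := Y) (φ ⁻¹ᵁ U) (φ ⁻¹ᵁ X₁) (φ.preimage_mono hle) hdY).codim)
    (hb : b = n - (gDecomp (X := Y) (φ ⁻¹ᵁ U) (φ ⁻¹ᵁ X₁) (φ.preimage_mono hle) hdY).codim)
    (hc : c = i + 2 * relCodim (Y.res (φ ⁻¹ᵁ U)).scheme (X.res U).scheme)
    (hd : d = n + relCodim (Y.res (φ ⁻¹ᵁ U)).scheme (X.res U).scheme)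
    (he : e = a + 2 * relCodim (cmplObj (X := Y) (φ ⁻¹ᵁ U) (φ ⁻¹ᵁ X₁)).scheme
      (cmplObj (X := X) U X₁).scheme)
    (hk : k = b + relCodim (cmplObj (X := Y) (φ ⁻¹ᵁ U) (φ ⁻¹ᵁ X₁)).scheme
      (cmplObj (X := X) U X₁).scheme)
    (he' : e = c + 1 - 2 * (gDecomp (X := X) U X₁ hle hdX).codim)
    (hk' : k = d - (gDecomp (X := X) U X₁ hle hdX).codim)
    (x : T.gp (Y.res (φ ⁻¹ᵁ U)) M i n) :
    (T.res (gDecomp (X := X) U X₁ hle hdX) M c d e k he' hk').hom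
      ((T.push (X := Y.res (φ ⁻¹ᵁ U)) (Y := X.res U) (φ ∣_ U) M i n c d hc hd).hom x) =
    (T.push (X := cmplObj (X := Y) (φ ⁻¹ᵁ U) (φ ⁻¹ᵁ X₁)) (Y := cmplObj (X := X) U X₁)
      (cmplMap φ U X₁) M a b e k he hk).hom
      ((T.res (gDecomp (X := Y) (φ ⁻¹ᵁ U) (φ ⁻¹ᵁ X₁) (φ.preimage_mono hle) hdY)
        M i n a b ha hb).hom x) := by
  have hdimZ := dim_pbObj φ U X₁
  have hcodD' : (pbDecomp φ U X₁ hle hdY).codim =
      (gDecomp (X := Y) (φ ⁻¹ᵁ U) (φ ⁻¹ᵁ X₁) (φ.preimage_mono hle) hdY).codim := by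
    change relCodim (pbObj φ U X₁).scheme _ = relCodim (cmplObj (X := Y) _ _).scheme _
    unfold relCodim
    rw [hdimZ]
  have hrcZ : relCodim (pbObj φ U X₁).scheme (cmplObj (X := X) U X₁).scheme =
      relCodim (cmplObj (X := Y) (φ ⁻¹ᵁ U) (φ ⁻¹ᵁ X₁)).scheme
        (cmplObj (X := X) U X₁).scheme := by
    unfold relCodim
    rw [hdimZ]
  have hrck : relCodim (cmplObj (X := Y) (φ ⁻¹ᵁ U) (φ ⁻¹ᵁ X₁)).scheme
      (pbObj φ U X₁).scheme = 0 := by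
    unfold relCodim
    rw [hdimZ]
    ring
  have ha' : a = i + 1 - 2 * (pbDecomp φ U X₁ hle hdY).codim := by
    rw [hcodD']
    exact ha
  have hb' : b = n - (pbDecomp φ U X₁ hle hdY).codim := by
    rw [hcodD']
    exact hb
  have he2 : e = a + 2 * relCodim (pbDecomp φ U X₁ hle hdY).Z.scheme
      (gDecomp (X := X) U X₁ hle hdX).Z.scheme := by
    change e = a + 2 * relCodim (pbObj φ U X₁).scheme (cmplObj (X := X) U X₁).scheme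
    rw [hrcZ]
    exact he
  have hk2 : k = b + relCodim (pbDecomp φ U X₁ hle hdY).Z.scheme
      (gDecomp (X := X) U X₁ hle hdX).Z.scheme := by
    change k = b + relCodim (pbObj φ U X₁).scheme (cmplObj (X := X) U X₁).scheme
    rw [hrcZ]
    exact hk
  have hpbZ : IsPullback (pbDecomp φ U X₁ hle hdY).i
      (pullback.snd (φ ∣_ X₁) (cmplι (X := X) U X₁)) (φ ∣_ X₁)
      (gDecomp (X := X) U X₁ hle hdX).i :=
    IsPullback.of_hasPullback (φ ∣_ X₁) (cmplι (X := X) U X₁)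
  have hpbU : IsPullback (pbDecomp φ U X₁ hle hdY).j.hom (φ ∣_ U) (φ ∣_ X₁)
      (gDecomp (X := X) U X₁ hle hdX).j.hom :=
    Groth.Agent.H79.BMCohBij.isPullback_restrict_le φ hle (φ.preimage_mono hle)
  have inst1 : @IsProper (pbDecomp φ U X₁ hle hdY).Z.scheme
      (gDecomp (X := X) U X₁ hle hdX).Z.scheme
      (pullback.snd (φ ∣_ X₁) (cmplι (X := X) U X₁)) :=
    (inferInstance : IsProper (pullback.snd (φ ∣_ X₁) (cmplι (X := X) U X₁)))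
  have inst2 : @IsClosedImmersion
      (gDecomp (X := Y) (φ ⁻¹ᵁ U) (φ ⁻¹ᵁ X₁) (φ.preimage_mono hle) hdY).Z.scheme
      (pbDecomp φ U X₁ hle hdY).Z.scheme (pbLift φ U X₁) :=
    (inferInstance : IsClosedImmersion (pbLift φ U X₁))
  have inst3 : @AlgebraicGeometry.Surjective
      (gDecomp (X := Y) (φ ⁻¹ᵁ U) (φ ⁻¹ᵁ X₁) (φ.preimage_mono hle) hdY).Z.scheme
      (pbDecomp φ U X₁ hle hdY).Z.scheme (pbLift φ U X₁) :=
    (inferInstance : AlgebraicGeometry.Surjective (pbLift φ U X₁))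
  have inst4 : @IsProper (pbDecomp φ U X₁ hle hdY).U.scheme
      (gDecomp (X := X) U X₁ hle hdX).U.scheme (φ ∣_ U) :=
    (inferInstance : IsProper (φ ∣_ U))
  have inst5 : @IsProper (Y.res (φ ⁻¹ᵁ X₁)).scheme (X.res X₁).scheme (φ ∣_ X₁) :=
    (inferInstance : IsProper (φ ∣_ X₁))
  have hrp := T.res_push (gDecomp (X := X) U X₁ hle hdX) (pbDecomp φ U X₁ hle hdY) (φ ∣_ X₁)
    (pullback.snd (φ ∣_ X₁) (cmplι (X := X) U X₁)) (φ ∣_ U) hpbZ hpbU M i n a b c d e k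
    ha' hb' hc hd he2 hk2 he' hk'
  have hka : a = a + 2 * relCodim (cmplObj (X := Y) (φ ⁻¹ᵁ U) (φ ⁻¹ᵁ X₁)).scheme
      (pbObj φ U X₁).scheme := by
    rw [hrck]
    ring
  have hkb : b = b + relCodim (cmplObj (X := Y) (φ ⁻¹ᵁ U) (φ ⁻¹ᵁ X₁)).scheme
      (pbObj φ U X₁).scheme := by
    rw [hrck]
    ring
  have hrd := hred (Y.res (φ ⁻¹ᵁ X₁)) (pbDecomp φ U X₁ hle hdY)
    (gDecomp (X := Y) (φ ⁻¹ᵁ U) (φ ⁻¹ᵁ X₁) (φ.preimage_mono hle) hdY) (𝟙 _) (pbLift φ U X₁)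
    (Category.id_comp _) (pbLift_fst φ U X₁) M i n a b ha' hb' ha hb hka hkb
  have hpc := T.push_comp (X := cmplObj (X := Y) (φ ⁻¹ᵁ U) (φ ⁻¹ᵁ X₁)) (Y := pbObj φ U X₁)
    (Z := cmplObj (X := X) U X₁) (pbLift φ U X₁)
    (pullback.snd (φ ∣_ X₁) (cmplι (X := X) U X₁)) M a b a b e k hka hkb
    (by
      rw [hrcZ]
      exact he)
    (by
      rw [hrcZ]
      exact hk) he hk
  have h1 := congrArg (fun g => g.hom x) hrp
  have h2 := congrArg (fun g => g.hom x) hrd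
  refine h1.symm.trans ?_
  change (T.push (X := pbObj φ U X₁) (Y := cmplObj (X := X) U X₁)
    (pullback.snd (φ ∣_ X₁) (cmplι (X := X) U X₁)) M a b e k he2 hk2).hom
      ((T.res (pbDecomp φ U X₁ hle hdY) M i n a b ha' hb').hom x) = _
  rw [← h2]
  change (T.push (X := pbObj φ U X₁) (Y := cmplObj (X := X) U X₁)
    (pullback.snd (φ ∣_ X₁) (cmplι (X := X) U X₁)) M a b e k he2 hk2).hom
      ((T.push (X := cmplObj (X := Y) (φ ⁻¹ᵁ U) (φ ⁻¹ᵁ X₁)) (Y := pbObj φ U X₁)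
        (pbLift φ U X₁) M a b a b hka hkb).hom
        ((T.res (gDecomp (X := Y) (φ ⁻¹ᵁ U) (φ ⁻¹ᵁ X₁) (φ.preimage_mono hle) hdY)
          M i n a b ha hb).hom ((T.pull (𝟙 (Y.res (φ ⁻¹ᵁ U))) M i n).hom x))) = _
  rw [pull_id_apply]
  have h3 := congrArg (fun g => g.hom ((T.res (gDecomp (X := Y) (φ ⁻¹ᵁ U) (φ ⁻¹ᵁ X₁)
    (φ.preimage_mono hle) hdY) M i n a b ha hb).hom x)) hpc
  refine h3.trans ?_
  exact congrArg (fun g => g.hom ((T.res (gDecomp (X := Y) (φ ⁻¹ᵁ U) (φ ⁻¹ᵁ X₁)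
    (φ.preimage_mono hle) hdY) M i n a b ha hb).hom x))
    (Groth.Agent.H79.BMCohSeqMid.push_congr T (pbLift_snd φ U X₁) M a b e k he hk)

end resPush

section main

variable {R : Type u} [CommRing R] {A : Coefs R} (T : PreTheory V R A) [IsProper φ]
  {φ U X₁} {q : ℕ} (hX : IsGoodPair X q U X₁)
  (hY : IsGoodPair Y 0 (φ ⁻¹ᵁ U) (φ ⁻¹ᵁ X₁))
  (t : Y.cdPt 1 → X.cdPt (q + 1)) (ht : ∀ y : Y.cdPt 1, φ y.1 = (t y).1)

/-- pushing a class of a piece on `Y` to the reduced complement on `X` goes through the piece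
of the image point -/
theorem push_cmplMap_push_pieceG (y : outPts Y 0 (φ ⁻¹ᵁ U)) (M : A.Cat) (i n : ℤ)
    (h0 : i = i + 2 * relCodim ((Y.ptSub y.1.1).res (pieceW X₁ t ht y)).scheme
      (cmplObj (X := Y) (φ ⁻¹ᵁ U) (φ ⁻¹ᵁ X₁)).scheme)
    (h0' : n = n + relCodim ((Y.ptSub y.1.1).res (pieceW X₁ t ht y)).scheme
      (cmplObj (X := Y) (φ ⁻¹ᵁ U) (φ ⁻¹ᵁ X₁)).scheme)
    (h1 : i = i + 2 * relCodim (cmplObj (X := Y) (φ ⁻¹ᵁ U) (φ ⁻¹ᵁ X₁)).scheme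
      (cmplObj (X := X) U X₁).scheme)
    (h1' : n = n + relCodim (cmplObj (X := Y) (φ ⁻¹ᵁ U) (φ ⁻¹ᵁ X₁)).scheme
      (cmplObj (X := X) U X₁).scheme)
    (h2 : i = i + 2 * relCodim ((Y.ptSub y.1.1).res (pieceW X₁ t ht y)).scheme
      ((X.ptSub (t y.1).1).res ((X.ptSubι (t y.1).1) ⁻¹ᵁ X₁)).scheme)
    (h2' : n = n + relCodim ((Y.ptSub y.1.1).res (pieceW X₁ t ht y)).scheme
      ((X.ptSub (t y.1).1).res ((X.ptSubι (t y.1).1) ⁻¹ᵁ X₁)).scheme)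
    (h3 : i = i + 2 * relCodim ((X.ptSub (t y.1).1).res ((X.ptSubι (t y.1).1) ⁻¹ᵁ X₁)).scheme
      (cmplObj (X := X) U X₁).scheme)
    (h3' : n = n + relCodim ((X.ptSub (t y.1).1).res ((X.ptSubι (t y.1).1) ⁻¹ᵁ X₁)).scheme
      (cmplObj (X := X) U X₁).scheme)
    (d : T.gp ((Y.ptSub y.1.1).res (pieceW X₁ t ht y)) M i n) :
    (T.push (X := cmplObj (X := Y) (φ ⁻¹ᵁ U) (φ ⁻¹ᵁ X₁)) (Y := cmplObj (X := X) U X₁)
      (cmplMap φ U X₁) M i n i n h1 h1').hom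
      ((T.push (X := (Y.ptSub y.1.1).res (pieceW X₁ t ht y))
        (Y := cmplObj (X := Y) (φ ⁻¹ᵁ U) (φ ⁻¹ᵁ X₁)) (pieceG X₁ hY t ht y).hom M i n i n
          h0 h0').hom d) =
    (T.push (X := (X.ptSub (t y.1).1).res ((X.ptSubι (t y.1).1) ⁻¹ᵁ X₁))
      (Y := cmplObj (X := X) U X₁) (pieceObjHom hX (tauPt t ht y)).hom M i n i n h3 h3').hom
      ((T.push (X := (Y.ptSub y.1.1).res (pieceW X₁ t ht y))
        (Y := (X.ptSub (t y.1).1).res ((X.ptSubι (t y.1).1) ⁻¹ᵁ X₁))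
        (pieceF X₁ t ht y) M i n i n h2 h2').hom d) := by
  have hrc : relCodim ((Y.ptSub y.1.1).res (pieceW X₁ t ht y)).scheme
      (cmplObj (X := X) U X₁).scheme = 0 := by
    unfold relCodim at h0 h1 ⊢
    omega
  have h4 : i = i + 2 * relCodim ((Y.ptSub y.1.1).res (pieceW X₁ t ht y)).scheme
      (cmplObj (X := X) U X₁).scheme := by
    rw [hrc]
    ring
  have h4' : n = n + relCodim ((Y.ptSub y.1.1).res (pieceW X₁ t ht y)).scheme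
      (cmplObj (X := X) U X₁).scheme := by
    rw [hrc]
    ring
  have hp1 : IsProper ((pieceG X₁ hY t ht y).hom ≫ cmplMap φ U X₁) := inferInstance
  have hp2 : IsProper (pieceF X₁ t ht y ≫ (pieceObjHom hX (tauPt t ht y)).hom) := inferInstance
  have hc1 := T.push_comp (X := (Y.ptSub y.1.1).res (pieceW X₁ t ht y))
    (Y := cmplObj (X := Y) (φ ⁻¹ᵁ U) (φ ⁻¹ᵁ X₁)) (Z := cmplObj (X := X) U X₁)
    (pieceG X₁ hY t ht y).hom (cmplMap φ U X₁) M i n i n i n h0 h0' h1 h1' h4 h4'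
  have hc2 := T.push_comp (X := (Y.ptSub y.1.1).res (pieceW X₁ t ht y))
    (Y := (X.ptSub (t y.1).1).res ((X.ptSubι (t y.1).1) ⁻¹ᵁ X₁))
    (Z := cmplObj (X := X) U X₁)
    (pieceF X₁ t ht y) (pieceObjHom hX (tauPt t ht y)).hom M i n i n i n h2 h2' h3 h3' h4 h4'
  have e1 := congrArg (fun g => g.hom d) hc1
  have e2 := congrArg (fun g => g.hom d) hc2
  refine e1.trans (Eq.trans ?_ e2.symm)
  exact congrArg (fun g => g.hom d)
    (Groth.Agent.H79.BMCohSeqMid.push_congr T (pieceG_cmplMap X₁ hX hY t ht y) M i n i n h4 h4')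

omit [IsProper φ] in
/-- the total of the restrictions to the pieces of a class pushed forward from one piece -/
theorem sum_lof_pull_push [Fintype (outPts X q U)] [DecidableEq (X.cdPt (q + 1))]
    (x' : outPts X q U) (M : A.Cat) (i n : ℤ)
    (h3 : ∀ x : outPts X q U, i = i + 2 *
      relCodim ((X.ptSub x.1.1).res ((X.ptSubι x.1.1) ⁻¹ᵁ X₁)).scheme
        (cmplObj (X := X) U X₁).scheme)
    (h3' : ∀ x : outPts X q U, n = n +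
      relCodim ((X.ptSub x.1.1).res ((X.ptSubι x.1.1) ⁻¹ᵁ X₁)).scheme
        (cmplObj (X := X) U X₁).scheme)
    (e : T.gp ((X.ptSub x'.1.1).res ((X.ptSubι x'.1.1) ⁻¹ᵁ X₁)) M i n) :
    (∑ x : outPts X q U, DirectSum.lof R (X.cdPt (q + 1))
      (fun z : X.cdPt (q + 1) => T.ptGp X z.1 M i n) x.1
      (((T.ptι X x.1.1 i n (ptPre X x.1.1 X₁ (mem_X₁ hX x))).app M).hom
        ((T.pull (pieceObjHom hX x) M i n).hom
          ((T.push (X := (X.ptSub x'.1.1).res ((X.ptSubι x'.1.1) ⁻¹ᵁ X₁))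
            (Y := cmplObj (X := X) U X₁) (pieceObjHom hX x').hom M i n i n
            (h3 x') (h3' x')).hom e)))) =
    DirectSum.lof R (X.cdPt (q + 1)) (fun z : X.cdPt (q + 1) => T.ptGp X z.1 M i n) x'.1
      (((T.ptι X x'.1.1 i n (ptPre X x'.1.1 X₁ (mem_X₁ hX x'))).app M).hom e) := by
  rw [Finset.sum_eq_single x']
  · rw [pull_push_self T _ (pieceObjHom hX) M i n x' (h3 x') (h3' x') e]
  · intro x _ hxx'
    rw [pull_push_eq_zero T _ (pieceObjHom hX) (pieces_disjoint hX) M i n x' x hxx'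
      (h3 x') (h3' x') e, map_zero, map_zero]
  · intro h
    exact absurd (Finset.mem_univ _) h

/-- the push-forward, along `φ`, of the residue at a point of codimension one of `Y` outside
the preimage of `U` -/
theorem ptPush_res_formula (Q' : T.ResData Y 0) (F : ∀ y : Y.cdPt 1, T.PtPush φ y.1 (t y).1)
    (y : outPts Y 0 (φ ⁻¹ᵁ U)) (M : A.Cat) (i₃ n₃ i₂ n₂ : ℤ)
    (h4 : i₂ = i₃ + 1 - 2 * (((0 : ℕ) : ℤ) + 1)) (h4' : n₂ = n₃ - (((0 : ℕ) : ℤ) + 1))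
    (hiD : i₂ = i₃ + 1 - 2 * (gDecomp (X := Y) (φ ⁻¹ᵁ U) (φ ⁻¹ᵁ X₁) hY.hle (dim_U_eq hY)).codim)
    (hnD : n₂ = n₃ - (gDecomp (X := Y) (φ ⁻¹ᵁ U) (φ ⁻¹ᵁ X₁) hY.hle (dim_U_eq hY)).codim)
    (h2 : i₂ = i₂ + 2 * relCodim ((Y.ptSub y.1.1).res (pieceW X₁ t ht y)).scheme
      ((X.ptSub (t y.1).1).res ((X.ptSubι (t y.1).1) ⁻¹ᵁ X₁)).scheme)
    (h2' : n₂ = n₂ + relCodim ((Y.ptSub y.1.1).res (pieceW X₁ t ht y)).scheme
      ((X.ptSub (t y.1).1).res ((X.ptSubι (t y.1).1) ⁻¹ᵁ X₁)).scheme)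
    (a₀ : T.gp (Y.res (φ ⁻¹ᵁ U)) M i₃ n₃) :
    ((F y.1).cpt M i₂ n₂).hom ((Q'.cpt y.1 M i₃ n₃ i₂ n₂ h4 h4').hom
      (((T.fjι Y 0 i₃ n₃ (fjMk Y 0 (φ ⁻¹ᵁ U) hY.hU)).app M).hom a₀)) =
    ((T.ptι X (t y.1).1 i₂ n₂ (ptPre X (t y.1).1 X₁ (mem_X₁ hX (tauPt t ht y)))).app M).hom
      ((T.push (X := (Y.ptSub y.1.1).res (pieceW X₁ t ht y))
        (Y := (X.ptSub (t y.1).1).res ((X.ptSubι (t y.1).1) ⁻¹ᵁ X₁))
        (pieceF X₁ t ht y) M i₂ n₂ i₂ n₂ h2 h2').hom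
        ((T.pull (pieceG X₁ hY t ht y) M i₂ n₂).hom
          ((T.res (gDecomp (X := Y) (φ ⁻¹ᵁ U) (φ ⁻¹ᵁ X₁) hY.hle (dim_U_eq hY))
            M i₃ n₃ i₂ n₂ hiD hnD).hom a₀))) := by
  rw [Groth.Agent.H79.BMCohSeqMid.res_formula_good T hY Q' y M i₃ n₃ i₂ n₂ h4 h4' hiD hnD a₀]
  rw [ocolimι_le_apply T (Y.ptSub y.1.1) _ i₂ n₂ M (pieceIdx X₁ hY t ht y)
    (ptPre Y y.1.1 (φ ⁻¹ᵁ X₁) (mem_X₁ hY y)) (pieceW_le X₁ t ht y) (pieceIdx_dim X₁ hY t ht y)]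
  have hpc := pull_comp_apply T (pieceRho X₁ hY t ht y) (pieceObjHom hY y) M i₂ n₂
    ((T.res (gDecomp (X := Y) (φ ⁻¹ᵁ U) (φ ⁻¹ᵁ X₁) hY.hle (dim_U_eq hY))
      M i₃ n₃ i₂ n₂ hiD hnD).hom a₀)
  refine Eq.trans (congrArg (fun c => ((F y.1).cpt M i₂ n₂).hom
    (((T.ptι Y y.1.1 i₂ n₂ (pieceIdx X₁ hY t ht y)).app M).hom c)) hpc.symm) ?_
  have hspec := (F y.1).cpt_spec M i₂ n₂ (pieceIdx X₁ hY t ht y)
    (ptPre X (t y.1).1 X₁ (mem_X₁ hX (tauPt t ht y))) (pieceF X₁ t ht y)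
    (pieceF_comp X₁ t ht y) h2 h2'
  exact congrArg (fun g => g.hom ((T.pull (pieceG X₁ hY t ht y) M i₂ n₂).hom
    ((T.res (gDecomp (X := Y) (φ ⁻¹ᵁ U) (φ ⁻¹ᵁ X₁) hY.hle (dim_U_eq hY))
      M i₃ n₃ i₂ n₂ hiD hnD).hom a₀))) hspec

include hX hY in
omit [IsProper φ] in
/-- the relative codimension of the reduced complements, in terms of the codimensions of the two
decompositions -/
theorem relCodim_cmplObj_eq (hdim : WeilCoh.dim Y.scheme + q = WeilCoh.dim X.scheme) :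
    relCodim (cmplObj (X := Y) (φ ⁻¹ᵁ U) (φ ⁻¹ᵁ X₁)).scheme (cmplObj (X := X) U X₁).scheme =
      (gDecomp (X := Y) (φ ⁻¹ᵁ U) (φ ⁻¹ᵁ X₁) hY.hle (dim_U_eq hY)).codim + (q : ℤ) -
        (gDecomp (X := X) U X₁ hX.hle (dim_U_eq hX)).codim := by
  have h1 : WeilCoh.dim (X₁ : Scheme.{u}) = WeilCoh.dim X.scheme :=
    dim_of_containsFj X (q + 1) X₁ hX.hX₁
  have h2 : WeilCoh.dim ((φ ⁻¹ᵁ X₁ : Y.scheme.Opens) : Scheme.{u}) = WeilCoh.dim Y.scheme :=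
    dim_of_containsFj Y (0 + 1) _ hY.hX₁
  change _ = relCodim (cmplObj (X := Y) (φ ⁻¹ᵁ U) (φ ⁻¹ᵁ X₁)).scheme
      ((φ ⁻¹ᵁ X₁ : Y.scheme.Opens) : Scheme.{u}) + (q : ℤ) -
    relCodim (cmplObj (X := X) U X₁).scheme (X₁ : Scheme.{u})
  unfold relCodim
  rw [h1, h2]
  omega

include hX hY in
omit [IsProper φ] in
theorem relCodim_res_eq (hdim : WeilCoh.dim Y.scheme + q = WeilCoh.dim X.scheme) :
    relCodim (Y.res (φ ⁻¹ᵁ U)).scheme (X.res U).scheme = (q : ℤ) := by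
  have h1 : WeilCoh.dim (U : Scheme.{u}) = WeilCoh.dim X.scheme :=
    dim_of_containsFj X q U hX.hU
  have h2 : WeilCoh.dim ((φ ⁻¹ᵁ U : Y.scheme.Opens) : Scheme.{u}) = WeilCoh.dim Y.scheme :=
    dim_of_containsFj Y 0 _ hY.hU
  change relCodim ((φ ⁻¹ᵁ U : Y.scheme.Opens) : Scheme.{u}) (U : Scheme.{u}) = _
  unfold relCodim
  rw [h1, h2]
  omega

/-- the total residue on `X` of a class pushed forward from the preimage of `U` is the sum of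
the push-forwards of the residues on `Y` -/
theorem tot_push_eq_famTot (hred : RedHyp T)
    (hdim : WeilCoh.dim Y.scheme + q = WeilCoh.dim X.scheme)
    (Q : T.ResData X q) (Q' : T.ResData Y 0) (F : ∀ y : Y.cdPt 1, T.PtPush φ y.1 (t y).1)
    (M : A.Cat) (i₁ n₁ i₂ n₂ i₃ n₃ : ℤ)
    (h13 : i₁ = i₃ + 2 * (q : ℤ)) (h13' : n₁ = n₃ + (q : ℤ))
    (h2 : i₂ = i₁ + 1 - 2 * ((q : ℤ) + 1)) (h2' : n₂ = n₁ - ((q : ℤ) + 1))
    (h4 : i₂ = i₃ + 1 - 2 * (((0 : ℕ) : ℤ) + 1)) (h4' : n₂ = n₃ - (((0 : ℕ) : ℤ) + 1))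
    (hc : i₁ = i₃ + 2 * relCodim (Y.res (φ ⁻¹ᵁ U)).scheme (X.res U).scheme)
    (hd : n₁ = n₃ + relCodim (Y.res (φ ⁻¹ᵁ U)).scheme (X.res U).scheme)
    (a₀ : T.gp (Y.res (φ ⁻¹ᵁ U)) M i₃ n₃) :
    (Q.tot M i₁ n₁ i₂ n₂ h2 h2').hom (((T.fjι X q i₁ n₁ (fjMk X q U hX.hU)).app M).hom
      ((T.push (X := Y.res (φ ⁻¹ᵁ U)) (Y := X.res U) (φ ∣_ U) M i₃ n₃ i₁ n₁ hc hd).hom a₀)) =
    (PreTheory.PtPush.famTot t F M i₂ n₂).hom ((Q'.tot M i₃ n₃ i₂ n₂ h4 h4').hom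
      (((T.fjι Y 0 i₃ n₃ (fjMk Y 0 (φ ⁻¹ᵁ U) hY.hU)).app M).hom a₀)) := by
  classical
  have ht : ∀ y : Y.cdPt 1, φ y.1 = (t y).1 := fun y => (F y).maps_pt
  have hfX := finite_outPts X q U hX.hU
  have hftX : Fintype (outPts X q U) := Fintype.ofFinite _
  have hfY := finite_outPts Y 0 (φ ⁻¹ᵁ U) hY.hU
  have hftY : Fintype (outPts Y 0 (φ ⁻¹ᵁ U)) := Fintype.ofFinite _
  rw [Groth.Agent.H79.BMCohSeqMid.tot_eq_sum T Q M i₁ n₁ i₂ n₂ h2 h2' hX.hU,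
    Groth.Agent.H79.BMCohSeqMid.tot_eq_sum T Q' M i₃ n₃ i₂ n₂ h4 h4' hY.hU, map_sum]
  have hfam : ∀ y : outPts Y 0 (φ ⁻¹ᵁ U),
      (PreTheory.PtPush.famTot t F M i₂ n₂).hom (DirectSum.lof R (Y.cdPt (0 + 1))
        (fun z : Y.cdPt (0 + 1) => T.ptGp Y z.1 M i₂ n₂) y.1
        ((Q'.cpt y.1 M i₃ n₃ i₂ n₂ h4 h4').hom
          (((T.fjι Y 0 i₃ n₃ (fjMk Y 0 (φ ⁻¹ᵁ U) hY.hU)).app M).hom a₀))) =
      DirectSum.lof R (X.cdPt (q + 1)) (fun z : X.cdPt (q + 1) => T.ptGp X z.1 M i₂ n₂) (t y.1)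
        (((F y.1).cpt M i₂ n₂).hom ((Q'.cpt y.1 M i₃ n₃ i₂ n₂ h4 h4').hom
          (((T.fjι Y 0 i₃ n₃ (fjMk Y 0 (φ ⁻¹ᵁ U) hY.hU)).app M).hom a₀))) := fun y =>
    PreTheory.PtPush.famTot_lof t F M i₂ n₂ y.1 _
  rw [Finset.sum_congr rfl (fun y _ => hfam y)]
  rcases isEmpty_or_nonempty (outPts X q U) with hEX | hNX
  · have hEY : IsEmpty (outPts Y 0 (φ ⁻¹ᵁ U)) := ⟨fun y => hEX.false (tauPt t ht y)⟩
    rw [Finset.univ_eq_empty, Finset.sum_empty, Finset.univ_eq_empty, Finset.sum_empty]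
  · have x₀ : outPts X q U := Classical.arbitrary _
    have hcodX := gDecomp_codim hX x₀
    have hiDX : i₂ = i₁ + 1 - 2 * (gDecomp (X := X) U X₁ hX.hle (dim_U_eq hX)).codim := by
      rw [hcodX]
      push_cast
      exact h2
    have hnDX : n₂ = n₁ - (gDecomp (X := X) U X₁ hX.hle (dim_U_eq hX)).codim := by
      rw [hcodX]
      push_cast
      exact h2'
    have hrcXY := relCodim_cmplObj_eq hX hY hdim
    rw [hcodX] at hrcXY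
    have hLterm : ∀ x : outPts X q U,
        (Q.cpt x.1 M i₁ n₁ i₂ n₂ h2 h2').hom (((T.fjι X q i₁ n₁ (fjMk X q U hX.hU)).app M).hom
          ((T.push (X := Y.res (φ ⁻¹ᵁ U)) (Y := X.res U) (φ ∣_ U) M i₃ n₃ i₁ n₁ hc hd).hom a₀)) =
        ((T.ptι X x.1.1 i₂ n₂ (ptPre X x.1.1 X₁ (mem_X₁ hX x))).app M).hom
          ((T.pull (pieceObjHom hX x) M i₂ n₂).hom
            ((T.res (gDecomp (X := X) U X₁ hX.hle (dim_U_eq hX)) M i₁ n₁ i₂ n₂ hiDX hnDX).hom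
              ((T.push (X := Y.res (φ ⁻¹ᵁ U)) (Y := X.res U) (φ ∣_ U) M i₃ n₃ i₁ n₁
                hc hd).hom a₀))) := fun x =>
      Groth.Agent.H79.BMCohSeqMid.res_formula_good T hX Q x M i₁ n₁ i₂ n₂ h2 h2' hiDX hnDX _
    rw [Finset.sum_congr rfl (fun x _ => congrArg _ (hLterm x))]
    rcases isEmpty_or_nonempty (outPts Y 0 (φ ⁻¹ᵁ U)) with hEY | hNY
    · rw [Finset.univ_eq_empty (α := outPts Y 0 (φ ⁻¹ᵁ U)), Finset.sum_empty]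
      have hEZ : IsEmpty (cmplObj (X := Y) (φ ⁻¹ᵁ U) (φ ⁻¹ᵁ X₁)).scheme :=
        ⟨fun z => hEY.false (pieces_cover hY z).choose⟩
      have hR := res_push_formula φ U X₁ T hred hX.hle (dim_U_eq hX) (dim_U_eq hY) M i₃ n₃
        (i₃ + 1 - 2 * (gDecomp (X := Y) (φ ⁻¹ᵁ U) (φ ⁻¹ᵁ X₁) hY.hle (dim_U_eq hY)).codim)
        (n₃ - (gDecomp (X := Y) (φ ⁻¹ᵁ U) (φ ⁻¹ᵁ X₁) hY.hle (dim_U_eq hY)).codim)
        i₁ n₁ i₂ n₂ rfl rfl hc hd
        (by rw [hrcXY]; push_cast; omega) (by rw [hrcXY]; push_cast; omega) hiDX hnDX a₀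
      rw [hR]
      rw [Groth.Agent.H79.BMCohZero.gp_eq_zero_of_isEmpty T
        (cmplObj (X := Y) (φ ⁻¹ᵁ U) (φ ⁻¹ᵁ X₁)) M _ _ ((T.res (gDecomp (X := Y) (φ ⁻¹ᵁ U)
          (φ ⁻¹ᵁ X₁) hY.hle (dim_U_eq hY)) M i₃ n₃ _ _ rfl rfl).hom a₀)]
      apply Finset.sum_eq_zero
      intro x _
      rw [map_zero, map_zero, map_zero, map_zero]
    · have y₀ : outPts Y 0 (φ ⁻¹ᵁ U) := Classical.arbitrary _
      have hcodY := gDecomp_codim hY y₀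
      have hiDY : i₂ = i₃ + 1 - 2 *
          (gDecomp (X := Y) (φ ⁻¹ᵁ U) (φ ⁻¹ᵁ X₁) hY.hle (dim_U_eq hY)).codim := by
        rw [hcodY]
        push_cast
        exact h4
      have hnDY : n₂ = n₃ -
          (gDecomp (X := Y) (φ ⁻¹ᵁ U) (φ ⁻¹ᵁ X₁) hY.hle (dim_U_eq hY)).codim := by
        rw [hcodY]
        push_cast
        exact h4'
      rw [hcodY] at hrcXY
      have hrcXY0 : relCodim (cmplObj (X := Y) (φ ⁻¹ᵁ U) (φ ⁻¹ᵁ X₁)).scheme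
          (cmplObj (X := X) U X₁).scheme = 0 := by
        rw [hrcXY]
        push_cast
        ring
      have he : i₂ = i₂ + 2 * relCodim (cmplObj (X := Y) (φ ⁻¹ᵁ U) (φ ⁻¹ᵁ X₁)).scheme
          (cmplObj (X := X) U X₁).scheme := by
        rw [hrcXY0]
        ring
      have hk : n₂ = n₂ + relCodim (cmplObj (X := Y) (φ ⁻¹ᵁ U) (φ ⁻¹ᵁ X₁)).scheme
          (cmplObj (X := X) U X₁).scheme := by
        rw [hrcXY0]
        ring
      have hR := res_push_formula φ U X₁ T hred hX.hle (dim_U_eq hX) (dim_U_eq hY) M i₃ n₃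
        i₂ n₂ i₁ n₁ i₂ n₂ hiDY hnDY hc hd he hk hiDX hnDX a₀
      rw [hR]
      -- index equations for the pieces
      have hrcG : ∀ y : outPts Y 0 (φ ⁻¹ᵁ U),
          relCodim ((Y.ptSub y.1.1).res (pieceW X₁ t ht y)).scheme
            (cmplObj (X := Y) (φ ⁻¹ᵁ U) (φ ⁻¹ᵁ X₁)).scheme = 0 :=
        fun y => Groth.Agent.H79.relCodim_eq_zero (pieceG X₁ hY t ht y)
      have hrcP : ∀ x : outPts X q U,
          relCodim ((X.ptSub x.1.1).res ((X.ptSubι x.1.1) ⁻¹ᵁ X₁)).scheme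
            (cmplObj (X := X) U X₁).scheme = 0 :=
        fun x => Groth.Agent.H79.relCodim_eq_zero (pieceObjHom hX x)
      have hrcF : ∀ y : outPts Y 0 (φ ⁻¹ᵁ U),
          relCodim ((Y.ptSub y.1.1).res (pieceW X₁ t ht y)).scheme
            ((X.ptSub (t y.1).1).res ((X.ptSubι (t y.1).1) ⁻¹ᵁ X₁)).scheme = 0 := by
        intro y
        have h1 := hrcG y
        have h2 : relCodim ((X.ptSub (t y.1).1).res ((X.ptSubι (t y.1).1) ⁻¹ᵁ X₁)).scheme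
            (cmplObj (X := X) U X₁).scheme = 0 := hrcP (tauPt t ht y)
        unfold relCodim at h1 h2 hrcXY0 ⊢
        omega
      have hG0 : ∀ y : outPts Y 0 (φ ⁻¹ᵁ U), i₂ = i₂ + 2 *
          relCodim ((Y.ptSub y.1.1).res (pieceW X₁ t ht y)).scheme
            (cmplObj (X := Y) (φ ⁻¹ᵁ U) (φ ⁻¹ᵁ X₁)).scheme := fun y => by
        rw [hrcG y]
        ring
      have hG0' : ∀ y : outPts Y 0 (φ ⁻¹ᵁ U), n₂ = n₂ +
          relCodim ((Y.ptSub y.1.1).res (pieceW X₁ t ht y)).scheme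
            (cmplObj (X := Y) (φ ⁻¹ᵁ U) (φ ⁻¹ᵁ X₁)).scheme := fun y => by
        rw [hrcG y]
        ring
      have hP0 : ∀ x : outPts X q U, i₂ = i₂ + 2 *
          relCodim ((X.ptSub x.1.1).res ((X.ptSubι x.1.1) ⁻¹ᵁ X₁)).scheme
            (cmplObj (X := X) U X₁).scheme := fun x => by
        rw [hrcP x]
        ring
      have hP0' : ∀ x : outPts X q U, n₂ = n₂ +
          relCodim ((X.ptSub x.1.1).res ((X.ptSubι x.1.1) ⁻¹ᵁ X₁)).scheme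
            (cmplObj (X := X) U X₁).scheme := fun x => by
        rw [hrcP x]
        ring
      have hF0 : ∀ y : outPts Y 0 (φ ⁻¹ᵁ U), i₂ = i₂ + 2 *
          relCodim ((Y.ptSub y.1.1).res (pieceW X₁ t ht y)).scheme
            ((X.ptSub (t y.1).1).res ((X.ptSubι (t y.1).1) ⁻¹ᵁ X₁)).scheme := fun y => by
        rw [hrcF y]
        ring
      have hF0' : ∀ y : outPts Y 0 (φ ⁻¹ᵁ U), n₂ = n₂ +
          relCodim ((Y.ptSub y.1.1).res (pieceW X₁ t ht y)).scheme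
            ((X.ptSub (t y.1).1).res ((X.ptSubι (t y.1).1) ⁻¹ᵁ X₁)).scheme := fun y => by
        rw [hrcF y]
        ring
      -- the right-hand side
      have hRterm : ∀ y : outPts Y 0 (φ ⁻¹ᵁ U),
          ((F y.1).cpt M i₂ n₂).hom ((Q'.cpt y.1 M i₃ n₃ i₂ n₂ h4 h4').hom
            (((T.fjι Y 0 i₃ n₃ (fjMk Y 0 (φ ⁻¹ᵁ U) hY.hU)).app M).hom a₀)) =
          ((T.ptι X (t y.1).1 i₂ n₂
            (ptPre X (t y.1).1 X₁ (mem_X₁ hX (tauPt t ht y)))).app M).hom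
            ((T.push (X := (Y.ptSub y.1.1).res (pieceW X₁ t ht y))
              (Y := (X.ptSub (t y.1).1).res ((X.ptSubι (t y.1).1) ⁻¹ᵁ X₁))
              (pieceF X₁ t ht y) M i₂ n₂ i₂ n₂ (hF0 y) (hF0' y)).hom
              ((T.pull (pieceG X₁ hY t ht y) M i₂ n₂).hom
                ((T.res (gDecomp (X := Y) (φ ⁻¹ᵁ U) (φ ⁻¹ᵁ X₁) hY.hle (dim_U_eq hY))
                  M i₃ n₃ i₂ n₂ hiDY hnDY).hom a₀))) := fun y =>
        ptPush_res_formula T hX hY t ht Q' F y M i₃ n₃ i₂ n₂ h4 h4' hiDY hnDY (hF0 y) (hF0' y) a₀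
      rw [Finset.sum_congr rfl (fun y _ => congrArg _ (hRterm y))]
      obtain ⟨r', hr'⟩ : ∃ r', r' = (T.res (gDecomp (X := Y) (φ ⁻¹ᵁ U) (φ ⁻¹ᵁ X₁) hY.hle
        (dim_U_eq hY)) M i₃ n₃ i₂ n₂ hiDY hnDY).hom a₀ := ⟨_, rfl⟩
      rw [← hr']
      have hsum := eq_sum_push_pull T _ (pieceG X₁ hY t ht) (pieceG_disjoint X₁ hY t ht)
        (pieceG_cover X₁ hY t ht) M i₂ n₂ hG0 hG0' r'
      have hpush : (T.push (X := cmplObj (X := Y) (φ ⁻¹ᵁ U) (φ ⁻¹ᵁ X₁))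
          (Y := cmplObj (X := X) U X₁) (cmplMap φ U X₁) M i₂ n₂ i₂ n₂ he hk).hom r' =
          ∑ y : outPts Y 0 (φ ⁻¹ᵁ U),
            (T.push (X := (X.ptSub (t y.1).1).res ((X.ptSubι (t y.1).1) ⁻¹ᵁ X₁))
              (Y := cmplObj (X := X) U X₁) (pieceObjHom hX (tauPt t ht y)).hom M i₂ n₂ i₂ n₂
              (hP0 (tauPt t ht y)) (hP0' (tauPt t ht y))).hom
              ((T.push (X := (Y.ptSub y.1.1).res (pieceW X₁ t ht y))
                (Y := (X.ptSub (t y.1).1).res ((X.ptSubι (t y.1).1) ⁻¹ᵁ X₁))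
                (pieceF X₁ t ht y) M i₂ n₂ i₂ n₂ (hF0 y) (hF0' y)).hom
                ((T.pull (pieceG X₁ hY t ht y) M i₂ n₂).hom r')) := by
        refine (congrArg (fun c => (T.push (X := cmplObj (X := Y) (φ ⁻¹ᵁ U) (φ ⁻¹ᵁ X₁))
          (Y := cmplObj (X := X) U X₁) (cmplMap φ U X₁) M i₂ n₂ i₂ n₂ he hk).hom c) hsum).trans ?_
        rw [map_sum]
        refine Finset.sum_congr rfl (fun y _ => ?_)
        exact push_cmplMap_push_pieceG T hX hY t ht y M i₂ n₂ (hG0 y) (hG0' y) he hk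
          (hF0 y) (hF0' y) (hP0 (tauPt t ht y)) (hP0' (tauPt t ht y)) _
      rw [hpush]
      simp only [map_sum]
      rw [Finset.sum_comm]
      refine Finset.sum_congr rfl (fun y _ => ?_)
      exact sum_lof_pull_push T hX (tauPt t ht y) M i₂ n₂ hP0 hP0' _

end main

end Groth.Agent.H79.BMCohNormRes
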