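import Groth.Prelude.Def_BMCoh2
import Mathlib

namespace Groth.Agent.H79

open CategoryTheory AlgebraicGeometry Opposite BMCoh

universe u

section
variable {V : ObjectProperty Scheme.{u}} [BMCoh.IsConstructible V] {R : Type u} [CommRing R]
  {A : BMCoh.Coefs R} (T : BMCoh.PreTheory V R A) {X Y W : BMCoh.Obj V}
  (iX : X ⟶ W) (iY : Y ⟶ W)

theorem isClosedImmersion_of_compl (h : Set.range iX.hom = (Set.range iY.hom)ᶜ) :
    IsClosedImmersion iY.hom := by
  have hopen : IsOpen (Set.range iX.hom) := iX.hom.isOpenEmbedding.isOpen_range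
  have hclosed : IsClosed (Set.range iY.hom) := by
    rw [← isOpen_compl_iff, ← h]
    exact hopen
  exact { isClosedEmbedding := ⟨iY.hom.isOpenEmbedding.isEmbedding, hclosed⟩ }

include iY in
theorem relCodim_eq_zero : relCodim Y.scheme W.scheme = 0 := by
  unfold relCodim
  rw [BMCoh.Hom.dim_eq iY]
  ring


theorem relCodim_self (Z : Scheme.{u}) : relCodim Z Z = 0 := by
  unfold relCodim
  ring

/-- `pull ∘ push = id` along an open-closed immersion. -/
theorem push_pull_id [IsClosedImmersion iY.hom] (M : A.Cat) (k n : ℤ)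
    (hi : k = k + 2 * relCodim Y.scheme W.scheme) (hn : n = n + relCodim Y.scheme W.scheme) :
    T.push iY.hom M k n k n hi hn ≫ T.pull iY M k n = 𝟙 _ := by
  have hpb : IsPullback (𝟙 Y : Y ⟶ Y).hom (𝟙 Y.scheme) iY.hom iY.hom :=
    IsKernelPair.id_of_mono iY.hom
  have h1 := T.push_pull (X := Y) (Y := W) (X' := Y) (Y' := Y) iY.hom (𝟙 Y.scheme) iY (𝟙 Y) hpb
    M k n k n hi hn (by rw [relCodim_self]; ring) (by rw [relCodim_self]; ring)
  rw [T.push_id] at h1
  change _ = ((T.H k n).map (𝟙 Y : Y ⟶ Y).op).app M ≫ 𝟙 _ at h1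
  rw [op_id, (T.H k n).map_id, NatTrans.id_app, Category.comp_id] at h1
  exact h1

theorem pull_prod_bijective_succ (h : Set.range iX.hom = (Set.range iY.hom)ᶜ) (M : A.Cat)
    (j n : ℤ) :
    Function.Bijective (fun a : T.gp W M (j + 1) n =>
      ((T.pull iX M (j + 1) n).hom a, (T.pull iY M (j + 1) n).hom a)) := by
  have hci : IsClosedImmersion iY.hom := isClosedImmersion_of_compl iX iY h
  have hc : relCodim Y.scheme W.scheme = 0 := relCodim_eq_zero iY
  let D : Decomp W :=
    { Z := Y, U := X, i := iY.hom, closedImm := hci, j := iX, range_eq := h }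
  have hcD : D.codim = 0 := hc
  have hcD' : relCodim D.Z.scheme W.scheme = 0 := hc
  -- exact sequences
  have e1 := T.exact_pull_res D M (j + 1) n (j + 1 + 1) n (by rw [hcD]; ring) (by rw [hcD]; ring)
  have e2 := T.exact_res_push D M (j + 1) n (j + 1 + 1) n (by rw [hcD]; ring) (by rw [hcD]; ring)
    (by rw [hcD']; ring) (by rw [hcD']; ring)
  have e3 := T.exact_push_pull D M j n (j + 1) n (by rw [hcD']; ring) (by rw [hcD']; ring)
  -- push is split injective
  have hP1 := push_pull_id T iY M (j + 1) n (by rw [hc]; ring) (by rw [hc]; ring)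
  have hP2 := push_pull_id T iY M (j + 1 + 1) n (by rw [hc]; ring) (by rw [hc]; ring)
  have hP1' : ∀ b : T.gp Y M (j + 1) n,
      (T.pull iY M (j + 1) n).hom ((T.push iY.hom M (j + 1) n (j + 1) n
        (by rw [hc]; ring) (by rw [hc]; ring)).hom b) = b := by
    intro b
    have := congrArg (fun φ => φ.hom b) hP1
    simpa using this
  have hP2' : ∀ b : T.gp Y M (j + 1 + 1) n,
      (T.pull iY M (j + 1 + 1) n).hom ((T.push iY.hom M (j + 1 + 1) n (j + 1 + 1) n
        (by rw [hc]; ring) (by rw [hc]; ring)).hom b) = b := by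
    intro b
    have := congrArg (fun φ => φ.hom b) hP2
    simpa using this
  -- res = 0
  have hres : ∀ u : T.gp X M (j + 1) n,
      (T.res D M (j + 1) n (j + 1 + 1) n (by rw [hcD]; ring) (by rw [hcD]; ring)).hom u = 0 := by
    intro u
    have h0 := e2.apply_apply_eq_zero u
    have h1 := hP2' ((T.res D M (j + 1) n (j + 1 + 1) n (by rw [hcD]; ring)
      (by rw [hcD]; ring)).hom u)
    rw [← h1]
    have h0' : (T.push iY.hom M (j + 1 + 1) n (j + 1 + 1) n (by rw [hc]; ring)
        (by rw [hc]; ring)).hom ((T.res D M (j + 1) n (j + 1 + 1) n (by rw [hcD]; ring)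
      (by rw [hcD]; ring)).hom u) = 0 := h0
    rw [h0', map_zero]
  -- pull iX surjective
  have hsurjX : Function.Surjective (T.pull iX M (j + 1) n).hom := by
    intro u
    exact (e1 u).1 (hres u)
  -- pull iX ∘ push = 0
  have hzero : ∀ b : T.gp Y M (j + 1) n,
      (T.pull iX M (j + 1) n).hom ((T.push iY.hom M (j + 1) n (j + 1) n
        (by rw [hc]; ring) (by rw [hc]; ring)).hom b) = 0 := by
    intro b
    exact e3.apply_apply_eq_zero b
  constructor
  · -- injective
    have key : ∀ a : T.gp W M (j + 1) n, (T.pull iX M (j + 1) n).hom a = 0 →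
        (T.pull iY M (j + 1) n).hom a = 0 → a = 0 := by
      intro a hx hy
      obtain ⟨b, hb⟩ := (e3 a).1 hx
      have hb' : (T.push iY.hom M (j + 1) n (j + 1) n (by rw [hc]; ring)
        (by rw [hc]; ring)).hom b = a := hb
      have := hP1' b
      rw [hb', hy] at this
      rw [← hb', ← this, map_zero]
    intro a a' haa
    have h1 := congrArg Prod.fst haa
    have h2 := congrArg Prod.snd haa
    simp only at h1 h2
    have := key (a - a') (by rw [map_sub, h1, sub_self]) (by rw [map_sub, h2, sub_self])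
    exact sub_eq_zero.1 this
  · rintro ⟨x, y⟩
    obtain ⟨a₀, ha₀⟩ := hsurjX x
    refine ⟨a₀ + (T.push iY.hom M (j + 1) n (j + 1) n (by rw [hc]; ring) (by rw [hc]; ring)).hom
      (y - (T.pull iY M (j + 1) n).hom a₀), ?_⟩
    simp only [map_add, hzero, hP1', add_zero, ha₀]
    congr 1
    abel

end

end Groth.Agent.H79
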