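import Groth.Agent.H79.BMCohBig
import Groth.Agent.H22.RedImm
import Groth.Agent.H79.BMDisjoint
import Mathlib.AlgebraicGeometry.IdealSheaf.Functorial
import Mathlib.AlgebraicGeometry.Morphisms.Separated

set_option autoImplicit false
universe u
open CategoryTheory AlgebraicGeometry Opposite CategoryTheory.Limits TopologicalSpace

namespace Groth.Agent.H79.BMCohPieces

section schemes

/-- the kernel of a morphism from a reduced scheme is the vanishing ideal of the closure of its
range -/
theorem ker_eq_vanishingIdeal_of_isReduced {W X : Scheme.{u}} [IsReduced W] (f : W ⟶ X) :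
    f.ker = Scheme.IdealSheafData.vanishingIdeal (.closure (Set.range f)) := by
  rw [← Scheme.IdealSheafData.map_bot, ← Scheme.nilradical_eq_bot (X := W),
    ← Scheme.IdealSheafData.vanishingIdeal_top, Scheme.IdealSheafData.map_vanishingIdeal]
  congr 2
  simp

/-- a morphism from a reduced scheme with range in a closed set factors through the reduced
structure on the closed set -/
theorem exists_lift_reduced {W X : Scheme.{u}} [IsReduced W] (h : W ⟶ X) (S : Closeds X)
    (hS : Set.range h ⊆ (S : Set X)) :
    ∃ g : W ⟶ (Scheme.IdealSheafData.vanishingIdeal S).subscheme,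
      g ≫ (Scheme.IdealSheafData.vanishingIdeal S).subschemeι = h := by
  have H : (Scheme.IdealSheafData.vanishingIdeal S).subschemeι.ker ≤ h.ker := by
    rw [Scheme.IdealSheafData.ker_subschemeι, ker_eq_vanishingIdeal_of_isReduced]
    apply Scheme.IdealSheafData.vanishingIdeal_antimono
    exact (Closeds.closure_le).mpr hS
  exact ⟨IsClosedImmersion.lift _ h H, IsClosedImmersion.lift_fac _ _ _⟩

/-- a closed immersion into a reduced scheme with open range is an open immersion -/
theorem isOpenImmersion_of_isClosedImmersion_of_isOpen_range {W Z : Scheme.{u}} [IsReduced Z]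
    (f : W ⟶ Z) [IsClosedImmersion f] (ho : IsOpen (Set.range f)) : IsOpenImmersion f := by
  let O : Z.Opens := ⟨Set.range f, ho⟩
  have hsub : Set.range f ⊆ Set.range O.ι := by
    rw [Scheme.Opens.range_ι]
    exact subset_rfl
  let f' : W ⟶ O := IsOpenImmersion.lift O.ι f hsub
  have hf' : f' ≫ O.ι = f := IsOpenImmersion.lift_fac _ _ _
  have hcl : IsClosedImmersion (f' ≫ O.ι) := by
    rw [hf']
    infer_instance
  have hcl' : IsClosedImmersion f' := IsClosedImmersion.of_comp f' O.ι
  have hsurj : Surjective f' := by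
    refine ⟨fun y => ?_⟩
    have hy : (O.ι y) ∈ Set.range f := by
      have := y.2
      exact this
    obtain ⟨w, hw⟩ := hy
    refine ⟨w, ?_⟩
    apply O.ι.isOpenEmbedding.injective
    rw [← hw, ← hf']
    rfl
  have hred : IsReduced (O : Scheme.{u}) := isReduced_of_isOpenImmersion O.ι
  have hiso : IsIso f' := isIso_of_isClosedImmersion_of_surjective f'
  rw [← hf']
  infer_instance

end schemes

open BMCoh Groth.Agent.H79.BMCohDim Groth.Agent.H79.BMCohRes Groth.Agent.H79.BMCohFilt
  Groth.Agent.H79.BMCohDecomp Groth.Agent.H79.BMCohSeqRes Groth.Agent.H79.BMCohSeqPush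
  Groth.Agent.H79.BMCohBij Groth.Agent.H79.BMCohToFj

section lifts

variable {V : ObjectProperty Scheme.{u}} [IsConstructible V]

/-- the dimension does not increase along a topological embedding into a finite-dimensional
scheme -/
theorem dim_le_of_isEmbedding {W Y : Scheme.{u}} (f : W ⟶ Y) (hf : Topology.IsEmbedding f)
    (hfin : topologicalKrullDim Y < ⊤) : WeilCoh.dim W ≤ WeilCoh.dim Y := by
  unfold WeilCoh.dim WeilCoh.natDim
  refine natDim_mono ?_ hfin
  rw [tkd_eq, tkd_eq]
  refine Order.krullDim_le_of_strictMono (fun w => f w) ?_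
  apply strictMono_of_le_iff_le
  intro a b
  rw [Scheme.le_iff_specializes, Scheme.le_iff_specializes]
  exact (hf.isInducing.specializes_iff).symm

/-- an open of an object containing the image of a morphism of objects has the dimension of
the object -/
theorem dim_eq_of_range_subset {W Z : Obj V} (g : W ⟶ Z) (O : Z.scheme.Opens)
    (h : Set.range g.hom ⊆ (O : Set Z.scheme)) :
    WeilCoh.dim (O : Scheme.{u}) = WeilCoh.dim Z.scheme := by
  apply le_antisymm (dim_opens_le Z O)
  rw [← g.dim_eq]
  have hsub : Set.range g.hom ⊆ Set.range O.ι := by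
    rw [Scheme.Opens.range_ι]
    exact h
  have hfac : IsOpenImmersion.lift O.ι g.hom hsub ≫ O.ι = g.hom := IsOpenImmersion.lift_fac _ _ _
  have hoi : IsOpenImmersion (IsOpenImmersion.lift O.ι g.hom hsub ≫ O.ι) := by
    rw [hfac]
    infer_instance
  have hoi' : IsOpenImmersion (IsOpenImmersion.lift O.ι g.hom hsub) :=
    IsOpenImmersion.of_comp _ O.ι
  exact dim_le_of_isEmbedding _ (IsOpenImmersion.lift O.ι g.hom hsub).isOpenEmbedding.isEmbedding
    (IsConstructible.finiteDim (Z.res O).mem)

/-- a morphism of objects factors through any open containing its image -/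
noncomputable def liftOpen {W Z : Obj V} (g : W ⟶ Z) (O : Z.scheme.Opens)
    (h : Set.range g.hom ⊆ (O : Set Z.scheme)) : W ⟶ Z.res O where
  hom := IsOpenImmersion.lift O.ι g.hom (by
    rw [Scheme.Opens.range_ι]
    exact h)
  isOpenImmersion := by
    have hsub : Set.range g.hom ⊆ Set.range O.ι := by
      rw [Scheme.Opens.range_ι]
      exact h
    have hfac : IsOpenImmersion.lift O.ι g.hom hsub ≫ O.ι = g.hom :=
      IsOpenImmersion.lift_fac _ _ _
    have hoi : IsOpenImmersion (IsOpenImmersion.lift O.ι g.hom hsub ≫ O.ι) := by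
      rw [hfac]
      infer_instance
    exact IsOpenImmersion.of_comp _ O.ι
  dim_eq := g.dim_eq.trans (dim_eq_of_range_subset g O h).symm

theorem liftOpen_resι {W Z : Obj V} (g : W ⟶ Z) (O : Z.scheme.Opens)
    (h : Set.range g.hom ⊆ (O : Set Z.scheme))
    (hd : WeilCoh.dim (O : Scheme.{u}) = WeilCoh.dim Z.scheme) :
    liftOpen g O h ≫ Z.resι O hd = g :=
  Hom.ext (IsOpenImmersion.lift_fac _ _ _)

theorem range_liftOpen {W Z : Obj V} (g : W ⟶ Z) (O : Z.scheme.Opens)
    (h : Set.range g.hom ⊆ (O : Set Z.scheme)) (z : ↥(O : Scheme.{u})) :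
    z ∈ Set.range (liftOpen g O h).hom ↔ (z.1 : Z.scheme) ∈ Set.range g.hom := by
  have hfac : (liftOpen g O h).hom ≫ O.ι = g.hom := IsOpenImmersion.lift_fac _ _ _
  constructor
  · rintro ⟨w, rfl⟩
    refine ⟨w, ?_⟩
    rw [← hfac]
    rfl
  · rintro ⟨w, hw⟩
    refine ⟨w, ?_⟩
    apply O.ι.isOpenEmbedding.injective
    refine Eq.trans ?_ hw
    rw [← hfac]
    rfl

end lifts

section family

variable {V : ObjectProperty Scheme.{u}} [IsConstructible V] {R : Type u} [CommRing R]
  {A : Coefs R} (T : PreTheory V R A)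

omit [IsConstructible V] in
/-- restriction along a surjective morphism of objects is injective -/
theorem pull_injective_of_surjective {W Z : Obj V} (e : W ⟶ Z)
    (hs : Function.Surjective e.hom) (M : A.Cat) (i n : ℤ) :
    Function.Injective (T.pull e M i n).hom := by
  have htop : e.hom.opensRange = ⊤ := by
    apply top_unique
    intro z _
    obtain ⟨w, hw⟩ := hs z
    exact ⟨w, hw⟩
  have hiso : IsIso e.hom := isIso_of_isOpenImmersion_of_opensRange_eq_top e.hom htop
  let einv : Z ⟶ W := ⟨inv e.hom, inferInstance, e.dim_eq.symm⟩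
  have h1 : einv ≫ e = 𝟙 Z := Hom.ext (IsIso.inv_hom_id e.hom)
  intro a b hab
  have h2 := congrArg (fun c => (T.pull einv M i n).hom c) hab
  simp only [← pull_comp_apply, h1, pull_id_apply] at h2
  exact h2

variable {ι : Type*} {Z : Obj V} (W : ι → Obj V) (g : ∀ x, W x ⟶ Z)

/-- the open union of the images of a finite part of a family of morphisms of objects -/
def unionOpen (F : Finset ι) : Z.scheme.Opens :=
  ⟨⋃ x ∈ F, Set.range (g x).hom,
    isOpen_biUnion (fun x _ => (g x).hom.isOpenEmbedding.isOpen_range)⟩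

omit [IsConstructible V] in
theorem mem_unionOpen (F : Finset ι) (z : Z.scheme) :
    z ∈ unionOpen W g F ↔ ∃ x ∈ F, z ∈ Set.range (g x).hom := by
  change z ∈ ⋃ x ∈ F, Set.range (g x).hom ↔ _
  simp only [Set.mem_iUnion, exists_prop]

omit [IsConstructible V] in
theorem range_subset_unionOpen (F : Finset ι) (x : ι) (hx : x ∈ F) :
    Set.range (g x).hom ⊆ (unionOpen W g F : Set Z.scheme) := by
  intro z hz
  exact (mem_unionOpen W g F z).mpr ⟨x, hx, hz⟩

theorem dim_unionOpen (F : Finset ι) (hF : F.Nonempty) :
    WeilCoh.dim (unionOpen W g F : Scheme.{u}) = WeilCoh.dim Z.scheme := by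
  obtain ⟨x, hx⟩ := hF
  exact dim_eq_of_range_subset (g x) _ (range_subset_unionOpen W g F x hx)

/-- a class vanishing on every piece of a finite part of a disjoint family vanishes on the union
of those pieces -/
theorem pull_unionOpen_eq_zero
    (hdisj : ∀ x y, x ≠ y → Disjoint (Set.range (g x).hom) (Set.range (g y).hom))
    (M : A.Cat) (k n : ℤ) (c : T.gp Z M (k + 1) n)
    (hc : ∀ x, (T.pull (g x) M (k + 1) n).hom c = 0) (F : Finset ι) (hF : F.Nonempty) :
    (T.pull (Z.resι (unionOpen W g F) (dim_unionOpen W g F hF)) M (k + 1) n).hom c = 0 := by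
  induction hF using Finset.Nonempty.cons_induction with
  | singleton y =>
    have hsub : Set.range (g y).hom ⊆ (unionOpen W g {y} : Set Z.scheme) :=
      range_subset_unionOpen W g {y} y (Finset.mem_singleton_self y)
    have hsurj : Function.Surjective (liftOpen (g y) (unionOpen W g {y}) hsub).hom := by
      intro z
      have hz : (z.1 : Z.scheme) ∈ Set.range (g y).hom := by
        obtain ⟨x, hx, hzx⟩ := (mem_unionOpen W g {y} z.1).mp z.2
        rw [Finset.mem_singleton] at hx
        subst hx
        exact hzx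
      exact (range_liftOpen (g y) _ hsub z).mpr hz
    apply pull_injective_of_surjective T _ hsurj M (k + 1) n
    rw [← pull_comp_apply, liftOpen_resι, map_zero]
    exact hc y
  | cons y F hy hF ih =>
    have hne : (Finset.cons y F hy).Nonempty := Finset.cons_nonempty hy
    have hd'' := dim_unionOpen W g (Finset.cons y F hy) hne
    have hd' := dim_unionOpen W g F hF
    have hle : unionOpen W g F ≤ unionOpen W g (Finset.cons y F hy) := by
      intro z hz
      obtain ⟨x, hx, hzx⟩ := (mem_unionOpen W g F z).mp hz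
      exact (mem_unionOpen W g _ z).mpr ⟨x, Finset.mem_cons_of_mem hx, hzx⟩
    have hsub : Set.range (g y).hom ⊆ (unionOpen W g (Finset.cons y F hy) : Set Z.scheme) :=
      range_subset_unionOpen W g _ y (Finset.mem_cons_self y F)
    have hcompl : Set.range (Z.resLE hle (hd'.trans hd''.symm)).hom =
        (Set.range (liftOpen (g y) (unionOpen W g (Finset.cons y F hy)) hsub).hom)ᶜ := by
      ext z
      rw [Set.mem_compl_iff, range_liftOpen]
      constructor
      · rintro ⟨w, rfl⟩ hzy
        have h1 : ((Z.scheme.homOfLE hle w).1 : Z.scheme) = w.1 := Scheme.homOfLE_apply hle w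
        have hzy' : (w.1 : Z.scheme) ∈ Set.range (g y).hom := by
          rw [← h1]
          exact hzy
        obtain ⟨x, hx, hwx⟩ := (mem_unionOpen W g F w.1).mp w.2
        have hxy : x ≠ y := by
          rintro rfl
          exact hy hx
        exact Set.disjoint_left.mp (hdisj x y hxy) hwx hzy'
      · intro hzy
        obtain ⟨x, hx, hzx⟩ := (mem_unionOpen W g _ z.1).mp z.2
        rw [Finset.mem_cons] at hx
        rcases hx with rfl | hx
        · exact absurd hzx hzy
        · have hzF : (z.1 : Z.scheme) ∈ unionOpen W g F :=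
            (mem_unionOpen W g F z.1).mpr ⟨x, hx, hzx⟩
          refine ⟨⟨z.1, hzF⟩, ?_⟩
          apply Subtype.ext
          exact Scheme.homOfLE_apply hle ⟨z.1, hzF⟩
    have hinj := (Groth.Agent.H79.pull_prod_bijective_succ T
      (Z.resLE hle (hd'.trans hd''.symm))
      (liftOpen (g y) (unionOpen W g (Finset.cons y F hy)) hsub) hcompl M k n).1
    apply hinj
    refine Prod.ext ?_ ?_
    · change (T.pull (Z.resLE hle (hd'.trans hd''.symm)) M (k + 1) n).hom _ =
        (T.pull (Z.resLE hle (hd'.trans hd''.symm)) M (k + 1) n).hom 0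
      rw [map_zero, ← pull_comp_apply]
      have hfac : Z.resLE hle (hd'.trans hd''.symm) ≫ Z.resι _ hd'' = Z.resι _ hd' :=
        Hom.ext (Scheme.homOfLE_ι Z.scheme hle)
      rw [hfac]
      exact ih
    · change (T.pull (liftOpen (g y) (unionOpen W g (Finset.cons y F hy)) hsub) M (k + 1) n).hom _
        = (T.pull (liftOpen (g y) (unionOpen W g (Finset.cons y F hy)) hsub) M (k + 1) n).hom 0
      rw [map_zero, ← pull_comp_apply, liftOpen_resι]
      exact hc y

/-- a class vanishing on every piece of a finite disjoint open cover of an object vanishes -/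
theorem joint_injective [Fintype ι] [Nonempty ι]
    (hdisj : ∀ x y, x ≠ y → Disjoint (Set.range (g x).hom) (Set.range (g y).hom))
    (hcov : ∀ z : Z.scheme, ∃ x, z ∈ Set.range (g x).hom)
    (M : A.Cat) (i n : ℤ) (c : T.gp Z M i n)
    (hc : ∀ x, (T.pull (g x) M i n).hom c = 0) : c = 0 := by
  obtain ⟨k, rfl⟩ : ∃ k, i = k + 1 := ⟨i - 1, by ring⟩
  have h1 := pull_unionOpen_eq_zero T W g hdisj M k n c hc Finset.univ Finset.univ_nonempty
  have htop : unionOpen W g Finset.univ = ⊤ := by
    apply top_unique
    intro z _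
    obtain ⟨x, hx⟩ := hcov z
    exact (mem_unionOpen W g _ z).mpr ⟨x, Finset.mem_univ x, hx⟩
  have hsurj : Function.Surjective (Z.resι (unionOpen W g Finset.univ)
      (dim_unionOpen W g Finset.univ Finset.univ_nonempty)).hom := by
    intro z
    have hz : z ∈ unionOpen W g Finset.univ := by
      rw [htop]
      trivial
    exact ⟨⟨z, hz⟩, rfl⟩
  apply pull_injective_of_surjective T _ hsurj M (k + 1) n
  rw [map_zero]
  exact h1

omit [IsConstructible V] in
/-- the pieces of a disjoint open cover are closed -/
theorem isClosedImmersion_piece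
    (hdisj : ∀ x y, x ≠ y → Disjoint (Set.range (g x).hom) (Set.range (g y).hom))
    (hcov : ∀ z : Z.scheme, ∃ x, z ∈ Set.range (g x).hom) (x : ι) :
    IsClosedImmersion (g x).hom := by
  have hcompl : (Set.range (g x).hom)ᶜ = ⋃ y ∈ {y : ι | y ≠ x}, Set.range (g y).hom := by
    ext z
    simp only [Set.mem_compl_iff, Set.mem_iUnion, Set.mem_ofPred_eq, exists_prop]
    constructor
    · intro hz
      obtain ⟨y, hy⟩ := hcov z
      refine ⟨y, ?_, hy⟩
      rintro rfl
      exact hz hy
    · rintro ⟨y, hyx, hy⟩ hzx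
      exact Set.disjoint_left.mp (hdisj y x hyx) hy hzx
  have hclosed : IsClosed (Set.range (g x).hom) := by
    rw [← isOpen_compl_iff, hcompl]
    exact isOpen_biUnion (fun y _ => (g y).hom.isOpenEmbedding.isOpen_range)
  exact { isClosedEmbedding := ⟨(g x).hom.isOpenEmbedding.isEmbedding, hclosed⟩ }

/-- restricting a push-forward from one piece to another piece gives zero -/
theorem pull_push_eq_zero [∀ x, IsClosedImmersion (g x).hom]
    (hdisj : ∀ x y, x ≠ y → Disjoint (Set.range (g x).hom) (Set.range (g y).hom))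
    (M : A.Cat) (i n : ℤ) (x y : ι) (hxy : y ≠ x)
    (hi : i = i + 2 * relCodim (W x).scheme Z.scheme) (hn : n = n + relCodim (W x).scheme Z.scheme)
    (b : T.gp (W x) M i n) :
    (T.pull (g y) M i n).hom ((T.push (g x).hom M i n i n hi hn).hom b) = 0 := by
  obtain ⟨k, rfl⟩ : ∃ k, i = k + 1 := ⟨i - 1, by ring⟩
  have hopen : IsOpen ((Set.range (g x).hom)ᶜ) :=
    ((g x).hom.isClosedEmbedding.isClosed_range).isOpen_compl
  have hsub : Set.range (g y).hom ⊆ ((⟨(Set.range (g x).hom)ᶜ, hopen⟩ : Z.scheme.Opens) :
      Set Z.scheme) := by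
    intro z hz hzx
    exact Set.disjoint_left.mp (hdisj y x hxy) hz hzx
  have hd := dim_eq_of_range_subset (g y) ⟨(Set.range (g x).hom)ᶜ, hopen⟩ hsub
  let D : Decomp Z :=
    { Z := W x
      U := Z.res ⟨(Set.range (g x).hom)ᶜ, hopen⟩
      i := (g x).hom
      closedImm := inferInstance
      j := Z.resι _ hd
      range_eq := by
        change Set.range (Scheme.Opens.ι _) = _
        rw [Scheme.Opens.range_ι]
        rfl }
  have h0 := (T.exact_push_pull D M k n (k + 1) n hi hn).apply_apply_eq_zero b
  have hfac : g y = liftOpen (g y) _ hsub ≫ Z.resι _ hd := (liftOpen_resι (g y) _ hsub hd).symm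
  rw [hfac, pull_comp_apply]
  exact (congrArg _ h0).trans (map_zero _)

/-- restricting a push-forward from a piece to the same piece gives the class back -/
theorem pull_push_self [∀ x, IsClosedImmersion (g x).hom] (M : A.Cat) (i n : ℤ) (x : ι)
    (hi : i = i + 2 * relCodim (W x).scheme Z.scheme) (hn : n = n + relCodim (W x).scheme Z.scheme)
    (b : T.gp (W x) M i n) :
    (T.pull (g x) M i n).hom ((T.push (g x).hom M i n i n hi hn).hom b) = b := by
  have h1 := Groth.Agent.H79.push_pull_id T (g x) M i n hi hn
  exact congrArg (fun φ => φ.hom b) h1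

/-- a class on an object with a finite disjoint open cover is the sum of the push-forwards of
its restrictions to the pieces -/
theorem eq_sum_push_pull [Fintype ι] [Nonempty ι] [DecidableEq ι]
    [∀ x, IsClosedImmersion (g x).hom]
    (hdisj : ∀ x y, x ≠ y → Disjoint (Set.range (g x).hom) (Set.range (g y).hom))
    (hcov : ∀ z : Z.scheme, ∃ x, z ∈ Set.range (g x).hom)
    (M : A.Cat) (i n : ℤ)
    (hi : ∀ x, i = i + 2 * relCodim (W x).scheme Z.scheme)
    (hn : ∀ x, n = n + relCodim (W x).scheme Z.scheme) (c : T.gp Z M i n) :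
    c = ∑ x, (T.push (g x).hom M i n i n (hi x) (hn x)).hom ((T.pull (g x) M i n).hom c) := by
  rw [← sub_eq_zero]
  apply joint_injective T W g hdisj hcov M i n
  intro y
  rw [map_sub, map_sum, Finset.sum_eq_single y]
  · rw [pull_push_self, sub_self]
  · intro x _ hxy
    exact pull_push_eq_zero T W g hdisj M i n x y (Ne.symm hxy) (hi x) (hn x) _
  · intro hy
    exact absurd (Finset.mem_univ y) hy

/-- a family of classes on the pieces of a finite disjoint open cover comes from a class on the
object -/
theorem pull_sum_push [Fintype ι] [DecidableEq ι]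
    [∀ x, IsClosedImmersion (g x).hom]
    (hdisj : ∀ x y, x ≠ y → Disjoint (Set.range (g x).hom) (Set.range (g y).hom))
    (M : A.Cat) (i n : ℤ)
    (hi : ∀ x, i = i + 2 * relCodim (W x).scheme Z.scheme)
    (hn : ∀ x, n = n + relCodim (W x).scheme Z.scheme) (b : ∀ x, T.gp (W x) M i n) (y : ι) :
    (T.pull (g y) M i n).hom (∑ x, (T.push (g x).hom M i n i n (hi x) (hn x)).hom (b x)) =
      b y := by
  rw [map_sum, Finset.sum_eq_single y]
  · rw [pull_push_self]
  · intro x _ hxy
    exact pull_push_eq_zero T W g hdisj M i n x y (Ne.symm hxy) (hi x) (hn x) _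
  · intro hy
    exact absurd (Finset.mem_univ y) hy

end family

end Groth.Agent.H79.BMCohPieces
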