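import Groth.Agent.H79.BMCohClosed
import Groth.Prelude.Def_BMCoh4
import Mathlib.AlgebraicGeometry.Morphisms.Proper

set_option autoImplicit false
universe u
open CategoryTheory AlgebraicGeometry Opposite CategoryTheory.Limits TopologicalSpace

namespace Groth.Agent.H79.BMCohPtPush

open BMCoh Groth.Agent.H79.BMCohDim Groth.Agent.H79.BMCohRes Groth.Agent.H79.BMCohFilt
  Groth.Agent.H79.BMCohDecomp Groth.Agent.H79.BMCohPieces Groth.Agent.H79.BMCohGood

section height

/-- a closed map of schemes does not increase the height of a point in the specialization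
order -/
theorem height_le_of_isClosedMap {Y X : Scheme.{u}} (φ : Y ⟶ X) (hφ : IsClosedMap φ) (z : Y) :
    Order.height (φ z) ≤ Order.height z := by
  refine Order.height_le_iff'.mpr ?_
  intro p hp
  induction p using RelSeries.inductionOn' generalizing z with
  | singleton x => simp
  | snoc q b hb ih =>
    rw [RelSeries.last_snoc] at hp
    subst hp
    have hb' : q.last < φ z := hb
    have hsp : φ z ⤳ q.last := (Scheme.le_iff_specializes).mp hb'.le
    have hmem : q.last ∈ φ '' closure ({z} : Set Y) := by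
      have hcl : IsClosed (φ '' closure ({z} : Set Y)) := hφ _ isClosed_closure
      have hsub : closure ({φ z} : Set X) ⊆ φ '' closure ({z} : Set Y) := by
        refine closure_minimal ?_ hcl
        rintro _ rfl
        exact ⟨z, subset_closure rfl, rfl⟩
      exact hsub (specializes_iff_mem_closure.mp hsp)
    obtain ⟨z₁, hz₁, hq⟩ := hmem
    have hlt : z₁ < z := by
      rw [lt_iff_le_not_ge]
      refine ⟨(Scheme.le_iff_specializes).mpr (specializes_iff_mem_closure.mpr hz₁), ?_⟩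
      intro hge
      have h1 : z₁ ⤳ z := (Scheme.le_iff_specializes).mp hge
      have h2 : φ z₁ ⤳ φ z := h1.map φ.continuous
      rw [hq] at h2
      exact hb'.not_ge ((Scheme.le_iff_specializes).mpr h2)
    have h3 := ih z₁ hq.symm
    have h4 := Order.height_add_one_le hlt
    have h5 : ((q.snoc (φ z) hb).length : ℕ∞) = (q.length : ℕ∞) + 1 := by
      simp
    rw [h5]
    exact (add_le_add_left h3 1).trans h4

theorem pdim_le_of_isClosedMap {Y X : Scheme.{u}} (φ : Y ⟶ X) (hφ : IsClosedMap φ)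
    (hY : topologicalKrullDim ↥Y < ⊤) (hX : topologicalKrullDim ↥X < ⊤) (z : Y) :
    WeilCoh.pdim X (φ z) ≤ WeilCoh.pdim Y z := by
  have h := height_le_of_isClosedMap φ hφ z
  rw [height_eq_cast X hX, height_eq_cast Y hY] at h
  exact_mod_cast h

end height

section geo

variable {V : ObjectProperty Scheme.{u}} [IsConstructible V] {Y X : Obj V}
  (φ : Y.scheme ⟶ X.scheme) (y : Y.scheme) (x : X.scheme)

/-- a morphism carrying `y` to `x` induces a morphism between the reduced closures -/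
theorem exists_ptMap (hyx : φ y = x) :
    ∃ ψ : (Y.ptSub y).scheme ⟶ (X.ptSub x).scheme, ψ ≫ X.ptSubι x = Y.ptSubι y ≫ φ := by
  refine exists_lift_reduced (Y.ptSubι y ≫ φ)
    ⟨closure ({x} : Set X.scheme), isClosed_closure⟩ ?_
  rintro _ ⟨w, rfl⟩
  have h1 : Y.ptSubι y w ∈ closure ({y} : Set Y.scheme) := by
    rw [← range_ptSubι]
    exact ⟨w, rfl⟩
  have h2 : φ (Y.ptSubι y w) ∈ closure (φ '' ({y} : Set Y.scheme)) :=
    image_closure_subset_closure_image φ.continuous ⟨_, h1, rfl⟩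
  rw [Set.image_singleton, hyx] at h2
  exact h2

variable [IsProper φ]

/-- for a proper morphism carrying `y` to `x` with closures of the same dimension, every
nonempty open of the closure of `y` contains the preimage of a nonempty open of the closure of
`x`, on which the induced morphism is proper -/
theorem exists_proper_restrict (hyx : φ y = x)
    (hcd : relCodim (Y.ptSub y).scheme (X.ptSub x).scheme = 0) (W : ptIdx Y y) :
    ∃ (W₀ : ptIdx Y y) (_ : W₀.1 ≤ W.1) (W' : ptIdx X x)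
      (f : ((Y.ptSub y).res W₀.1).scheme ⟶ ((X.ptSub x).res W'.1).scheme),
      IsProper f ∧ f ≫ W'.1.ι ≫ X.ptSubι x = W₀.1.ι ≫ Y.ptSubι y ≫ φ := by
  obtain ⟨ψ, hψ⟩ := exists_ptMap φ y x hyx
  have hψp : IsProper ψ := by
    have h1 : IsProper (ψ ≫ X.ptSubι x) := by
      rw [hψ]
      infer_instance
    exact IsProper.of_comp ψ (X.ptSubι x)
  obtain ⟨ηy, hηy, hgeny⟩ := exists_generic Y y
  obtain ⟨ηx, hηx, hgenx⟩ := exists_generic X x
  have hψapp : ∀ z : (Y.ptSub y).scheme, X.ptSubι x (ψ z) = φ (Y.ptSubι y z) := by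
    intro z
    have := congrArg (fun g : (Y.ptSub y).scheme ⟶ X.scheme => g z) hψ
    exact this
  have hψη : ψ ηy = ηx := by
    apply (X.ptSubι x).isClosedEmbedding.injective
    rw [hψapp, hηy, hηx, hyx]
  have hCcl : IsClosed (ψ '' ((W.1 : Set (Y.ptSub y).scheme)ᶜ)) :=
    ψ.isClosedMap _ W.1.isOpen.isClosed_compl
  have hηxC : ηx ∉ ψ '' ((W.1 : Set (Y.ptSub y).scheme)ᶜ) := by
    rintro ⟨z, hzW, hz⟩
    have hne : Y.ptSubι y z ≠ y := by
      intro h
      have : z = ηy := (Y.ptSubι y).isClosedEmbedding.injective (h.trans hηy.symm)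
      rw [this] at hzW
      exact hzW (generic_mem_of_nonempty Y y W.1 W.2.1 ηy hgeny)
    have hcl : Y.ptSubι y z ∈ closure ({y} : Set Y.scheme) := by
      rw [← range_ptSubι]
      exact ⟨z, rfl⟩
    have hsp : y ⤳ Y.ptSubι y z := specializes_iff_mem_closure.mpr hcl
    have hlt : Y.ptSubι y z < y := by
      apply lt_of_le_not_ge
      · exact (Scheme.le_iff_specializes).mpr hsp
      · intro h'
        have h'' : Y.ptSubι y z ⤳ y := (Scheme.le_iff_specializes).mp h'
        exact hne (h''.antisymm hsp).eq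
    have h1 := pdim_lt_of_lt Y.scheme (finDim Y) hlt
    have h2 := pdim_le_of_isClosedMap φ φ.isClosedMap (finDim Y) (finDim X) (Y.ptSubι y z)
    have h3 : φ (Y.ptSubι y z) = x := by
      rw [← hψapp, hz, hηx]
    rw [h3] at h2
    have h4 : WeilCoh.pdim X.scheme x = WeilCoh.pdim Y.scheme y := by
      rw [← dim_ptSub, ← dim_ptSub]
      unfold relCodim at hcd
      omega
    omega
  let W's : (X.ptSub x).scheme.Opens := ⟨(ψ '' ((W.1 : Set (Y.ptSub y).scheme)ᶜ))ᶜ, hCcl.isOpen_compl⟩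
  have hW'ne : (W's : Set (X.ptSub x).scheme).Nonempty := ⟨ηx, hηxC⟩
  have hW₀ne : ((ψ ⁻¹ᵁ W's : (Y.ptSub y).scheme.Opens) : Set (Y.ptSub y).scheme).Nonempty := by
    refine ⟨ηy, ?_⟩
    change ψ ηy ∈ W's
    rw [hψη]
    exact hηxC
  have hle : ψ ⁻¹ᵁ W's ≤ W.1 := by
    intro z hz
    by_contra hzW
    exact hz ⟨z, hzW, rfl⟩
  refine ⟨⟨ψ ⁻¹ᵁ W's, hW₀ne, IsConstructible.dim_open (Y.ptSub y).mem inferInstance _ hW₀ne⟩, hle,
    ⟨W's, hW'ne, IsConstructible.dim_open (X.ptSub x).mem inferInstance _ hW'ne⟩,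
    ψ ∣_ W's, inferInstance, ?_⟩
  change (ψ ∣_ W's) ≫ W's.ι ≫ X.ptSubι x = (ψ ⁻¹ᵁ W's).ι ≫ Y.ptSubι y ≫ φ
  rw [← Category.assoc, morphismRestrict_ι, Category.assoc, hψ]

end geo

section uniq

variable {V : ObjectProperty Scheme.{u}} [IsConstructible V] {R : Type u} [CommRing R]
  {A : Coefs R} (T : PreTheory V R A) {Y X : Obj V}
  (φ : Y.scheme ⟶ X.scheme) [IsProper φ] (y : Y.scheme) (x : X.scheme)

theorem ptPush_cpt_eq (L L' : T.PtPush φ y x) (M : A.Cat) (i n : ℤ) :
    L.cpt M i n = L'.cpt M i n := by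
  apply ModuleCat.hom_ext
  apply LinearMap.ext
  intro α
  obtain ⟨W, b, rfl⟩ := exists_rep T (Y.ptSub y)
    (fun U => (U : Set (Y.ptSub y).scheme).Nonempty) i n M α
  obtain ⟨W₀, hle, W', f, hf, hcomp⟩ := exists_proper_restrict φ y x L.maps_pt L.codim_eq W
  have hrc : relCodim ((Y.ptSub y).res W₀.1).scheme ((X.ptSub x).res W'.1).scheme = 0 := by
    have h1 : WeilCoh.dim ((Y.ptSub y).res W₀.1).scheme = WeilCoh.dim (Y.ptSub y).scheme :=
      W₀.2.2
    have h2 : WeilCoh.dim ((X.ptSub x).res W'.1).scheme = WeilCoh.dim (X.ptSub x).scheme :=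
      W'.2.2
    have h3 := L.codim_eq
    unfold relCodim at h3 ⊢
    rw [h1, h2]
    exact h3
  have hi' : i = i + 2 * relCodim ((Y.ptSub y).res W₀.1).scheme
      ((X.ptSub x).res W'.1).scheme := by
    rw [hrc]
    ring
  have hn' : n = n + relCodim ((Y.ptSub y).res W₀.1).scheme
      ((X.ptSub x).res W'.1).scheme := by
    rw [hrc]
    ring
  rw [ocolimι_le_apply T (Y.ptSub y) _ i n M W₀ W hle (W₀.2.2.trans W.2.2.symm) b]
  have h1 := L.cpt_spec M i n W₀ W' f hcomp hi' hn'
  have h2 := L'.cpt_spec M i n W₀ W' f hcomp hi' hn'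
  exact (congrArg (fun g => g.hom ((T.pull ((Y.ptSub y).resLE hle
    (W₀.2.2.trans W.2.2.symm)) M i n).hom b)) h1).trans
    (congrArg (fun g => g.hom ((T.pull ((Y.ptSub y).resLE hle
      (W₀.2.2.trans W.2.2.symm)) M i n).hom b)) h2).symm

theorem subsingleton_ptPush : Subsingleton (T.PtPush φ y x) := by
  refine ⟨fun L L' => ?_⟩
  have hc : L.cpt = L'.cpt := by
    funext M i n
    exact ptPush_cpt_eq T φ y x L L' M i n
  cases L
  cases L'
  simp only at hc
  subst hc
  rfl

end uniq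

end Groth.Agent.H79.BMCohPtPush
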