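import Groth.Agent.H79.BMCohDim

set_option autoImplicit false
universe u
open CategoryTheory AlgebraicGeometry Opposite CategoryTheory.Limits

namespace Groth.Agent.H79.BMCohRes

open BMCoh Groth.Agent.H79.BMCohDim

variable {V : ObjectProperty Scheme.{u}} [IsConstructible V]

/-- around a maximal point `x` of the complement of an open `U` there is a larger open whose
part outside `U` lies in the closure of `x` -/
theorem exists_open_isolating (X : Obj V) (U : X.scheme.Opens) (x : X.scheme)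
    (hmax : ∀ c : X.scheme, c ∉ U → c ⤳ x → c = x) :
    ∃ Yo : X.scheme.Opens, U ≤ Yo ∧ x ∈ Yo ∧
      ∀ y ∈ Yo, y ∉ U → y ∈ closure ({x} : Set X.scheme) := by
  have hN : IsNoetherian X.scheme := IsConstructible.isNoetherian X.mem
  have hT : IsClosed ((U : Set X.scheme)ᶜ) := U.isOpen.isClosed_compl
  obtain ⟨S, hSf, hSc, hSi, hSU⟩ :=
    TopologicalSpace.NoetherianSpace.exists_finite_set_isClosed_irreducible hT
  have hRc : IsClosed (⋃₀ {t ∈ S | x ∉ t}) := by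
    rw [Set.sUnion_eq_biUnion]
    exact (hSf.subset (Set.sep_subset _ _)).isClosed_biUnion (fun t ht => hSc t ht.1)
  refine ⟨⟨(⋃₀ {t ∈ S | x ∉ t})ᶜ, hRc.isOpen_compl⟩, ?_, ?_, ?_⟩
  · intro y hy
    change y ∈ (⋃₀ {t ∈ S | x ∉ t})ᶜ
    rintro ⟨t, ⟨htS, -⟩, hyt⟩
    have : y ∈ (U : Set X.scheme)ᶜ := by
      rw [hSU]
      exact ⟨t, htS, hyt⟩
    exact this hy
  · change x ∈ (⋃₀ {t ∈ S | x ∉ t})ᶜ
    rintro ⟨t, ⟨-, hxt⟩, hxt'⟩
    exact hxt hxt'
  · intro y hy hyU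
    change y ∈ (⋃₀ {t ∈ S | x ∉ t})ᶜ at hy
    have hyT : y ∈ (U : Set X.scheme)ᶜ := hyU
    rw [hSU] at hyT
    obtain ⟨t, htS, hyt⟩ := hyT
    have hxt : x ∈ t := by
      by_contra hxt
      exact hy ⟨t, ⟨htS, hxt⟩, hyt⟩
    obtain ⟨c, hc⟩ := QuasiSober.sober (hSi t htS) (hSc t htS)
    have hct : c ∈ t := hc.mem
    have hcU : c ∉ U := by
      have : c ∈ (U : Set X.scheme)ᶜ := by
        rw [hSU]
        exact ⟨t, htS, hct⟩
      exact this
    have hcx : c ⤳ x := by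
      rw [specializes_iff_mem_closure, hc.def]
      exact hxt
    have := hmax c hcU hcx
    rw [← this, hc.def]
    exact hyt

omit [IsConstructible V] in
theorem closure_subset_compl (X : Obj V) (U : X.scheme.Opens) (x : X.scheme) (hxU : x ∉ U) :
    closure ({x} : Set X.scheme) ⊆ (U : Set X.scheme)ᶜ :=
  closure_minimal (Set.singleton_subset_iff.mpr hxU) U.isOpen.isClosed_compl

theorem range_eq_aux (X : Obj V) (U Yo : X.scheme.Opens) (hUY : U ≤ Yo) (x : X.scheme)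
    (hxU : x ∉ U) (hYT : ∀ y ∈ Yo, y ∉ U → y ∈ closure ({x} : Set X.scheme)) :
    Set.range (X.scheme.homOfLE hUY) = (Set.range (X.ptSubι x ∣_ Yo))ᶜ := by
  ext y
  rw [Set.mem_compl_iff]
  constructor
  · rintro ⟨u, rfl⟩ ⟨z, hz⟩
    have h1 : (X.scheme.homOfLE hUY u).1 = u.1 := Scheme.homOfLE_apply hUY u
    have h2 : ((X.ptSubι x ∣_ Yo) z).1 = X.ptSubι x z.1 := morphismRestrict_base_coe _ _ z
    rw [hz, h1] at h2
    have h3 : u.1 ∈ closure ({x} : Set X.scheme) := by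
      rw [← range_ptSubι, h2]
      exact ⟨z.1, rfl⟩
    exact closure_subset_compl X U x hxU h3 u.2
  · intro hy
    have hyU : y.1 ∈ U := by
      by_contra hyU
      have h1 := hYT y.1 y.2 hyU
      rw [← range_ptSubι] at h1
      obtain ⟨z, hz⟩ := h1
      have hzW : z ∈ (X.ptSubι x) ⁻¹ᵁ Yo := by
        change X.ptSubι x z ∈ Yo
        rw [hz]
        exact y.2
      apply hy
      refine ⟨⟨z, hzW⟩, ?_⟩
      apply Subtype.ext
      exact (morphismRestrict_base_coe (X.ptSubι x) Yo ⟨z, hzW⟩).trans hz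
    refine ⟨⟨y.1, hyU⟩, ?_⟩
    apply Subtype.ext
    exact Scheme.homOfLE_apply hUY ⟨y.1, hyU⟩

theorem isMaximal_of_not_mem (X : Obj V) (j : ℕ) (x : X.cdPt (j + 1))
    (U : Idx X (ContainsFj X j)) (c : X.scheme) (hc : c ∉ U.1) (hcx : c ⤳ x.1) : c = x.1 := by
  by_contra hne
  have h1 : ¬ WeilCoh.codim X.scheme c ≤ j := fun h => hc (U.2.1 c h)
  have h2 := codim_lt_of_mem_closure X c x.1 (specializes_iff_mem_closure.mp hcx) (Ne.symm hne)
  have h3 : WeilCoh.codim X.scheme x.1 = j + 1 := x.2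
  omega

/-- for a point `x` of codimension `j + 1` outside a member `U` of the index family of `F_j`,
a decomposition realising `U` as the open part and a piece of the closure of `x` as the closed
part -/
theorem exists_res_witness (X : Obj V) (j : ℕ) (x : X.cdPt (j + 1))
    (U : Idx X (ContainsFj X j)) (hxU : x.1 ∉ U.1) :
    ∃ (Y : Obj V) (e : Y ⟶ X) (D : Decomp Y) (W : ptIdx X x.1)
      (g : (X.ptSub x.1).res W.1 ⟶ D.Z) (h : X.res U.1 ⟶ D.U),
      g.hom ≫ D.i ≫ e.hom = W.1.ι ≫ X.ptSubι x.1 ∧ h.hom ≫ D.j.hom ≫ e.hom = U.1.ι ∧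
      D.codim = (j : ℤ) + 1 ∧ IsIso h := by
  obtain ⟨Yo, hUY, hxY, hYT⟩ := exists_open_isolating X U.1 x.1
    (fun c hc hcx => isMaximal_of_not_mem X j x U c hc hcx)
  have hdimY : WeilCoh.dim (Yo : Scheme.{u}) = WeilCoh.dim X.scheme :=
    dim_eq_of_containsF0 X Yo (fun y hy => hUY (U.2.1 y (by omega)))
  obtain ⟨z₀, hz₀, -⟩ := exists_generic X x.1
  have hWne : (((X.ptSubι x.1) ⁻¹ᵁ Yo : (X.ptSub x.1).scheme.Opens) :
      Set (X.ptSub x.1).scheme).Nonempty := by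
    refine ⟨z₀, ?_⟩
    change X.ptSubι x.1 z₀ ∈ Yo
    rw [hz₀]
    exact hxY
  have hdimW := IsConstructible.dim_open (X.ptSub x.1).mem inferInstance
    ((X.ptSubι x.1) ⁻¹ᵁ Yo) hWne
  let D : Decomp (X.res Yo) :=
    { Z := (X.ptSub x.1).res ((X.ptSubι x.1) ⁻¹ᵁ Yo)
      U := X.res U.1
      i := X.ptSubι x.1 ∣_ Yo
      closedImm := inferInstance
      j := X.resLE hUY (U.2.2.trans hdimY.symm)
      range_eq := range_eq_aux X U.1 Yo hUY x.1 hxU hYT }
  refine ⟨X.res Yo, X.resι Yo hdimY, D, ⟨(X.ptSubι x.1) ⁻¹ᵁ Yo, hWne, hdimW⟩, 𝟙 _, 𝟙 _,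
    ?_, ?_, ?_, inferInstance⟩
  · change 𝟙 _ ≫ (X.ptSubι x.1 ∣_ Yo) ≫ Yo.ι = _
    rw [Category.id_comp, morphismRestrict_ι]
  · change 𝟙 _ ≫ X.scheme.homOfLE hUY ≫ Yo.ι = _
    rw [Category.id_comp, Scheme.homOfLE_ι]
  · change relCodim (((X.ptSubι x.1) ⁻¹ᵁ Yo : (X.ptSub x.1).scheme.Opens) : Scheme.{u})
      (Yo : Scheme.{u}) = _
    unfold relCodim
    rw [hdimW, hdimY, dim_ptSub]
    have h3 := pdim_le_dim X.scheme (finDim X) x.1
    have h4 : WeilCoh.dim X.scheme - WeilCoh.pdim X.scheme x.1 = j + 1 := x.2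
    omega

/-- every member of the index family of `F_j` contains a member avoiding a given point of
codimension `j + 1` -/
theorem exists_shrink (X : Obj V) (j : ℕ) (x : X.cdPt (j + 1)) (U : Idx X (ContainsFj X j)) :
    ∃ U' : Idx X (ContainsFj X j), U' ≤ U ∧ x.1 ∉ U'.1 := by
  have hcont : ContainsFj X j
      (U.1 ⊓ ⟨(closure ({x.1} : Set X.scheme))ᶜ, isClosed_closure.isOpen_compl⟩) := by
    intro y hy
    refine ⟨U.2.1 y hy, ?_⟩
    change y ∈ (closure ({x.1} : Set X.scheme))ᶜ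
    intro hycl
    have h3 : WeilCoh.codim X.scheme x.1 = j + 1 := x.2
    by_cases hyx : y = x.1
    · rw [hyx] at hy
      omega
    · have := codim_lt_of_mem_closure X x.1 y hycl hyx
      omega
  have hdim := dim_eq_of_containsF0 X _ (fun y hy => hcont y (by omega))
  refine ⟨⟨_, hcont, hdim⟩, ?_, ?_⟩
  · change U.1 ⊓ _ ≤ U.1
    exact inf_le_left
  · rintro ⟨-, h2⟩
    exact h2 (subset_closure rfl)

end Groth.Agent.H79.BMCohRes
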