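import Groth.Agent.H79.BMCohGood

set_option autoImplicit false
universe u
open CategoryTheory AlgebraicGeometry Opposite CategoryTheory.Limits TopologicalSpace

namespace Groth.Agent.H79.BMCohSeqMid

open BMCoh Groth.Agent.H79.BMCohDim Groth.Agent.H79.BMCohRes Groth.Agent.H79.BMCohFilt
  Groth.Agent.H79.BMCohDecomp Groth.Agent.H79.BMCohGeo Groth.Agent.H79.BMCohPieces
  Groth.Agent.H79.BMCohGood Groth.Agent.H79.BMCohSeqRes Groth.Agent.H79.BMCohSeqPush

variable {V : ObjectProperty Scheme.{u}} [IsConstructible V] {R : Type u} [CommRing R]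
  {A : Coefs R} (T : PreTheory V R A) {X : Obj V} {j : ℕ}

omit [IsConstructible V] in
theorem push_congr {Y Y' : Obj V} {f f' : Y.scheme ⟶ Y'.scheme} [IsProper f] [IsProper f']
    (hff : f = f') (M : A.Cat) (i n i' n' : ℤ)
    (hi : i' = i + 2 * relCodim Y.scheme Y'.scheme) (hn : n' = n + relCodim Y.scheme Y'.scheme) :
    T.push f M i n i' n' hi hn = T.push f' M i n i' n' hi hn := by
  subst hff
  rfl

variable {U X₁ : X.scheme.Opens} (h : IsGoodPair X j U X₁)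

/-- the residue at a point outside `U` of a class of `U`, through the Gysin decomposition of a
good pair -/
theorem res_formula_good (Q : T.ResData X j) (x : outPts X j U) (M : A.Cat) (i n i' n' : ℤ)
    (hi : i' = i + 1 - 2 * ((j : ℤ) + 1)) (hn : n' = n - ((j : ℤ) + 1))
    (hiD : i' = i + 1 - 2 * (gDecomp U X₁ h.hle (dim_U_eq h)).codim)
    (hnD : n' = n - (gDecomp U X₁ h.hle (dim_U_eq h)).codim)
    (a : T.gp (X.res U) M i n) :
    (Q.cpt x.1 M i n i' n' hi hn).hom (((T.fjι X j i n (fjMk X j U h.hU)).app M).hom a) =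
      ((T.ptι X x.1.1 i' n' (ptPre X x.1.1 X₁ (mem_X₁ h x))).app M).hom
        ((T.pull (pieceObjHom h x) M i' n').hom
          ((T.res (gDecomp U X₁ h.hle (dim_U_eq h)) M i n i' n' hiD hnD).hom a)) := by
  have hdX₁ : WeilCoh.dim (X₁ : Scheme.{u}) = WeilCoh.dim X.scheme :=
    dim_of_containsFj X (j + 1) X₁ h.hX₁
  have hg : (pieceObjHom h x).hom ≫ (gDecomp U X₁ h.hle (dim_U_eq h)).i ≫
      (X.resι X₁ hdX₁).hom = (ptPre X x.1.1 X₁ (mem_X₁ h x)).1.ι ≫ X.ptSubι x.1.1 := by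
    change pieceHom x.1.1 U X₁ x.2 ≫ cmplι U X₁ ≫ X₁.ι = _
    rw [← Category.assoc, pieceHom_fac, morphismRestrict_ι]
  have hh : BMCoh.Hom.hom (𝟙 (X.res (fjMk X j U h.hU).1)) ≫
      (gDecomp U X₁ h.hle (dim_U_eq h)).j.hom ≫ (X.resι X₁ hdX₁).hom =
      (fjMk X j U h.hU).1.ι := by
    change 𝟙 _ ≫ X.scheme.homOfLE h.hle ≫ X₁.ι = _
    rw [Category.id_comp, Scheme.homOfLE_ι]
  have key := Q.cpt_spec x.1 M i n i' n' hi hn (X.resι X₁ hdX₁)
    (gDecomp U X₁ h.hle (dim_U_eq h)) (ptPre X x.1.1 X₁ (mem_X₁ h x)) (pieceObjHom h x) hg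
    (fjMk X j U h.hU) (𝟙 _) hh hiD hnD
  have key2 := congrArg (fun φ => φ.hom a) key
  refine Eq.trans ?_ key2
  exact congrArg (fun c => (Q.cpt x.1 M i n i' n' hi hn).hom
    (((T.fjι X j i n (fjMk X j U h.hU)).app M).hom c)) (pull_id_apply T (X.res U) M i n a).symm

/-- the push-forward of a class of a point outside `U`, through the reduced complement of a
good pair -/
theorem push_formula_good (P : T.PushData X (j + 1)) (x : outPts X j U) (M : A.Cat)
    (i' n' k n : ℤ) (hi2 : k = i' + 2 * ((j + 1 : ℕ) : ℤ)) (hn2 : n = n' + ((j + 1 : ℕ) : ℤ))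
    (hi0 : i' = i' + 2 * relCodim ((X.ptSub x.1.1).res ((X.ptSubι x.1.1) ⁻¹ᵁ X₁)).scheme
      (cmplObj (X := X) U X₁).scheme)
    (hn0 : n' = n' + relCodim ((X.ptSub x.1.1).res ((X.ptSubι x.1.1) ⁻¹ᵁ X₁)).scheme
      (cmplObj (X := X) U X₁).scheme)
    (hiZ : k = i' + 2 * relCodim (cmplObj (X := X) U X₁).scheme (X.res X₁).scheme)
    (hnZ : n = n' + relCodim (cmplObj (X := X) U X₁).scheme (X.res X₁).scheme)
    (b : T.gp ((X.ptSub x.1.1).res ((X.ptSubι x.1.1) ⁻¹ᵁ X₁)) M i' n') :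
    (P.cpt x.1 M i' n' k n hi2 hn2).hom
      (((T.ptι X x.1.1 i' n' (ptPre X x.1.1 X₁ (mem_X₁ h x))).app M).hom b) =
    ((T.fjι X (j + 1) k n (fjMk X (j + 1) X₁ h.hX₁)).app M).hom
      ((T.push (X := cmplObj (X := X) U X₁) (Y := X.res X₁) (cmplι U X₁) M i' n' k n hiZ hnZ).hom
        ((T.push (X := (X.ptSub x.1.1).res ((X.ptSubι x.1.1) ⁻¹ᵁ X₁))
          (Y := cmplObj (X := X) U X₁) (pieceObjHom h x).hom M i' n' i' n' hi0 hn0).hom b)) := by
  have hrc := relCodim_eq X (j + 1) x.1 (ptPre X x.1.1 X₁ (mem_X₁ h x)) X₁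
    (dim_of_containsFj X (j + 1) X₁ h.hX₁)
  have hi' : k = i' + 2 * relCodim ((X.ptSub x.1.1).res ((X.ptSubι x.1.1) ⁻¹ᵁ X₁)).scheme
      (X.res X₁).scheme := by
    rw [hrc]
    exact hi2
  have hn' : n = n' + relCodim ((X.ptSub x.1.1).res ((X.ptSubι x.1.1) ⁻¹ᵁ X₁)).scheme
      (X.res X₁).scheme := by
    rw [hrc]
    exact hn2
  have h1 := push_formula T P x.1 M i' n' k n hi2 hn2 X₁ h.hX₁ hi' hn' b
  refine h1.trans ?_
  have hprop : IsProper (pieceHom x.1.1 U X₁ x.2 ≫ cmplι U X₁) := by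
    rw [pieceHom_fac]
    infer_instance
  have h2 : T.push (X := (X.ptSub x.1.1).res ((X.ptSubι x.1.1) ⁻¹ᵁ X₁)) (Y := X.res X₁)
      (X.ptSubι x.1.1 ∣_ X₁) M i' n' k n hi' hn' =
      T.push (X := (X.ptSub x.1.1).res ((X.ptSubι x.1.1) ⁻¹ᵁ X₁)) (Y := X.res X₁)
        (pieceHom x.1.1 U X₁ x.2 ≫ cmplι U X₁) M i' n' k n hi' hn' :=
    push_congr T (pieceHom_fac x.1.1 U X₁ x.2).symm M i' n' k n hi' hn'
  have h3 := T.push_comp (X := (X.ptSub x.1.1).res ((X.ptSubι x.1.1) ⁻¹ᵁ X₁))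
    (Y := cmplObj (X := X) U X₁) (Z := X.res X₁) (pieceObjHom h x).hom (cmplι U X₁) M
    i' n' i' n' k n hi0 hn0 hiZ hnZ hi' hn'
  rw [h2]
  exact congrArg (fun φ => ((T.fjι X (j + 1) k n (fjMk X (j + 1) X₁ h.hX₁)).app M).hom
    (φ.hom b)) h3.symm

omit h in
/-- the residue at a point of `U` of a class of `U` vanishes -/
theorem cpt_fjι_eq_zero_of_mem (Q : T.ResData X j) (x : X.cdPt (j + 1)) (M : A.Cat)
    (i n i' n' : ℤ) (hi : i' = i + 1 - 2 * ((j : ℤ) + 1)) (hn : n' = n - ((j : ℤ) + 1))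
    (U : X.scheme.Opens) (hUj : ContainsFj X j U) (hxU : x.1 ∈ U) (a : T.gp (X.res U) M i n) :
    (Q.cpt x M i n i' n' hi hn).hom (((T.fjι X j i n (fjMk X j U hUj)).app M).hom a) = 0 := by
  have hU' := containsFj_inf_clCompl X j x U hUj
  have hd : WeilCoh.dim ((U ⊓ clCompl X x.1 : X.scheme.Opens) : Scheme.{u}) =
      WeilCoh.dim (U : Scheme.{u}) :=
    (dim_of_containsFj X j _ hU').trans (dim_of_containsFj X j U hUj).symm
  have hxU' : x.1 ∉ U ⊓ clCompl X x.1 := fun h => not_mem_clCompl X x.1 h.2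
  have hYT' : ∀ y ∈ U, y ∉ U ⊓ clCompl X x.1 → y ∈ closure ({x.1} : Set X.scheme) :=
    fun y hyU hy => by
      by_contra hcl
      exact hy ⟨hyU, hcl⟩
  have hcod := cDecomp_codim X (j + 1) x (U ⊓ clCompl X x.1) U inf_le_left hd hxU' hYT' hxU
    (dim_of_containsFj X j U hUj)
  have hiD : i' = i + 1 - 2 * (cDecomp X (U ⊓ clCompl X x.1) U inf_le_left hd x.1 hxU'
      hYT').codim := by
    rw [hcod]
    push_cast
    exact hi
  have hnD : n' = n - (cDecomp X (U ⊓ clCompl X x.1) U inf_le_left hd x.1 hxU' hYT').codim := by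
    rw [hcod]
    push_cast
    exact hn
  rw [ocolimι_le_apply T X (ContainsFj X j) i n M (fjMk X j _ hU') (fjMk X j U hUj)
    inf_le_left hd a]
  rw [res_formula T Q x M i n i' n' hi hn (U ⊓ clCompl X x.1) U hU' inf_le_left hxU' hYT' hxU hd
    hiD hnD]
  have h0 := (T.exact_pull_res (cDecomp X (U ⊓ clCompl X x.1) U inf_le_left hd x.1 hxU' hYT')
    M i n i' n' hiD hnD).apply_apply_eq_zero a
  refine Eq.trans (congrArg _ h0) ?_
  exact map_zero _

omit h in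
/-- the total residue of a class of `U` is the finite sum of its residues at the points outside
`U` -/
theorem tot_eq_sum (Q : T.ResData X j) [Fintype (outPts X j U)] [DecidableEq (X.cdPt (j + 1))]
    (M : A.Cat) (i n i' n' : ℤ) (hi : i' = i + 1 - 2 * ((j : ℤ) + 1))
    (hn : n' = n - ((j : ℤ) + 1)) (hU : ContainsFj X j U) (a : T.gp (X.res U) M i n) :
    (Q.tot M i n i' n' hi hn).hom (((T.fjι X j i n (fjMk X j U hU)).app M).hom a) =
      ∑ x : outPts X j U, DirectSum.lof R (X.cdPt (j + 1))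
        (fun y : X.cdPt (j + 1) => T.ptGp X y.1 M i' n') x.1
        ((Q.cpt x.1 M i n i' n' hi hn).hom (((T.fjι X j i n (fjMk X j U hU)).app M).hom a)) := by
  refine DFinsupp.ext (fun y => ?_)
  rw [PreTheory.ResData.tot_apply]
  have hsum := DirectSum.sum_apply (β := fun y : X.cdPt (j + 1) => T.ptGp X y.1 M i' n')
    Finset.univ (fun x : outPts X j U => DirectSum.lof R (X.cdPt (j + 1))
        (fun y : X.cdPt (j + 1) => T.ptGp X y.1 M i' n') x.1
        ((Q.cpt x.1 M i n i' n' hi hn).hom (((T.fjι X j i n (fjMk X j U hU)).app M).hom a))) y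
  refine Eq.trans ?_ hsum.symm
  by_cases hyU : y.1 ∈ U
  · rw [cpt_fjι_eq_zero_of_mem T Q y M i n i' n' hi hn U hU hyU a]
    symm
    apply Finset.sum_eq_zero
    intro x _
    rw [DirectSum.lof_eq_of]
    apply DirectSum.of_eq_of_ne
    rintro rfl
    exact x.2 hyU
  · symm
    rw [Finset.sum_eq_single (⟨y, hyU⟩ : outPts X j U)]
    · rw [DirectSum.lof_eq_of]
      exact DirectSum.of_eq_same _ _
    · intro x _ hxy
      rw [DirectSum.lof_eq_of]
      apply DirectSum.of_eq_of_ne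
      rintro rfl
      exact hxy rfl
    · intro hy
      exact absurd (Finset.mem_univ _) hy

omit h in
/-- the total push-forward kills the total residue -/
theorem tot_tot_eq_zero (Q : T.ResData X j) (P : T.PushData X (j + 1)) (M : A.Cat)
    (i n i' n' : ℤ) (hi : i' = i + 1 - 2 * ((j : ℤ) + 1)) (hn : n' = n - ((j : ℤ) + 1))
    (hi2 : i + 1 = i' + 2 * ((j + 1 : ℕ) : ℤ)) (hn2 : n = n' + ((j + 1 : ℕ) : ℤ))
    (γ : T.fjGp X j M i n) :
    (P.tot M i' n' (i + 1) n hi2 hn2).hom ((Q.tot M i n i' n' hi hn).hom γ) = 0 := by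
  classical
  obtain ⟨⟨U, hUj, hUd⟩, a, rfl⟩ := exists_rep T X (ContainsFj X j) i n M γ
  obtain ⟨X₁, h⟩ := exists_goodPair X j U hUj
  have hfin := finite_outPts X j U hUj
  have hft : Fintype (outPts X j U) := Fintype.ofFinite _
  have hsum := tot_eq_sum T Q M i n i' n' hi hn hUj a
  refine (congrArg (fun s => (P.tot M i' n' (i + 1) n hi2 hn2).hom s) hsum).trans ?_
  rw [map_sum]
  rcases isEmpty_or_nonempty (outPts X j U) with hE | hN
  · rw [Finset.univ_eq_empty, Finset.sum_empty]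
  · have x₀ : outPts X j U := Classical.arbitrary _
    have hcod := gDecomp_codim h x₀
    have hiD : i' = i + 1 - 2 * (gDecomp U X₁ h.hle (dim_U_eq h)).codim := by
      rw [hcod]
      push_cast
      exact hi
    have hnD : n' = n - (gDecomp U X₁ h.hle (dim_U_eq h)).codim := by
      rw [hcod]
      push_cast
      exact hn
    have hrc0 : ∀ x : outPts X j U,
        relCodim ((X.ptSub x.1.1).res ((X.ptSubι x.1.1) ⁻¹ᵁ X₁)).scheme
          (cmplObj (X := X) U X₁).scheme = 0 :=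
      fun x => Groth.Agent.H79.relCodim_eq_zero (pieceObjHom h x)
    have hi0 : ∀ x : outPts X j U, i' = i' + 2 *
        relCodim ((X.ptSub x.1.1).res ((X.ptSubι x.1.1) ⁻¹ᵁ X₁)).scheme
          (cmplObj (X := X) U X₁).scheme := fun x => by
      rw [hrc0 x]
      ring
    have hn0 : ∀ x : outPts X j U, n' = n' +
        relCodim ((X.ptSub x.1.1).res ((X.ptSubι x.1.1) ⁻¹ᵁ X₁)).scheme
          (cmplObj (X := X) U X₁).scheme := fun x => by
      rw [hrc0 x]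
      ring
    have hrcZ := relCodim_cmplObj h x₀
    have hiZ : i + 1 = i' + 2 * relCodim (cmplObj (X := X) U X₁).scheme (X.res X₁).scheme := by
      rw [hrcZ]
      exact hi2
    have hnZ : n = n' + relCodim (cmplObj (X := X) U X₁).scheme (X.res X₁).scheme := by
      rw [hrcZ]
      exact hn2
    have hterm : ∀ x : outPts X j U,
        (P.tot M i' n' (i + 1) n hi2 hn2).hom (DirectSum.lof R (X.cdPt (j + 1))
          (fun y : X.cdPt (j + 1) => T.ptGp X y.1 M i' n') x.1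
          ((Q.cpt x.1 M i n i' n' hi hn).hom
            (((T.fjι X j i n (fjMk X j U hUj)).app M).hom a))) =
        ((T.fjι X (j + 1) (i + 1) n (fjMk X (j + 1) X₁ h.hX₁)).app M).hom
          ((T.push (X := cmplObj (X := X) U X₁) (Y := X.res X₁) (cmplι U X₁) M i' n' (i + 1) n
            hiZ hnZ).hom
            ((T.push (X := (X.ptSub x.1.1).res ((X.ptSubι x.1.1) ⁻¹ᵁ X₁))
              (Y := cmplObj (X := X) U X₁) (pieceObjHom h x).hom M i' n' i' n'
                (hi0 x) (hn0 x)).hom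
              ((T.pull (pieceObjHom h x) M i' n').hom
                ((T.res (gDecomp U X₁ h.hle (dim_U_eq h)) M i n i' n' hiD hnD).hom a)))) := by
      intro x
      rw [PreTheory.PushData.tot_lof, res_formula_good T h Q x M i n i' n' hi hn hiD hnD a,
        push_formula_good T h P x M i' n' (i + 1) n hi2 hn2 (hi0 x) (hn0 x) hiZ hnZ]
    rw [Finset.sum_congr rfl (fun x _ => hterm x), ← map_sum, ← map_sum]
    have hadd := eq_sum_push_pull T _ (pieceObjHom h) (pieces_disjoint h) (pieces_cover h) M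
      i' n' hi0 hn0 ((T.res (gDecomp U X₁ h.hle (dim_U_eq h)) M i n i' n' hiD hnD).hom a)
    have h0 := (T.exact_res_push (gDecomp U X₁ h.hle (dim_U_eq h)) M i n i' n' hiD hnD hiZ
      hnZ).apply_apply_eq_zero a
    refine (congrArg (fun c => ((T.fjι X (j + 1) (i + 1) n (fjMk X (j + 1) X₁ h.hX₁)).app M).hom
      ((T.push (X := cmplObj (X := X) U X₁) (Y := X.res X₁) (cmplι U X₁) M i' n' (i + 1) n
        hiZ hnZ).hom c)) hadd.symm).trans ?_
    exact (congrArg _ h0).trans (map_zero _)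

/-- the push-forward through the reduced complement of a good pair is the push-forward of the
trace of the closure of the point -/
theorem push_cmplι_push_piece (x : outPts X j U) (M : A.Cat) (i' n' k n : ℤ)
    (hi0 : i' = i' + 2 * relCodim ((X.ptSub x.1.1).res ((X.ptSubι x.1.1) ⁻¹ᵁ X₁)).scheme
      (cmplObj (X := X) U X₁).scheme)
    (hn0 : n' = n' + relCodim ((X.ptSub x.1.1).res ((X.ptSubι x.1.1) ⁻¹ᵁ X₁)).scheme
      (cmplObj (X := X) U X₁).scheme)
    (hiZ : k = i' + 2 * relCodim (cmplObj (X := X) U X₁).scheme (X.res X₁).scheme)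
    (hnZ : n = n' + relCodim (cmplObj (X := X) U X₁).scheme (X.res X₁).scheme)
    (hi' : k = i' + 2 * relCodim ((X.ptSub x.1.1).res ((X.ptSubι x.1.1) ⁻¹ᵁ X₁)).scheme
      (X.res X₁).scheme)
    (hn' : n = n' + relCodim ((X.ptSub x.1.1).res ((X.ptSubι x.1.1) ⁻¹ᵁ X₁)).scheme
      (X.res X₁).scheme)
    (b : T.gp ((X.ptSub x.1.1).res ((X.ptSubι x.1.1) ⁻¹ᵁ X₁)) M i' n') :
    (T.push (X := cmplObj (X := X) U X₁) (Y := X.res X₁) (cmplι U X₁) M i' n' k n hiZ hnZ).hom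
        ((T.push (X := (X.ptSub x.1.1).res ((X.ptSubι x.1.1) ⁻¹ᵁ X₁))
          (Y := cmplObj (X := X) U X₁) (pieceObjHom h x).hom M i' n' i' n' hi0 hn0).hom b) =
      (T.push (X := (X.ptSub x.1.1).res ((X.ptSubι x.1.1) ⁻¹ᵁ X₁)) (Y := X.res X₁)
        (X.ptSubι x.1.1 ∣_ X₁) M i' n' k n hi' hn').hom b := by
  have hprop : IsProper (pieceHom x.1.1 U X₁ x.2 ≫ cmplι U X₁) := by
    rw [pieceHom_fac]
    infer_instance
  have h2 : T.push (X := (X.ptSub x.1.1).res ((X.ptSubι x.1.1) ⁻¹ᵁ X₁)) (Y := X.res X₁)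
      (X.ptSubι x.1.1 ∣_ X₁) M i' n' k n hi' hn' =
      T.push (X := (X.ptSub x.1.1).res ((X.ptSubι x.1.1) ⁻¹ᵁ X₁)) (Y := X.res X₁)
        (pieceHom x.1.1 U X₁ x.2 ≫ cmplι U X₁) M i' n' k n hi' hn' :=
    push_congr T (pieceHom_fac x.1.1 U X₁ x.2).symm M i' n' k n hi' hn'
  have h3 := T.push_comp (X := (X.ptSub x.1.1).res ((X.ptSubι x.1.1) ⁻¹ᵁ X₁))
    (Y := cmplObj (X := X) U X₁) (Z := X.res X₁) (pieceObjHom h x).hom (cmplι U X₁) M
    i' n' i' n' k n hi0 hn0 hiZ hnZ hi' hn'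
  rw [h2]
  exact congrArg (fun φ => φ.hom b) h3

omit h in
/-- restricting the push-forward of a class of a trace of the closure of a point to a smaller
open is the push-forward of the restricted class -/
theorem pull_push_restrict (x : X.scheme) (X₂ X₃ : X.scheme.Opens) (hle : X₃ ≤ X₂)
    (hd : WeilCoh.dim (X₃ : Scheme.{u}) = WeilCoh.dim (X₂ : Scheme.{u})) (hx : x ∈ X₃)
    (M : A.Cat) (i₀ n₀ k n : ℤ)
    (hi2 : k = i₀ + 2 * relCodim ((X.ptSub x).res ((X.ptSubι x) ⁻¹ᵁ X₂)).scheme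
      (X.res X₂).scheme)
    (hn2 : n = n₀ + relCodim ((X.ptSub x).res ((X.ptSubι x) ⁻¹ᵁ X₂)).scheme (X.res X₂).scheme)
    (hi3 : k = i₀ + 2 * relCodim ((X.ptSub x).res ((X.ptSubι x) ⁻¹ᵁ X₃)).scheme
      (X.res X₃).scheme)
    (hn3 : n = n₀ + relCodim ((X.ptSub x).res ((X.ptSubι x) ⁻¹ᵁ X₃)).scheme (X.res X₃).scheme)
    (hpre : (X.ptSubι x) ⁻¹ᵁ X₃ ≤ (X.ptSubι x) ⁻¹ᵁ X₂)
    (b : T.gp ((X.ptSub x).res ((X.ptSubι x) ⁻¹ᵁ X₂)) M i₀ n₀) :
    (T.pull (X.resLE hle hd) M k n).hom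
      ((T.push (X := (X.ptSub x).res ((X.ptSubι x) ⁻¹ᵁ X₂)) (Y := X.res X₂)
        (X.ptSubι x ∣_ X₂) M i₀ n₀ k n hi2 hn2).hom b) =
    (T.push (X := (X.ptSub x).res ((X.ptSubι x) ⁻¹ᵁ X₃)) (Y := X.res X₃)
        (X.ptSubι x ∣_ X₃) M i₀ n₀ k n hi3 hn3).hom
      ((T.pull ((X.ptSub x).resLE hpre
        ((ptPre X x X₃ hx).2.2.trans (ptPre X x X₂ (hle hx)).2.2.symm)) M i₀ n₀).hom b) := by
  have hpp := T.push_pull (X := (X.ptSub x).res ((X.ptSubι x) ⁻¹ᵁ X₂)) (Y := X.res X₂)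
    (X' := (X.ptSub x).res ((X.ptSubι x) ⁻¹ᵁ X₃)) (Y' := X.res X₃)
    (X.ptSubι x ∣_ X₂) (X.ptSubι x ∣_ X₃) (X.resLE hle hd)
    ((X.ptSub x).resLE hpre ((ptPre X x X₃ hx).2.2.trans (ptPre X x X₂ (hle hx)).2.2.symm))
    (Groth.Agent.H79.BMCohBij.isPullback_restrict_le (X.ptSubι x) hle hpre) M i₀ n₀ k n
    hi2 hn2 hi3 hn3
  exact congrArg (fun φ => φ.hom b) hpp

end Groth.Agent.H79.BMCohSeqMid
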