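import Groth.Agent.H79.BMCohSeqRes

set_option autoImplicit false
universe u
open CategoryTheory AlgebraicGeometry Opposite CategoryTheory.Limits

namespace Groth.Agent.H79.BMCohSeqPush

open BMCoh Groth.Agent.H79.BMCohDim Groth.Agent.H79.BMCohRes Groth.Agent.H79.BMCohFilt
  Groth.Agent.H79.BMCohDecomp Groth.Agent.H79.BMCohSeqRes

variable {V : ObjectProperty Scheme.{u}} [IsConstructible V] {R : Type u} [CommRing R]
  {A : Coefs R} (T : PreTheory V R A) {X : Obj V}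

/-- the push-forward of a point class represented on the trace of an open containing `F_m` -/
theorem push_formula {m : ℕ} (P : T.PushData X m) (x : X.cdPt m) (M : A.Cat) (i n i' n' : ℤ)
    (hi : i' = i + 2 * (m : ℤ)) (hn : n' = n + (m : ℤ)) (U₀ : X.scheme.Opens)
    (hU₀ : ContainsFj X m U₀)
    (hi' : i' = i + 2 * relCodim ((X.ptSub x.1).res ((X.ptSubι x.1) ⁻¹ᵁ U₀)).scheme
      (X.res U₀).scheme)
    (hn' : n' = n + relCodim ((X.ptSub x.1).res ((X.ptSubι x.1) ⁻¹ᵁ U₀)).scheme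
      (X.res U₀).scheme)
    (b : T.gp ((X.ptSub x.1).res ((X.ptSubι x.1) ⁻¹ᵁ U₀)) M i n) :
    (P.cpt x M i n i' n' hi hn).hom
      (((T.ptι X x.1 i n (ptPre X x.1 U₀ (mem_of_cdPt X m x U₀ hU₀))).app M).hom b) =
    ((T.fjι X m i' n' (fjMk X m U₀ hU₀)).app M).hom
      ((T.push (X := (X.ptSub x.1).res ((X.ptSubι x.1) ⁻¹ᵁ U₀)) (Y := X.res U₀)
        (X.ptSubι x.1 ∣_ U₀) M i n i' n' hi' hn').hom b) := by
  have key := P.cpt_spec x M i n i' n' hi hn (fjMk X m U₀ hU₀)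
    (ptPre X x.1 U₀ (mem_of_cdPt X m x U₀ hU₀)) (X.ptSubι x.1 ∣_ U₀)
    (morphismRestrict_ι _ _) hi' hn'
  exact congrArg (fun φ => φ.hom b) key

/-- the push-forward of a point class of codimension `j + 1`, represented on the trace of an
open containing `F_{j+1}`, dies in the group of `F_j` -/
theorem fjRes_cpt_ptPre {j : ℕ} (P : T.PushData X (j + 1)) (x : X.cdPt (j + 1)) (M : A.Cat)
    (i n k n' : ℤ) (hi : k + 1 = i + 2 * ((j + 1 : ℕ) : ℤ)) (hn : n' = n + ((j + 1 : ℕ) : ℤ))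
    (U₀ : X.scheme.Opens) (hU₀ : ContainsFj X (j + 1) U₀)
    (b : T.gp ((X.ptSub x.1).res ((X.ptSubι x.1) ⁻¹ᵁ U₀)) M i n) :
    ((T.fjRes X (Nat.le_succ j) (k + 1) n').app M).hom
      ((P.cpt x M i n (k + 1) n' hi hn).hom
        (((T.ptι X x.1 i n (ptPre X x.1 U₀ (mem_of_cdPt X (j + 1) x U₀ hU₀))).app M).hom b)) =
      0 := by
  have hx := mem_of_cdPt X (j + 1) x U₀ hU₀
  have hdU₀ := dim_of_containsFj X (j + 1) U₀ hU₀
  have hrc := relCodim_eq X (j + 1) x (ptPre X x.1 U₀ hx) U₀ hdU₀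
  have hi' : k + 1 = i + 2 * relCodim ((X.ptSub x.1).res ((X.ptSubι x.1) ⁻¹ᵁ U₀)).scheme
      (X.res U₀).scheme := by
    rw [hrc]
    exact hi
  have hn' : n' = n + relCodim ((X.ptSub x.1).res ((X.ptSubι x.1) ⁻¹ᵁ U₀)).scheme
      (X.res U₀).scheme := by
    rw [hrc]
    exact hn
  rw [push_formula T P x M i n (k + 1) n' hi hn U₀ hU₀ hi' hn' b, fjRes_fjι_apply]
  have hUj := containsFj_mono X (Nat.le_succ j) U₀ hU₀
  have hU' := containsFj_inf_clCompl X j x U₀ hUj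
  have hd : WeilCoh.dim ((U₀ ⊓ clCompl X x.1 : X.scheme.Opens) : Scheme.{u}) =
      WeilCoh.dim (U₀ : Scheme.{u}) := (dim_of_containsFj X j _ hU').trans hdU₀.symm
  have hxU' : x.1 ∉ U₀ ⊓ clCompl X x.1 := fun h => not_mem_clCompl X x.1 h.2
  have hYT' : ∀ y ∈ U₀, y ∉ U₀ ⊓ clCompl X x.1 → y ∈ closure ({x.1} : Set X.scheme) :=
    fun y hyU hy => by
      by_contra hcl
      exact hy ⟨hyU, hcl⟩
  rw [ocolimι_le_apply T X (ContainsFj X j) (k + 1) n' M (fjMk X j _ hU')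
    ⟨U₀, hUj, hdU₀⟩ inf_le_left hd _]
  have h0 := (T.exact_push_pull (cDecomp X (U₀ ⊓ clCompl X x.1) U₀ inf_le_left hd x.1 hxU' hYT')
    M k n' i n hi' hn').apply_apply_eq_zero b
  refine Eq.trans (congrArg _ h0) ?_
  exact map_zero _

/-- the push-forward of any point class of codimension `j + 1` dies in the group of `F_j` -/
theorem fjRes_cpt_ptι {j : ℕ} (P : T.PushData X (j + 1)) (x : X.cdPt (j + 1)) (M : A.Cat)
    (i n k n' : ℤ) (hi : k + 1 = i + 2 * ((j + 1 : ℕ) : ℤ)) (hn : n' = n + ((j + 1 : ℕ) : ℤ))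
    (W : ptIdx X x.1) (b : T.gp ((X.ptSub x.1).res W.1) M i n) :
    ((T.fjRes X (Nat.le_succ j) (k + 1) n').app M).hom
      ((P.cpt x M i n (k + 1) n' hi hn).hom (((T.ptι X x.1 i n W).app M).hom b)) = 0 := by
  have hU₀ : ContainsFj X (j + 1) (complOpen X x.1 W.1) := fun y hy =>
    complOpen_containsFj X x.1 W.1 W.2.1 y (by
      have : WeilCoh.codim X.scheme x.1 = j + 1 := x.2
      omega)
  have hx := mem_of_cdPt X (j + 1) x _ hU₀
  have hWW : (ptPre X x.1 (complOpen X x.1 W.1) hx).1 ≤ W.1 :=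
    le_of_eq (preimage_complOpen X x.1 W.1).symm
  rw [ocolimι_le_apply T (X.ptSub x.1) _ i n M (ptPre X x.1 (complOpen X x.1 W.1) hx) W hWW
    ((ptPre X x.1 (complOpen X x.1 W.1) hx).2.2.trans W.2.2.symm) b]
  exact fjRes_cpt_ptPre T P x M i n k n' hi hn _ hU₀ _

/-- the push-forward of any point class of codimension `j + 1` dies in the group of `F_j` -/
theorem fjRes_cpt {j : ℕ} (P : T.PushData X (j + 1)) (x : X.cdPt (j + 1)) (M : A.Cat)
    (i n k n' : ℤ) (hi : k + 1 = i + 2 * ((j + 1 : ℕ) : ℤ)) (hn : n' = n + ((j + 1 : ℕ) : ℤ))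
    (α : T.ptGp X x.1 M i n) :
    ((T.fjRes X (Nat.le_succ j) (k + 1) n').app M).hom
      ((P.cpt x M i n (k + 1) n' hi hn).hom α) = 0 := by
  obtain ⟨W, b, rfl⟩ := exists_rep T (X.ptSub x.1)
    (fun U => (U : Set (X.ptSub x.1).scheme).Nonempty) i n M α
  exact fjRes_cpt_ptι T P x M i n k n' hi hn W b

omit [IsConstructible V] in
theorem pull_id_apply (Y : Obj V) (M : A.Cat) (i n : ℤ) (c : T.gp Y M i n) :
    (T.pull (𝟙 Y) M i n).hom c = c := by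
  rw [pull_id]
  rfl

/-- a class of `F_{j+1}` that dies on an open containing `F_j` is a sum of push-forwards of
point classes -/
theorem exists_preimage_of_pull_eq_zero {j : ℕ} (P : T.PushData X (j + 1)) (M : A.Cat)
    (i n k n' : ℤ) (hi : k + 1 = i + 2 * ((j + 1 : ℕ) : ℤ)) (hn : n' = n + ((j + 1 : ℕ) : ℤ)) :
    ∀ (U' : X.scheme.Opens) (hU' : ContainsFj X j U') (U : X.scheme.Opens)
      (hU : ContainsFj X (j + 1) U) (hle : U' ≤ U)
      (hd : WeilCoh.dim (U' : Scheme.{u}) = WeilCoh.dim (U : Scheme.{u}))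
      (a : T.gp (X.res U) M (k + 1) n'), (T.pull (X.resLE hle hd) M (k + 1) n').hom a = 0 →
      ∃ s : T.ptSum X (j + 1) M i n, (P.tot M i n (k + 1) n' hi hn).hom s =
        ((T.fjι X (j + 1) (k + 1) n' (fjMk X (j + 1) U hU)).app M).hom a := by
  classical
  have hN : IsNoetherian X.scheme := IsConstructible.isNoetherian X.mem
  intro U'
  refine IsWellFounded.induction (· > ·) (motive := fun U' : X.scheme.Opens =>
    ∀ (hU' : ContainsFj X j U') (U : X.scheme.Opens)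
      (hU : ContainsFj X (j + 1) U) (hle : U' ≤ U)
      (hd : WeilCoh.dim (U' : Scheme.{u}) = WeilCoh.dim (U : Scheme.{u}))
      (a : T.gp (X.res U) M (k + 1) n'), (T.pull (X.resLE hle hd) M (k + 1) n').hom a = 0 →
      ∃ s : T.ptSum X (j + 1) M i n, (P.tot M i n (k + 1) n' hi hn).hom s =
        ((T.fjι X (j + 1) (k + 1) n' (fjMk X (j + 1) U hU)).app M).hom a) U' ?_
  intro U' IH hU' U hU hle hd a ha
  by_cases hU1 : ContainsFj X (j + 1) U'
  · refine ⟨0, ?_⟩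
    rw [map_zero, ocolimι_le_apply T X (ContainsFj X (j + 1)) (k + 1) n' M
      (fjMk X (j + 1) U' hU1) (fjMk X (j + 1) U hU) hle hd a, ha, map_zero]
  · have hex : ∃ y : X.scheme, WeilCoh.codim X.scheme y ≤ j + 1 ∧ y ∉ U' := by
      by_contra hcon
      apply hU1
      intro y hy
      by_contra hyU
      exact hcon ⟨y, hy, hyU⟩
    obtain ⟨y, hy1, hyU⟩ := hex
    have hy2 : WeilCoh.codim X.scheme y = j + 1 := by
      by_contra hne
      exact hyU (hU' y (by omega))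
    let x : X.cdPt (j + 1) := ⟨y, hy2⟩
    have hxU' : x.1 ∉ U' := hyU
    have hxU : x.1 ∈ U := mem_of_cdPt X (j + 1) x U hU
    obtain ⟨Yo, hUYo, hxYo, hYoT⟩ := exists_open_isolating X U' x.1
      (fun c hc hcx => isMaximal_of_not_mem X j x (fjMk X j U' hU') c hc hcx)
    -- the open `Y` on which the class is a push-forward
    have hU'Y : U' ≤ Yo ⊓ U := le_inf hUYo hle
    have hxY : x.1 ∈ Yo ⊓ U := ⟨hxYo, hxU⟩
    have hYT : ∀ y ∈ Yo ⊓ U, y ∉ U' → y ∈ closure ({x.1} : Set X.scheme) :=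
      fun y hy hyU => hYoT y hy.1 hyU
    have hY : ContainsFj X j (Yo ⊓ U) := containsFj_of_le X j U' _ hU'Y hU'
    have hdimU' := dim_of_containsFj X j U' hU'
    have hdimY := dim_of_containsFj X j _ hY
    have hdimU := dim_of_containsFj X (j + 1) U hU
    have hdY : WeilCoh.dim (U' : Scheme.{u}) =
        WeilCoh.dim ((Yo ⊓ U : X.scheme.Opens) : Scheme.{u}) := hdimU'.trans hdimY.symm
    have hdYU : WeilCoh.dim ((Yo ⊓ U : X.scheme.Opens) : Scheme.{u}) =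
        WeilCoh.dim (U : Scheme.{u}) := hdimY.trans hdimU.symm
    have hrcY := relCodim_eq X (j + 1) x (ptPre X x.1 (Yo ⊓ U) hxY) (Yo ⊓ U) hdimY
    have hiY : k + 1 = i + 2 * relCodim
        ((X.ptSub x.1).res ((X.ptSubι x.1) ⁻¹ᵁ (Yo ⊓ U))).scheme (X.res (Yo ⊓ U)).scheme := by
      rw [hrcY]
      exact hi
    have hnY : n' = n + relCodim
        ((X.ptSub x.1).res ((X.ptSubι x.1) ⁻¹ᵁ (Yo ⊓ U))).scheme (X.res (Yo ⊓ U)).scheme := by
      rw [hrcY]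
      exact hn
    -- the class restricted to `Y` is a push-forward
    have hfacY : X.resLE hle hd = X.resLE hU'Y hdY ≫
        X.resLE (inf_le_right : Yo ⊓ U ≤ U) hdYU :=
      Hom.ext (Scheme.homOfLE_homOfLE X.scheme hU'Y inf_le_right).symm
    have haY : (T.pull (X.resLE hU'Y hdY) M (k + 1) n').hom
        ((T.pull (X.resLE (inf_le_right : Yo ⊓ U ≤ U) hdYU) M (k + 1) n').hom a) = 0 := by
      rw [← pull_comp_apply, ← hfacY]
      exact ha
    obtain ⟨b, hb⟩ := ((T.exact_push_pull (cDecomp X U' (Yo ⊓ U) hU'Y hdY x.1 hxU' hYT)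
      M k n' i n hiY hnY) _).mp haY
    -- the open `U₀` containing `F_{j+1}` whose trace on the closure of `x` is that of `Y`
    have hU₀ : ContainsFj X (j + 1) (U ⊓ (Yo ⊔ clCompl X x.1)) := by
      intro y hy
      refine ⟨hU y hy, ?_⟩
      by_cases hycl : y ∈ closure ({x.1} : Set X.scheme)
      · refine TopologicalSpace.Opens.mem_sup.mpr (Or.inl ?_)
        have hyx : y = x.1 := by
          by_contra hne
          have h1 := codim_lt_of_mem_closure X x.1 y hycl hne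
          have h2 : WeilCoh.codim X.scheme x.1 = j + 1 := x.2
          omega
        rw [hyx]
        exact hxYo
      · exact TopologicalSpace.Opens.mem_sup.mpr (Or.inr hycl)
    have hYU₀ : Yo ⊓ U ≤ U ⊓ (Yo ⊔ clCompl X x.1) :=
      fun y hy => ⟨hy.2, TopologicalSpace.Opens.mem_sup.mpr (Or.inl hy.1)⟩
    have hU₀U : U ⊓ (Yo ⊔ clCompl X x.1) ≤ U := inf_le_left
    have hpreEq : (X.ptSubι x.1) ⁻¹ᵁ (Yo ⊓ U) =
        (X.ptSubι x.1) ⁻¹ᵁ (U ⊓ (Yo ⊔ clCompl X x.1)) := by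
      ext z
      constructor
      · intro hz
        exact hYU₀ hz
      · intro hz
        have hz1 : X.ptSubι x.1 z ∈ U := hz.1
        have hz2 : X.ptSubι x.1 z ∈ Yo ⊔ clCompl X x.1 := hz.2
        rcases TopologicalSpace.Opens.mem_sup.mp hz2 with h | h
        · exact ⟨h, hz1⟩
        · exfalso
          apply h
          rw [← range_ptSubι]
          exact ⟨z, rfl⟩
    have hdimU₀ := dim_of_containsFj X (j + 1) _ hU₀
    have hdYU₀ : WeilCoh.dim ((Yo ⊓ U : X.scheme.Opens) : Scheme.{u}) =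
        WeilCoh.dim ((U ⊓ (Yo ⊔ clCompl X x.1) : X.scheme.Opens) : Scheme.{u}) :=
      hdimY.trans hdimU₀.symm
    have hdU₀U : WeilCoh.dim ((U ⊓ (Yo ⊔ clCompl X x.1) : X.scheme.Opens) : Scheme.{u}) =
        WeilCoh.dim (U : Scheme.{u}) := hdimU₀.trans hdimU.symm
    have hf₀ : ((X.ptSubι x.1 ∣_ (Yo ⊓ U)) ≫ X.scheme.homOfLE hYU₀) ≫
        (U ⊓ (Yo ⊔ clCompl X x.1)).ι = ((X.ptSubι x.1) ⁻¹ᵁ (Yo ⊓ U)).ι ≫ X.ptSubι x.1 := by
      rw [Category.assoc, Scheme.homOfLE_ι, morphismRestrict_ι]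
    have hcl : IsClosedImmersion ((X.ptSubι x.1 ∣_ (Yo ⊓ U)) ≫ X.scheme.homOfLE hYU₀) :=
      isClosedImmersion_of_fac X x.1 _ _ hpreEq _ hf₀
    have hrc₀ := relCodim_eq X (j + 1) x (ptPre X x.1 (Yo ⊓ U) hxY)
      (U ⊓ (Yo ⊔ clCompl X x.1)) hdimU₀
    have hi₀ : k + 1 = i + 2 * relCodim
        ((X.ptSub x.1).res ((X.ptSubι x.1) ⁻¹ᵁ (Yo ⊓ U))).scheme
        (X.res (U ⊓ (Yo ⊔ clCompl X x.1))).scheme := by
      rw [hrc₀]
      exact hi
    have hn₀ : n' = n + relCodim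
        ((X.ptSub x.1).res ((X.ptSubι x.1) ⁻¹ᵁ (Yo ⊓ U))).scheme
        (X.res (U ⊓ (Yo ⊔ clCompl X x.1))).scheme := by
      rw [hrc₀]
      exact hn
    have key := P.cpt_spec x M i n (k + 1) n' hi hn (fjMk X (j + 1) _ hU₀)
      (ptPre X x.1 (Yo ⊓ U) hxY) ((X.ptSubι x.1 ∣_ (Yo ⊓ U)) ≫ X.scheme.homOfLE hYU₀) hf₀
      hi₀ hn₀
    have key2 := congrArg (fun φ => φ.hom b) key
    have hpb : IsPullback (𝟙 (((X.ptSubι x.1) ⁻¹ᵁ (Yo ⊓ U) : (X.ptSub x.1).scheme.Opens) :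
          Scheme.{u}))
        (X.ptSubι x.1 ∣_ (Yo ⊓ U))
        ((X.ptSubι x.1 ∣_ (Yo ⊓ U)) ≫ X.scheme.homOfLE hYU₀) (X.scheme.homOfLE hYU₀) :=
      isPullback_id_of_mono _ _
    have hpp := T.push_pull (X := (X.ptSub x.1).res ((X.ptSubι x.1) ⁻¹ᵁ (Yo ⊓ U)))
      (Y := X.res (U ⊓ (Yo ⊔ clCompl X x.1)))
      (X' := (X.ptSub x.1).res ((X.ptSubι x.1) ⁻¹ᵁ (Yo ⊓ U))) (Y' := X.res (Yo ⊓ U))
      ((X.ptSubι x.1 ∣_ (Yo ⊓ U)) ≫ X.scheme.homOfLE hYU₀) (X.ptSubι x.1 ∣_ (Yo ⊓ U))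
      (X.resLE hYU₀ hdYU₀) (𝟙 _) hpb M i n (k + 1) n' hi₀ hn₀ hiY hnY
    have hpp2 := congrArg (fun φ => φ.hom b) hpp
    have h6 : (T.pull (X.resLE hYU₀ hdYU₀) M (k + 1) n').hom
        ((T.push (X := (X.ptSub x.1).res ((X.ptSubι x.1) ⁻¹ᵁ (Yo ⊓ U)))
          (Y := X.res (U ⊓ (Yo ⊔ clCompl X x.1)))
          ((X.ptSubι x.1 ∣_ (Yo ⊓ U)) ≫ X.scheme.homOfLE hYU₀) M i n (k + 1) n' hi₀ hn₀).hom b) =
        (T.pull (X.resLE (inf_le_right : Yo ⊓ U ≤ U) hdYU) M (k + 1) n').hom a := by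
      refine hpp2.trans ?_
      refine Eq.trans ?_ hb
      exact congrArg (fun c => (T.push (X := (X.ptSub x.1).res ((X.ptSubι x.1) ⁻¹ᵁ (Yo ⊓ U)))
        (Y := X.res (Yo ⊓ U)) (X.ptSubι x.1 ∣_ (Yo ⊓ U)) M i n (k + 1) n' hiY hnY).hom c)
        (pull_id_apply T _ M i n b)
    -- the corrected class vanishes on `Y`
    have hfacU₀ : X.resLE (inf_le_right : Yo ⊓ U ≤ U) hdYU =
        X.resLE hYU₀ hdYU₀ ≫ X.resLE hU₀U hdU₀U :=
      Hom.ext (Scheme.homOfLE_homOfLE X.scheme hYU₀ hU₀U).symm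
    have ha' : (T.pull (X.resLE hYU₀ hdYU₀) M (k + 1) n').hom
        ((T.pull (X.resLE hU₀U hdU₀U) M (k + 1) n').hom a -
          (T.push (X := (X.ptSub x.1).res ((X.ptSubι x.1) ⁻¹ᵁ (Yo ⊓ U)))
            (Y := X.res (U ⊓ (Yo ⊔ clCompl X x.1)))
            ((X.ptSubι x.1 ∣_ (Yo ⊓ U)) ≫ X.scheme.homOfLE hYU₀) M i n (k + 1) n'
              hi₀ hn₀).hom b) = 0 := by
      rw [map_sub, h6, ← pull_comp_apply, ← hfacU₀, sub_self]
    have hlt : Yo ⊓ U > U' := lt_of_le_of_ne hU'Y (fun heq => hxU' (heq ▸ hxY))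
    obtain ⟨s', hs'⟩ := IH _ hlt hY _ hU₀ hYU₀ hdYU₀ _ ha'
    refine ⟨s' + DirectSum.lof R (X.cdPt (j + 1)) (fun y : X.cdPt (j + 1) => T.ptGp X y.1 M i n) x
      (((T.ptι X x.1 i n (ptPre X x.1 (Yo ⊓ U) hxY)).app M).hom b), ?_⟩
    rw [map_add, hs', PreTheory.PushData.tot_lof]
    refine Eq.trans (congrArg _ key2) ?_
    refine Eq.trans (map_add _ _ _).symm ?_
    rw [ocolimι_le_apply T X (ContainsFj X (j + 1)) (k + 1) n' M
      (fjMk X (j + 1) _ hU₀) (fjMk X (j + 1) U hU) hU₀U hdU₀U a]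
    exact congrArg _ (sub_add_cancel _ _)

end Groth.Agent.H79.BMCohSeqPush
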