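import Groth.Agent.H79.BMCohDecomp

set_option autoImplicit false
universe u
open CategoryTheory AlgebraicGeometry Opposite CategoryTheory.Limits

namespace Groth.Agent.H79.BMCohSeqRes

open BMCoh Groth.Agent.H79.BMCohDim Groth.Agent.H79.BMCohRes Groth.Agent.H79.BMCohFilt
  Groth.Agent.H79.BMCohDecomp

variable {V : ObjectProperty Scheme.{u}} [IsConstructible V] {R : Type u} [CommRing R]
  {A : Coefs R} (T : PreTheory V R A)

omit [IsConstructible V] in
theorem pull_id (X : Obj V) (M : A.Cat) (i n : ℤ) : T.pull (𝟙 X) M i n = 𝟙 _ := by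
  change ((T.H i n).map (𝟙 X).op).app M = _
  rw [op_id, CategoryTheory.Functor.map_id, NatTrans.id_app]

omit [IsConstructible V] in
theorem pull_comp {X Y Z : Obj V} (f : X ⟶ Y) (g : Y ⟶ Z) (M : A.Cat) (i n : ℤ) :
    T.pull (f ≫ g) M i n = T.pull g M i n ≫ T.pull f M i n := by
  change ((T.H i n).map (f ≫ g).op).app M = _
  rw [op_comp, CategoryTheory.Functor.map_comp, NatTrans.comp_app]

omit [IsConstructible V] in
theorem pull_comp_apply {X Y Z : Obj V} (f : X ⟶ Y) (g : Y ⟶ Z) (M : A.Cat) (i n : ℤ)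
    (a : T.gp Z M i n) :
    (T.pull (f ≫ g) M i n).hom a = (T.pull f M i n).hom ((T.pull g M i n).hom a) := by
  rw [pull_comp]
  rfl

variable {X : Obj V} {j : ℕ} (Q : T.ResData X j)

/-- the component at `x` of the residue, on a class of an open `U` avoiding `x` whose complement
near `x` is the closure of `x`, is the residue of the decomposition -/
theorem res_formula (x : X.cdPt (j + 1)) (M : A.Cat) (i n i' n' : ℤ)
    (hi : i' = i + 1 - 2 * ((j : ℤ) + 1)) (hn : n' = n - ((j : ℤ) + 1))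
    (U Yo : X.scheme.Opens) (hU : ContainsFj X j U) (hUY : U ≤ Yo) (hxU : x.1 ∉ U)
    (hYT : ∀ y ∈ Yo, y ∉ U → y ∈ closure ({x.1} : Set X.scheme)) (hxY : x.1 ∈ Yo)
    (hd : WeilCoh.dim (U : Scheme.{u}) = WeilCoh.dim (Yo : Scheme.{u}))
    (hiD : i' = i + 1 - 2 * (cDecomp X U Yo hUY hd x.1 hxU hYT).codim)
    (hnD : n' = n - (cDecomp X U Yo hUY hd x.1 hxU hYT).codim)
    (a : T.gp (X.res U) M i n) :
    (Q.cpt x M i n i' n' hi hn).hom (((T.fjι X j i n (fjMk X j U hU)).app M).hom a) =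
      ((T.ptι X x.1 i' n' (ptPre X x.1 Yo hxY)).app M).hom
        ((T.res (cDecomp X U Yo hUY hd x.1 hxU hYT) M i n i' n' hiD hnD).hom a) := by
  have hdY : WeilCoh.dim (Yo : Scheme.{u}) = WeilCoh.dim X.scheme :=
    hd.symm.trans (dim_of_containsFj X j U hU)
  have hg : BMCoh.Hom.hom (𝟙 ((X.ptSub x.1).res (ptPre X x.1 Yo hxY).1)) ≫
      (cDecomp X U Yo hUY hd x.1 hxU hYT).i ≫ (X.resι Yo hdY).hom =
      (ptPre X x.1 Yo hxY).1.ι ≫ X.ptSubι x.1 := by
    change 𝟙 _ ≫ (X.ptSubι x.1 ∣_ Yo) ≫ Yo.ι = _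
    rw [Category.id_comp, morphismRestrict_ι]
  have hh : BMCoh.Hom.hom (𝟙 (X.res (fjMk X j U hU).1)) ≫
      (cDecomp X U Yo hUY hd x.1 hxU hYT).j.hom ≫ (X.resι Yo hdY).hom = (fjMk X j U hU).1.ι := by
    change 𝟙 _ ≫ X.scheme.homOfLE hUY ≫ Yo.ι = _
    rw [Category.id_comp, Scheme.homOfLE_ι]
  have key := Q.cpt_spec x M i n i' n' hi hn (X.resι Yo hdY)
    (cDecomp X U Yo hUY hd x.1 hxU hYT) (ptPre X x.1 Yo hxY) (𝟙 _) hg (fjMk X j U hU) (𝟙 _) hh
    hiD hnD
  have key2 := congrArg (fun φ => φ.hom a) key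
  have e1 : (T.pull (𝟙 (X.res U)) M i n).hom a = a := by
    rw [pull_id]
    rfl
  have e2 : ∀ b : T.gp ((X.ptSub x.1).res ((X.ptSubι x.1) ⁻¹ᵁ Yo)) M i' n',
      (T.pull (𝟙 ((X.ptSub x.1).res ((X.ptSubι x.1) ⁻¹ᵁ Yo))) M i' n').hom b = b := by
    intro b
    rw [pull_id]
    rfl
  refine Eq.trans ?_ (key2.trans ?_)
  · exact congrArg (fun c => (Q.cpt x M i n i' n' hi hn).hom
      (((T.fjι X j i n (fjMk X j U hU)).app M).hom c)) e1.symm
  · exact congrArg (fun c => ((T.ptι X x.1 i' n' (ptPre X x.1 Yo hxY)).app M).hom c) (e2 _)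

/-- residues vanish on the classes that extend over `F_{j+1}` -/
theorem cpt_fjι_eq_zero (x : X.cdPt (j + 1)) (M : A.Cat) (i n i' n' : ℤ)
    (hi : i' = i + 1 - 2 * ((j : ℤ) + 1)) (hn : n' = n - ((j : ℤ) + 1))
    (U : X.scheme.Opens) (hU : ContainsFj X (j + 1) U) (a : T.gp (X.res U) M i n) :
    (Q.cpt x M i n i' n' hi hn).hom (((T.fjι X j i n
      (fjMk X j U (containsFj_mono X (Nat.le_succ j) U hU))).app M).hom a) = 0 := by
  have hUj := containsFj_mono X (Nat.le_succ j) U hU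
  have hxU : x.1 ∈ U := mem_of_cdPt X (j + 1) x U hU
  have hU' := containsFj_inf_clCompl X j x U hUj
  have hd : WeilCoh.dim ((U ⊓ clCompl X x.1 : X.scheme.Opens) : Scheme.{u}) =
      WeilCoh.dim (U : Scheme.{u}) :=
    (dim_of_containsFj X j _ hU').trans (dim_of_containsFj X j U hUj).symm
  have hxU' : x.1 ∉ U ⊓ clCompl X x.1 := fun h => not_mem_clCompl X x.1 h.2
  have hYT' : ∀ y ∈ U, y ∉ U ⊓ clCompl X x.1 → y ∈ closure ({x.1} : Set X.scheme) :=
    fun y hyU hy => by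
      by_contra hcl
      exact hy ⟨hyU, hcl⟩
  have hcod := cDecomp_codim X (j + 1) x (U ⊓ clCompl X x.1) U inf_le_left hd hxU' hYT' hxU
    (dim_of_containsFj X j U hUj)
  have hiD : i' = i + 1 - 2 * (cDecomp X (U ⊓ clCompl X x.1) U inf_le_left hd x.1 hxU'
      hYT').codim := by
    rw [hcod]
    push_cast
    exact hi
  have hnD : n' = n - (cDecomp X (U ⊓ clCompl X x.1) U inf_le_left hd x.1 hxU' hYT').codim := by
    rw [hcod]
    push_cast
    exact hn
  rw [ocolimι_le_apply T X (ContainsFj X j) i n M (fjMk X j _ hU') (fjMk X j U hUj)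
    inf_le_left hd a]
  rw [res_formula T Q x M i n i' n' hi hn (U ⊓ clCompl X x.1) U hU' inf_le_left hxU' hYT' hxU hd
    hiD hnD]
  have h0 := (T.exact_pull_res (cDecomp X (U ⊓ clCompl X x.1) U inf_le_left hd x.1 hxU' hYT')
    M i n i' n' hiD hnD).apply_apply_eq_zero a
  refine Eq.trans (congrArg _ h0) ?_
  exact map_zero _

/-- a class of `F_j` all of whose residues vanish extends over `F_{j+1}` -/
theorem exists_lift_of_res_eq_zero (M : A.Cat) (i n i' n' : ℤ)
    (hi : i' = i + 1 - 2 * ((j : ℤ) + 1)) (hn : n' = n - ((j : ℤ) + 1)) :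
    ∀ (U : X.scheme.Opens) (hU : ContainsFj X j U) (a : T.gp (X.res U) M i n),
      (∀ x : X.cdPt (j + 1), (Q.cpt x M i n i' n' hi hn).hom
        (((T.fjι X j i n (fjMk X j U hU)).app M).hom a) = 0) →
      ∃ γ : T.fjGp X (j + 1) M i n, ((T.fjRes X (Nat.le_succ j) i n).app M).hom γ =
        ((T.fjι X j i n (fjMk X j U hU)).app M).hom a := by
  have hN : IsNoetherian X.scheme := IsConstructible.isNoetherian X.mem
  intro U
  refine IsWellFounded.induction (· > ·) (motive := fun U : X.scheme.Opens =>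
    ∀ (hU : ContainsFj X j U) (a : T.gp (X.res U) M i n),
      (∀ x : X.cdPt (j + 1), (Q.cpt x M i n i' n' hi hn).hom
        (((T.fjι X j i n (fjMk X j U hU)).app M).hom a) = 0) →
      ∃ γ : T.fjGp X (j + 1) M i n, ((T.fjRes X (Nat.le_succ j) i n).app M).hom γ =
        ((T.fjι X j i n (fjMk X j U hU)).app M).hom a) U ?_
  intro U IH hU a hres
  by_cases hU1 : ContainsFj X (j + 1) U
  · exact ⟨((T.fjι X (j + 1) i n (fjMk X (j + 1) U hU1)).app M).hom a,
      fjRes_fjι_apply T X (Nat.le_succ j) i n M (fjMk X (j + 1) U hU1) a⟩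
  · have hex : ∃ y : X.scheme, WeilCoh.codim X.scheme y ≤ j + 1 ∧ y ∉ U := by
      by_contra hcon
      apply hU1
      intro y hy
      by_contra hyU
      exact hcon ⟨y, hy, hyU⟩
    obtain ⟨y, hy1, hyU⟩ := hex
    have hy2 : WeilCoh.codim X.scheme y = j + 1 := by
      by_contra hne
      exact hyU (hU y (by omega))
    let x : X.cdPt (j + 1) := ⟨y, hy2⟩
    have hxU : x.1 ∉ U := hyU
    obtain ⟨Yo, hUY, hxY, hYT⟩ := exists_open_isolating X U x.1
      (fun c hc hcx => isMaximal_of_not_mem X j x (fjMk X j U hU) c hc hcx)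
    have hYo : ContainsFj X j Yo := containsFj_of_le X j U Yo hUY hU
    have hd : WeilCoh.dim (U : Scheme.{u}) = WeilCoh.dim (Yo : Scheme.{u}) :=
      (dim_of_containsFj X j U hU).trans (dim_of_containsFj X j Yo hYo).symm
    have hcod := cDecomp_codim X (j + 1) x U Yo hUY hd hxU hYT hxY (dim_of_containsFj X j Yo hYo)
    have hiD : i' = i + 1 - 2 * (cDecomp X U Yo hUY hd x.1 hxU hYT).codim := by
      rw [hcod]
      push_cast
      exact hi
    have hnD : n' = n - (cDecomp X U Yo hUY hd x.1 hxU hYT).codim := by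
      rw [hcod]
      push_cast
      exact hn
    have h1 := res_formula T Q x M i n i' n' hi hn U Yo hU hUY hxU hYT hxY hd hiD hnD a
    rw [hres x] at h1
    obtain ⟨W', hle, hW'⟩ := rep_eq_zero T (X.ptSub x.1)
      (fun U => (U : Set (X.ptSub x.1).scheme).Nonempty) i' n' M (ptPre X x.1 Yo hxY) _ h1.symm
    -- the smaller open
    have hUc : U ≤ complOpen X x.1 W'.1 := by
      intro y hy
      rw [mem_complOpen_iff]
      intro z hz
      exfalso
      have hycl : y ∈ closure ({x.1} : Set X.scheme) := by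
        rw [← range_ptSubι]
        exact ⟨z, hz⟩
      exact closure_subset_compl X U x.1 hxU hycl hy
    have hUY' : U ≤ Yo ⊓ complOpen X x.1 W'.1 := le_inf hUY hUc
    have hxY' : x.1 ∈ Yo ⊓ complOpen X x.1 W'.1 :=
      ⟨hxY, complOpen_containsFj X x.1 W'.1 W'.2.1 x.1 le_rfl⟩
    have hYT' : ∀ y ∈ Yo ⊓ complOpen X x.1 W'.1, y ∉ U →
        y ∈ closure ({x.1} : Set X.scheme) := fun y hy hyU => hYT y hy.1 hyU
    have hpre : (X.ptSubι x.1) ⁻¹ᵁ (Yo ⊓ complOpen X x.1 W'.1) ≤ W'.1 := by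
      intro z hz
      have hz2 : X.ptSubι x.1 z ∈ complOpen X x.1 W'.1 := hz.2
      rw [mem_complOpen_iff] at hz2
      exact hz2 z rfl
    have hYo' : ContainsFj X j (Yo ⊓ complOpen X x.1 W'.1) := containsFj_of_le X j U _ hUY' hU
    have hd' : WeilCoh.dim (U : Scheme.{u}) =
        WeilCoh.dim ((Yo ⊓ complOpen X x.1 W'.1 : X.scheme.Opens) : Scheme.{u}) :=
      (dim_of_containsFj X j U hU).trans (dim_of_containsFj X j _ hYo').symm
    have hcod' := cDecomp_codim X (j + 1) x U _ hUY' hd' hxU hYT' hxY'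
      (dim_of_containsFj X j _ hYo')
    have hiD' : i' = i + 1 - 2 * (cDecomp X U _ hUY' hd' x.1 hxU hYT').codim := by
      rw [hcod']
      push_cast
      exact hi
    have hnD' : n' = n - (cDecomp X U _ hUY' hd' x.1 hxU hYT').codim := by
      rw [hcod']
      push_cast
      exact hn
    have hpreLE : (X.ptSubι x.1) ⁻¹ᵁ (Yo ⊓ complOpen X x.1 W'.1) ≤ (X.ptSubι x.1) ⁻¹ᵁ Yo :=
      fun z hz => hz.1
    have hdYY : WeilCoh.dim ((Yo ⊓ complOpen X x.1 W'.1 : X.scheme.Opens) : Scheme.{u}) =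
        WeilCoh.dim (Yo : Scheme.{u}) := hd'.symm.trans hd
    have hsq1 : ((X.ptSub x.1).resLE hpreLE
          ((ptPre X x.1 _ hxY').2.2.trans (ptPre X x.1 Yo hxY).2.2.symm)).hom ≫
        (cDecomp X U Yo hUY hd x.1 hxU hYT).i =
        (cDecomp X U _ hUY' hd' x.1 hxU hYT').i ≫
          (X.resLE (inf_le_left : Yo ⊓ complOpen X x.1 W'.1 ≤ Yo) hdYY).hom := by
      change (X.ptSub x.1).scheme.homOfLE hpreLE ≫ (X.ptSubι x.1 ∣_ Yo) =
        (X.ptSubι x.1 ∣_ (Yo ⊓ complOpen X x.1 W'.1)) ≫ X.scheme.homOfLE inf_le_left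
      rw [← cancel_mono Yo.ι, Category.assoc, Category.assoc, morphismRestrict_ι,
        Scheme.homOfLE_ι, morphismRestrict_ι, ← Category.assoc, Scheme.homOfLE_ι]
    have hsq2 : 𝟙 (X.res U) ≫ (cDecomp X U Yo hUY hd x.1 hxU hYT).j =
        (cDecomp X U _ hUY' hd' x.1 hxU hYT').j ≫
          X.resLE (inf_le_left : Yo ⊓ complOpen X x.1 W'.1 ≤ Yo) hdYY := by
      refine Hom.ext ?_
      change 𝟙 _ ≫ X.scheme.homOfLE hUY = X.scheme.homOfLE hUY' ≫ X.scheme.homOfLE inf_le_left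
      rw [Category.id_comp, Scheme.homOfLE_homOfLE]
    have hrp := T.res_pull (cDecomp X U Yo hUY hd x.1 hxU hYT)
      (cDecomp X U _ hUY' hd' x.1 hxU hYT')
      (X.resLE (inf_le_left : Yo ⊓ complOpen X x.1 W'.1 ≤ Yo) hdYY)
      ((X.ptSub x.1).resLE hpreLE
          ((ptPre X x.1 _ hxY').2.2.trans (ptPre X x.1 Yo hxY).2.2.symm))
      (𝟙 (X.res U)) hsq1 hsq2 M i n i' n' hiD hnD hiD' hnD'
    have hrp2 := congrArg (fun φ => φ.hom a) hrp
    have e1 : (T.pull (𝟙 (X.res U)) M i n).hom a = a := by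
      rw [pull_id]
      rfl
    have h2 : (T.res (cDecomp X U _ hUY' hd' x.1 hxU hYT') M i n i' n' hiD' hnD').hom a =
        (T.pull ((X.ptSub x.1).resLE hpreLE
          ((ptPre X x.1 _ hxY').2.2.trans (ptPre X x.1 Yo hxY).2.2.symm)) M i' n').hom
          ((T.res (cDecomp X U Yo hUY hd x.1 hxU hYT) M i n i' n' hiD hnD).hom a) := by
      refine Eq.trans ?_ hrp2.symm
      exact congrArg (fun c => (T.res (cDecomp X U _ hUY' hd' x.1 hxU hYT') M i n i' n'
        hiD' hnD').hom c) e1.symm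
    have hfac : (X.ptSub x.1).resLE hpreLE
          ((ptPre X x.1 _ hxY').2.2.trans (ptPre X x.1 Yo hxY).2.2.symm) =
        (X.ptSub x.1).resLE hpre ((ptPre X x.1 _ hxY').2.2.trans W'.2.2.symm) ≫
          (idxDiag (X.ptSub x.1) (fun U => (U : Set (X.ptSub x.1).scheme).Nonempty)).map
            (homOfLE hle) :=
      Hom.ext (Scheme.homOfLE_homOfLE (X.ptSub x.1).scheme hpre hle).symm
    have h3 : (T.res (cDecomp X U _ hUY' hd' x.1 hxU hYT') M i n i' n' hiD' hnD').hom a = 0 := by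
      rw [h2, hfac]
      exact (pull_comp_apply T _ _ M i' n' _).trans ((congrArg _ hW').trans (map_zero _))
    obtain ⟨ã, hã⟩ := ((T.exact_pull_res (cDecomp X U _ hUY' hd' x.1 hxU hYT') M i n i' n'
      hiD' hnD') a).mp h3
    have h5 : ((T.fjι X j i n (fjMk X j _ hYo')).app M).hom ã =
        ((T.fjι X j i n (fjMk X j U hU)).app M).hom a := by
      rw [ocolimι_le_apply T X (ContainsFj X j) i n M (fjMk X j U hU) (fjMk X j _ hYo') hUY'
        hd' ã]
      exact congrArg _ hã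
    have hlt : Yo ⊓ complOpen X x.1 W'.1 > U :=
      lt_of_le_of_ne hUY' (fun heq => hxU (heq ▸ hxY'))
    obtain ⟨γ, hγ⟩ := IH _ hlt hYo' ã (fun x' => by
      rw [h5]
      exact hres x')
    exact ⟨γ, hγ.trans h5⟩

end Groth.Agent.H79.BMCohSeqRes
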