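import Groth.Agent.H79.BMCohBij

set_option autoImplicit false
universe u
open CategoryTheory AlgebraicGeometry Opposite CategoryTheory.Limits

namespace Groth.Agent.H79.BMCohToFj

open BMCoh Groth.Agent.H79.BMCohDim Groth.Agent.H79.BMCohRes Groth.Agent.H79.BMCohFilt
  Groth.Agent.H79.BMCohDecomp Groth.Agent.H79.BMCohSeqRes Groth.Agent.H79.BMCohSeqPush
  Groth.Agent.H79.BMCohBij

variable {V : ObjectProperty Scheme.{u}} [IsConstructible V] {R : Type u} [CommRing R]
  {A : Coefs R}

section pre

variable (T : PreTheory V R A) (X : Obj V)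

theorem fjRes_comp_apply {j m m' : ℕ} (h1 : j ≤ m) (h2 : m ≤ m') (i n : ℤ) (M : A.Cat)
    (γ : T.fjGp X m' M i n) :
    ((T.fjRes X h1 i n).app M).hom (((T.fjRes X h2 i n).app M).hom γ) =
      ((T.fjRes X (h1.trans h2) i n).app M).hom γ := by
  obtain ⟨U, a, rfl⟩ := exists_rep T X (ContainsFj X m') i n M γ
  rw [fjRes_fjι_apply, fjRes_fjι_apply, fjRes_fjι_apply]

theorem fjRes_refl_apply (j : ℕ) (i n : ℤ) (M : A.Cat) (γ : T.fjGp X j M i n) :
    ((T.fjRes X (le_refl j) i n).app M).hom γ = γ := by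
  obtain ⟨U, a, rfl⟩ := exists_rep T X (ContainsFj X j) i n M γ
  rw [fjRes_fjι_apply]

/-- the inverse of the inclusion of the whole space as an open -/
noncomputable def resTopInv : X ⟶ X.res ⊤ :=
  ⟨X.scheme.topIso.inv, inferInstance, (dim_top X.scheme).symm⟩

theorem resTopInv_resTop : resTopInv X ≫ X.resTop = 𝟙 X :=
  Hom.ext (X.scheme.topIso.inv_hom_id)

theorem resTop_resTopInv : X.resTop ≫ resTopInv X = 𝟙 (X.res ⊤) :=
  Hom.ext (X.scheme.topIso.hom_inv_id)

theorem pull_resTop_bijective (M : A.Cat) (i n : ℤ) :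
    Function.Bijective (T.pull X.resTop M i n).hom := by
  refine Function.bijective_iff_has_inverse.mpr ⟨(T.pull (resTopInv X) M i n).hom, ?_, ?_⟩
  · intro c
    rw [← pull_comp_apply, resTopInv_resTop, pull_id_apply]
  · intro c
    rw [← pull_comp_apply, resTop_resTopInv, pull_id_apply]

omit [IsConstructible V] in
theorem eq_top_of_containsFj (m : ℕ) (hm : WeilCoh.dim X.scheme ≤ m) (U : X.scheme.Opens)
    (hU : ContainsFj X m U) : U = ⊤ := by
  apply top_unique
  intro y _
  refine hU y ?_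
  unfold WeilCoh.codim
  omega

/-- the whole space as a member of the index family of `F_j` -/
abbrev fjTop (j : ℕ) : Idx X (ContainsFj X j) := ⟨⊤, fun _ _ => trivial, dim_top X.scheme⟩

theorem toFj_apply (j : ℕ) (i n : ℤ) (M : A.Cat) (c : T.gp X M i n) :
    ((T.toFj X j i n).app M).hom c =
      ((T.fjι X j i n (fjTop X j)).app M).hom ((T.pull X.resTop M i n).hom c) := rfl

theorem fjι_top_bijective (m : ℕ) (hm : WeilCoh.dim X.scheme ≤ m) (i n : ℤ) (M : A.Cat) :
    Function.Bijective ((T.fjι X m i n (fjTop X m)).app M).hom := by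
  constructor
  · rw [injective_iff_map_eq_zero]
    intro b hb
    obtain ⟨U', hle, hU'⟩ := rep_eq_zero T X (ContainsFj X m) i n M (fjTop X m) b hb
    obtain ⟨U'v, hU'v⟩ := U'
    obtain rfl : U'v = ⊤ := eq_top_of_containsFj X m hm U'v hU'v.1
    have h1 : (homOfLE hle : (⟨⊤, hU'v⟩ : Idx X (ContainsFj X m)) ⟶ fjTop X m) =
        𝟙 (fjTop X m) := Subsingleton.elim _ _
    rw [h1, CategoryTheory.Functor.map_id] at hU'
    exact (pull_id_apply T _ M i n b).symm.trans hU'
  · intro γ
    obtain ⟨U, a, rfl⟩ := exists_rep T X (ContainsFj X m) i n M γ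
    obtain ⟨Uv, hUv⟩ := U
    obtain rfl : Uv = ⊤ := eq_top_of_containsFj X m hm Uv hUv.1
    exact ⟨a, rfl⟩

theorem toFj_bijective_of_dim_le (m : ℕ) (hm : WeilCoh.dim X.scheme ≤ m) (i n : ℤ)
    (M : A.Cat) : Function.Bijective ((T.toFj X m i n).app M).hom := by
  have h1 := (fjι_top_bijective T X m hm i n M).comp (pull_resTop_bijective T X M i n)
  have h2 : (((T.toFj X m i n).app M).hom : T.gp X M i n → T.fjGp X m M i n) =
      ((T.fjι X m i n (fjTop X m)).app M).hom ∘ (T.pull X.resTop M i n).hom :=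
    funext (fun c => toFj_apply T X m i n M c)
  rw [h2]
  exact h1

theorem toFj_eq_fjRes_toFj {j m : ℕ} (h : j ≤ m) (i n : ℤ) (M : A.Cat) (c : T.gp X M i n) :
    ((T.toFj X j i n).app M).hom c =
      ((T.fjRes X h i n).app M).hom (((T.toFj X m i n).app M).hom c) := by
  rw [toFj_apply, toFj_apply, fjRes_fjι_apply]

end pre

section theory

variable (T : TheoryOn V R A) (X : Obj V)

/-- one step of the tower of the groups of `F_m` is bijective in degrees at most `2m` -/
theorem fjRes_step_bijective (M : A.Cat) (m : ℕ) (i n : ℤ) (h : i ≤ 2 * (m : ℤ)) :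
    Function.Bijective ((T.toPreTheory.fjRes X (Nat.le_succ m) i n).app M).hom := by
  constructor
  · obtain ⟨k, rfl⟩ : ∃ k, i = k + 1 := ⟨i - 1, by ring⟩
    refine fjRes_injective_of_isZero T.toPreTheory M k n
      (k + 1 - 2 * ((m : ℤ) + 1)) (n - ((m : ℤ) + 1)) ?_ ?_
      (fun x => T.pt_vanish X x.1 M _ _ (by omega))
    · push_cast
      ring
    · push_cast
      ring
  · exact fjRes_surjective_of_isZero' T.toPreTheory M i n
      (i + 1 - 2 * ((m : ℤ) + 1)) (n - ((m : ℤ) + 1)) rfl rfl
      (fun x => T.pt_vanish X x.1 M _ _ (by omega))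

theorem fjRes_bijective_of_le (M : A.Cat) (j : ℕ) (i n : ℤ) (h : i ≤ 2 * (j : ℤ)) (d : ℕ) :
    Function.Bijective ((T.toPreTheory.fjRes X (Nat.le_add_right j d) i n).app M).hom := by
  induction d with
  | zero =>
    refine Function.bijective_iff_has_inverse.mpr ⟨id, ?_, ?_⟩
    · intro γ
      exact fjRes_refl_apply T.toPreTheory X j i n M γ
    · intro γ
      exact fjRes_refl_apply T.toPreTheory X j i n M γ
  | succ d ih =>
    have h1 := fjRes_step_bijective T X M (j + d) i n (by push_cast; omega)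
    have h2 := ih.comp h1
    have h3 : (((T.toPreTheory.fjRes X (Nat.le_add_right j (d + 1)) i n).app M).hom :
        T.toPreTheory.fjGp X (j + (d + 1)) M i n → T.toPreTheory.fjGp X j M i n) =
        ((T.toPreTheory.fjRes X (Nat.le_add_right j d) i n).app M).hom ∘
          ((T.toPreTheory.fjRes X (Nat.le_succ (j + d)) i n).app M).hom :=
      funext (fun γ => (fjRes_comp_apply T.toPreTheory X (Nat.le_add_right j d)
        (Nat.le_succ (j + d)) i n M γ).symm)
    rw [h3]
    exact h2

/-- the canonical map to the group of `F_j` is bijective in degrees at most `2j` -/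
theorem toFj_bijective (M : A.Cat) (j : ℕ) (i n : ℤ) (h : i ≤ 2 * (j : ℤ)) :
    Function.Bijective ((T.toPreTheory.toFj X j i n).app M).hom := by
  have h1 := toFj_bijective_of_dim_le T.toPreTheory X (j + WeilCoh.dim X.scheme)
    (Nat.le_add_left _ _) i n M
  have h2 := fjRes_bijective_of_le T X M j i n h (WeilCoh.dim X.scheme)
  have h3 : (((T.toPreTheory.toFj X j i n).app M).hom :
      T.toPreTheory.gp X M i n → T.toPreTheory.fjGp X j M i n) =
      ((T.toPreTheory.fjRes X (Nat.le_add_right j (WeilCoh.dim X.scheme)) i n).app M).hom ∘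
        ((T.toPreTheory.toFj X (j + WeilCoh.dim X.scheme) i n).app M).hom :=
    funext (fun c => toFj_eq_fjRes_toFj T.toPreTheory X (Nat.le_add_right j _) i n M c)
  rw [h3]
  exact h2.comp h1

end theory

end Groth.Agent.H79.BMCohToFj
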