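import Groth.Agent.H79.BMCohZero

set_option autoImplicit false
universe u
open CategoryTheory AlgebraicGeometry Opposite CategoryTheory.Limits TopologicalSpace

namespace Groth.Agent.H79.BMCohVanish

open BMCoh Groth.Agent.H79.BMCohDim Groth.Agent.H79.BMCohRes Groth.Agent.H79.BMCohFilt
  Groth.Agent.H79.BMCohDecomp Groth.Agent.H79.BMCohGeo Groth.Agent.H79.BMCohPieces
  Groth.Agent.H79.BMCohGood Groth.Agent.H79.BMCohSeqRes Groth.Agent.H79.BMCohSeqPush
  Groth.Agent.H79.BMCohSeqMid Groth.Agent.H79.BMCohSeqMid2 Groth.Agent.H79.BMCohZero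
  Groth.Agent.H79.BMCohBij

variable {V : ObjectProperty Scheme.{u}} [IsConstructible V] {R : Type u} [CommRing R]
  {A : Coefs R} (T : PreTheory V R A) {X : Obj V}

/-- the pieces of a good open restrict to the pieces of a smaller good open -/
theorem pieceObjHom0_resLE [IsReduced X.scheme] {Y Y' : X.scheme.Opens} (h : IsGoodOpen X Y)
    (h' : IsGoodOpen X Y') (hle : Y' ≤ Y)
    (hd : WeilCoh.dim (Y' : Scheme.{u}) = WeilCoh.dim (Y : Scheme.{u})) (x : X.cdPt 0)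
    (hpre : (X.ptSubι x.1) ⁻¹ᵁ Y' ≤ (X.ptSubι x.1) ⁻¹ᵁ Y)
    (hd' : WeilCoh.dim (((X.ptSubι x.1) ⁻¹ᵁ Y' : (X.ptSub x.1).scheme.Opens) : Scheme.{u}) =
      WeilCoh.dim (((X.ptSubι x.1) ⁻¹ᵁ Y : (X.ptSub x.1).scheme.Opens) : Scheme.{u})) :
    pieceObjHom0 h' x ≫ X.resLE hle hd = (X.ptSub x.1).resLE hpre hd' ≫ pieceObjHom0 h x :=
  Hom.ext (isPullback_restrict_le (X.ptSubι x.1) hle hpre).w.symm

/-- the groups of `F_0` of a reduced object vanish in a bidegree in which the groups of the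
points of codimension `0` vanish -/
theorem fjGp_zero_eq_zero [IsReduced X.scheme] (M : A.Cat) (i n : ℤ)
    (hpt : ∀ x : X.cdPt 0, IsZero (T.ptGp X x.1 M i n)) (γ : T.fjGp X 0 M i n) : γ = 0 := by
  classical
  obtain ⟨U, a, rfl⟩ := exists_rep T X (ContainsFj X 0) i n M γ
  obtain ⟨Y₀, hY₀⟩ := exists_goodOpen X
  have hYc : ContainsFj X 0 (Y₀ ⊓ U.1) := containsFj_inf X 0 _ _ hY₀.hY U.2.1
  have hg := hY₀.shrink (Y₀ ⊓ U.1) inf_le_left hYc
  have hdY := dim_of_containsFj X 0 _ hYc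
  have hγ : ((T.fjι X 0 i n U).app M).hom a =
      ((T.fjι X 0 i n (fjMk X 0 _ hYc)).app M).hom
        ((T.pull (X.resLE (inf_le_right : Y₀ ⊓ U.1 ≤ U.1) (hdY.trans U.2.2.symm)) M i n).hom a) :=
    ocolimι_le_apply T X _ i n M (fjMk X 0 _ hYc) U inf_le_right _ a
  rw [hγ]
  generalize (T.pull (X.resLE (inf_le_right : Y₀ ⊓ U.1 ≤ U.1) (hdY.trans U.2.2.symm)) M i n).hom a
    = a'
  have hdie : ∀ x : X.cdPt 0, ∃ (W' : ptIdx X x.1)
      (hle : W'.1 ≤ (X.ptSubι x.1) ⁻¹ᵁ (Y₀ ⊓ U.1)),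
      (T.pull ((X.ptSub x.1).resLE hle
        (W'.2.2.trans (ptPre X x.1 _ (mem_of_cdPt X 0 x _ hYc)).2.2.symm)) M i n).hom
        ((T.pull (pieceObjHom0 hg x) M i n).hom a') = 0 := by
    intro x
    have hsub := ModuleCat.subsingleton_of_isZero (hpt x)
    have h0 : ((T.ptι X x.1 i n (ptPre X x.1 _ (mem_of_cdPt X 0 x _ hYc))).app M).hom
        ((T.pull (pieceObjHom0 hg x) M i n).hom a') = 0 := Subsingleton.elim _ _
    obtain ⟨W', hle, hW'⟩ := rep_eq_zero T (X.ptSub x.1) _ i n M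
      (ptPre X x.1 _ (mem_of_cdPt X 0 x _ hYc)) _ h0
    exact ⟨W', hle, hW'⟩
  choose W' hle' hW' using hdie
  have hY'c : ContainsFj X 0 ((Y₀ ⊓ U.1) ⊓ traceOpen0 W') :=
    containsFj_inf X 0 _ _ hYc (containsFj_traceOpen0 W')
  have hg' := hg.shrink ((Y₀ ⊓ U.1) ⊓ traceOpen0 W') inf_le_left hY'c
  have hdY' := dim_of_containsFj X 0 _ hY'c
  rw [ocolimι_le_apply T X _ i n M (fjMk X 0 _ hY'c) (fjMk X 0 _ hYc) inf_le_left
    (hdY'.trans hdY.symm) a']
  have hzero : (T.pull (X.resLE (inf_le_left : (Y₀ ⊓ U.1) ⊓ traceOpen0 W' ≤ Y₀ ⊓ U.1)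
      (hdY'.trans hdY.symm)) M i n).hom a' = 0 := by
    by_cases hne : Nonempty (X.cdPt 0)
    swap
    · have hemp : IsEmpty (X.res ((Y₀ ⊓ U.1) ⊓ traceOpen0 W')).scheme := by
        refine ⟨fun z => ?_⟩
        obtain ⟨x, -⟩ := hg'.hcl _ z.2
        exact hne ⟨x⟩
      exact gp_eq_zero_of_isEmpty T _ M i n _
    have hfin := finite_cdPt0 X
    have hft : Fintype (X.cdPt 0) := Fintype.ofFinite _
    apply joint_injective T _ (pieceObjHom0 hg') (pieces_disjoint0 hg') (pieces_cover0 hg') M i n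
    intro x
    have hpre : (X.ptSubι x.1) ⁻¹ᵁ ((Y₀ ⊓ U.1) ⊓ traceOpen0 W') ≤ (W' x).1 :=
      preimage_le_of_le_traceOpen0 W' _ inf_le_right x
    have hd1 : WeilCoh.dim (((X.ptSubι x.1) ⁻¹ᵁ ((Y₀ ⊓ U.1) ⊓ traceOpen0 W') :
        (X.ptSub x.1).scheme.Opens) : Scheme.{u}) = WeilCoh.dim ((W' x).1 : Scheme.{u}) :=
      (ptPre X x.1 _ (mem_of_cdPt X 0 x _ hY'c)).2.2.trans (W' x).2.2.symm
    have hd2 : WeilCoh.dim ((W' x).1 : Scheme.{u}) = WeilCoh.dim
        (((X.ptSubι x.1) ⁻¹ᵁ (Y₀ ⊓ U.1) : (X.ptSub x.1).scheme.Opens) : Scheme.{u}) :=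
      (W' x).2.2.trans (ptPre X x.1 _ (mem_of_cdPt X 0 x _ hYc)).2.2.symm
    have hfac : pieceObjHom0 hg' x ≫ X.resLE (inf_le_left :
        (Y₀ ⊓ U.1) ⊓ traceOpen0 W' ≤ Y₀ ⊓ U.1) (hdY'.trans hdY.symm) =
        (X.ptSub x.1).resLE hpre hd1 ≫ ((X.ptSub x.1).resLE (hle' x) hd2 ≫
          pieceObjHom0 hg x) := by
      rw [pieceObjHom0_resLE hg hg' inf_le_left (hdY'.trans hdY.symm) x
        (hpre.trans (hle' x)) (hd1.trans hd2), ← Category.assoc]
      congr 1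
      exact Hom.ext (Scheme.homOfLE_homOfLE (X.ptSub x.1).scheme hpre (hle' x)).symm
    rw [← pull_comp_apply, hfac, pull_comp_apply, pull_comp_apply, hW' x, map_zero]
  rw [hzero, map_zero]

/-- vanishing of the groups of `F_j` of a reduced object above `dim X + j + c`, given vanishing
of the groups of all points above the dimension of their closure plus `c` -/
theorem fjGp_isZero_of_dim_add_lt (M : A.Cat) (c : ℕ)
    (hc : ∀ (Y : Obj V) (y : Y.scheme) (i n : ℤ), (WeilCoh.pdim Y.scheme y : ℤ) + c < i →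
      IsZero (T.ptGp Y y M i n)) [IsReduced X.scheme] (j : ℕ) :
    ∀ (i n : ℤ), (WeilCoh.dim X.scheme : ℤ) + j + c < i → IsZero (T.fjGp X j M i n) := by
  induction j with
  | zero =>
    intro i n hi
    have hsub : Subsingleton (T.fjGp X 0 M i n) := by
      refine ⟨fun a b => ?_⟩
      have hpt : ∀ x : X.cdPt 0, IsZero (T.ptGp X x.1 M i n) := by
        intro x
        apply hc X x.1 i n
        rw [pdim_cdPt0 x]
        push_cast at hi
        linarith
      rw [fjGp_zero_eq_zero T M i n hpt a, fjGp_zero_eq_zero T M i n hpt b]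
    exact ModuleCat.isZero_of_subsingleton _
  | succ j ih =>
    intro i n hi
    obtain ⟨k, rfl⟩ : ∃ k, i = k + 1 := ⟨i - 1, by ring⟩
    have hinj := fjRes_injective_of_isZero T (X := X) (j := j) M k n
      (k + 1 - 2 * ((j + 1 : ℕ) : ℤ)) (n - ((j + 1 : ℕ) : ℤ)) (by ring) (by ring) (by
        intro x
        apply hc X x.1
        have h3 := pdim_le_dim X.scheme (finDim X) x.1
        have h4 : WeilCoh.dim X.scheme - WeilCoh.pdim X.scheme x.1 = j + 1 := x.2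
        have h5 : (WeilCoh.pdim X.scheme x.1 : ℤ) = (WeilCoh.dim X.scheme : ℤ) - (j + 1) := by
          omega
        rw [h5]
        push_cast at hi ⊢
        linarith)
    have h0 := ih (k + 1) n (by push_cast at hi ⊢; linarith)
    have hsub0 := ModuleCat.subsingleton_of_isZero h0
    have hsub : Subsingleton (T.fjGp X (j + 1) M (k + 1) n) :=
      ⟨fun a b => hinj (Subsingleton.elim _ _)⟩
    exact ModuleCat.isZero_of_subsingleton _

end Groth.Agent.H79.BMCohVanish
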