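import Groth.Agent.H79.BMCohVanish

set_option autoImplicit false
universe u
open CategoryTheory AlgebraicGeometry Opposite CategoryTheory.Limits TopologicalSpace

namespace Groth.Agent.H79.BMCohVanish2

open BMCoh Groth.Agent.H79.BMCohDim Groth.Agent.H79.BMCohFilt Groth.Agent.H79.BMCohZero
  Groth.Agent.H79.BMCohBij Groth.Agent.H79.BMCohVanish

variable {V : ObjectProperty Scheme.{u}} [IsConstructible V] {R : Type u} [CommRing R]
  {A : Coefs R} (T : PreTheory V R A) {X : Obj V}

/-- vanishing of the groups of `F_j` of a reduced object above `dim X + j + c`, given vanishing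
of the groups of the points of `X` above the dimension of their closure plus `c` -/
theorem fjGp_isZero_of_dim_add_lt' (M : A.Cat) (c : ℕ)
    (hc : ∀ (y : X.scheme) (i n : ℤ), (WeilCoh.pdim X.scheme y : ℤ) + c < i →
      IsZero (T.ptGp X y M i n)) [IsReduced X.scheme] (j : ℕ) :
    ∀ (i n : ℤ), (WeilCoh.dim X.scheme : ℤ) + j + c < i → IsZero (T.fjGp X j M i n) := by
  induction j with
  | zero =>
    intro i n hi
    have hsub : Subsingleton (T.fjGp X 0 M i n) := by
      refine ⟨fun a b => ?_⟩
      have hpt : ∀ x : X.cdPt 0, IsZero (T.ptGp X x.1 M i n) := by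
        intro x
        apply hc x.1 i n
        rw [pdim_cdPt0 x]
        push_cast at hi
        linarith
      rw [fjGp_zero_eq_zero T M i n hpt a, fjGp_zero_eq_zero T M i n hpt b]
    exact ModuleCat.isZero_of_subsingleton _
  | succ j ih =>
    intro i n hi
    obtain ⟨k, rfl⟩ : ∃ k, i = k + 1 := ⟨i - 1, by ring⟩
    have hinj := fjRes_injective_of_isZero T (X := X) (j := j) M k n
      (k + 1 - 2 * ((j + 1 : ℕ) : ℤ)) (n - ((j + 1 : ℕ) : ℤ)) (by ring) (by ring) (by
        intro x
        apply hc x.1
        have h3 := pdim_le_dim X.scheme (finDim X) x.1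
        have h4 : WeilCoh.dim X.scheme - WeilCoh.pdim X.scheme x.1 = j + 1 := x.2
        have h5 : (WeilCoh.pdim X.scheme x.1 : ℤ) = (WeilCoh.dim X.scheme : ℤ) - (j + 1) := by
          omega
        rw [h5]
        push_cast at hi ⊢
        linarith)
    have h0 := ih (k + 1) n (by push_cast at hi ⊢; linarith)
    have hsub0 := ModuleCat.subsingleton_of_isZero h0
    have hsub : Subsingleton (T.fjGp X (j + 1) M (k + 1) n) :=
      ⟨fun a b => hinj (Subsingleton.elim _ _)⟩
    exact ModuleCat.isZero_of_subsingleton _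

end Groth.Agent.H79.BMCohVanish2
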