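import Groth.Agent.H79.BMCohSeqMid2

set_option autoImplicit false
universe u
open CategoryTheory AlgebraicGeometry Opposite CategoryTheory.Limits TopologicalSpace

namespace Groth.Agent.H79.BMCohZero

open BMCoh Groth.Agent.H79.BMCohDim Groth.Agent.H79.BMCohRes Groth.Agent.H79.BMCohFilt
  Groth.Agent.H79.BMCohDecomp Groth.Agent.H79.BMCohGeo Groth.Agent.H79.BMCohPieces
  Groth.Agent.H79.BMCohGood Groth.Agent.H79.BMCohSeqRes Groth.Agent.H79.BMCohSeqPush
  Groth.Agent.H79.BMCohSeqMid Groth.Agent.H79.BMCohSeqMid2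

variable {V : ObjectProperty Scheme.{u}} [IsConstructible V] (X : Obj V)

/-- points of codimension `0` are maximal for specialization -/
theorem isMaximal_cdPt0 (x : X.cdPt 0) (c : X.scheme) (hc : c ⤳ x.1) : c = x.1 := by
  by_contra hne
  have h1 := codim_lt_of_mem_closure X c x.1 (specializes_iff_mem_closure.mp hc) (Ne.symm hne)
  have h2 : WeilCoh.codim X.scheme x.1 = 0 := x.2
  omega

/-- there are finitely many points of codimension `0` -/
theorem finite_cdPt0 : Finite (X.cdPt 0) := by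
  have hN : IsNoetherian X.scheme := IsConstructible.isNoetherian X.mem
  obtain ⟨S, hSf, hSc, hSi, hSU⟩ :=
    TopologicalSpace.NoetherianSpace.exists_finite_set_isClosed_irreducible
      (isClosed_univ (X := X.scheme))
  have hmem : ∀ x : X.cdPt 0, closure ({x.1} : Set X.scheme) ∈ S := by
    intro x
    have hx : x.1 ∈ (Set.univ : Set X.scheme) := trivial
    rw [hSU] at hx
    obtain ⟨t, htS, hxt⟩ := hx
    obtain ⟨c, hc⟩ := QuasiSober.sober (hSi t htS) (hSc t htS)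
    have hcx : c ⤳ x.1 := by
      rw [specializes_iff_mem_closure, hc.def]
      exact hxt
    have := isMaximal_cdPt0 X x c hcx
    rw [← this, hc.def]
    exact htS
  have hfin : Finite ↥S := hSf.to_subtype
  refine Finite.of_injective (fun x : X.cdPt 0 => (⟨_, hmem x⟩ : ↥S)) ?_
  intro x y hxy
  have h1 : closure ({x.1} : Set X.scheme) = closure ({y.1} : Set X.scheme) :=
    congrArg Subtype.val hxy
  have h2 : x.1 ⤳ y.1 := by
    rw [specializes_iff_mem_closure, h1]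
    exact subset_closure rfl
  have h3 : y.1 ⤳ x.1 := by
    rw [specializes_iff_mem_closure, ← h1]
    exact subset_closure rfl
  exact Subtype.ext (h2.antisymm h3).eq

/-- an open containing `F_0` that is the disjoint union of its traces on the closures of the
points of codimension `0` -/
structure IsGoodOpen (Y : X.scheme.Opens) : Prop where
  hY : ContainsFj X 0 Y
  hcl : ∀ z ∈ Y, ∃ x : X.cdPt 0, z ∈ closure ({x.1} : Set X.scheme)
  hdisj : ∀ z ∈ Y, ∀ x y : X.cdPt 0, z ∈ closure ({x.1} : Set X.scheme) →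
    z ∈ closure ({y.1} : Set X.scheme) → x = y

theorem exists_goodOpen : ∃ Y : X.scheme.Opens, IsGoodOpen X Y := by
  have hfin := finite_cdPt0 X
  have hiso : ∀ x : X.cdPt 0, ∃ Yo : X.scheme.Opens, (⊥ : X.scheme.Opens) ≤ Yo ∧ x.1 ∈ Yo ∧
      ∀ y ∈ Yo, y ∉ (⊥ : X.scheme.Opens) → y ∈ closure ({x.1} : Set X.scheme) := fun x =>
    exists_open_isolating X ⊥ x.1 (fun c _ hcx => isMaximal_cdPt0 X x c hcx)
  choose Yo _ hYo2 hYo3 using hiso
  have hBc : ∀ x : X.cdPt 0,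
      IsClosed (⋃ y : {y : X.cdPt 0 // y ≠ x}, closure ({y.1.1} : Set X.scheme)) :=
    fun x => isClosed_iUnion_of_finite (fun y => isClosed_closure)
  let yo' : X.cdPt 0 → X.scheme.Opens := fun x => Yo x ⊓ ⟨_, (hBc x).isOpen_compl⟩
  have hmem_yo' : ∀ (x : X.cdPt 0) (z : X.scheme), z ∈ yo' x ↔
      z ∈ Yo x ∧ ∀ y : X.cdPt 0, y ≠ x → z ∉ closure ({y.1} : Set X.scheme) := by
    intro x z
    change (z ∈ Yo x ∧ z ∈ (⋃ y : {y : X.cdPt 0 // y ≠ x},
      closure ({y.1.1} : Set X.scheme))ᶜ) ↔ _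
    rw [Set.mem_compl_iff, Set.mem_iUnion]
    constructor
    · rintro ⟨h1, h2⟩
      exact ⟨h1, fun y hy hz => h2 ⟨⟨y, hy⟩, hz⟩⟩
    · rintro ⟨h1, h2⟩
      exact ⟨h1, fun ⟨y, hz⟩ => h2 y.1 y.2 hz⟩
  have hne_closure : ∀ x y : X.cdPt 0, y ≠ x → x.1 ∉ closure ({y.1} : Set X.scheme) := by
    intro x y hyx hmem
    have hne : x.1 ≠ y.1 := fun h => hyx (Subtype.ext h.symm)
    have h1 := codim_lt_of_mem_closure X y.1 x.1 hmem hne
    have h2 : WeilCoh.codim X.scheme x.1 = 0 := x.2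
    omega
  refine ⟨⨆ x, yo' x, ?_, ?_, ?_⟩
  · intro y hy
    have hy2 : WeilCoh.codim X.scheme y = 0 := by omega
    refine Opens.mem_iSup.mpr ⟨⟨y, hy2⟩, ?_⟩
    rw [hmem_yo']
    exact ⟨hYo2 _, fun w hw => hne_closure ⟨y, hy2⟩ w hw⟩
  · intro z hz
    obtain ⟨x, hx⟩ := Opens.mem_iSup.mp hz
    rw [hmem_yo'] at hx
    exact ⟨x, hYo3 x z hx.1 (fun h => h)⟩
  · intro z hz x y hzx hzy
    obtain ⟨w, hw⟩ := Opens.mem_iSup.mp hz
    rw [hmem_yo'] at hw
    have hxw : x = w := by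
      by_contra hne
      exact hw.2 x hne hzx
    have hyw : y = w := by
      by_contra hne
      exact hw.2 y hne hzy
    rw [hxw, hyw]

variable {X}

omit [IsConstructible V] in
theorem IsGoodOpen.shrink {Y : X.scheme.Opens} (h : IsGoodOpen X Y) (Y' : X.scheme.Opens)
    (hle : Y' ≤ Y) (hY' : ContainsFj X 0 Y') : IsGoodOpen X Y' :=
  ⟨hY', fun z hz => h.hcl z (hle hz), fun z hz x y => h.hdisj z (hle hz) x y⟩

section zeroPieces

theorem mem_range_restrict (x : X.scheme) (Y : X.scheme.Opens)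
    (z : ↥(Y : Scheme.{u})) :
    z ∈ Set.range (X.ptSubι x ∣_ Y) ↔ (z.1 : X.scheme) ∈ closure ({x} : Set X.scheme) := by
  constructor
  · rintro ⟨w, rfl⟩
    rw [morphismRestrict_base_coe, ← range_ptSubι]
    exact ⟨w.1, rfl⟩
  · intro hz
    rw [← range_ptSubι] at hz
    obtain ⟨w, hw⟩ := hz
    have hwY : w ∈ (X.ptSubι x) ⁻¹ᵁ Y := by
      change X.ptSubι x w ∈ Y
      rw [hw]
      exact z.2
    refine ⟨⟨w, hwY⟩, ?_⟩
    apply Subtype.ext
    exact (morphismRestrict_base_coe (X.ptSubι x) Y ⟨w, hwY⟩).trans hw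

variable {Y : X.scheme.Opens} (h : IsGoodOpen X Y)

include h in
theorem isOpen_range_restrict (x : X.cdPt 0) : IsOpen (Set.range (X.ptSubι x.1 ∣_ Y)) := by
  have hfin := finite_cdPt0 X
  have hcompl : (Set.range (X.ptSubι x.1 ∣_ Y))ᶜ =
      ⋃ y : {y : X.cdPt 0 // y ≠ x}, (fun z : ↥(Y : Scheme.{u}) => (z.1 : X.scheme)) ⁻¹'
        closure ({y.1.1} : Set X.scheme) := by
    ext z
    rw [Set.mem_compl_iff, mem_range_restrict, Set.mem_iUnion]
    constructor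
    · intro hzx
      obtain ⟨y, hy⟩ := h.hcl _ z.2
      refine ⟨⟨y, ?_⟩, hy⟩
      rintro rfl
      exact hzx hy
    · rintro ⟨y, hy⟩ hzx
      exact y.2 (h.hdisj _ z.2 y.1 x hy hzx)
  rw [← isClosed_compl_iff, hcompl]
  refine isClosed_iUnion_of_finite (fun y => ?_)
  exact isClosed_closure.preimage continuous_subtype_val

include h in
theorem isOpenImmersion_restrict [IsReduced X.scheme] (x : X.cdPt 0) :
    IsOpenImmersion (X.ptSubι x.1 ∣_ Y) :=
  isOpenImmersion_of_isClosedImmersion_of_isOpen_range _ (isOpen_range_restrict h x)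

theorem pdim_cdPt0 (x : X.cdPt 0) : WeilCoh.pdim X.scheme x.1 = WeilCoh.dim X.scheme := by
  have h3 := pdim_le_dim X.scheme (finDim X) x.1
  have h4 : WeilCoh.dim X.scheme - WeilCoh.pdim X.scheme x.1 = 0 := x.2
  omega

include h in
theorem dim_piece0 (x : X.cdPt 0) :
    WeilCoh.dim (((X.ptSubι x.1) ⁻¹ᵁ Y : (X.ptSub x.1).scheme.Opens) : Scheme.{u}) =
      WeilCoh.dim (Y : Scheme.{u}) := by
  rw [dim_of_containsFj X 0 Y h.hY, ← pdim_cdPt0 x, ← dim_ptSub]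
  exact (ptPre X x.1 Y (mem_of_cdPt X 0 x Y h.hY)).2.2

/-- the pieces of a good open, as morphisms of objects -/
noncomputable def pieceObjHom0 [IsReduced X.scheme] (x : X.cdPt 0) :
    (X.ptSub x.1).res ((X.ptSubι x.1) ⁻¹ᵁ Y) ⟶ X.res Y :=
  ⟨X.ptSubι x.1 ∣_ Y, isOpenImmersion_restrict h x, dim_piece0 h x⟩

theorem pieceObjHom0_hom [IsReduced X.scheme] (x : X.cdPt 0) :
    (pieceObjHom0 h x).hom = X.ptSubι x.1 ∣_ Y := rfl

instance isClosedImmersion_pieceObjHom0 [IsReduced X.scheme] (x : X.cdPt 0) :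
    IsClosedImmersion (pieceObjHom0 h x).hom := by
  rw [pieceObjHom0_hom]
  infer_instance

theorem pieces_disjoint0 [IsReduced X.scheme] (x y : X.cdPt 0) (hxy : x ≠ y) :
    Disjoint (Set.range (pieceObjHom0 h x).hom) (Set.range (pieceObjHom0 h y).hom) := by
  rw [Set.disjoint_left]
  intro z hzx hzy
  rw [pieceObjHom0_hom, mem_range_restrict] at hzx hzy
  exact hxy (h.hdisj _ z.2 x y hzx hzy)

theorem pieces_cover0 [IsReduced X.scheme] (z : (X.res Y).scheme) :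
    ∃ x : X.cdPt 0, z ∈ Set.range (pieceObjHom0 h x).hom := by
  obtain ⟨x, hx⟩ := h.hcl _ z.2
  refine ⟨x, ?_⟩
  rw [pieceObjHom0_hom, mem_range_restrict]
  exact hx

include h in
theorem relCodim_piece0 [IsReduced X.scheme] (x : X.cdPt 0) :
    relCodim ((X.ptSub x.1).res ((X.ptSubι x.1) ⁻¹ᵁ Y)).scheme (X.res Y).scheme = 0 :=
  Groth.Agent.H79.relCodim_eq_zero (pieceObjHom0 h x)

end zeroPieces

section coh

variable {R : Type u} [CommRing R] {A : Coefs R} (T : PreTheory V R A)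

omit [IsConstructible V] in
/-- the groups of an empty object vanish -/
theorem gp_eq_zero_of_isEmpty (Z : Obj V) [IsEmpty Z.scheme] (M : A.Cat) (i n : ℤ)
    (a : T.gp Z M i n) : a = 0 := by
  obtain ⟨k, rfl⟩ : ∃ k, i = k + 1 := ⟨i - 1, by ring⟩
  let D : Decomp Z :=
    { Z := Z
      U := Z
      i := 𝟙 Z.scheme
      closedImm := inferInstance
      j := 𝟙 Z
      range_eq := by
        ext z
        exact isEmptyElim z }
  have hrc : relCodim D.Z.scheme Z.scheme = 0 := Groth.Agent.H79.relCodim_self _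
  have hi' : k + 1 = (k + 1) + 2 * relCodim D.Z.scheme Z.scheme := by
    rw [hrc]
    ring
  have hn' : n = n + relCodim D.Z.scheme Z.scheme := by
    rw [hrc]
    ring
  have hex := T.exact_push_pull D M k n (k + 1) n hi' hn'
  have h1 : (T.push (X := Z) (Y := Z) (𝟙 Z.scheme) M (k + 1) n (k + 1) n hi' hn').hom a = a := by
    rw [T.push_id Z M (k + 1) n hi' hn']
    rfl
  have h2 := hex.apply_apply_eq_zero a
  have h3 : (T.pull (𝟙 Z) M (k + 1) n).hom
      ((T.push (X := Z) (Y := Z) (𝟙 Z.scheme) M (k + 1) n (k + 1) n hi' hn').hom a) = 0 := h2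
  rw [h1, pull_id_apply] at h3
  exact h3

/-- the open on which given traces of the closures of the points of codimension `0` are
attained -/
def traceOpen0 (W : ∀ x : X.cdPt 0, ptIdx X x.1) : X.scheme.Opens :=
  ⟨⋂ x : X.cdPt 0, (complOpen X x.1 (W x).1 : Set X.scheme),
    haveI := finite_cdPt0 X
    isOpen_iInter_of_finite (fun x => (complOpen X x.1 (W x).1).isOpen)⟩

theorem mem_traceOpen0 (W : ∀ x : X.cdPt 0, ptIdx X x.1) (y : X.scheme) :
    y ∈ traceOpen0 W ↔ ∀ x : X.cdPt 0, y ∈ complOpen X x.1 (W x).1 := by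
  change y ∈ ⋂ x : X.cdPt 0, (complOpen X x.1 (W x).1 : Set X.scheme) ↔ _
  simp only [Set.mem_iInter, SetLike.mem_coe]

theorem containsFj_traceOpen0 (W : ∀ x : X.cdPt 0, ptIdx X x.1) :
    ContainsFj X 0 (traceOpen0 W) := by
  intro y hy
  rw [mem_traceOpen0]
  intro x
  apply complOpen_containsFj X x.1 (W x).1 (W x).2.1 y
  have : WeilCoh.codim X.scheme x.1 = 0 := x.2
  omega

theorem preimage_le_of_le_traceOpen0 (W : ∀ x : X.cdPt 0, ptIdx X x.1) (Y : X.scheme.Opens)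
    (hY : Y ≤ traceOpen0 W) (x : X.cdPt 0) : (X.ptSubι x.1) ⁻¹ᵁ Y ≤ (W x).1 := by
  intro z hz
  have h1 : X.ptSubι x.1 z ∈ traceOpen0 W := hY hz
  rw [mem_traceOpen0] at h1
  have h2 := h1 x
  rw [mem_complOpen_iff] at h2
  exact h2 z rfl

/-- the push-forward of a point class represented on a trace `W`, through an open `Y`
containing `F_m` whose trace is inside `W` -/
theorem cpt_ptι_eq_gen {m : ℕ} (P : T.PushData X m) (x : X.cdPt m) (W : ptIdx X x.1)
    (M : A.Cat) (i' n' k n : ℤ) (hi2 : k = i' + 2 * (m : ℤ))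
    (hn2 : n = n' + (m : ℤ)) (b : T.gp ((X.ptSub x.1).res W.1) M i' n')
    (Y : X.scheme.Opens) (hY : ContainsFj X m Y) (hpre : (X.ptSubι x.1) ⁻¹ᵁ Y ≤ W.1)
    (hi' : k = i' + 2 * relCodim ((X.ptSub x.1).res ((X.ptSubι x.1) ⁻¹ᵁ Y)).scheme
      (X.res Y).scheme)
    (hn' : n = n' + relCodim ((X.ptSub x.1).res ((X.ptSubι x.1) ⁻¹ᵁ Y)).scheme
      (X.res Y).scheme) :
    (P.cpt x M i' n' k n hi2 hn2).hom (((T.ptι X x.1 i' n' W).app M).hom b) =
      ((T.fjι X m k n (fjMk X m Y hY)).app M).hom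
        ((T.push (X := (X.ptSub x.1).res ((X.ptSubι x.1) ⁻¹ᵁ Y)) (Y := X.res Y)
          (X.ptSubι x.1 ∣_ Y) M i' n' k n hi' hn').hom
          ((T.pull ((X.ptSub x.1).resLE hpre
            ((ptPre X x.1 Y (mem_of_cdPt X m x Y hY)).2.2.trans W.2.2.symm))
              M i' n').hom b)) := by
  rw [ocolimι_le_apply T (X.ptSub x.1) _ i' n' M (ptPre X x.1 Y (mem_of_cdPt X m x Y hY))
    W hpre ((ptPre X x.1 Y (mem_of_cdPt X m x Y hY)).2.2.trans W.2.2.symm) b]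
  exact push_formula T P x M i' n' k n hi2 hn2 Y hY hi' hn' _

/-- the total push-forward at level `0` is surjective -/
theorem tot_surjective_zero [IsReduced X.scheme] (P : T.PushData X 0) (M : A.Cat) (i n : ℤ)
    (hi : i = i + 2 * ((0 : ℕ) : ℤ)) (hn : n = n + ((0 : ℕ) : ℤ)) :
    Function.Surjective (P.tot M i n i n hi hn).hom := by
  classical
  intro γ
  obtain ⟨U, a, rfl⟩ := exists_rep T X (ContainsFj X 0) i n M γ
  obtain ⟨Y₀, hY₀⟩ := exists_goodOpen X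
  have hYc : ContainsFj X 0 (Y₀ ⊓ U.1) := containsFj_inf X 0 _ _ hY₀.hY U.2.1
  have hg := hY₀.shrink (Y₀ ⊓ U.1) inf_le_left hYc
  have hdY := dim_of_containsFj X 0 _ hYc
  have hγ : ((T.fjι X 0 i n U).app M).hom a =
      ((T.fjι X 0 i n (fjMk X 0 _ hYc)).app M).hom
        ((T.pull (X.resLE (inf_le_right : Y₀ ⊓ U.1 ≤ U.1) (hdY.trans U.2.2.symm)) M i n).hom a) :=
    ocolimι_le_apply T X _ i n M (fjMk X 0 _ hYc) U inf_le_right _ a
  rw [hγ]
  generalize (T.pull (X.resLE (inf_le_right : Y₀ ⊓ U.1 ≤ U.1) (hdY.trans U.2.2.symm)) M i n).hom a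
    = a'
  by_cases hne : Nonempty (X.cdPt 0)
  swap
  · have hemp : IsEmpty (X.res (Y₀ ⊓ U.1)).scheme := by
      refine ⟨fun z => ?_⟩
      obtain ⟨x, -⟩ := hg.hcl _ z.2
      exact hne ⟨x⟩
    refine ⟨0, ?_⟩
    rw [map_zero, gp_eq_zero_of_isEmpty T _ M i n a', map_zero]
  have hfin := finite_cdPt0 X
  have hft : Fintype (X.cdPt 0) := Fintype.ofFinite _
  have hrc := relCodim_piece0 hg
  have hi0 : ∀ x : X.cdPt 0, i = i + 2 *
      relCodim ((X.ptSub x.1).res ((X.ptSubι x.1) ⁻¹ᵁ (Y₀ ⊓ U.1))).scheme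
        (X.res (Y₀ ⊓ U.1)).scheme := fun x => by
    rw [hrc x]
    ring
  have hn0 : ∀ x : X.cdPt 0, n = n +
      relCodim ((X.ptSub x.1).res ((X.ptSubι x.1) ⁻¹ᵁ (Y₀ ⊓ U.1))).scheme
        (X.res (Y₀ ⊓ U.1)).scheme := fun x => by
    rw [hrc x]
    ring
  have hsum := eq_sum_push_pull T _ (pieceObjHom0 hg) (pieces_disjoint0 hg) (pieces_cover0 hg)
    M i n hi0 hn0 a'
  refine ⟨∑ x : X.cdPt 0, DirectSum.lof R (X.cdPt 0) (fun y : X.cdPt 0 => T.ptGp X y.1 M i n) x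
    (((T.ptι X x.1 i n (ptPre X x.1 _ (mem_of_cdPt X 0 x _ hYc))).app M).hom
      ((T.pull (pieceObjHom0 hg x) M i n).hom a')), ?_⟩
  rw [map_sum]
  conv_rhs => rw [hsum]
  rw [map_sum]
  apply Finset.sum_congr rfl
  intro x _
  rw [PreTheory.PushData.tot_lof]
  exact push_formula T P x M i n i n hi hn _ hYc (hi0 x) (hn0 x) _

/-- the total push-forward at level `0` is injective -/
theorem tot_injective_zero [IsReduced X.scheme] (P : T.PushData X 0) (M : A.Cat) (i n : ℤ)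
    (hi : i = i + 2 * ((0 : ℕ) : ℤ)) (hn : n = n + ((0 : ℕ) : ℤ)) :
    Function.Injective (P.tot M i n i n hi hn).hom := by
  classical
  rw [injective_iff_map_eq_zero]
  intro s hs
  have hfin := finite_cdPt0 X
  have hft : Fintype (X.cdPt 0) := Fintype.ofFinite _
  have hrep : ∀ x : X.cdPt 0, ∃ (W : ptIdx X x.1)
      (b : T.gp ((X.ptSub x.1).res W.1) M i n),
      ((T.ptι X x.1 i n W).app M).hom b =
        (s : Π₀ y : X.cdPt 0, T.ptGp X y.1 M i n) x :=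
    fun x => exists_rep T (X.ptSub x.1) _ i n M _
  choose W b hb using hrep
  obtain ⟨Y₀, hY₀⟩ := exists_goodOpen X
  have hX₂ : ContainsFj X 0 (Y₀ ⊓ traceOpen0 W) :=
    containsFj_inf X 0 _ _ hY₀.hY (containsFj_traceOpen0 W)
  have hdimX₂ := dim_of_containsFj X 0 _ hX₂
  have hpre₂ : ∀ x : X.cdPt 0, (X.ptSubι x.1) ⁻¹ᵁ (Y₀ ⊓ traceOpen0 W) ≤ (W x).1 :=
    fun x => preimage_le_of_le_traceOpen0 W _ inf_le_right x
  have hrc₂ : ∀ x : X.cdPt 0,
      relCodim ((X.ptSub x.1).res ((X.ptSubι x.1) ⁻¹ᵁ (Y₀ ⊓ traceOpen0 W))).scheme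
        (X.res (Y₀ ⊓ traceOpen0 W)).scheme = ((0 : ℕ) : ℤ) :=
    fun x => relCodim_eq X 0 x (ptPre X x.1 _ (mem_of_cdPt X 0 x _ hX₂)) _ hdimX₂
  have hi₂ : ∀ x : X.cdPt 0, i = i + 2 *
      relCodim ((X.ptSub x.1).res ((X.ptSubι x.1) ⁻¹ᵁ (Y₀ ⊓ traceOpen0 W))).scheme
        (X.res (Y₀ ⊓ traceOpen0 W)).scheme := fun x => by
    rw [hrc₂ x]
    exact hi
  have hn₂ : ∀ x : X.cdPt 0, n = n +
      relCodim ((X.ptSub x.1).res ((X.ptSubι x.1) ⁻¹ᵁ (Y₀ ⊓ traceOpen0 W))).scheme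
        (X.res (Y₀ ⊓ traceOpen0 W)).scheme := fun x => by
    rw [hrc₂ x]
    exact hn
  have hsum : s = ∑ x : X.cdPt 0, DirectSum.lof R (X.cdPt 0)
      (fun y : X.cdPt 0 => T.ptGp X y.1 M i n) x
      ((s : Π₀ y : X.cdPt 0, T.ptGp X y.1 M i n) x) :=
    (DirectSum.sum_univ_of (β := fun y : X.cdPt 0 => T.ptGp X y.1 M i n) s).symm
  have htot : (P.tot M i n i n hi hn).hom s =
      ((T.fjι X 0 i n (fjMk X 0 _ hX₂)).app M).hom
        (∑ x : X.cdPt 0,
          (T.push (X := (X.ptSub x.1).res ((X.ptSubι x.1) ⁻¹ᵁ (Y₀ ⊓ traceOpen0 W)))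
            (Y := X.res (Y₀ ⊓ traceOpen0 W)) (X.ptSubι x.1 ∣_ (Y₀ ⊓ traceOpen0 W)) M i n
              i n (hi₂ x) (hn₂ x)).hom
            ((T.pull ((X.ptSub x.1).resLE (hpre₂ x)
              ((ptPre X x.1 _ (mem_of_cdPt X 0 x _ hX₂)).2.2.trans
                (W x).2.2.symm)) M i n).hom (b x))) := by
    rw [map_sum]
    conv_lhs => rw [hsum]
    rw [map_sum]
    apply Finset.sum_congr rfl
    intro x _
    rw [PreTheory.PushData.tot_lof, ← hb x]
    exact cpt_ptι_eq_gen T P x (W x) M i n i n hi hn (b x) _ hX₂ (hpre₂ x) (hi₂ x) (hn₂ x)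
  rw [htot] at hs
  obtain ⟨Y₃, hle₃, hY₃⟩ := rep_eq_zero T X (ContainsFj X 0) i n M
    (fjMk X 0 _ hX₂) _ hs
  obtain ⟨X₃, hX₃, hdX₃⟩ := Y₃
  have hle₃' : X₃ ≤ Y₀ ⊓ traceOpen0 W := hle₃
  have hpre₃ : ∀ x : X.cdPt 0, (X.ptSubι x.1) ⁻¹ᵁ X₃ ≤ (W x).1 :=
    fun x => preimage_le_of_le_traceOpen0 W _ (hle₃'.trans inf_le_right) x
  have h₃ := hY₀.shrink X₃ (hle₃'.trans inf_le_left) hX₃
  have hrc₃ := relCodim_piece0 h₃
  have hi₃ : ∀ x : X.cdPt 0, i = i + 2 *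
      relCodim ((X.ptSub x.1).res ((X.ptSubι x.1) ⁻¹ᵁ X₃)).scheme (X.res X₃).scheme :=
    fun x => by
      rw [hrc₃ x]
      ring
  have hn₃ : ∀ x : X.cdPt 0, n = n +
      relCodim ((X.ptSub x.1).res ((X.ptSubι x.1) ⁻¹ᵁ X₃)).scheme (X.res X₃).scheme :=
    fun x => by
      rw [hrc₃ x]
      ring
  -- the class vanishes on `X₃`
  have hP₃ : (∑ x : X.cdPt 0,
      (T.push (X := (X.ptSub x.1).res ((X.ptSubι x.1) ⁻¹ᵁ X₃))
        (Y := X.res X₃) (pieceObjHom0 h₃ x).hom M i n i n (hi₃ x) (hn₃ x)).hom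
        ((T.pull ((X.ptSub x.1).resLE (hpre₃ x)
          ((ptPre X x.1 _ (mem_of_cdPt X 0 x _ hX₃)).2.2.trans
            (W x).2.2.symm)) M i n).hom (b x))) = 0 := by
    have hY₃' : (T.pull (X.resLE hle₃' (hdX₃.trans hdimX₂.symm)) M i n).hom
        (∑ x : X.cdPt 0,
          (T.push (X := (X.ptSub x.1).res ((X.ptSubι x.1) ⁻¹ᵁ (Y₀ ⊓ traceOpen0 W)))
            (Y := X.res (Y₀ ⊓ traceOpen0 W)) (X.ptSubι x.1 ∣_ (Y₀ ⊓ traceOpen0 W)) M i n
              i n (hi₂ x) (hn₂ x)).hom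
            ((T.pull ((X.ptSub x.1).resLE (hpre₂ x)
              ((ptPre X x.1 _ (mem_of_cdPt X 0 x _ hX₂)).2.2.trans
                (W x).2.2.symm)) M i n).hom (b x))) = 0 := hY₃
    rw [map_sum] at hY₃'
    refine Eq.trans ?_ hY₃'
    apply Finset.sum_congr rfl
    intro x _
    exact (pull_pushPt T x.1 (W x) M i n i n (b x) _ X₃ hle₃'
      (hdX₃.trans hdimX₂.symm) (mem_of_cdPt X 0 x _ hX₃) (hpre₂ x)
      (hpre₃ x) (hi₂ x) (hn₂ x) (hi₃ x) (hn₃ x)).symm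
  refine DFinsupp.ext (fun y => ?_)
  have hy := pull_sum_push T _ (pieceObjHom0 h₃) (pieces_disjoint0 h₃) M i n hi₃ hn₃
    (fun x => (T.pull ((X.ptSub x.1).resLE (hpre₃ x)
          ((ptPre X x.1 _ (mem_of_cdPt X 0 x _ hX₃)).2.2.trans
            (W x).2.2.symm)) M i n).hom (b x)) y
  rw [hP₃, map_zero] at hy
  rw [← hb y, ocolimι_le_apply T (X.ptSub y.1) _ i n M
      (ptPre X y.1 X₃ (mem_of_cdPt X 0 y X₃ hX₃)) (W y) (hpre₃ y)
      ((ptPre X y.1 X₃ (mem_of_cdPt X 0 y X₃ hX₃)).2.2.trans (W y).2.2.symm) (b y), ← hy,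
      map_zero]
  rfl

/-- the total push-forward at level `0` is bijective -/
theorem tot_bijective_zero [IsReduced X.scheme] (P : T.PushData X 0) (M : A.Cat)
    (i n i' n' : ℤ) (hi : i' = i + 2 * ((0 : ℕ) : ℤ)) (hn : n' = n + ((0 : ℕ) : ℤ)) :
    Function.Bijective (P.tot M i n i' n' hi hn).hom := by
  have hi' : i' = i := by
    rw [hi]
    simp
  have hn' : n' = n := by
    rw [hn]
    simp
  subst hi'
  subst hn'
  exact ⟨tot_injective_zero T P M i' n' hi hn, tot_surjective_zero T P M i' n' hi hn⟩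

end coh

end Groth.Agent.H79.BMCohZero
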