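import Mathlib
import Groth.Prelude.Def_CAlg
import Groth.Agent.H29.CM

/-!
# Quotients of Cohen–Macaulay local rings by regular sequences have no embedded primes (helper79)
-/

set_option autoImplicit false
universe u

namespace Groth.Agent.H79.CMQuotAss

open IsLocalRing

/-- Let `R` be a Cohen–Macaulay local ring, `φ : R → S` a surjection onto a local ring whose kernel is
generated by a regular sequence. If the maximal ideal of `S` is an associated prime of `S`, then
`dim S = 0`. -/
theorem ringKrullDim_eq_zero {R S : Type u} [CommRing R] [CommRing S] [IsLocalRing S]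
    [hCM : LocCoh.IsCohenMacaulayLocalRing R] (φ : R →+* S) (hφ : Function.Surjective φ)
    (rs : List R) (hrs : RingTheory.Sequence.IsRegular R rs)
    (hI : Ideal.ofList rs = RingHom.ker φ)
    (hz : IsAssociatedPrime (maximalIdeal S) S) : ringKrullDim S = 0 := by
  have hNR : IsNoetherianRing R := inferInstance
  have hLR : IsLocalRing R := inferInstance
  have hNS : IsNoetherianRing S := isNoetherianRing_of_surjective R S φ hφ
  have hloc : IsLocalHom φ := IsLocalHom.of_surjective φ hφ
  set I : Ideal R := RingHom.ker φ with hIdef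
  have hIne : I ≠ ⊤ := RingHom.ker_ne_top φ
  have hmem : ∀ x ∈ rs, x ∈ maximalIdeal R := by
    intro x hx
    have : x ∈ Ideal.ofList rs := Ideal.subset_span hx
    rw [hI] at this
    exact IsLocalRing.le_maximalIdeal hIne this
  -- `R ⧸ I` is a Cohen–Macaulay `R`-module
  have hCMR : LocCoh.IsCohenMacaulayModule R R := hCM.supportDim_eq_depth
  have h1 := Groth.Agent.H29.CML.isCM_quotient_of_isWeaklyRegular rs R hCMR hmem
    hrs.toIsWeaklyRegular
  have hsub : (Ideal.ofList rs • ⊤ : Submodule R R) = I := by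
    rw [hI]
    show (RingHom.ker φ) * ⊤ = RingHom.ker φ
    exact Ideal.mul_top _
  have hCMQ : LocCoh.IsCohenMacaulayModule R (R ⧸ I) :=
    Groth.Agent.H29.CML.isCM_of_equiv (Submodule.quotEquivOfEq _ _ hsub) h1
  -- the maximal ideal of `R` is associated to `R ⧸ I`
  rw [isAssociatedPrime_iff] at hz
  obtain ⟨-, s, hs⟩ := hz
  obtain ⟨r, rfl⟩ := hφ s
  have hass : maximalIdeal R ∈ associatedPrimes R (R ⧸ I) := by
    rw [AssociatedPrimes.mem_iff, isAssociatedPrime_iff]
    refine ⟨inferInstance, Ideal.Quotient.mk I r, ?_⟩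
    ext a
    rw [Submodule.mem_colon_singleton, Submodule.mem_bot]
    have h2 : a • (Ideal.Quotient.mk I r) = Ideal.Quotient.mk I (a * r) := rfl
    rw [h2, Ideal.Quotient.eq_zero_iff_mem, hIdef, RingHom.mem_ker, map_mul]
    have h3 : a ∈ maximalIdeal R ↔ φ a ∈ maximalIdeal S := by
      rw [mem_maximalIdeal, mem_maximalIdeal, mem_nonunits_iff, mem_nonunits_iff]
      exact not_congr ⟨fun h => h.map φ, fun h => isUnit_of_map_unit φ a h⟩
    rw [h3, hs, Submodule.mem_colon_singleton, Submodule.mem_bot, smul_eq_mul]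
  have h4 := Groth.Agent.H29.CML.ringKrullDim_quotient_eq_supportDim_of_isCM (R ⧸ I) hCMQ
    (maximalIdeal R) hass
  rw [Module.supportDim_quotient_eq_ringKrullDim] at h4
  have h5 : ringKrullDim (R ⧸ maximalIdeal R) = 0 := by
    have : IsField (R ⧸ maximalIdeal R) :=
      (Ideal.Quotient.maximal_ideal_iff_isField_quotient _).mp (maximalIdeal.isMaximal R)
    exact ringKrullDim_eq_zero_of_isField this
  rw [h5] at h4
  rw [← ringKrullDim_eq_of_ringEquiv (RingHom.quotientKerEquivOfSurjective hφ), ← h4]

end Groth.Agent.H79.CMQuotAss
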