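import Mathlib
universe u
namespace Groth.Agent.H79

section
variable {R : Type u} [CommRing R] {n : ℕ}
  (U x : Matrix (Fin n) (Fin n) R)
  (htri : ∀ i j : Fin n, j < i → U i j = 0)
  (hdiag : ∀ i j : Fin n, U i i = U j j)
  (hreg : ∀ (i j : Fin n), j.val = i.val + 1 → IsUnit (U i j))
  (hxu : x * U = U * x)

include htri hdiag hreg hxu in
theorem centr_lower_zero (i j : Fin n) (hij : j < i) : x i j = 0 := by
  have hj' : j.val + 1 < n := by have := i.2; omega
  let j' : Fin n := ⟨j.val + 1, hj'⟩
  have hjj' : j ≠ j' := by
    intro h; have := congrArg Fin.val h; simp [j'] at this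
  have hL : (x * U) i j' = x i j * U j j' + x i j' * U j' j' := by
    rw [Matrix.mul_apply]
    refine Fintype.sum_eq_add j j' hjj' (fun l hl => ?_)
    rcases lt_trichotomy l.val j.val with h | h | h
    · have hlt : l < i := by
        have : j.val < i.val := hij
        exact Fin.lt_def.2 (by omega)
      have : x i l = 0 := centr_lower_zero i l hlt
      rw [this, zero_mul]
    · exact absurd (Fin.ext h) hl.1
    · have : j' < l := by
        rw [Fin.lt_def]
        have h1 : l.val ≠ j.val + 1 := fun h' => hl.2 (Fin.ext h')
        simp only [j']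
        omega
      rw [htri l j' this, mul_zero]
  have hR : (U * x) i j' = U i i * x i j' := by
    rw [Matrix.mul_apply]
    refine Fintype.sum_eq_single i (fun l hl => ?_)
    rcases lt_trichotomy l.val i.val with h | h | h
    · rw [htri i l (Fin.lt_def.2 h), zero_mul]
    · exact absurd (Fin.ext h) hl
    · have hlt : j' < l := by
        rw [Fin.lt_def]
        have : j.val < i.val := hij
        simp only [j']
        omega
      have : x l j' = 0 := centr_lower_zero l j' hlt
      rw [this, mul_zero]
  have h := congrFun (congrFun hxu i) j'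
  rw [hL, hR, hdiag j' i, mul_comm (U i i)] at h
  have h0 : x i j * U j j' = 0 := by
    have := add_eq_right.1 h
    exact this
  exact (hreg j j' rfl).mul_left_eq_zero.1 h0
termination_by (n - (i.val - j.val), n - i.val)
decreasing_by
  · apply Prod.Lex.left
    have h1 : j.val < i.val := hij
    have h2 := i.2
    omega
  · have h1 : j.val < i.val := hij
    have h2 := l.2
    by_cases h3 : l.val = i.val + 1
    · have e : n - (l.val - (j.val + 1)) = n - (i.val - j.val) := by omega
      rw [e]
      apply Prod.Lex.right
      omega
    · apply Prod.Lex.left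
      omega

include htri hdiag hreg hxu in
theorem centr_diag_succ (i i' : Fin n) (hi : i'.val = i.val + 1) : x i i = x i' i' := by
  have hlow := centr_lower_zero U x htri hdiag hreg hxu
  have hne : i ≠ i' := by
    intro h; rw [h] at hi; omega
  have hL : (x * U) i i' = x i i * U i i' + x i i' * U i' i' := by
    rw [Matrix.mul_apply]
    refine Fintype.sum_eq_add i i' hne (fun l hl => ?_)
    rcases lt_trichotomy l.val i.val with h | h | h
    · rw [hlow i l (Fin.lt_def.2 h), zero_mul]
    · exact absurd (Fin.ext h) hl.1
    · have : i' < l := by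
        rw [Fin.lt_def]
        have h1 : l.val ≠ i'.val := fun h' => hl.2 (Fin.ext h')
        omega
      rw [htri l i' this, mul_zero]
  have hR : (U * x) i i' = U i i * x i i' + U i i' * x i' i' := by
    rw [Matrix.mul_apply]
    refine Fintype.sum_eq_add i i' hne (fun l hl => ?_)
    rcases lt_trichotomy l.val i.val with h | h | h
    · rw [htri i l (Fin.lt_def.2 h), zero_mul]
    · exact absurd (Fin.ext h) hl.1
    · have : i' < l := by
        rw [Fin.lt_def]
        have h1 : l.val ≠ i'.val := fun h' => hl.2 (Fin.ext h')
        omega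
      rw [hlow l i' this, mul_zero]
  have h := congrFun (congrFun hxu i) i'
  rw [hL, hR, hdiag i' i, mul_comm (U i i) (x i i')] at h
  have h2 : U i i' * x i i = U i i' * x i' i' := by
    have h3 : x i i * U i i' = U i i' * x i' i' := by
      have := congrArg (fun z => z - x i i' * U i i) h
      simpa using this
    rw [mul_comm]; exact h3
  exact (hreg i i' hi).mul_right_injective h2

include htri hdiag hreg hxu in
theorem centr_diag (i j : Fin n) : x i i = x j j := by
  have key : ∀ (m : ℕ) (hm : m < n) (h0 : 0 < n), x ⟨m, hm⟩ ⟨m, hm⟩ = x ⟨0, h0⟩ ⟨0, h0⟩ := by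
    intro m
    induction m with
    | zero => intro _ _; rfl
    | succ m ih =>
      intro hm h0
      rw [← ih (by omega) h0]
      exact (centr_diag_succ U x htri hdiag hreg hxu ⟨m, by omega⟩ ⟨m + 1, hm⟩ rfl).symm
  have h0 : 0 < n := by have := i.2; omega
  rw [show i = ⟨i.val, i.2⟩ from rfl, show j = ⟨j.val, j.2⟩ from rfl, key i.val i.2 h0,
    key j.val j.2 h0]

end
end Groth.Agent.H79
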