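import Mathlib
import Groth.Agent.H14.DimTrdeg
import Groth.Agent.H17.DimIneq

/-!
# A point of the generic fibre of maximal height (helper79)

For an injective finite type map of domains `R → S` of transcendence degree `n`, there is a prime
of `S` lying over `0` of height `n`.
-/

set_option autoImplicit false
set_option linter.style.haveILetI false
universe u

namespace Groth.Agent.H79.GenFibrePt

open Algebra

theorem exists_prime_comap_bot_height (R S : Type u) [CommRing R] [CommRing S] [IsDomain R]
    [IsDomain S] [Algebra R S] [Algebra.FiniteType R S]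
    (hinj : Function.Injective (algebraMap R S)) (n : ℕ) (hn : Algebra.trdeg R S = n) :
    ∃ q : Ideal S, q.IsPrime ∧ q.comap (algebraMap R S) = ⊥ ∧ (n : ℕ∞) ≤ q.height := by
  let K := FractionRing R
  let M := Algebra.algebraMapSubmonoid S (nonZeroDivisors R)
  let T := Localization M
  have hM : M ≤ nonZeroDivisors S := by
    rintro _ ⟨r, hr, rfl⟩
    exact mem_nonZeroDivisors_of_ne_zero
      ((map_ne_zero_iff _ hinj).mpr (nonZeroDivisors.ne_zero hr))
  haveI : IsDomain T := IsLocalization.isDomain_localization hM
  haveI hftT : Algebra.FiniteType K T := by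
    have hft : Algebra.FiniteType R S := inferInstance
    rw [← RingHom.finiteType_algebraMap] at hft ⊢
    haveI : IsLocalization (Submonoid.map (algebraMap R S) (nonZeroDivisors R)) T :=
      inferInstanceAs (IsLocalization (algebraMapSubmonoid S (nonZeroDivisors R)) T)
    exact RingHom.finiteType_localizationPreserves (algebraMap R S) (nonZeroDivisors R) K T hft
  obtain ⟨n', hn'1, -, hn'3⟩ := Groth.Agent.H14.ringKrullDim_eq_trdeg_of_finiteType_domain K T
  let L := FractionRing T
  have hST : Function.Injective (algebraMap S T) := IsLocalization.injective T hM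
  have hTL : Function.Injective (algebraMap T L) := IsFractionRing.injective T L
  haveI : FaithfulSMul R S := (faithfulSMul_iff_algebraMap_injective R S).mpr hinj
  haveI : IsScalarTower S T L := inferInstance
  haveI : FaithfulSMul S L := by
    rw [faithfulSMul_iff_algebraMap_injective, IsScalarTower.algebraMap_eq S T L]
    exact hTL.comp hST
  haveI : Algebra.IsAlgebraic R K := IsLocalization.isAlgebraic K (nonZeroDivisors R)
  haveI : Algebra.IsAlgebraic S T := IsLocalization.isAlgebraic T M
  haveI : Algebra.IsAlgebraic T L := IsLocalization.isAlgebraic L (nonZeroDivisors T)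
  haveI : Algebra.IsAlgebraic S L := Algebra.IsAlgebraic.trans S T L
  haveI : IsScalarTower R K L := inferInstance
  haveI : IsScalarTower R S L := inferInstance
  have hsq : Algebra.trdeg K L = Algebra.trdeg R S :=
    Groth.Agent.H17.DimIneq.trdeg_eq_of_square R S K L
  have hnn : n' = n := by
    have : (n' : Cardinal) = n := by rw [← hn'1, hsq, hn]
    exact_mod_cast this
  obtain ⟨m, hm⟩ := Ideal.exists_maximal T
  have h1 := hn'3 m
  rw [IsLocalization.AtPrime.ringKrullDim_eq_height m (Localization.AtPrime m)] at h1
  have h2 : m.height = (n' : ℕ∞) := by exact_mod_cast h1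
  refine ⟨m.comap (algebraMap S T), Ideal.comap_isPrime _ _, ?_, ?_⟩
  · rw [eq_bot_iff]
    intro r hr
    rw [Ideal.mem_comap, Ideal.mem_comap] at hr
    by_contra hne
    have hr0 : r ≠ 0 := fun h => hne (by rw [h]; exact Submodule.zero_mem _)
    have hmem : algebraMap R S r ∈ M := ⟨r, mem_nonZeroDivisors_of_ne_zero hr0, rfl⟩
    have hu : IsUnit (algebraMap S T (algebraMap R S r)) :=
      IsLocalization.map_units T ⟨_, hmem⟩
    exact hm.ne_top (Ideal.eq_top_of_isUnit_mem _ hr hu)
  · have := IsLocalization.height_under M m
    change (m.comap (algebraMap S T)).height = m.height at this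
    rw [this, h2, hnn]

end Groth.Agent.H79.GenFibrePt
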