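import Mathlib
import Groth.Agent.H79.GenFibrePt
import Groth.Agent.H48.DimIneqSch2
import Groth.Agent.H24.AffineChart

/-!
# Dimension of the source of a closed dominant morphism (helper79)

`dim Y + trdeg ≤ dim X` for a closed dominant morphism locally of finite type between integral
schemes: lift a chain of `Y` starting from a point of the generic fibre of maximal height.
-/

set_option autoImplicit false
set_option linter.style.haveILetI false
set_option linter.unusedSectionVars false
universe u

open AlgebraicGeometry CategoryTheory TopologicalSpace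

namespace Groth.Agent.H79.ClosedDim

open Groth.Agent.H48.DimIneq Groth.Agent.H48.DimIneqSch

/-- lifting chains along a specializing map, from the top -/
theorem exists_lift_ltSeries {X Y : Scheme.{u}} (f : X ⟶ Y) (hs : SpecializingMap f) (m : ℕ) :
    ∀ (s : LTSeries Y), s.length = m → ∀ x : X, s.last ≤ f x →
      ∃ s' : LTSeries X, s'.length = m ∧ s'.last ≤ x ∧ f s'.last = s.last := by
  induction m with
  | zero =>
    intro s _ x hx
    obtain ⟨x', hx'1, hx'2⟩ := hs (Scheme.le_iff_specializes.mp hx)
    exact ⟨RelSeries.singleton _ x', rfl, Scheme.le_iff_specializes.mpr hx'1, hx'2⟩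
  | succ m ih =>
    intro s hs' x hx
    obtain ⟨x', hx'1, hx'2⟩ := hs (Scheme.le_iff_specializes.mp hx)
    have hne : s.length ≠ 0 := by omega
    have hlt : s.eraseLast.last < s.last := s.eraseLast_last_rel_last hne
    obtain ⟨t, ht1, ht2, ht3⟩ := ih s.eraseLast (by simp; omega) x'
      (by rw [hx'2]; exact hlt.le)
    have hlt' : t.last < x' := by
      refine lt_of_le_not_ge ht2 ?_
      intro hle
      have h1 : t.last ⤳ x' := Scheme.le_iff_specializes.mp hle
      have h2 : f t.last ⤳ f x' := h1.map f.continuous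
      rw [ht3, hx'2] at h2
      exact hlt.not_ge (Scheme.le_iff_specializes.mpr h2)
    refine ⟨t.snoc x' hlt', by simp [ht1], ?_, ?_⟩
    · rw [RelSeries.last_snoc]; exact Scheme.le_iff_specializes.mpr hx'1
    · rw [RelSeries.last_snoc]; exact hx'2

theorem isAlgebraic_of_isFrac_of_injective {A K : Type u} [CommRing A] [Field K] (evA : A →+* K)
    (hK : IsFrac evA) :
    letI : Algebra A K := evA.toAlgebra
    Algebra.IsAlgebraic A K := by
  letI : Algebra A K := evA.toAlgebra
  refine ⟨fun y => ?_⟩
  obtain ⟨a, s, hs, hy⟩ := hK y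
  refine ⟨Polynomial.C s * Polynomial.X - Polynomial.C a, ?_, ?_⟩
  · intro h
    have h1 := congrArg (fun P => Polynomial.coeff P 1) h
    simp only [Polynomial.coeff_sub, Polynomial.coeff_C_mul, Polynomial.coeff_X_one, mul_one,
      Polynomial.coeff_C_succ, sub_zero, Polynomial.coeff_zero] at h1
    apply hs
    rw [h1, map_zero]
  · simp only [map_sub, map_mul, Polynomial.aeval_C, Polynomial.aeval_X,
      RingHom.algebraMap_toAlgebra]
    rw [mul_comm, hy, sub_self]

theorem primeIdealOf_eq_bot {X : Scheme.{u}} [IsIntegral X] {U : X.Opens} (hU : IsAffineOpen U)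
    [Nonempty U] (x : X) (hx : x ∈ U) (h : x = genericPoint X) :
    (hU.primeIdealOf ⟨x, hx⟩).asIdeal = ⊥ := by
  subst h
  rw [hU.primeIdealOf_genericPoint, genericPoint_eq_bot_of_affine]
  rfl

theorem map_genericPoint_of_isDominant {X Y : Scheme.{u}} [IrreducibleSpace X]
    [IrreducibleSpace Y] (f : X ⟶ Y) [IsDominant f] : f (genericPoint X) = genericPoint Y := by
  apply ((genericPoint_spec Y).eq _).symm
  have := (genericPoint_spec X).image f.continuous
  rwa [Set.image_univ, f.denseRange.closure_range] at this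

/-- a point of the generic fibre of coheight at least the transcendence degree -/
theorem exists_point_over_generic {X Y : Scheme.{u}} [IsIntegral X] [IsIntegral Y] (f : X ⟶ Y)
    [IsDominant f] [LocallyOfFiniteType f] (n : ℕ)
    (hn : letI := (f.residueFieldMap (genericPoint X)).hom.toAlgebra
      Algebra.trdeg (Y.residueField (f (genericPoint X))) (X.residueField (genericPoint X)) = n) :
    ∃ x : X, f x = genericPoint Y ∧ (n : ℕ∞) ≤ Order.coheight x := by
  set ξ := genericPoint X with hξdef
  have hfξ : f ξ = genericPoint Y := map_genericPoint_of_isDominant f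
  obtain ⟨V, U, hV, hU, hξU, hUV⟩ := Groth.Agent.H24.exists_affine_charts f ξ
  haveI : Nonempty U := ⟨⟨ξ, hξU⟩⟩
  haveI : Nonempty V := ⟨⟨f ξ, hUV hξU⟩⟩
  letI : Algebra Γ(Y, V) Γ(X, U) := (f.appLE V U hUV).hom.toAlgebra
  haveI hft : Algebra.FiniteType Γ(Y, V) Γ(X, U) := f.finiteType_appLE hV hU hUV
  let evA : Γ(Y, V) →+* Y.residueField (f ξ) := (Y.evaluation V (f ξ) (hUV hξU)).hom
  let evB : Γ(X, U) →+* X.residueField ξ := (X.evaluation U ξ hξU).hom
  letI : Algebra (Y.residueField (f ξ)) (X.residueField ξ) := (f.residueFieldMap ξ).hom.toAlgebra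
  have hsq : (algebraMap (Y.residueField (f ξ)) (X.residueField ξ)).comp evA =
      evB.comp (algebraMap Γ(Y, V) Γ(X, U)) := evaluation_square f hUV ξ hξU
  have hK : IsFrac evA := isFrac_evaluation hV (f ξ) (hUV hξU)
  have hL : IsFrac evB := isFrac_evaluation hU ξ hξU
  have hkA : RingHom.ker evA = ⊥ := by
    rw [ker_evaluation hV (f ξ) (hUV hξU)]
    exact primeIdealOf_eq_bot hV _ _ hfξ
  have hkB : RingHom.ker evB = ⊥ := by
    rw [ker_evaluation hU ξ hξU]
    exact primeIdealOf_eq_bot hU _ _ rfl
  have hinjA : Function.Injective evA := (RingHom.injective_iff_ker_eq_bot evA).mpr hkA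
  have hinjB : Function.Injective evB := (RingHom.injective_iff_ker_eq_bot evB).mpr hkB
  have hinj : Function.Injective (algebraMap Γ(Y, V) Γ(X, U)) := by
    have h1 : Function.Injective ((algebraMap (Y.residueField (f ξ)) (X.residueField ξ)).comp evA) :=
      (algebraMap (Y.residueField (f ξ)) (X.residueField ξ)).injective.comp hinjA
    rw [hsq, RingHom.coe_comp] at h1
    exact Function.Injective.of_comp h1
  -- the transcendence degree of the section rings
  have htr : Algebra.trdeg Γ(Y, V) Γ(X, U) = n := by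
    rw [← hn]
    letI i1 : Algebra Γ(Y, V) (Y.residueField (f ξ)) := evA.toAlgebra
    letI i2 : Algebra Γ(X, U) (X.residueField ξ) := evB.toAlgebra
    letI i3 : Algebra Γ(Y, V) (X.residueField ξ) :=
      ((algebraMap (Y.residueField (f ξ)) (X.residueField ξ)).comp evA).toAlgebra
    haveI t1 : IsScalarTower Γ(Y, V) (Y.residueField (f ξ)) (X.residueField ξ) :=
      .of_algebraMap_eq (fun _ => rfl)
    haveI t2 : IsScalarTower Γ(Y, V) Γ(X, U) (X.residueField ξ) := by
      refine .of_algebraMap_eq (fun a => ?_)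
      exact congrArg (fun g => g a) hsq
    haveI : FaithfulSMul Γ(Y, V) Γ(X, U) := (faithfulSMul_iff_algebraMap_injective _ _).mpr hinj
    haveI : FaithfulSMul Γ(Y, V) (Y.residueField (f ξ)) :=
      (faithfulSMul_iff_algebraMap_injective _ _).mpr hinjA
    haveI : FaithfulSMul Γ(X, U) (X.residueField ξ) :=
      (faithfulSMul_iff_algebraMap_injective _ _).mpr hinjB
    haveI : Algebra.IsAlgebraic Γ(Y, V) (Y.residueField (f ξ)) :=
      isAlgebraic_of_isFrac_of_injective evA hK
    haveI : Algebra.IsAlgebraic Γ(X, U) (X.residueField ξ) :=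
      isAlgebraic_of_isFrac_of_injective evB hL
    exact (Groth.Agent.H17.DimIneq.trdeg_eq_of_square Γ(Y, V) Γ(X, U) (Y.residueField (f ξ))
      (X.residueField ξ)).symm
  obtain ⟨q, hq, hqbot, hqh⟩ :=
    Groth.Agent.H79.GenFibrePt.exists_prime_comap_bot_height Γ(Y, V) Γ(X, U) hinj n htr
  let z : Spec Γ(X, U) := ⟨q, hq⟩
  refine ⟨hU.fromSpec z, ?_, ?_⟩
  · have h1 : (Spec.map (f.appLE V U hUV) ≫ hV.fromSpec) z = (hU.fromSpec ≫ f) z := by
      rw [IsAffineOpen.SpecMap_appLE_fromSpec f hV hU hUV]
    have h2 : (Spec.map (f.appLE V U hUV)) z = genericPoint (Spec Γ(Y, V)) := by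
      rw [genericPoint_eq_bot_of_affine]
      apply PrimeSpectrum.ext
      exact hqbot
    change hV.fromSpec ((Spec.map (f.appLE V U hUV)) z) = f (hU.fromSpec z) at h1
    rw [← h1, h2]
    exact genericPoint_eq_of_isOpenImmersion hV.fromSpec
  · rw [coheight_eq_of_isOpenImmersion hU.fromSpec, ← idealHeight_eq_coheight]
    exact hqh

theorem add_le_topologicalKrullDim_of_isClosedMap {X Y : Scheme.{u}} [IsIntegral X] [IsIntegral Y]
    (f : X ⟶ Y) [IsDominant f] [LocallyOfFiniteType f] (n : ℕ)
    (hn : letI := (f.residueFieldMap (genericPoint X)).hom.toAlgebra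
      Algebra.trdeg (Y.residueField (f (genericPoint X))) (X.residueField (genericPoint X)) = n)
    (hcl : IsClosedMap f) :
    topologicalKrullDim Y + n ≤ topologicalKrullDim X := by
  obtain ⟨x, hfx, hx⟩ := exists_point_over_generic f n hn
  rw [Groth.Agent.H48.DimIneqSch2.topologicalKrullDim_eq_krullDim,
    Groth.Agent.H48.DimIneqSch2.topologicalKrullDim_eq_krullDim]
  change Order.krullDim Y + n ≤ Order.krullDim X
  have key : ∀ s : LTSeries Y, ((s.length + n : ℕ) : WithBot ℕ∞) ≤ Order.krullDim X := by
    intro s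
    have hle : s.last ≤ f x := by
      rw [hfx]; exact le_top
    obtain ⟨s', hs'1, hs'2, -⟩ := exists_lift_ltSeries f hcl.specializingMap s.length s rfl x hle
    have h1 : (s'.length : ℕ∞) ≤ Order.height x := Order.length_le_height hs'2
    have h2 : ((Order.height x + Order.coheight x : ℕ∞) : WithBot ℕ∞) ≤ Order.krullDim X := by
      haveI : Nonempty X := ⟨x⟩
      rw [Order.krullDim_eq_iSup_height_add_coheight_of_nonempty]
      exact WithBot.coe_le_coe.mpr (le_iSup (fun a : X => Order.height a + Order.coheight a) x)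
    have h3 : ((s.length + n : ℕ) : ℕ∞) ≤ Order.height x + Order.coheight x := by
      rw [Nat.cast_add, ← hs'1]
      exact add_le_add h1 hx
    calc ((s.length + n : ℕ) : WithBot ℕ∞) = (((s.length + n : ℕ) : ℕ∞) : WithBot ℕ∞) := rfl
      _ ≤ ((Order.height x + Order.coheight x : ℕ∞) : WithBot ℕ∞) := WithBot.coe_le_coe.mpr h3
      _ ≤ _ := h2
  haveI : Nonempty X := inferInstance
  haveI : Nonempty Y := inferInstance
  rw [Order.krullDim_eq_iSup_length (α := Y)]
  obtain ⟨D, hD⟩ : ∃ D : ℕ∞, Order.krullDim X = (D : WithBot ℕ∞) := by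
    have h0 : (0 : WithBot ℕ∞) ≤ Order.krullDim X := Order.krullDim_nonneg
    cases h : Order.krullDim X with
    | bot => rw [h] at h0; simp at h0
    | coe D => exact ⟨D, rfl⟩
  rw [hD]
  have key' : ∀ s : LTSeries Y, ((s.length + n : ℕ) : ℕ∞) ≤ D := by
    intro s
    have := key s
    rw [hD] at this
    exact_mod_cast this
  have : ((⨆ s : LTSeries Y, (s.length : ℕ∞)) + (n : ℕ∞)) ≤ D := by
    rw [ENat.iSup_add]
    refine iSup_le fun s => ?_
    have := key' s
    rwa [Nat.cast_add] at this
  exact_mod_cast this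

end Groth.Agent.H79.ClosedDim
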