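import Groth.Prelude.Def_W4c3severiratdpLat
import Mathlib

namespace Groth.Agent.H79

open W4c3severiratdp

theorem form_perm {δ : ℕ} (v t : DP δ) (σ : Equiv.Perm (Fin δ)) (h0 : v 0 = t 0)
    (h : ∀ i, v (σ i).succ = t i.succ) :
    form v v = form t t ∧ form (canon δ) v = form (canon δ) t := by
  constructor
  · unfold form
    rw [h0]
    congr 1
    rw [← Equiv.sum_comp σ (fun i => v i.succ * v i.succ)]
    exact Finset.sum_congr rfl fun i _ => by rw [h i]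
  · unfold form
    rw [h0]
    congr 1
    rw [← Equiv.sum_comp σ (fun i => canon δ i.succ * v i.succ)]
    refine Finset.sum_congr rfl fun i _ => ?_
    rw [h i]
    simp [canon]

/-- indicator of `j < k` -/
def ind (k : ℕ) (j : Fin 8) : ℤ := if (j : ℕ) < k then 1 else 0

theorem sum_ind (k : ℕ) (hk : k ≤ 8) : ∑ j : Fin 8, ind k j = k := by
  interval_cases k <;> decide

theorem sorted_classify (w : Fin 8 → ℤ) (hw : Antitone w) (lo : ℤ) (hlo : ∀ i, lo ≤ w i)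
    (hhi : ∀ i, w i ≤ lo + 4) :
    ∃ k1 k2 k3 k4 : ℕ, k4 ≤ k3 ∧ k3 ≤ k2 ∧ k2 ≤ k1 ∧ k1 ≤ 8 ∧
      (∀ j, w j = lo + ind k1 j + ind k2 j + ind k3 j + ind k4 j) ∧
      (∑ j, w j = 8 * lo + k1 + k2 + k3 + k4) ∧
      (∑ j, w j ^ 2 = 8 * lo ^ 2 + (2 * lo + 1) * k1 + (2 * lo + 3) * k2 + (2 * lo + 5) * k3
        + (2 * lo + 7) * k4) := by
  classical
  let k : ℤ → ℕ := fun m => (Finset.univ.filter (fun i => lo + m ≤ w i)).card
  have hk : ∀ (m : ℤ) (j : Fin 8), ((j : ℕ) < k m ↔ lo + m ≤ w j) := fun m j =>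
    Tuple.lt_card_ge_iff_apply_ge_of_antitone hw
  have hmono : ∀ m m' : ℤ, m ≤ m' → k m' ≤ k m := by
    intro m m' hmm
    apply Finset.card_le_card
    intro i hi
    simp only [Finset.mem_filter, Finset.mem_univ, true_and] at hi ⊢
    omega
  have hk8 : k 1 ≤ 8 := by
    have := Finset.card_filter_le (Finset.univ : Finset (Fin 8)) (fun i => lo + 1 ≤ w i)
    rw [Finset.card_univ, Fintype.card_fin] at this
    exact this
  have hpt : ∀ j, w j = lo + ind (k 1) j + ind (k 2) j + ind (k 3) j + ind (k 4) j := by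
    intro j
    have h1 := hk 1 j
    have h2 := hk 2 j
    have h3 := hk 3 j
    have h4 := hk 4 j
    have := hlo j
    have := hhi j
    unfold ind
    split_ifs <;> omega
  have h43 := hmono 3 4 (by norm_num)
  have h32 := hmono 2 3 (by norm_num)
  have h21 := hmono 1 2 (by norm_num)
  refine ⟨k 1, k 2, k 3, k 4, h43, h32, h21, hk8, hpt, ?_, ?_⟩
  · simp_rw [hpt]
    rw [Finset.sum_add_distrib, Finset.sum_add_distrib, Finset.sum_add_distrib,
      Finset.sum_add_distrib, sum_ind _ hk8, sum_ind _ (h21.trans hk8),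
      sum_ind _ (h32.trans (h21.trans hk8)), sum_ind _ (h43.trans (h32.trans (h21.trans hk8)))]
    simp
  · have hsq : ∀ j, w j ^ 2 = lo ^ 2 + (2 * lo + 1) * ind (k 1) j + (2 * lo + 3) * ind (k 2) j
        + (2 * lo + 5) * ind (k 3) j + (2 * lo + 7) * ind (k 4) j := by
      intro j
      rw [hpt j]
      unfold ind
      split_ifs <;> first | omega | ring
    simp_rw [hsq]
    rw [Finset.sum_add_distrib, Finset.sum_add_distrib, Finset.sum_add_distrib,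
      Finset.sum_add_distrib, ← Finset.mul_sum, ← Finset.mul_sum, ← Finset.mul_sum,
      ← Finset.mul_sum, sum_ind _ hk8, sum_ind _ (h21.trans hk8),
      sum_ind _ (h32.trans (h21.trans hk8)), sum_ind _ (h43.trans (h32.trans (h21.trans hk8)))]
    simp


theorem bound_of_sums (w : Fin 8 → ℤ) (t S Q : ℤ) (hS : ∑ j, w j = S) (hQ : ∑ j, w j ^ 2 = Q)
    (hN : Q - 2 * t * S + 8 * t ^ 2 ≤ 8) : ∀ i, t - 2 ≤ w i ∧ w i ≤ t - 2 + 4 := by
  have hsum : ∑ j, (w j - t) ^ 2 = Q - 2 * t * S + 8 * t ^ 2 := by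
    simp_rw [sub_sq]
    rw [Finset.sum_add_distrib, Finset.sum_sub_distrib, hQ]
    have h1 : ∑ j : Fin 8, 2 * w j * t = 2 * t * S := by
      rw [← hS, Finset.mul_sum]
      exact Finset.sum_congr rfl fun j _ => by ring
    rw [h1]
    simp
  intro i
  have hi : (w i - t) ^ 2 ≤ ∑ j, (w j - t) ^ 2 :=
    Finset.single_le_sum (f := fun j => (w j - t) ^ 2) (fun j _ => sq_nonneg _) (Finset.mem_univ i)
  rw [hsum] at hi
  constructor <;> nlinarith

theorem case_solve (w : Fin 8 → ℤ) (hw : Antitone w) (a t : ℤ) (hS : ∑ j, w j = 3 * a - 2)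
    (hQ : ∑ j, w j ^ 2 = a ^ 2) (hN : a ^ 2 - 2 * t * (3 * a - 2) + 8 * t ^ 2 ≤ 8) :
    ∃ k1 k2 k3 k4 : ℕ, k4 ≤ k3 ∧ k3 ≤ k2 ∧ k2 ≤ k1 ∧ k1 ≤ 8 ∧
      (∀ j, w j = (t - 2) + ind k1 j + ind k2 j + ind k3 j + ind k4 j) ∧
      (3 * a - 2 = 8 * (t - 2) + k1 + k2 + k3 + k4) ∧
      (a ^ 2 = 8 * (t - 2) ^ 2 + (2 * (t - 2) + 1) * k1 + (2 * (t - 2) + 3) * k2
        + (2 * (t - 2) + 5) * k3 + (2 * (t - 2) + 7) * k4) := by
  have hb := bound_of_sums w t _ _ hS hQ hN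
  obtain ⟨k1, k2, k3, k4, h43, h32, h21, h18, hpt, hs, hq⟩ :=
    sorted_classify w hw (t - 2) (fun i => (hb i).1) (fun i => (hb i).2)
  exact ⟨k1, k2, k3, k4, h43, h32, h21, h18, hpt, by rw [← hS, hs], by rw [← hQ, hq]⟩
theorem conic_classify (v : DP 8) (hv : IsConic v) :
    ∃ t ∈ ({![1, 1, 0, 0, 0, 0, 0, 0, 0],
        ![2, 1, 1, 1, 1, 0, 0, 0, 0],
        ![3, 2, 1, 1, 1, 1, 1, 0, 0],
        ![4, 2, 2, 2, 1, 1, 1, 1, 0],
        ![4, 3, 1, 1, 1, 1, 1, 1, 1],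
        ![5, 2, 2, 2, 2, 2, 2, 1, 0],
        ![5, 3, 2, 2, 2, 1, 1, 1, 1],
        ![6, 3, 3, 2, 2, 2, 2, 1, 1],
        ![7, 3, 3, 3, 3, 2, 2, 2, 1],
        ![7, 4, 3, 2, 2, 2, 2, 2, 2],
        ![8, 4, 3, 3, 3, 3, 2, 2, 2],
        ![8, 3, 3, 3, 3, 3, 3, 3, 1],
        ![9, 4, 4, 3, 3, 3, 3, 3, 2],
        ![10, 4, 4, 4, 4, 3, 3, 3, 3],
        ![11, 4, 4, 4, 4, 4, 4, 4, 3]} : Set (DP 8)),
      ∃ σ : Equiv.Perm (Fin 8), v 0 = t 0 ∧ ∀ i : Fin 8, v (σ i).succ = t i.succ := by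
  obtain ⟨hq, hk⟩ := hv
  obtain ⟨a, ha⟩ : ∃ a, v 0 = a := ⟨_, rfl⟩
  let b : Fin 8 → ℤ := fun i => v i.succ
  have hQ0 : ∑ j, b j ^ 2 = a ^ 2 := by
    unfold form at hq
    rw [ha] at hq
    have : ∑ j, b j ^ 2 = ∑ i : Fin 8, v i.succ * v i.succ :=
      Finset.sum_congr rfl fun j _ => by simp only [b]; ring
    rw [this]
    linarith
  have hS0 : ∑ j, b j = 3 * a - 2 := by
    unfold form at hk
    rw [ha] at hk
    have : ∑ i : Fin 8, canon 8 i.succ * v i.succ = - ∑ j, b j := by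
      rw [← Finset.sum_neg_distrib]
      exact Finset.sum_congr rfl fun j _ => by simp [canon, b]
    rw [this] at hk
    simp [canon] at hk
    linarith
  have hCS : (∑ j, b j) ^ 2 ≤ 8 * ∑ j, b j ^ 2 := by
    have := sq_sum_le_card_mul_sum_sq (s := (Finset.univ : Finset (Fin 8))) (f := b)
    simpa using this
  rw [hQ0, hS0] at hCS
  have ha1 : 1 ≤ a := by nlinarith
  have ha11 : a ≤ 11 := by nlinarith
  -- sort
  let τ : Equiv.Perm (Fin 8) := Fin.revPerm.trans (Tuple.sort b)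
  let w : Fin 8 → ℤ := fun i => b (τ i)
  have hw : Antitone w := by
    intro i j hij
    have := Tuple.monotone_sort b (Fin.rev_le_rev.2 hij)
    exact this
  have hS : ∑ j, w j = 3 * a - 2 := by
    rw [← hS0]
    exact Equiv.sum_comp τ b
  have hQ : ∑ j, w j ^ 2 = a ^ 2 := by
    rw [← hQ0]
    exact Equiv.sum_comp τ (fun j => b j ^ 2)
  have hwv : ∀ i, v (τ i).succ = w i := fun i => rfl
  interval_cases a
  · obtain ⟨k1, k2, k3, k4, h43, h32, h21, h18, hpt, hs, hq'⟩ :=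
      case_solve w hw 1 0 hS hQ (by norm_num)
    norm_num at hs hq'
    have hks : (k1 = 8 ∧ k2 = 8 ∧ k3 = 1 ∧ k4 = 0) := by
      first
        | omega
        | (interval_cases k1 <;> interval_cases k2 <;> omega)
    rcases hks with ⟨rfl, rfl, rfl, rfl⟩
    · refine ⟨![1, 1, 0, 0, 0, 0, 0, 0, 0], by simp, τ, ha, fun i => ?_⟩
      rw [hwv i, hpt i]
      fin_cases i <;> simp [ind]
  · obtain ⟨k1, k2, k3, k4, h43, h32, h21, h18, hpt, hs, hq'⟩ :=
      case_solve w hw 2 0 hS hQ (by norm_num)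
    norm_num at hs hq'
    have hks : (k1 = 8 ∧ k2 = 8 ∧ k3 = 4 ∧ k4 = 0) := by
      first
        | omega
        | (interval_cases k1 <;> interval_cases k2 <;> omega)
    rcases hks with ⟨rfl, rfl, rfl, rfl⟩
    · refine ⟨![2, 1, 1, 1, 1, 0, 0, 0, 0], by simp, τ, ha, fun i => ?_⟩
      rw [hwv i, hpt i]
      fin_cases i <;> simp [ind]
  · obtain ⟨k1, k2, k3, k4, h43, h32, h21, h18, hpt, hs, hq'⟩ :=
      case_solve w hw 3 1 hS hQ (by norm_num)
    norm_num at hs hq'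
    have hks : (k1 = 8 ∧ k2 = 6 ∧ k3 = 1 ∧ k4 = 0) := by
      first
        | omega
        | (interval_cases k1 <;> interval_cases k2 <;> omega)
    rcases hks with ⟨rfl, rfl, rfl, rfl⟩
    · refine ⟨![3, 2, 1, 1, 1, 1, 1, 0, 0], by simp, τ, ha, fun i => ?_⟩
      rw [hwv i, hpt i]
      fin_cases i <;> simp [ind]
  · obtain ⟨k1, k2, k3, k4, h43, h32, h21, h18, hpt, hs, hq'⟩ :=
      case_solve w hw 4 1 hS hQ (by norm_num)
    norm_num at hs hq'
    have hks : (k1 = 8 ∧ k2 = 7 ∧ k3 = 3 ∧ k4 = 0) ∨ (k1 = 8 ∧ k2 = 8 ∧ k3 = 1 ∧ k4 = 1) := by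
      first
        | omega
        | (interval_cases k1 <;> interval_cases k2 <;> omega)
    rcases hks with ⟨rfl, rfl, rfl, rfl⟩ | ⟨rfl, rfl, rfl, rfl⟩
    · refine ⟨![4, 2, 2, 2, 1, 1, 1, 1, 0], by simp, τ, ha, fun i => ?_⟩
      rw [hwv i, hpt i]
      fin_cases i <;> simp [ind]
    · refine ⟨![4, 3, 1, 1, 1, 1, 1, 1, 1], by simp, τ, ha, fun i => ?_⟩
      rw [hwv i, hpt i]
      fin_cases i <;> simp [ind]
  · obtain ⟨k1, k2, k3, k4, h43, h32, h21, h18, hpt, hs, hq'⟩ :=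
      case_solve w hw 5 2 hS hQ (by norm_num)
    norm_num at hs hq'
    have hks : (k1 = 7 ∧ k2 = 6 ∧ k3 = 0 ∧ k4 = 0) ∨ (k1 = 8 ∧ k2 = 4 ∧ k3 = 1 ∧ k4 = 0) := by
      first
        | omega
        | (interval_cases k1 <;> interval_cases k2 <;> omega)
    rcases hks with ⟨rfl, rfl, rfl, rfl⟩ | ⟨rfl, rfl, rfl, rfl⟩
    · refine ⟨![5, 2, 2, 2, 2, 2, 2, 1, 0], by simp, τ, ha, fun i => ?_⟩
      rw [hwv i, hpt i]
      fin_cases i <;> simp [ind]
    · refine ⟨![5, 3, 2, 2, 2, 1, 1, 1, 1], by simp, τ, ha, fun i => ?_⟩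
      rw [hwv i, hpt i]
      fin_cases i <;> simp [ind]
  · obtain ⟨k1, k2, k3, k4, h43, h32, h21, h18, hpt, hs, hq'⟩ :=
      case_solve w hw 6 2 hS hQ (by norm_num)
    norm_num at hs hq'
    have hks : (k1 = 8 ∧ k2 = 6 ∧ k3 = 2 ∧ k4 = 0) := by
      first
        | omega
        | (interval_cases k1 <;> interval_cases k2 <;> omega)
    rcases hks with ⟨rfl, rfl, rfl, rfl⟩
    · refine ⟨![6, 3, 3, 2, 2, 2, 2, 1, 1], by simp, τ, ha, fun i => ?_⟩
      rw [hwv i, hpt i]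
      fin_cases i <;> simp [ind]
  · obtain ⟨k1, k2, k3, k4, h43, h32, h21, h18, hpt, hs, hq'⟩ :=
      case_solve w hw 7 2 hS hQ (by norm_num)
    norm_num at hs hq'
    have hks : (k1 = 8 ∧ k2 = 7 ∧ k3 = 4 ∧ k4 = 0) ∨ (k1 = 8 ∧ k2 = 8 ∧ k3 = 2 ∧ k4 = 1) := by
      first
        | omega
        | (interval_cases k1 <;> interval_cases k2 <;> omega)
    rcases hks with ⟨rfl, rfl, rfl, rfl⟩ | ⟨rfl, rfl, rfl, rfl⟩
    · refine ⟨![7, 3, 3, 3, 3, 2, 2, 2, 1], by simp, τ, ha, fun i => ?_⟩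
      rw [hwv i, hpt i]
      fin_cases i <;> simp [ind]
    · refine ⟨![7, 4, 3, 2, 2, 2, 2, 2, 2], by simp, τ, ha, fun i => ?_⟩
      rw [hwv i, hpt i]
      fin_cases i <;> simp [ind]
  · obtain ⟨k1, k2, k3, k4, h43, h32, h21, h18, hpt, hs, hq'⟩ :=
      case_solve w hw 8 3 hS hQ (by norm_num)
    norm_num at hs hq'
    have hks : (k1 = 7 ∧ k2 = 7 ∧ k3 = 0 ∧ k4 = 0) ∨ (k1 = 8 ∧ k2 = 5 ∧ k3 = 1 ∧ k4 = 0) := by
      first
        | omega
        | (interval_cases k1 <;> interval_cases k2 <;> omega)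
    rcases hks with ⟨rfl, rfl, rfl, rfl⟩ | ⟨rfl, rfl, rfl, rfl⟩
    · refine ⟨![8, 3, 3, 3, 3, 3, 3, 3, 1], by simp, τ, ha, fun i => ?_⟩
      rw [hwv i, hpt i]
      fin_cases i <;> simp [ind]
    · refine ⟨![8, 4, 3, 3, 3, 3, 2, 2, 2], by simp, τ, ha, fun i => ?_⟩
      rw [hwv i, hpt i]
      fin_cases i <;> simp [ind]
  · obtain ⟨k1, k2, k3, k4, h43, h32, h21, h18, hpt, hs, hq'⟩ :=
      case_solve w hw 9 3 hS hQ (by norm_num)
    norm_num at hs hq'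
    have hks : (k1 = 8 ∧ k2 = 7 ∧ k3 = 2 ∧ k4 = 0) := by
      first
        | omega
        | (interval_cases k1 <;> interval_cases k2 <;> omega)
    rcases hks with ⟨rfl, rfl, rfl, rfl⟩
    · refine ⟨![9, 4, 4, 3, 3, 3, 3, 3, 2], by simp, τ, ha, fun i => ?_⟩
      rw [hwv i, hpt i]
      fin_cases i <;> simp [ind]
  · obtain ⟨k1, k2, k3, k4, h43, h32, h21, h18, hpt, hs, hq'⟩ :=
      case_solve w hw 10 3 hS hQ (by norm_num)
    norm_num at hs hq'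
    have hks : (k1 = 8 ∧ k2 = 8 ∧ k3 = 4 ∧ k4 = 0) := by
      first
        | omega
        | (interval_cases k1 <;> interval_cases k2 <;> omega)
    rcases hks with ⟨rfl, rfl, rfl, rfl⟩
    · refine ⟨![10, 4, 4, 4, 4, 3, 3, 3, 3], by simp, τ, ha, fun i => ?_⟩
      rw [hwv i, hpt i]
      fin_cases i <;> simp [ind]
  · obtain ⟨k1, k2, k3, k4, h43, h32, h21, h18, hpt, hs, hq'⟩ :=
      case_solve w hw 11 4 hS hQ (by norm_num)
    norm_num at hs hq'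
    have hks : (k1 = 8 ∧ k2 = 7 ∧ k3 = 0 ∧ k4 = 0) := by
      first
        | omega
        | (interval_cases k1 <;> interval_cases k2 <;> omega)
    rcases hks with ⟨rfl, rfl, rfl, rfl⟩
    · refine ⟨![11, 4, 4, 4, 4, 4, 4, 4, 3], by simp, τ, ha, fun i => ?_⟩
      rw [hwv i, hpt i]
      fin_cases i <;> simp [ind]

end Groth.Agent.H79
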