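import Mathlib
import Groth.Prelude.Def_Cyc
import Groth.Agent.H48.CycFib
import Groth.Agent.H17.DimIneq
import Groth.Agent.H99.FieldDim
import Groth.Agent.H17.Chev.CompDim
import Groth.Agent.H79.CycComp

/-!
# Flat morphisms of irreducible schemes with dimension functions have a relative dimension
(helper79)
-/

set_option autoImplicit false
universe u
open CategoryTheory AlgebraicGeometry TopologicalSpace Opposite

namespace Groth.Agent.H79.CycIrr

open Groth.Agent.H48.DimFunSch Groth.Agent.H48.CycFib

/-- On an irreducible locally Noetherian scheme with a dimension function, the dimension of the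
local ring at `x` is the drop of the dimension function from the generic point to `x`. -/
theorem ringKrullDim_stalk_eq_delta (X : Scheme.{u}) [IsLocallyNoetherian X] [IrreducibleSpace X]
    (δ : X → ℤ) (hδ : Cyc.IsDimFun X δ) (x : X) :
    ringKrullDim (X.presheaf.stalk x) =
      (((δ (genericPoint X) - δ x).toNat : ℕ∞) : WithBot ℕ∞) := by
  obtain ⟨U, hU, hxU, -⟩ := exists_isAffineOpen_mem_and_subset (x := x) (U := ⊤) trivial
  have hξx : genericPoint X ⤳ x := genericPoint_specializes x
  have hξU : genericPoint X ∈ U := hξx.mem_open U.2 hxU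
  set a : PrimeSpectrum Γ(X, U) := hU.primeIdealOf ⟨genericPoint X, hξU⟩ with ha
  set b : PrimeSpectrum Γ(X, U) := hU.primeIdealOf ⟨x, hxU⟩ with hb
  have hfa : hU.fromSpec a = genericPoint X := hU.fromSpec_primeIdealOf ⟨genericPoint X, hξU⟩
  have hfb : hU.fromSpec b = x := hU.fromSpec_primeIdealOf ⟨x, hxU⟩
  have hale : ∀ c : PrimeSpectrum Γ(X, U), a ≤ c := by
    intro c
    rw [← fromSpec_specializes_iff hU, hfa]
    exact genericPoint_specializes _
  have hab : a ≤ b := hale b
  have hnil : a.asIdeal ≤ nilradical Γ(X, U) := by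
    rw [nilradical_eq_sInf]
    exact le_sInf (fun J hJ => hale ⟨J, hJ⟩)
  let _ := X.presheaf.algebra_section_stalk ⟨x, hxU⟩
  have : IsLocalization.AtPrime (X.presheaf.stalk x) b.asIdeal :=
    hU.isLocalization_stalk ⟨x, hxU⟩
  have hprime : (b.asIdeal.map (Ideal.Quotient.mk a.asIdeal)).IsPrime :=
    Ideal.map_isPrime_of_surjective Ideal.Quotient.mk_surjective (by rwa [Ideal.mk_ker])
  have h1 : b.asIdeal.height = (b.asIdeal.map (Ideal.Quotient.mk a.asIdeal)).height :=
    le_antisymm
      (Groth.Agent.H17.DimIneq.height_le_height_map_mk_of_le_nilradical a.asIdeal hnil b.asIdeal hab)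
      (Groth.Agent.H17.DimIneq.height_map_mk_le a.asIdeal b.asIdeal hab)
  rw [IsLocalization.AtPrime.ringKrullDim_eq_height b.asIdeal (X.presheaf.stalk x), h1,
    height_map_mk_eq hU δ hδ a b hab, hfa, hfb]

section Flat

variable {X Y : Scheme.{u}} (f : X ⟶ Y) [Flat f] [LocallyOfFiniteType f]
  [IrreducibleSpace X] [IrreducibleSpace Y] (δX : X → ℤ) (δY : Y → ℤ)

omit [LocallyOfFiniteType f] in
/-- A flat morphism of irreducible schemes maps the generic point to the generic point. -/
theorem map_genericPoint : f (genericPoint X) = genericPoint Y := by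
  obtain ⟨x', hx', hfx'⟩ := Flat.generalizingMap f (genericPoint_specializes (f (genericPoint X)))
  have : x' = genericPoint X := (hx'.antisymm (genericPoint_specializes x')).eq
  rw [← hfx', this]

variable (hY : Cyc.IsSetup Y δY) (hδ : Cyc.DeltaCompat f δX δY)

include hY hδ in
/-- At a point without proper generization in its fibre the jump of the dimension functions is the
generic one. -/
theorem delta_sub_eq_of_fibre_generic (x : X) (hmax : ∀ x' : X, x' ⤳ x → f x' = f x → x' = x) :
    δX x - δY (f x) = δX (genericPoint X) - δY (genericPoint Y) := by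
  have hδX := isDimFun_of_deltaCompat f δY hY δX hδ
  obtain ⟨hN, -, hδY⟩ := hY
  have hNX : IsLocallyNoetherian X := LocallyOfFiniteType.isLocallyNoetherian f
  have h1 := Groth.Agent.H99.FieldDim.ringKrullDim_stalk_eq_of_flat_of_fibre_generic f x hmax
  rw [ringKrullDim_stalk_eq_delta X δX hδX x, ringKrullDim_stalk_eq_delta Y δY hδY (f x)] at h1
  have h2 : (δX (genericPoint X) - δX x).toNat = (δY (genericPoint Y) - δY (f x)).toNat := by
    have h3 : (((δX (genericPoint X) - δX x).toNat : ℕ∞)) =
        ((δY (genericPoint Y) - δY (f x)).toNat : ℕ∞) := by exact_mod_cast h1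
    exact_mod_cast h3
  have h4 : δX x ≤ δX (genericPoint X) := by
    rcases eq_or_ne (genericPoint X) x with h' | h'
    · rw [← h']
    · exact (hδX _ _ (genericPoint_specializes x) h').1.le
  have h5 : δY (f x) ≤ δY (genericPoint Y) := by
    rcases eq_or_ne (genericPoint Y) (f x) with h' | h'
    · rw [← h']
    · exact (hδY _ _ (genericPoint_specializes (f x)) h').1.le
  omega

end Flat

end Groth.Agent.H79.CycIrr
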