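import Mathlib
import Groth.Agent.H72.FlatCM

/-!
# Dimension of quotients along a flat local homomorphism (helper79)

`A → B` flat local homomorphism of Noetherian local rings, `I` a proper ideal of `A`:
`dim B/IB = dim A/I + dim B/𝔪_A B`.
-/

set_option autoImplicit false
universe u
open IsLocalRing

namespace Groth.Agent.H79.DiagDim

variable {A B : Type u} [CommRing A] [CommRing B] [Algebra A B]
  [IsNoetherianRing A] [IsLocalRing A] [IsNoetherianRing B] [IsLocalRing B]
  [IsLocalHom (algebraMap A B)]

omit [IsNoetherianRing A] [IsNoetherianRing B] in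
theorem map_le_maximalIdeal (I : Ideal A) (hI : I ≠ ⊤) :
    I.map (algebraMap A B) ≤ maximalIdeal B := by
  rw [Ideal.map_le_iff_le_comap]
  intro a ha
  rw [Ideal.mem_comap, mem_maximalIdeal, mem_nonunits_iff]
  intro hu
  have := (isUnit_map_iff (algebraMap A B) a).mp hu
  exact (mem_maximalIdeal a).mp (le_maximalIdeal hI ha) this

omit [IsNoetherianRing A] [IsNoetherianRing B] in
theorem map_ne_top (I : Ideal A) (hI : I ≠ ⊤) : I.map (algebraMap A B) ≠ ⊤ := by
  intro h
  have := map_le_maximalIdeal (B := B) I hI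
  rw [h] at this
  exact (maximalIdeal.isMaximal B).ne_top (top_le_iff.mp this)

omit [IsNoetherianRing A] [IsNoetherianRing B] in
/-- a quotient of a local ring by a proper ideal is local -/
theorem isLocalRing_quot {R : Type u} [CommRing R] [IsLocalRing R] (I : Ideal R) (hI : I ≠ ⊤) :
    IsLocalRing (R ⧸ I) := by
  have : Nontrivial (R ⧸ I) := Ideal.Quotient.nontrivial_iff.mpr hI
  exact .of_surjective' _ Ideal.Quotient.mk_surjective

/-- **dimension of a quotient along a flat local homomorphism** -/
theorem ringKrullDim_quot_of_flat [Module.Flat A B] (I : Ideal A) (hI : I ≠ ⊤) :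
    ringKrullDim (B ⧸ I.map (algebraMap A B)) =
      ringKrullDim (A ⧸ I) + ringKrullDim (B ⧸ (maximalIdeal A).map (algebraMap A B)) := by
  have hIB := map_ne_top (B := B) I hI
  have hlA : IsLocalRing (A ⧸ I) := isLocalRing_quot I hI
  have hlB : IsLocalRing (B ⧸ I.map (algebraMap A B)) := isLocalRing_quot _ hIB
  have hflat : Module.Flat (A ⧸ I) (B ⧸ I.map (algebraMap A B)) :=
    Module.Flat.of_linearEquiv
      (Algebra.TensorProduct.quotIdealMapEquivQuotTensor B I).toLinearEquiv
  have hloc : IsLocalHom (algebraMap (A ⧸ I) (B ⧸ I.map (algebraMap A B))) := by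
    refine ⟨fun x hx => ?_⟩
    obtain ⟨a, rfl⟩ := Ideal.Quotient.mk_surjective x
    have h1 : algebraMap (A ⧸ I) (B ⧸ I.map (algebraMap A B)) (Ideal.Quotient.mk I a) =
        Ideal.Quotient.mk _ (algebraMap A B a) := rfl
    rw [h1] at hx
    have h2 : IsUnit (algebraMap A B a) := by
      by_contra hnu
      have hm : algebraMap A B a ∈ maximalIdeal B := (mem_maximalIdeal _).mpr hnu
      have : IsLocalHom (Ideal.Quotient.mk (I.map (algebraMap A B))) :=
        .of_surjective _ Ideal.Quotient.mk_surjective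
      exact hnu ((isUnit_map_iff (Ideal.Quotient.mk (I.map (algebraMap A B))) _).mp hx)
    exact ((isUnit_map_iff (algebraMap A B) a).mp h2).map _
  have key := Groth.Agent.H72.FlatCM.ringKrullDim_eq_add_of_flat (A := A ⧸ I)
    (B := B ⧸ I.map (algebraMap A B))
  rw [key]
  congr 1
  -- the closed fibres agree
  have hmA : maximalIdeal (A ⧸ I) = (maximalIdeal A).map (Ideal.Quotient.mk I) :=
    (Groth.Agent.H72.FlatCM.map_mk_maximalIdeal I hI).symm
  have hcomm : (algebraMap (A ⧸ I) (B ⧸ I.map (algebraMap A B))).comp (Ideal.Quotient.mk I) =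
      (Ideal.Quotient.mk (I.map (algebraMap A B))).comp (algebraMap A B) := rfl
  have hmap : (maximalIdeal (A ⧸ I)).map (algebraMap (A ⧸ I) (B ⧸ I.map (algebraMap A B))) =
      ((maximalIdeal A).map (algebraMap A B)).map (Ideal.Quotient.mk (I.map (algebraMap A B))) := by
    rw [hmA, Ideal.map_map, hcomm, ← Ideal.map_map]
  rw [hmap]
  have e := DoubleQuot.quotQuotEquivQuotSup (I.map (algebraMap A B))
    ((maximalIdeal A).map (algebraMap A B))
  rw [ringKrullDim_eq_of_ringEquiv e]
  have hsup : I.map (algebraMap A B) ⊔ (maximalIdeal A).map (algebraMap A B) =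
      (maximalIdeal A).map (algebraMap A B) :=
    sup_eq_right.mpr (Ideal.map_mono (le_maximalIdeal hI))
  rw [hsup]

/-- the flat dimension formula with the closed fibre eliminated -/
theorem dim_aux [Module.Flat A B] (I : Ideal A) (hI : I ≠ ⊤) :
    ringKrullDim (B ⧸ I.map (algebraMap A B)) + ringKrullDim A =
      ringKrullDim (A ⧸ I) + ringKrullDim B := by
  rw [ringKrullDim_quot_of_flat (B := B) I hI,
    Groth.Agent.H72.FlatCM.ringKrullDim_eq_add_of_flat (A := A) (B := B)]
  rw [add_assoc]
  congr 1
  exact add_comm _ _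

end Groth.Agent.H79.DiagDim
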