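import Groth.Agent.H79.DiagTor
import Groth.Agent.H79.DiagDim
import Groth.Agent.H18.TorBalance

/-!
# Abstract reduction to the diagonal (helper79)

`A`, `C` Noetherian local rings, two ring maps `A → C` and a common retraction `μ : C → A` whose
kernel `𝔡` is generated by a regular sequence; flatness of `C` over `A` (first map) and of
`C ⧸ J C` (first map) over `A` (second map). Then
`length_A Tor_n^A(A/J, A/I) = length_C Tor_n^C(C/(J C + I C), C/𝔡)` and the Tor Euler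
characteristic `χ^A(A/J, A/I)` is positive when `A/I`, `A/J` meet properly in finite length.
-/

set_option autoImplicit false
set_option linter.unusedSectionVars false
universe u
open CategoryTheory CategoryTheory.Limits MonoidalCategory TensorProduct IsLocalRing
attribute [local instance] HasDerivedCategory.standard

namespace Groth.Agent.H79.DiagAbs

open Groth.Agent.H9 Groth.Agent.H9.TorChangeRing Groth.Agent.H79.DiagTor

variable {A C : Type u} [CommRing A] [CommRing C]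

/-- Tor-independence of `C ⧸ J C` and `C ⧸ 𝔡` when `C` and `C ⧸ 𝔡` are flat over `A` -/
theorem isZero_tor_quot_map [Algebra A C] [Module.Flat A C] (𝔡 : Ideal C)
    [Module.Flat A (C ⧸ 𝔡)] (J : Ideal A) (q : ℕ) :
    IsZero (((Tor (ModuleCat.{u} C) (q + 1)).obj
      (ModuleCat.of C (C ⧸ J.map (algebraMap A C)))).obj (ModuleCat.of C (C ⧸ 𝔡))) := by
  have : Module.Flat A (ModuleCat.of A C) := inferInstanceAs (Module.Flat A C)
  have : Module.Flat A (ModuleCat.of A (C ⧸ 𝔡)) := inferInstanceAs (Module.Flat A (C ⧸ 𝔡))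
  have h := semiIso_tor (A := A) (A' := C) (C ⧸ 𝔡) (q + 1) (ModuleCat.of A (A ⧸ J))
    (fun q' => Groth.Agent.H18.isZero_tor_succ_of_flat_left (ModuleCat.of A C) _ q')
  have hz := ModuleCat.subsingleton_of_isZero
    (Groth.Agent.H18.isZero_tor_succ_of_flat_left (ModuleCat.of A (C ⧸ 𝔡))
      (ModuleCat.of A (A ⧸ J)) q)
  have hz' := isZero_of_semiIso h hz
  let e : ModuleCat.of C (C ⊗[A] (A ⧸ J)) ≅ ModuleCat.of C (C ⧸ J.map (algebraMap A C)) :=
    (Algebra.TensorProduct.quotIdealMapEquivTensorQuot C J).toLinearEquiv.symm.toModuleIso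
  have h3 : IsZero (((Tor (ModuleCat.{u} C) (q + 1)).obj (ModuleCat.of C (C ⧸ 𝔡))).obj
      (ModuleCat.of C (C ⧸ J.map (algebraMap A C)))) :=
    (ModuleCat.isZero_of_subsingleton _).of_iso
      (((Tor (ModuleCat.{u} C) (q + 1)).obj (ModuleCat.of C (C ⧸ 𝔡))).mapIso e.symm)
  exact isZero_tor_flip h3

section chain

variable [Algebra A C] (𝔞 𝔡 : Ideal C) (I : Ideal A)

/-- **the reduction-to-the-diagonal chain**: two changes of rings `A → C ⧸ 𝔞 ← C` -/
theorem length_tor_chain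
    (hA : ∀ q : ℕ, IsZero (((Tor (ModuleCat.{u} C) (q + 1)).obj
      (ModuleCat.of C (C ⧸ 𝔞))).obj (ModuleCat.of C (C ⧸ 𝔡))))
    [Module.Flat A (C ⧸ 𝔞)] (hsec : ∀ c : C, ∃ a : A, c - algebraMap A C a ∈ 𝔡) (n : ℕ) :
    Module.length A (((Tor (ModuleCat.{u} A) n).obj
        (ModuleCat.of A ((C ⧸ 𝔞) ⧸ 𝔡.map (algebraMap C (C ⧸ 𝔞))))).obj
        (ModuleCat.of A (A ⧸ I))) =
      Module.length C (((Tor (ModuleCat.{u} C) n).obj
        (ModuleCat.of C ((C ⧸ 𝔞) ⧸ I.map (algebraMap A (C ⧸ 𝔞))))).obj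
        (ModuleCat.of C (C ⧸ 𝔡))) := by
  have hfl : Module.Flat A (ModuleCat.of A (C ⧸ 𝔞)) := inferInstanceAs (Module.Flat A (C ⧸ 𝔞))
  -- step C: `A → C ⧸ 𝔞`
  have hQC : ∀ s : C ⧸ 𝔞, ∃ a : A,
      ∀ t : (C ⧸ 𝔞) ⧸ 𝔡.map (algebraMap C (C ⧸ 𝔞)), s • t = a • t := by
    intro s
    obtain ⟨c, rfl⟩ := Ideal.Quotient.mk_surjective s
    obtain ⟨a, ha⟩ := hsec c
    refine ⟨a, fun t => ?_⟩
    obtain ⟨t1, rfl⟩ := Ideal.Quotient.mk_surjective t
    obtain ⟨c', rfl⟩ := Ideal.Quotient.mk_surjective t1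
    have e1 : (Ideal.Quotient.mk 𝔞 c) • (Ideal.Quotient.mk (𝔡.map (algebraMap C (C ⧸ 𝔞)))
        (Ideal.Quotient.mk 𝔞 c')) =
        Ideal.Quotient.mk (𝔡.map (algebraMap C (C ⧸ 𝔞))) (Ideal.Quotient.mk 𝔞 (c * c')) := by
      rw [map_mul, map_mul]
      rfl
    have e2 : a • (Ideal.Quotient.mk (𝔡.map (algebraMap C (C ⧸ 𝔞)))
        (Ideal.Quotient.mk 𝔞 c')) =
        Ideal.Quotient.mk (𝔡.map (algebraMap C (C ⧸ 𝔞)))
          (Ideal.Quotient.mk 𝔞 (algebraMap A C a * c')) := by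
      have : a • (Ideal.Quotient.mk (𝔡.map (algebraMap C (C ⧸ 𝔞)))
          (Ideal.Quotient.mk 𝔞 c')) =
          Ideal.Quotient.mk (𝔡.map (algebraMap C (C ⧸ 𝔞))) (Ideal.Quotient.mk 𝔞 (a • c')) := rfl
      rw [this, Algebra.smul_def]
    rw [e1, e2, Ideal.Quotient.eq, ← map_sub, ← sub_mul]
    exact Ideal.mem_map_of_mem _ (𝔡.mul_mem_right _ ha)
  have hC := length_tor_changeRing (A := A) (A' := C ⧸ 𝔞)
    ((C ⧸ 𝔞) ⧸ 𝔡.map (algebraMap C (C ⧸ 𝔞))) (ModuleCat.of A (A ⧸ I))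
    (fun q => Groth.Agent.H18.isZero_tor_succ_of_flat_left (ModuleCat.of A (C ⧸ 𝔞)) _ q) hQC n
  -- step B: `C → C ⧸ 𝔞`
  have hQB : ∀ s : C ⧸ 𝔞, ∃ c : C,
      ∀ t : (C ⧸ 𝔞) ⧸ I.map (algebraMap A (C ⧸ 𝔞)), s • t = c • t := by
    intro s
    obtain ⟨c, rfl⟩ := Ideal.Quotient.mk_surjective s
    exact ⟨c, fun t => algebraMap_smul (C ⧸ 𝔞) c t⟩
  have hB := length_tor_changeRing (A := C) (A' := C ⧸ 𝔞)
    ((C ⧸ 𝔞) ⧸ I.map (algebraMap A (C ⧸ 𝔞))) (ModuleCat.of C (C ⧸ 𝔡)) hA hQB n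
  rw [hC, hB]
  let eC : bc (A' := C ⧸ 𝔞) (ModuleCat.of A (A ⧸ I)) ≅
      ModuleCat.of (C ⧸ 𝔞) ((C ⧸ 𝔞) ⧸ I.map (algebraMap A (C ⧸ 𝔞))) :=
    (Algebra.TensorProduct.quotIdealMapEquivTensorQuot (C ⧸ 𝔞) I).toLinearEquiv.symm.toModuleIso
  let eB : bc (A' := C ⧸ 𝔞) (ModuleCat.of C (C ⧸ 𝔡)) ≅
      ModuleCat.of (C ⧸ 𝔞) ((C ⧸ 𝔞) ⧸ 𝔡.map (algebraMap C (C ⧸ 𝔞))) :=
    (Algebra.TensorProduct.quotIdealMapEquivTensorQuot (C ⧸ 𝔞) 𝔡).toLinearEquiv.symm.toModuleIso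
  have i1 := (((Tor (ModuleCat.{u} (C ⧸ 𝔞)) n).obj
    (ModuleCat.of (C ⧸ 𝔞) ((C ⧸ 𝔞) ⧸ 𝔡.map (algebraMap C (C ⧸ 𝔞))))).mapIso
      eC).toLinearEquiv.length_eq
  have i2 := (((Tor (ModuleCat.{u} (C ⧸ 𝔞)) n).obj
    (ModuleCat.of (C ⧸ 𝔞) ((C ⧸ 𝔞) ⧸ I.map (algebraMap A (C ⧸ 𝔞))))).mapIso
      eB).toLinearEquiv.length_eq
  obtain ⟨fl⟩ := nonempty_tor_flip_iso
    (ModuleCat.of (C ⧸ 𝔞) ((C ⧸ 𝔞) ⧸ 𝔡.map (algebraMap C (C ⧸ 𝔞))))
    (ModuleCat.of (C ⧸ 𝔞) ((C ⧸ 𝔞) ⧸ I.map (algebraMap A (C ⧸ 𝔞)))) n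
  rw [i1, i2, fl.toLinearEquiv.length_eq]

end chain

section retraction

variable [Algebra A C] (μ : C →+* A) (h : μ.comp (algebraMap A C) = RingHom.id A)

include h in
theorem retr_apply (a : A) : μ (algebraMap A C a) = a := by
  have := congrArg (fun f => f a) h
  exact this

include h in
theorem retr_surjective : Function.Surjective μ := fun a => ⟨algebraMap A C a, retr_apply μ h a⟩

include h in
theorem retr_sub_mem (c : C) : c - algebraMap A C (μ c) ∈ RingHom.ker μ := by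
  rw [RingHom.mem_ker, map_sub, retr_apply μ h, sub_self]

include h in
/-- a ring map with a retraction to a local ring is local -/
theorem retr_isLocalHom : IsLocalHom (algebraMap A C) := by
  refine ⟨fun a ha => ?_⟩
  have := ha.map μ
  rwa [retr_apply μ h] at this

include h in
/-- `C ⧸ ker μ` is a free `A`-module of rank one -/
theorem retr_flat_quot : Module.Flat A (C ⧸ RingHom.ker μ) := by
  have hinj : Function.Injective (Algebra.linearMap A (C ⧸ RingHom.ker μ)) := by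
    rw [injective_iff_map_eq_zero]
    intro a ha
    have h1 : Ideal.Quotient.mk (RingHom.ker μ) (algebraMap A C a) = 0 := ha
    rw [Ideal.Quotient.eq_zero_iff_mem, RingHom.mem_ker, retr_apply μ h] at h1
    exact h1
  have hsurj : Function.Surjective (Algebra.linearMap A (C ⧸ RingHom.ker μ)) := by
    intro x
    obtain ⟨c, rfl⟩ := Ideal.Quotient.mk_surjective x
    refine ⟨μ c, ?_⟩
    change Ideal.Quotient.mk (RingHom.ker μ) (algebraMap A C (μ c)) = _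
    rw [eq_comm, Ideal.Quotient.eq]
    exact retr_sub_mem μ h c
  exact Module.Flat.of_linearEquiv
    (LinearEquiv.ofBijective (Algebra.linearMap A (C ⧸ RingHom.ker μ)) ⟨hinj, hsurj⟩).symm

include h in
/-- Tor-independence of `C ⧸ J C` and the "diagonal" `C ⧸ ker μ` -/
theorem isZero_tor_of_retraction [Module.Flat A C] (J : Ideal A) (q : ℕ) :
    IsZero (((Tor (ModuleCat.{u} C) (q + 1)).obj
      (ModuleCat.of C (C ⧸ J.map (algebraMap A C)))).obj
      (ModuleCat.of C (C ⧸ RingHom.ker μ))) := by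
  have := retr_flat_quot μ h
  exact isZero_tor_quot_map (RingHom.ker μ) J q

end retraction

section main

variable [Algebra A C] [IsNoetherianRing A] [IsLocalRing A] [IsNoetherianRing C] [IsLocalRing C]
  (φ1 : A →+* C) (μ : C →+* A) (h1 : μ.comp φ1 = RingHom.id A)
  (h2 : μ.comp (algebraMap A C) = RingHom.id A)

include h1 h2 in
/-- the `A`-module `(C ⧸ J C) ⧸ 𝔡` (second structure) is `A ⧸ J` -/
theorem nonempty_quot_equiv (J : Ideal A) :
    Nonempty ((A ⧸ J) ≃ₗ[A] ((C ⧸ J.map φ1) ⧸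
      (RingHom.ker μ).map (algebraMap C (C ⧸ J.map φ1)))) := by
  let f := Algebra.linearMap A ((C ⧸ J.map φ1) ⧸
      (RingHom.ker μ).map (algebraMap C (C ⧸ J.map φ1)))
  have hf : ∀ a : A, f a = Ideal.Quotient.mk _ (Ideal.Quotient.mk (J.map φ1)
      (algebraMap A C a)) := fun a => rfl
  have hsurj : Function.Surjective f := by
    intro x
    obtain ⟨x1, rfl⟩ := Ideal.Quotient.mk_surjective x
    obtain ⟨c, rfl⟩ := Ideal.Quotient.mk_surjective x1
    refine ⟨μ c, ?_⟩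
    rw [hf, eq_comm, Ideal.Quotient.eq, ← map_sub]
    exact Ideal.mem_map_of_mem _ (retr_sub_mem μ h2 c)
  have hker : J = LinearMap.ker f := by
    ext a
    rw [LinearMap.mem_ker, hf, Ideal.Quotient.eq_zero_iff_mem]
    change a ∈ J ↔ Ideal.Quotient.mk (J.map φ1) (algebraMap A C a) ∈
      (RingHom.ker μ).map (Ideal.Quotient.mk (J.map φ1))
    rw [Ideal.mem_quotient_iff_mem_sup]
    constructor
    · intro ha
      have e : algebraMap A C a = (algebraMap A C a - φ1 a) + φ1 a := by ring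
      rw [e]
      refine Ideal.add_mem _ (Ideal.mem_sup_left ?_)
        (Ideal.mem_sup_right (Ideal.mem_map_of_mem _ ha))
      rw [RingHom.mem_ker, map_sub, retr_apply μ h2]
      have : μ (φ1 a) = a := congrArg (fun g => g a) h1
      rw [this, sub_self]
    · intro ha
      obtain ⟨d, hd, y, hy, hdy⟩ := Submodule.mem_sup.mp ha
      have h3 : a = μ y := by
        have := congrArg μ hdy
        rw [map_add, retr_apply μ h2, (RingHom.mem_ker).mp hd, zero_add] at this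
        exact this.symm
      have h4 : μ y ∈ (J.map φ1).map μ := Ideal.mem_map_of_mem _ hy
      rw [Ideal.map_map, h1, Ideal.map_id] at h4
      rw [h3]
      exact h4
  exact ⟨(Submodule.quotEquivOfEq _ _ hker) ≪≫ₗ f.quotKerEquivOfSurjective hsurj⟩

/-- `(C ⧸ 𝔞) ⧸ I (C ⧸ 𝔞)` is `C ⧸ (𝔞 + I C)` -/
theorem nonempty_doubleQuot_equiv (𝔞 : Ideal C) (I : Ideal A) :
    Nonempty (((C ⧸ 𝔞) ⧸ I.map (algebraMap A (C ⧸ 𝔞))) ≃ₐ[C]
      (C ⧸ (𝔞 ⊔ I.map (algebraMap A C)))) := by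
  have hcc : I.map (algebraMap A (C ⧸ 𝔞)) =
      (I.map (algebraMap A C)).map (Ideal.Quotient.mkₐ C 𝔞) := by
    have : (algebraMap A (C ⧸ 𝔞)) = (Ideal.Quotient.mk 𝔞).comp (algebraMap A C) := rfl
    rw [this, ← Ideal.map_map]
    rfl
  exact ⟨(Ideal.quotientEquivAlgOfEq C hcc).trans
    (DoubleQuot.quotQuotEquivQuotSupₐ C 𝔞 (I.map (algebraMap A C)))⟩

theorem ne_top_of_hdim (I J : Ideal A)
    (hdim : ringKrullDim A ≤ ringKrullDim (A ⧸ I) + ringKrullDim (A ⧸ J)) :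
    I ≠ ⊤ ∧ J ≠ ⊤ := by
  have hA : ringKrullDim A ≠ ⊥ := ringKrullDim_ne_bot
  have h0 : ringKrullDim (A ⧸ (⊤ : Ideal A)) = ⊥ := by
    have : Subsingleton (A ⧸ (⊤ : Ideal A)) := Ideal.Quotient.subsingleton_iff.mpr rfl
    exact ringKrullDim_eq_bot_of_subsingleton
  constructor
  · rintro rfl
    rw [h0, WithBot.bot_add, le_bot_iff] at hdim
    exact hA hdim
  · rintro rfl
    rw [h0, WithBot.add_bot, le_bot_iff] at hdim
    exact hA hdim

include h1 h2 in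
/-- **reduction to the diagonal, lengths of Tor** -/
theorem length_tor_diag (hφ1 : φ1.Flat) (I J : Ideal A) (hfl : Module.Flat A (C ⧸ J.map φ1))
    (n : ℕ) :
    Module.length C (DRing.Tor C n (C ⧸ (J.map φ1 ⊔ I.map (algebraMap A C)))
        (C ⧸ RingHom.ker μ)) =
      Module.length A (DRing.Tor A n (A ⧸ J) (A ⧸ I)) := by
  have hA : ∀ q : ℕ, IsZero (((Tor (ModuleCat.{u} C) (q + 1)).obj
      (ModuleCat.of C (C ⧸ J.map φ1))).obj (ModuleCat.of C (C ⧸ RingHom.ker μ))) := fun q =>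
    @isZero_tor_of_retraction A C _ _ φ1.toAlgebra μ h1 hφ1 J q
  have hchain := length_tor_chain (J.map φ1) (RingHom.ker μ) I hA
    (fun c => ⟨μ c, retr_sub_mem μ h2 c⟩) n
  obtain ⟨e5⟩ := nonempty_quot_equiv φ1 μ h1 h2 J
  obtain ⟨e6⟩ := nonempty_doubleQuot_equiv (J.map φ1) I
  have i5 := (torMapIso e5.toModuleIso (ModuleCat.of A (A ⧸ I)) n).toLinearEquiv.length_eq
  have i6 := (torMapIso e6.toLinearEquiv.toModuleIso (ModuleCat.of C (C ⧸ RingHom.ker μ))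
    n).toLinearEquiv.length_eq
  exact i6.symm.trans (hchain.symm.trans i5.symm)

include h1 h2 in
/-- primes of `C` over `J C + I C + 𝔡` are maximal -/
theorem isMaximal_of_le (I J : Ideal A)
    (hmax : ∀ p : Ideal A, p.IsPrime → J ⊔ I ≤ p → p.IsMaximal) (P : Ideal C) (hP : P.IsPrime)
    (hle : (J.map φ1 ⊔ I.map (algebraMap A C)) ⊔ RingHom.ker μ ≤ P) : P.IsMaximal := by
  have hsurj := retr_surjective μ h2
  have hk : RingHom.ker μ ≤ P := le_trans le_sup_right hle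
  have hprime : (P.map μ).IsPrime := Ideal.map_isPrime_of_surjective hsurj hk
  have hcm : (P.map μ).comap μ = P := by
    rw [Ideal.comap_map_of_surjective μ hsurj]
    apply le_antisymm
    · exact sup_le le_rfl hk
    · exact le_sup_left
  have hJI : J ⊔ I ≤ P.map μ := by
    refine sup_le ?_ ?_
    · intro j hj
      have hj' : φ1 j ∈ P :=
        hle (Ideal.mem_sup_left (Ideal.mem_sup_left (Ideal.mem_map_of_mem _ hj)))
      have : μ (φ1 j) = j := congrArg (fun g => g j) h1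
      rw [← this]
      exact Ideal.mem_map_of_mem _ hj'
    · intro i hi
      have hi' : algebraMap A C i ∈ P :=
        hle (Ideal.mem_sup_left (Ideal.mem_sup_right (Ideal.mem_map_of_mem _ hi)))
      rw [← retr_apply μ h2 i]
      exact Ideal.mem_map_of_mem _ hi'
  have hm : (P.map μ).IsMaximal := hmax _ hprime hJI
  rw [← hcm]
  exact Ideal.comap_isMaximal_of_surjective μ hsurj

include h1 h2 in
/-- the dimension inequality upstairs -/
theorem dim_le_of_diag (hφ1 : φ1.Flat) (I J : Ideal A) (hfl : Module.Flat A (C ⧸ J.map φ1))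
    (hdim : ringKrullDim A ≤ ringKrullDim (A ⧸ I) + ringKrullDim (A ⧸ J)) :
    ringKrullDim C ≤ ringKrullDim (C ⧸ RingHom.ker μ) +
      ringKrullDim (C ⧸ (J.map φ1 ⊔ I.map (algebraMap A C))) := by
  obtain ⟨hI, hJ⟩ := ne_top_of_hdim I J hdim
  have hlocA1 : IsLocalRing (A ⧸ I) := Groth.Agent.H79.DiagDim.isLocalRing_quot I hI
  have hlocA2 : IsLocalRing (A ⧸ J) := Groth.Agent.H79.DiagDim.isLocalRing_quot J hJ
  -- first structure
  have hloc1 : IsLocalHom (@algebraMap A C _ _ φ1.toAlgebra) :=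
    @retr_isLocalHom A C _ _ φ1.toAlgebra μ h1
  have hd1 := @Groth.Agent.H79.DiagDim.dim_aux A C _ _ φ1.toAlgebra _ _ _ _ hloc1 hφ1 J hJ
  have h𝔞 : J.map φ1 ≠ ⊤ :=
    @Groth.Agent.H79.DiagDim.map_ne_top A C _ _ φ1.toAlgebra _ _ hloc1 J hJ
  have hlocC1 : IsLocalRing (C ⧸ J.map φ1) := Groth.Agent.H79.DiagDim.isLocalRing_quot _ h𝔞
  -- second structure, on `C ⧸ J C`
  have hloc2 : IsLocalHom (algebraMap A C) := retr_isLocalHom μ h2
  have hloc2' : IsLocalHom (algebraMap A (C ⧸ J.map φ1)) := by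
    refine ⟨fun a ha => ?_⟩
    have hmk : IsLocalHom (Ideal.Quotient.mk (J.map φ1)) :=
      .of_surjective _ Ideal.Quotient.mk_surjective
    have h3 : IsUnit (Ideal.Quotient.mk (J.map φ1) (algebraMap A C a)) := ha
    exact (isUnit_map_iff (algebraMap A C) a).mp
      ((isUnit_map_iff (Ideal.Quotient.mk (J.map φ1)) _).mp h3)
  have hd2 := Groth.Agent.H79.DiagDim.dim_aux (A := A) (B := C ⧸ J.map φ1) I hI
  have h𝔠 : I.map (algebraMap A (C ⧸ J.map φ1)) ≠ ⊤ :=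
    Groth.Agent.H79.DiagDim.map_ne_top (B := C ⧸ J.map φ1) I hI
  have hlocC2 : IsLocalRing ((C ⧸ J.map φ1) ⧸ I.map (algebraMap A (C ⧸ J.map φ1))) :=
    Groth.Agent.H79.DiagDim.isLocalRing_quot _ h𝔠
  -- identifications
  obtain ⟨e6⟩ := nonempty_doubleQuot_equiv (J.map φ1) I
  have hb := ringKrullDim_eq_of_ringEquiv e6.toRingEquiv
  have hd := ringKrullDim_eq_of_ringEquiv
    (RingHom.quotientKerEquivOfSurjective (retr_surjective μ h2))
  rw [hd, ← hb]
  -- naturals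
  obtain ⟨a, ha⟩ := Groth.Agent.H72.FlatCM.exists_ringKrullDim_eq_natCast A
  obtain ⟨aI, haI⟩ := Groth.Agent.H72.FlatCM.exists_ringKrullDim_eq_natCast (A ⧸ I)
  obtain ⟨aJ, haJ⟩ := Groth.Agent.H72.FlatCM.exists_ringKrullDim_eq_natCast (A ⧸ J)
  obtain ⟨c, hc⟩ := Groth.Agent.H72.FlatCM.exists_ringKrullDim_eq_natCast C
  obtain ⟨c1, hc1⟩ := Groth.Agent.H72.FlatCM.exists_ringKrullDim_eq_natCast (C ⧸ J.map φ1)
  obtain ⟨b, hb'⟩ := Groth.Agent.H72.FlatCM.exists_ringKrullDim_eq_natCast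
    ((C ⧸ J.map φ1) ⧸ I.map (algebraMap A (C ⧸ J.map φ1)))
  have hd1' : ringKrullDim (C ⧸ J.map φ1) + ringKrullDim A =
      ringKrullDim (A ⧸ J) + ringKrullDim C := hd1
  rw [hc1, ha, haJ, hc] at hd1'
  rw [hb', ha, haI, hc1] at hd2
  rw [ha, haI, haJ] at hdim
  rw [hc, ha, hb']
  have e1 : c1 + a = aJ + c := by exact_mod_cast hd1'
  have e2 : b + a = aI + c1 := by exact_mod_cast hd2
  have e3 : a ≤ aI + aJ := by exact_mod_cast hdim
  have e4 : c ≤ a + b := by omega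
  exact_mod_cast e4

include h1 h2 in
/-- **positivity of the Tor Euler characteristic by reduction to the diagonal** -/
theorem chi_pos_of_diag (hφ1 : φ1.Flat) (l : List C) (hl : Ideal.ofList l = RingHom.ker μ)
    (hreg : RingTheory.Sequence.IsRegular C l) (I J : Ideal A)
    (hfl : Module.Flat A (C ⧸ J.map φ1))
    (hmax : ∀ p : Ideal A, p.IsPrime → J ⊔ I ≤ p → p.IsMaximal)
    (hdim : ringKrullDim A ≤ ringKrullDim (A ⧸ I) + ringKrullDim (A ⧸ J)) :
    0 < IntMult.chi A (A ⧸ J) (A ⧸ I) := by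
  have hpos := Groth.Agent.H79.IntMultAlg.chi_pos l (RingHom.ker μ) hl hreg
    (J.map φ1 ⊔ I.map (algebraMap A C))
    (fun P hP hle => isMaximal_of_le φ1 μ h1 h2 I J hmax P hP hle)
    (dim_le_of_diag φ1 μ h1 h2 hφ1 I J hfl hdim)
  have heq : IntMult.chi C (C ⧸ (J.map φ1 ⊔ I.map (algebraMap A C))) (C ⧸ RingHom.ker μ) =
      IntMult.chi A (A ⧸ J) (A ⧸ I) := by
    unfold IntMult.chi
    apply finsum_congr
    intro n
    rw [length_tor_diag φ1 μ h1 h2 hφ1 I J hfl n]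
  rw [← heq]
  exact hpos

end main

end Groth.Agent.H79.DiagAbs
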