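import Groth.Agent.H79.DiagModel

/-!
# Bridges from the tensor model to an abstract ring `B ≃ R ⊗_K R` (helper79)

Pure algebra used to transport `DiagModel.length_tor_model` to sections of `X ×_K X`:
kernels of maps out of a ring identified with a tensor product, and the length formula for a
localization `C'` of such a ring `B`.
-/

set_option autoImplicit false
set_option linter.unusedSectionVars false
universe u
open TensorProduct IsLocalRing CategoryTheory
attribute [local instance] HasDerivedCategory.standard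

namespace Groth.Agent.H79.DiagBridge

open Groth.Agent.H79.DiagGeom Groth.Agent.H79.DiagModel

section kernels

variable {K : Type*} [CommRing K]

/-- a ring map out of `B ≃ R ⊗ R` restricting to the identity on both factors is the
multiplication; its kernel is the image of the diagonal ideal -/
theorem ker_eq_map_ker_lmul {R B : Type*} [CommRing R] [Algebra K R] [CommRing B]
    (θ : R ⊗[K] R ≃+* B) (d : B →+* R) (h1 : ∀ r, d (θ (r ⊗ₜ 1)) = r)
    (h2 : ∀ r, d (θ (1 ⊗ₜ r)) = r) :
    (∀ t, d (θ t) = Algebra.TensorProduct.lmul' K t) ∧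
    RingHom.ker d = (RingHom.ker (Algebra.TensorProduct.lmul' K (S := R)).toRingHom).map
      (θ : R ⊗[K] R →+* B) := by
  have hd : ∀ t, d (θ t) = Algebra.TensorProduct.lmul' K t := by
    intro t
    induction t using TensorProduct.induction_on with
    | zero => simp
    | tmul r s =>
      have e : r ⊗ₜ[K] s = (r ⊗ₜ[K] (1 : R)) * ((1 : R) ⊗ₜ[K] s) := by
        rw [Algebra.TensorProduct.tmul_mul_tmul, mul_one, one_mul]
      rw [e, map_mul, map_mul, h1, h2, map_mul]
      simp
    | add x y hx hy => rw [map_add, map_add, hx, hy, map_add]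
  refine ⟨hd, ?_⟩
  ext x
  rw [RingHom.mem_ker]
  constructor
  · intro hx
    have hx' : θ.symm x ∈ RingHom.ker (Algebra.TensorProduct.lmul' K (S := R)).toRingHom := by
      rw [RingHom.mem_ker]
      change Algebra.TensorProduct.lmul' K (θ.symm x) = 0
      rw [← hd, θ.apply_symm_apply, hx]
    have := Ideal.mem_map_of_mem (θ : R ⊗[K] R →+* B) hx'
    rwa [RingEquiv.coe_toRingHom, θ.apply_symm_apply] at this
  · intro hx
    have hle : (RingHom.ker (Algebra.TensorProduct.lmul' K (S := R)).toRingHom).map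
        (θ : R ⊗[K] R →+* B) ≤ RingHom.ker d := by
      rw [Ideal.map_le_iff_le_comap]
      intro t ht
      rw [Ideal.mem_comap, RingHom.mem_ker, RingEquiv.coe_toRingHom, hd]
      exact ht
    exact hle hx

/-- kernel of a ring map `B → B'` between rings identified with tensor products which is the
tensor product of two surjections -/
theorem ker_eq_map_sup {R₁ R₂ S₁ S₂ B B' : Type*} [CommRing R₁] [Algebra K R₁] [CommRing R₂]
    [Algebra K R₂] [CommRing S₁] [Algebra K S₁] [CommRing S₂] [Algebra K S₂] [CommRing B]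
    [CommRing B'] (ρ₁ : R₁ →ₐ[K] S₁) (ρ₂ : R₂ →ₐ[K] S₂) (hρ₁ : Function.Surjective ρ₁)
    (hρ₂ : Function.Surjective ρ₂) (θ : R₁ ⊗[K] R₂ ≃+* B) (θ' : S₁ ⊗[K] S₂ ≃+* B')
    (γ : B →+* B') (h1 : ∀ r, γ (θ (r ⊗ₜ 1)) = θ' (ρ₁ r ⊗ₜ 1))
    (h2 : ∀ r, γ (θ (1 ⊗ₜ r)) = θ' (1 ⊗ₜ ρ₂ r)) :
    RingHom.ker γ = ((RingHom.ker ρ₁.toRingHom).map
        (Algebra.TensorProduct.includeLeft : R₁ →ₐ[K] R₁ ⊗[K] R₂) ⊔
      (RingHom.ker ρ₂.toRingHom).map
        (Algebra.TensorProduct.includeRight : R₂ →ₐ[K] R₁ ⊗[K] R₂)).map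
      (θ : R₁ ⊗[K] R₂ →+* B) := by
  have hd : ∀ t, γ (θ t) = θ' (Algebra.TensorProduct.map ρ₁ ρ₂ t) := by
    intro t
    induction t using TensorProduct.induction_on with
    | zero => simp
    | tmul r s =>
      have e : r ⊗ₜ[K] s = (r ⊗ₜ[K] (1 : R₂)) * ((1 : R₁) ⊗ₜ[K] s) := by
        rw [Algebra.TensorProduct.tmul_mul_tmul, mul_one, one_mul]
      rw [e, map_mul, map_mul, h1, h2, map_mul, map_mul]
      simp
    | add x y hx hy => rw [map_add, map_add, hx, hy, map_add, map_add]
  have hk := Algebra.TensorProduct.map_ker ρ₁ ρ₂ hρ₁ hρ₂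
  have hk' : RingHom.ker (Algebra.TensorProduct.map ρ₁ ρ₂).toRingHom =
      (RingHom.ker ρ₁.toRingHom).map
        (Algebra.TensorProduct.includeLeft : R₁ →ₐ[K] R₁ ⊗[K] R₂) ⊔
      (RingHom.ker ρ₂.toRingHom).map
        (Algebra.TensorProduct.includeRight : R₂ →ₐ[K] R₁ ⊗[K] R₂) := hk
  rw [← hk']
  ext x
  rw [RingHom.mem_ker]
  constructor
  · intro hx
    have hx' : θ.symm x ∈ RingHom.ker (Algebra.TensorProduct.map ρ₁ ρ₂).toRingHom := by
      rw [RingHom.mem_ker]
      change Algebra.TensorProduct.map ρ₁ ρ₂ (θ.symm x) = 0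
      apply θ'.injective
      rw [← hd, θ.apply_symm_apply, hx, map_zero]
    have := Ideal.mem_map_of_mem (θ : R₁ ⊗[K] R₂ →+* B) hx'
    rwa [RingEquiv.coe_toRingHom, θ.apply_symm_apply] at this
  · intro hx
    have hle : (RingHom.ker (Algebra.TensorProduct.map ρ₁ ρ₂).toRingHom).map
        (θ : R₁ ⊗[K] R₂ →+* B) ≤ RingHom.ker γ := by
      rw [Ideal.map_le_iff_le_comap]
      intro t ht
      rw [Ideal.mem_comap, RingHom.mem_ker, RingEquiv.coe_toRingHom, hd]
      have : Algebra.TensorProduct.map ρ₁ ρ₂ t = 0 := ht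
      rw [this, map_zero]
    exact hle hx

end kernels

noncomputable section

variable (K : Type u) [Field K] (R : Type u) [CommRing R] [Algebra K R]
  (p : Ideal R) [p.IsPrime] (A : Type u) [CommRing A] [Algebra R A] [IsLocalization.AtPrime A p]
  [Algebra.Smooth K R] [IsRegularLocalRing A]

include p in
/-- **reduction to the diagonal**, for a localization `C'` of a ring `B ≃ R ⊗_K R` -/
theorem length_tor_bridge (B : Type u) [CommRing B] (θ : R ⊗[K] R ≃+* B) (qB : Ideal B)
    [qB.IsPrime] (hq : qB.comap (θ : R ⊗[K] R →+* B) = q K R p)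
    (C' : Type u) [CommRing C'] [Algebra B C'] [IsLocalization.AtPrime C' qB]
    (I₀ J₀ : Ideal R) (𝔡B 𝔞B : Ideal B)
    (h𝔡 : 𝔡B = (RingHom.ker (μB K R).toRingHom).map (θ : R ⊗[K] R →+* B))
    (h𝔞 : 𝔞B = (I₀.map (Algebra.TensorProduct.includeLeft (R := K) (S := K) (A := R) (B := R)) ⊔
      J₀.map (Algebra.TensorProduct.includeRight (R := K) (A := R) (B := R))).map
        (θ : R ⊗[K] R →+* B)) (n : ℕ) :
    Module.length C' (DRing.Tor C' n (C' ⧸ 𝔡B.map (algebraMap B C'))
      (C' ⧸ 𝔞B.map (algebraMap B C'))) =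
    Module.length A (DRing.Tor A n (A ⧸ J₀.map (algebraMap R A))
      (A ⧸ I₀.map (algebraMap R A))) := by
  subst h𝔡 h𝔞
  let _ : Algebra (R ⊗[K] R) C' := ((algebraMap B C').comp (θ : R ⊗[K] R →+* B)).toAlgebra
  have hM : (q K R p).primeCompl.map (θ : R ⊗[K] R ≃+* B) = qB.primeCompl := by
    ext b
    constructor
    · rintro ⟨a, ha, rfl⟩
      intro hb
      apply ha
      rw [← hq]
      exact hb
    · intro hb
      refine ⟨θ.symm b, ?_, θ.apply_symm_apply b⟩
      intro ha
      apply hb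
      rw [← hq] at ha
      have ha' : (θ : R ⊗[K] R →+* B) (θ.symm b) ∈ qB := ha
      rwa [RingEquiv.coe_toRingHom, θ.apply_symm_apply] at ha'
  have : IsLocalization.AtPrime C' (q K R p) :=
    IsLocalization.of_ringEquiv_left θ (M₁ := qB.primeCompl) (M₂ := (q K R p).primeCompl) hM
      (fun x => rfl)
  have h := length_tor_model K R p A C' I₀ J₀ n
  rw [Ideal.map_map, Ideal.map_map]
  exact h

end

end Groth.Agent.H79.DiagBridge
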