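import Groth.Agent.H79.DiagAbs
import Groth.Agent.H47.SmoothRegular
import Groth.Agent.H79.IntMultReg

/-!
# The diagonal model `(R ⊗_K R)_q` (helper79)

`K` a field, `R` a smooth `K`-algebra, `p` a prime of `R`, `A = R_p`. With `q` the preimage of `p`
under the multiplication `R ⊗_K R → R` and `C = (R ⊗_K R)_q`, the two coprojections induce
`A → C`, the multiplication induces a common retraction `C → A`, and the hypotheses of the
abstract reduction to the diagonal hold. Consequence: Serre's positivity for `A`.
-/

set_option autoImplicit false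
set_option linter.unusedSectionVars false
universe u
open TensorProduct IsLocalRing
attribute [local instance] HasDerivedCategory.standard

namespace Groth.Agent.H79.DiagGeom

noncomputable section

variable (K : Type u) [Field K] (R : Type u) [CommRing R] [Algebra K R]
  (p : Ideal R) [p.IsPrime] (A : Type u) [CommRing A] [Algebra R A] [IsLocalization.AtPrime A p]

/-- the multiplication map `R ⊗_K R → R` -/
abbrev μB : R ⊗[K] R →ₐ[K] R := Algebra.TensorProduct.lmul' K

/-- the preimage of `p` under the multiplication -/
def q : Ideal (R ⊗[K] R) := p.comap (μB K R)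

instance : (q K R p).IsPrime := Ideal.comap_isPrime _ _

/-- the local ring of the product at the diagonal point -/
abbrev C : Type u := Localization.AtPrime (q K R p)

theorem includeLeft_notMem (y : p.primeCompl) :
    (Algebra.TensorProduct.includeLeft (R := K) (S := K) (A := R) (B := R) (y : R)) ∈
      (q K R p).primeCompl := by
  change ¬ _ ∈ q K R p
  unfold q
  rw [Ideal.mem_comap]
  have h : μB K R (Algebra.TensorProduct.includeLeft (R := K) (S := K) (A := R) (B := R)
      (y : R)) = y := by simp
  rw [h]
  exact y.2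

theorem includeRight_notMem (y : p.primeCompl) :
    (Algebra.TensorProduct.includeRight (R := K) (A := R) (B := R) (y : R)) ∈
      (q K R p).primeCompl := by
  change ¬ _ ∈ q K R p
  unfold q
  rw [Ideal.mem_comap]
  have h : μB K R (Algebra.TensorProduct.includeRight (R := K) (A := R) (B := R)
      (y : R)) = y := by simp
  rw [h]
  exact y.2

/-- the map `A → C` induced by the left coprojection -/
def φL : A →+* C K R p :=
  IsLocalization.lift (M := p.primeCompl)
    (g := (algebraMap (R ⊗[K] R) (C K R p)).comp
      (Algebra.TensorProduct.includeLeft (R := K) (S := K) (A := R) (B := R)).toRingHom)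
    (fun y => IsLocalization.map_units (C K R p) ⟨_, includeLeft_notMem K R p y⟩)

/-- the map `A → C` induced by the right coprojection -/
def φR : A →+* C K R p :=
  IsLocalization.lift (M := p.primeCompl)
    (g := (algebraMap (R ⊗[K] R) (C K R p)).comp
      (Algebra.TensorProduct.includeRight (R := K) (A := R) (B := R)).toRingHom)
    (fun y => IsLocalization.map_units (C K R p) ⟨_, includeRight_notMem K R p y⟩)

/-- the retraction `C → A` induced by the multiplication -/
def μ : C K R p →+* A :=
  IsLocalization.lift (M := (q K R p).primeCompl)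
    (g := (algebraMap R A).comp (μB K R).toRingHom)
    (fun y => IsLocalization.map_units A (⟨μB K R y, y.2⟩ : p.primeCompl))

theorem φL_algebraMap (r : R) :
    φL K R p A (algebraMap R A r) = algebraMap (R ⊗[K] R) (C K R p) (r ⊗ₜ 1) :=
  IsLocalization.lift_eq _ r

theorem φR_algebraMap (r : R) :
    φR K R p A (algebraMap R A r) = algebraMap (R ⊗[K] R) (C K R p) (1 ⊗ₜ r) :=
  IsLocalization.lift_eq _ r

theorem μ_algebraMap (b : R ⊗[K] R) :
    μ K R p A (algebraMap (R ⊗[K] R) (C K R p) b) = algebraMap R A (μB K R b) :=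
  IsLocalization.lift_eq _ b

theorem μ_comp_φL : (μ K R p A).comp (φL K R p A) = RingHom.id A := by
  apply IsLocalization.ringHom_ext p.primeCompl
  ext r
  simp only [RingHom.coe_comp, Function.comp_apply, RingHom.id_apply]
  rw [φL_algebraMap, μ_algebraMap]
  simp

theorem μ_comp_φR : (μ K R p A).comp (φR K R p A) = RingHom.id A := by
  apply IsLocalization.ringHom_ext p.primeCompl
  ext r
  simp only [RingHom.coe_comp, Function.comp_apply, RingHom.id_apply]
  rw [φR_algebraMap, μ_algebraMap]
  simp

omit [Field K] [Algebra K R] [p.IsPrime] [IsLocalization.AtPrime A p] in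
/-- a ring map out of a localization is flat when its restriction is -/
theorem flat_of_comp (M : Submonoid R) [IsLocalization M A] {D : Type u} [CommRing D]
    (ψ : A →+* D) (h : (ψ.comp (algebraMap R A)).Flat) : ψ.Flat := by
  let _ := ψ.toAlgebra
  let _ : Algebra R D := (ψ.comp (algebraMap R A)).toAlgebra
  have : IsScalarTower R A D := IsScalarTower.of_algebraMap_eq (fun r => rfl)
  have h' : Module.Flat R D := h
  exact (Module.flat_iff_of_isLocalization A M D).mpr h'

theorem φR_comp : (φR K R p A).comp (algebraMap R A) =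
    (algebraMap (R ⊗[K] R) (C K R p)).comp
      (Algebra.TensorProduct.includeRight (R := K) (A := R) (B := R)).toRingHom :=
  IsLocalization.lift_comp _

theorem φL_comp : (φL K R p A).comp (algebraMap R A) =
    (algebraMap (R ⊗[K] R) (C K R p)).comp
      (Algebra.TensorProduct.includeLeft (R := K) (S := K) (A := R) (B := R)).toRingHom :=
  IsLocalization.lift_comp _

theorem includeRight_flat :
    (Algebra.TensorProduct.includeRight (R := K) (A := R) (B := R)).toRingHom.Flat := by
  have h1 : (Algebra.TensorProduct.includeRight (R := K) (A := R) (B := R)).toRingHom =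
      (Algebra.TensorProduct.comm K R R).toAlgHom.toRingHom.comp
        (algebraMap R (R ⊗[K] R)) := by
    ext r
    simp [Algebra.TensorProduct.algebraMap_apply]
  rw [h1]
  refine RingHom.Flat.comp (RingHom.flat_algebraMap_iff.mpr inferInstance) ?_
  exact RingHom.Flat.of_bijective (Algebra.TensorProduct.comm K R R).bijective

theorem φR_flat : (φR K R p A).Flat := by
  apply flat_of_comp R A p.primeCompl
  rw [φR_comp]
  exact RingHom.Flat.comp (includeRight_flat K R)
    (RingHom.flat_algebraMap_iff.mpr inferInstance)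

/-- the ideal `R ⊗ J₀` of `R ⊗_K R` -/
abbrev jB (J₀ : Ideal R) : Ideal (R ⊗[K] R) :=
  J₀.map (Algebra.TensorProduct.includeRight (R := K) (A := R) (B := R))

/-- the extension of `R ⊗ J₀` to `C` -/
abbrev jC (J₀ : Ideal R) : Ideal (C K R p) :=
  (jB K R J₀).map (algebraMap (R ⊗[K] R) (C K R p))

theorem flat_quot_aux (J₀ : Ideal R) :
    letI : Algebra A (C K R p) := (φL K R p A).toAlgebra
    Module.Flat A (C K R p ⧸ jC K R p J₀) := by
  let _ : Algebra A (C K R p) := (φL K R p A).toAlgebra
  -- `B ⧸ 𝔧` is flat over `R` (left structure)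
  have hS : Module.Flat R ((R ⊗[K] R) ⧸ jB K R J₀) :=
    Module.Flat.of_linearEquiv
      (Algebra.TensorProduct.tensorQuotientEquiv (R := K) R R R J₀).symm.toLinearEquiv
  -- `C ⧸ 𝔧 C` is flat over `B ⧸ 𝔧`
  have hM : Module.Flat ((R ⊗[K] R) ⧸ jB K R J₀) (C K R p ⧸ jC K R p J₀) :=
    Module.Flat.of_linearEquiv
      (Algebra.TensorProduct.quotIdealMapEquivQuotTensor (C K R p) (jB K R J₀)).toLinearEquiv
  have tower1 : IsScalarTower R ((R ⊗[K] R) ⧸ jB K R J₀) (C K R p ⧸ jC K R p J₀) := by
    refine ⟨fun r s m => ?_⟩
    obtain ⟨b, rfl⟩ := Ideal.Quotient.mk_surjective s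
    obtain ⟨c, rfl⟩ := Ideal.Quotient.mk_surjective m
    have e1 : r • (Ideal.Quotient.mk (jB K R J₀) b) =
        Ideal.Quotient.mk (jB K R J₀) (r • b) := rfl
    have e2 : ∀ (b' : R ⊗[K] R) (c' : C K R p),
        (Ideal.Quotient.mk (jB K R J₀) b') • (Ideal.Quotient.mk (jC K R p J₀) c') =
          Ideal.Quotient.mk (jC K R p J₀) (algebraMap (R ⊗[K] R) (C K R p) b' * c') :=
      fun b' c' => Ideal.Quotient.mk_smul_mk_quotient_map_quotient b' c'
    have e3 : ∀ (c' : C K R p), r • Ideal.Quotient.mk (jC K R p J₀) c' =
        Ideal.Quotient.mk (jC K R p J₀) (r • c') := fun _ => rfl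
    rw [e1, e2, e2, e3]
    congr 1
    rw [Algebra.smul_def r b, map_mul (algebraMap (R ⊗[K] R) (C K R p)), Algebra.smul_def r,
      mul_assoc]
    rfl
  have hRM : Module.Flat R (C K R p ⧸ jC K R p J₀) :=
    Module.Flat.trans R ((R ⊗[K] R) ⧸ jB K R J₀) _
  have tower2 : IsScalarTower R A (C K R p ⧸ jC K R p J₀) := by
    refine ⟨fun r a m => ?_⟩
    obtain ⟨c, rfl⟩ := Ideal.Quotient.mk_surjective m
    have e2 : ∀ (a' : A) (c' : C K R p),
        a' • (Ideal.Quotient.mk (jC K R p J₀) c') =
          Ideal.Quotient.mk (jC K R p J₀) (φL K R p A a' * c') :=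
      fun _ _ => rfl
    have e3 : ∀ (c' : C K R p), r • Ideal.Quotient.mk (jC K R p J₀) c' =
        Ideal.Quotient.mk (jC K R p J₀) (r • c') := fun _ => rfl
    rw [e2, e2, e3]
    congr 1
    rw [Algebra.smul_def r a, map_mul (φL K R p A), φL_algebraMap, Algebra.smul_def r,
      mul_assoc]
    rfl
  exact (Module.flat_iff_of_isLocalization A p.primeCompl _).mpr hRM

/-- `C ⧸ J C` (right structure) is flat over `A` (left structure) -/
theorem flat_quot (J : Ideal A) :
    letI : Algebra A (C K R p) := (φL K R p A).toAlgebra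
    Module.Flat A (C K R p ⧸ J.map (φR K R p A)) := by
  let _ : Algebra A (C K R p) := (φL K R p A).toAlgebra
  have hJ : (J.comap (algebraMap R A)).map (algebraMap R A) = J :=
    IsLocalization.map_under p.primeCompl A J
  have hmap : J.map (φR K R p A) = jC K R p (J.comap (algebraMap R A)) := by
    conv_lhs => rw [← hJ]
    rw [Ideal.map_map, φR_comp, ← Ideal.map_map]
    rfl
  rw [hmap]
  exact flat_quot_aux K R p A _

section Reg

variable [Algebra.Smooth K R]

/-- `R ⊗_K R` is smooth over `K` -/
theorem smooth_tensor : Algebra.Smooth K (R ⊗[K] R) := Algebra.Smooth.comp K R (R ⊗[K] R)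

/-- `R ⊗_K R` is a regular ring -/
theorem isRegularRing_tensor : IsRegularRing (R ⊗[K] R) := by
  have := smooth_tensor K R
  exact Groth.Agent.H47.isRegularRing_of_smooth K _

/-- `C` is a regular local ring -/
theorem isRegularLocalRing_C : IsRegularLocalRing (C K R p) :=
  (isRegularRing_tensor K R).isRegularLocalRing_localization (q K R p)

theorem μ_surjective : Function.Surjective (μ K R p A) := fun a =>
  ⟨φL K R p A a, congrFun (congrArg DFunLike.coe (μ_comp_φL K R p A)) a⟩

/-- the kernel of the retraction is generated by a regular sequence -/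
theorem exists_regular_seq_ker [IsRegularLocalRing A] :
    ∃ l : List (C K R p), Ideal.ofList l = RingHom.ker (μ K R p A) ∧
      RingTheory.Sequence.IsRegular (C K R p) l := by
  have := isRegularLocalRing_C K R p
  let e : C K R p ⧸ RingHom.ker (μ K R p A) ≃+* A :=
    RingHom.quotientKerEquivOfSurjective (μ_surjective K R p A)
  have : IsRegularLocalRing (C K R p ⧸ RingHom.ker (μ K R p A)) :=
    IsRegularLocalRing.of_ringEquiv e.symm
  exact Groth.Agent.H79.IntMultReg.exists_regular_seq (C K R p) (RingHom.ker (μ K R p A))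

include K R p in
/-- **Serre positivity** for the local rings of a smooth algebra over a field -/
theorem chi_pos_of_smooth [IsRegularLocalRing A] (I J : Ideal A)
    (hmax : ∀ P : Ideal A, P.IsPrime → J ⊔ I ≤ P → P.IsMaximal)
    (hdim : ringKrullDim A ≤ ringKrullDim (A ⧸ I) + ringKrullDim (A ⧸ J)) :
    0 < IntMult.chi A (A ⧸ J) (A ⧸ I) := by
  have := isRegularLocalRing_C K R p
  let _ : Algebra A (C K R p) := (φL K R p A).toAlgebra
  obtain ⟨l, hl, hreg⟩ := exists_regular_seq_ker K R p A
  exact Groth.Agent.H79.DiagAbs.chi_pos_of_diag (φ1 := φR K R p A) (μ := μ K R p A)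
    (μ_comp_φR K R p A) (μ_comp_φL K R p A) (φR_flat K R p A) l hl hreg I J
    (flat_quot K R p A J) hmax hdim

end Reg

end

end Groth.Agent.H79.DiagGeom
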