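import Groth.Agent.H79.DiagGeom
import Groth.Agent.H9.TorFlip

/-!
# The diagonal model for an arbitrary localization `C` of `R ⊗_K R` at the diagonal prime (helper79)

Same as `DiagGeom`, but `C` is any localization of `R ⊗_K R` at `q` (e.g. a stalk of `X ×_K X`).
Main result `length_tor_model`: the `Tor` lengths of `(C ⧸ 𝔡 C, C ⧸ (I ⊗ R + R ⊗ J) C)` over `C`
and of `(A ⧸ J A, A ⧸ I A)` over `A = R_p` agree.
-/

set_option autoImplicit false
set_option linter.unusedSectionVars false
universe u
open TensorProduct IsLocalRing CategoryTheory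
attribute [local instance] HasDerivedCategory.standard

namespace Groth.Agent.H79.DiagModel

open Groth.Agent.H79.DiagGeom

noncomputable section

variable (K : Type u) [Field K] (R : Type u) [CommRing R] [Algebra K R]
  (p : Ideal R) [p.IsPrime] (A : Type u) [CommRing A] [Algebra R A] [IsLocalization.AtPrime A p]
  (C : Type u) [CommRing C] [Algebra (R ⊗[K] R) C] [IsLocalization.AtPrime C (q K R p)]

/-- the map `A → C` induced by the left coprojection -/
def φL : A →+* C :=
  IsLocalization.lift (M := p.primeCompl)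
    (g := (algebraMap (R ⊗[K] R) C).comp
      (Algebra.TensorProduct.includeLeft (R := K) (S := K) (A := R) (B := R)).toRingHom)
    (fun y => IsLocalization.map_units C
      (⟨_, includeLeft_notMem K R p y⟩ : (q K R p).primeCompl))

/-- the map `A → C` induced by the right coprojection -/
def φR : A →+* C :=
  IsLocalization.lift (M := p.primeCompl)
    (g := (algebraMap (R ⊗[K] R) C).comp
      (Algebra.TensorProduct.includeRight (R := K) (A := R) (B := R)).toRingHom)
    (fun y => IsLocalization.map_units C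
      (⟨_, includeRight_notMem K R p y⟩ : (q K R p).primeCompl))

/-- the retraction `C → A` induced by the multiplication -/
def μ : C →+* A :=
  IsLocalization.lift (M := (q K R p).primeCompl)
    (g := (algebraMap R A).comp (μB K R).toRingHom)
    (fun y => IsLocalization.map_units A (⟨μB K R y, y.2⟩ : p.primeCompl))

theorem φL_algebraMap (r : R) :
    φL K R p A C (algebraMap R A r) = algebraMap (R ⊗[K] R) C (r ⊗ₜ 1) :=
  IsLocalization.lift_eq _ r

theorem φR_algebraMap (r : R) :
    φR K R p A C (algebraMap R A r) = algebraMap (R ⊗[K] R) C (1 ⊗ₜ r) :=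
  IsLocalization.lift_eq _ r

theorem μ_algebraMap (b : R ⊗[K] R) :
    μ K R p A C (algebraMap (R ⊗[K] R) C b) = algebraMap R A (μB K R b) :=
  IsLocalization.lift_eq _ b

theorem μ_comp_φL : (μ K R p A C).comp (φL K R p A C) = RingHom.id A := by
  apply IsLocalization.ringHom_ext p.primeCompl
  ext r
  simp only [RingHom.coe_comp, Function.comp_apply, RingHom.id_apply]
  rw [φL_algebraMap, μ_algebraMap]
  simp

theorem μ_comp_φR : (μ K R p A C).comp (φR K R p A C) = RingHom.id A := by
  apply IsLocalization.ringHom_ext p.primeCompl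
  ext r
  simp only [RingHom.coe_comp, Function.comp_apply, RingHom.id_apply]
  rw [φR_algebraMap, μ_algebraMap]
  simp

theorem φR_comp : (φR K R p A C).comp (algebraMap R A) =
    (algebraMap (R ⊗[K] R) C).comp
      (Algebra.TensorProduct.includeRight (R := K) (A := R) (B := R)).toRingHom :=
  IsLocalization.lift_comp _

theorem φL_comp : (φL K R p A C).comp (algebraMap R A) =
    (algebraMap (R ⊗[K] R) C).comp
      (Algebra.TensorProduct.includeLeft (R := K) (S := K) (A := R) (B := R)).toRingHom :=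
  IsLocalization.lift_comp _

theorem μ_comp : (μ K R p A C).comp (algebraMap (R ⊗[K] R) C) =
    (algebraMap R A).comp (μB K R).toRingHom :=
  IsLocalization.lift_comp _

include p in
theorem flat_C : Module.Flat (R ⊗[K] R) C := IsLocalization.flat C (q K R p).primeCompl

theorem φR_flat : (φR K R p A C).Flat := by
  apply flat_of_comp R A p.primeCompl
  rw [φR_comp]
  have := flat_C K R p C
  exact RingHom.Flat.comp (includeRight_flat K R)
    (RingHom.flat_algebraMap_iff.mpr inferInstance)

/-- the extension of `R ⊗ J₀` to `C` -/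
abbrev jC (J₀ : Ideal R) : Ideal C :=
  (jB K R J₀).map (algebraMap (R ⊗[K] R) C)

theorem flat_quot_aux (J₀ : Ideal R) :
    letI : Algebra A C := (φL K R p A C).toAlgebra
    Module.Flat A (C ⧸ jC K R C J₀) := by
  let _ : Algebra A C := (φL K R p A C).toAlgebra
  have := flat_C K R p C
  let _ : Algebra R C :=
    ((algebraMap (R ⊗[K] R) C).comp (algebraMap R (R ⊗[K] R))).toAlgebra
  have : IsScalarTower R (R ⊗[K] R) C := IsScalarTower.of_algebraMap_eq (fun r => rfl)
  -- `B ⧸ 𝔧` is flat over `R` (left structure)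
  have hS : Module.Flat R ((R ⊗[K] R) ⧸ jB K R J₀) :=
    Module.Flat.of_linearEquiv
      (Algebra.TensorProduct.tensorQuotientEquiv (R := K) R R R J₀).symm.toLinearEquiv
  -- `C ⧸ 𝔧 C` is flat over `B ⧸ 𝔧`
  have hM : Module.Flat ((R ⊗[K] R) ⧸ jB K R J₀) (C ⧸ jC K R C J₀) :=
    Module.Flat.of_linearEquiv
      (Algebra.TensorProduct.quotIdealMapEquivQuotTensor C (jB K R J₀)).toLinearEquiv
  have tower1 : IsScalarTower R ((R ⊗[K] R) ⧸ jB K R J₀) (C ⧸ jC K R C J₀) := by
    refine ⟨fun r s m => ?_⟩
    obtain ⟨b, rfl⟩ := Ideal.Quotient.mk_surjective s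
    obtain ⟨c, rfl⟩ := Ideal.Quotient.mk_surjective m
    have e1 : r • (Ideal.Quotient.mk (jB K R J₀) b) =
        Ideal.Quotient.mk (jB K R J₀) (r • b) := rfl
    have e2 : ∀ (b' : R ⊗[K] R) (c' : C),
        (Ideal.Quotient.mk (jB K R J₀) b') • (Ideal.Quotient.mk (jC K R C J₀) c') =
          Ideal.Quotient.mk (jC K R C J₀) (algebraMap (R ⊗[K] R) C b' * c') :=
      fun b' c' => Ideal.Quotient.mk_smul_mk_quotient_map_quotient b' c'
    have e3 : ∀ (c' : C), r • Ideal.Quotient.mk (jC K R C J₀) c' =
        Ideal.Quotient.mk (jC K R C J₀) (r • c') := fun _ => rfl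
    rw [e1, e2, e2, e3]
    congr 1
    rw [Algebra.smul_def r b, map_mul (algebraMap (R ⊗[K] R) C), Algebra.smul_def r,
      mul_assoc]
    rfl
  have hRM : Module.Flat R (C ⧸ jC K R C J₀) :=
    Module.Flat.trans R ((R ⊗[K] R) ⧸ jB K R J₀) _
  have tower2 : IsScalarTower R A (C ⧸ jC K R C J₀) := by
    refine ⟨fun r a m => ?_⟩
    obtain ⟨c, rfl⟩ := Ideal.Quotient.mk_surjective m
    have e2 : ∀ (a' : A) (c' : C),
        a' • (Ideal.Quotient.mk (jC K R C J₀) c') =
          Ideal.Quotient.mk (jC K R C J₀) (φL K R p A C a' * c') :=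
      fun _ _ => rfl
    have e3 : ∀ (c' : C), r • Ideal.Quotient.mk (jC K R C J₀) c' =
        Ideal.Quotient.mk (jC K R C J₀) (r • c') := fun _ => rfl
    rw [e2, e2, e3]
    congr 1
    rw [Algebra.smul_def r a, map_mul (φL K R p A C), φL_algebraMap, Algebra.smul_def r,
      mul_assoc]
    rfl
  exact (Module.flat_iff_of_isLocalization A p.primeCompl _).mpr hRM

theorem map_φR (J₀ : Ideal R) :
    (J₀.map (algebraMap R A)).map (φR K R p A C) = jC K R C J₀ := by
  rw [Ideal.map_map, φR_comp, ← Ideal.map_map]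
  rfl

theorem map_φL (I₀ : Ideal R) :
    (I₀.map (algebraMap R A)).map (φL K R p A C) =
      (I₀.map (Algebra.TensorProduct.includeLeft (R := K) (S := K) (A := R) (B := R))).map
        (algebraMap (R ⊗[K] R) C) := by
  rw [Ideal.map_map, φL_comp, ← Ideal.map_map]
  rfl

theorem μ_surjective : Function.Surjective (μ K R p A C) := fun a =>
  ⟨φL K R p A C a, congrFun (congrArg DFunLike.coe (μ_comp_φL K R p A C)) a⟩

/-- the kernel of the retraction is the extension of the diagonal ideal -/
theorem ker_μ : RingHom.ker (μ K R p A C) =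
    (RingHom.ker (μB K R).toRingHom).map (algebraMap (R ⊗[K] R) C) := by
  apply le_antisymm
  · intro s hs
    obtain ⟨⟨a, t⟩, hat⟩ := IsLocalization.surj (q K R p).primeCompl s
    simp only at hat
    have h1 : μ K R p A C (algebraMap (R ⊗[K] R) C a) = 0 := by
      rw [← hat, map_mul, (RingHom.mem_ker).mp hs, zero_mul]
    rw [μ_algebraMap] at h1
    obtain ⟨⟨b, hb⟩, hb0⟩ := (IsLocalization.map_eq_zero_iff p.primeCompl A (μB K R a)).mp h1
    have hb' : (b ⊗ₜ[K] (1 : R)) ∈ (q K R p).primeCompl := includeLeft_notMem K R p ⟨b, hb⟩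
    have h3 : (b ⊗ₜ[K] (1 : R)) * a ∈ RingHom.ker (μB K R).toRingHom := by
      rw [RingHom.mem_ker]
      change μB K R ((b ⊗ₜ[K] (1 : R)) * a) = 0
      rw [map_mul]
      have : μB K R (b ⊗ₜ[K] (1 : R)) = b := by simp
      rw [this]
      exact hb0
    have h4 : algebraMap (R ⊗[K] R) C (b ⊗ₜ[K] (1 : R)) * algebraMap (R ⊗[K] R) C a ∈
        (RingHom.ker (μB K R).toRingHom).map (algebraMap (R ⊗[K] R) C) := by
      rw [← map_mul]
      exact Ideal.mem_map_of_mem _ h3
    have hu : IsUnit (algebraMap (R ⊗[K] R) C (b ⊗ₜ[K] (1 : R))) :=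
      IsLocalization.map_units C (⟨_, hb'⟩ : (q K R p).primeCompl)
    have h5 := (Ideal.unit_mul_mem_iff_mem _ hu).mp h4
    have hu2 : IsUnit (algebraMap (R ⊗[K] R) C t) := IsLocalization.map_units C t
    rw [← hat] at h5
    exact (Ideal.mul_unit_mem_iff_mem _ hu2).mp h5
  · rw [Ideal.map_le_iff_le_comap]
    intro a ha
    rw [Ideal.mem_comap, RingHom.mem_ker, μ_algebraMap]
    have : μB K R a = 0 := ha
    rw [this, map_zero]

section Reg

variable [Algebra.Smooth K R]

include K p in
/-- `C` is a regular local ring -/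
theorem isRegularLocalRing_C : IsRegularLocalRing C := by
  have := DiagGeom.isRegularLocalRing_C K R p
  exact IsRegularLocalRing.of_ringEquiv
    (IsLocalization.algEquiv (q K R p).primeCompl (DiagGeom.C K R p) C).toRingEquiv

omit [Field K] [Algebra K R] [p.IsPrime] [IsLocalization.AtPrime A p]
  [Algebra (R ⊗[K] R) C] [IsLocalization.AtPrime C (q K R p)] [Algebra.Smooth K R] in
/-- symmetry of `Tor` lengths for cyclic modules -/
theorem length_tor_flip (𝔞 𝔡 : Ideal C) (n : ℕ) :
    Module.length C (DRing.Tor C n (C ⧸ 𝔞) (C ⧸ 𝔡)) =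
      Module.length C (DRing.Tor C n (C ⧸ 𝔡) (C ⧸ 𝔞)) := by
  obtain ⟨e⟩ := Groth.Agent.H9.nonempty_tor_flip_iso (ModuleCat.of C (C ⧸ 𝔞))
    (ModuleCat.of C (C ⧸ 𝔡)) n
  exact e.toLinearEquiv.length_eq

include p in
/-- **reduction to the diagonal in the model**: `Tor` lengths over `C` and over `A` agree -/
theorem length_tor_model [IsRegularLocalRing A] (I₀ J₀ : Ideal R) (n : ℕ) :
    Module.length C (DRing.Tor C n
      (C ⧸ (RingHom.ker (μB K R).toRingHom).map (algebraMap (R ⊗[K] R) C))
      (C ⧸ (I₀.map (Algebra.TensorProduct.includeLeft (R := K) (S := K) (A := R) (B := R)) ⊔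
        J₀.map (Algebra.TensorProduct.includeRight (R := K) (A := R) (B := R))).map
          (algebraMap (R ⊗[K] R) C))) =
    Module.length A (DRing.Tor A n (A ⧸ J₀.map (algebraMap R A))
      (A ⧸ I₀.map (algebraMap R A))) := by
  have hC := isRegularLocalRing_C K R p C
  let _ : Algebra A C := (φL K R p A C).toAlgebra
  have hfl : Module.Flat A (C ⧸ (J₀.map (algebraMap R A)).map (φR K R p A C)) := by
    rw [map_φR]
    exact flat_quot_aux K R p A C J₀
  have h := Groth.Agent.H79.DiagAbs.length_tor_diag (φ1 := φR K R p A C) (μ := μ K R p A C)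
    (μ_comp_φR K R p A C) (μ_comp_φL K R p A C) (φR_flat K R p A C)
    (I₀.map (algebraMap R A)) (J₀.map (algebraMap R A)) hfl n
  rw [← h, length_tor_flip]
  have e1 : (J₀.map (algebraMap R A)).map (φR K R p A C) ⊔
      (I₀.map (algebraMap R A)).map (algebraMap A C) =
      (I₀.map (Algebra.TensorProduct.includeLeft (R := K) (S := K) (A := R) (B := R)) ⊔
        J₀.map (Algebra.TensorProduct.includeRight (R := K) (A := R) (B := R))).map
          (algebraMap (R ⊗[K] R) C) := by
    rw [Ideal.map_sup, sup_comm, map_φR]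
    congr 1
    exact map_φL K R p A C I₀
  rw [e1, ker_μ]

end Reg

end

end Groth.Agent.H79.DiagModel
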