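import Groth.Agent.H79.SchDim
import Groth.Agent.H88.CDivAux
import Groth.Prelude.Def_IntMult

/-!
# Intersection multiplicities: the local geometry at a component of `V ∩ W` (helper79)
-/

set_option autoImplicit false
universe u
open CategoryTheory AlgebraicGeometry TopologicalSpace

namespace Groth.Agent.H79.IntMultGeom

section alg

open Groth.Agent.H11.FtDim

/-- the dimension formula for the quotient of the localization of a finite type algebra by a
prime: `dim O/PO + coht p = coht P` -/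
theorem ringKrullDim_quot_map_add_coheight (k : Type u) [Field k] {R O : Type u} [CommRing R]
    [Algebra k R] [Algebra.FiniteType k R] [CommRing O] [Algebra R O] (p : PrimeSpectrum R)
    [IsLocalization.AtPrime O p.asIdeal] (P : PrimeSpectrum R) (hPp : P ≤ p) :
    ringKrullDim (O ⧸ P.asIdeal.map (algebraMap R O)) + ((Order.coheight p : ℕ∞) : WithBot ℕ∞) =
      ((Order.coheight P : ℕ∞) : WithBot ℕ∞) := by
  have hPprime : P.asIdeal.IsPrime := P.2
  have hsub : Algebra.algebraMapSubmonoid (R ⧸ P.asIdeal) p.asIdeal.primeCompl =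
      (mapMk P.asIdeal p hPp).asIdeal.primeCompl := by
    ext y
    obtain ⟨x, rfl⟩ := Ideal.Quotient.mk_surjective y
    constructor
    · rintro ⟨z, hz, hzx⟩
      intro hmem
      apply hz
      have h1 : z ∈ (p.asIdeal.map (Ideal.Quotient.mk P.asIdeal)).comap
          (Ideal.Quotient.mk P.asIdeal) := by
        rw [Ideal.mem_comap]
        have : (Ideal.Quotient.mk P.asIdeal) z = (Ideal.Quotient.mk P.asIdeal) x := hzx
        rw [this]
        exact hmem
      rwa [Groth.Agent.H24.comap_map_mk_of_le hPp] at h1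
    · intro hx
      refine ⟨x, ?_, rfl⟩
      intro hxp
      exact hx (Ideal.mem_map_of_mem _ hxp)
  have hloc : IsLocalization.AtPrime (O ⧸ P.asIdeal.map (algebraMap R O))
      (mapMk P.asIdeal p hPp).asIdeal := by
    unfold IsLocalization.AtPrime
    rw [← hsub]
    infer_instance
  rw [IsLocalization.AtPrime.ringKrullDim_eq_height (mapMk P.asIdeal p hPp).asIdeal
    (O ⧸ P.asIdeal.map (algebraMap R O)), PrimeSpectrum.height_eq_orderHeight,
    ← coheight_mapMk P.asIdeal p hPp, Groth.Agent.H24.coheight_eq_ringKrullDim_quotient P,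
    ← height_add_coheight_eq k (R ⧸ P.asIdeal) (mapMk P.asIdeal p hPp)]
  push_cast
  rfl

end alg

section chart

variable {X : Scheme.{u}} (I : X.IdealSheafData) {U : X.Opens} (hU : IsAffineOpen U)

/-- the stalk ideal is computed on any affine chart -/
theorem stalkIdeal_eq (x : X) (hx : x ∈ U) :
    IntMult.stalkIdeal I x = (I.ideal ⟨U, hU⟩).map (X.presheaf.germ U x hx).hom := by
  unfold IntMult.stalkIdeal
  apply le_antisymm
  · refine iSup₂_le fun V hV => ?_
    exact (Groth.Agent.H88.CDivAux.stalkIdealOn_indep I V ⟨U, hU⟩ x hV hx).le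
  · exact le_iSup₂_of_le (⟨U, hU⟩ : X.affineOpens) hx le_rfl

/-- membership in the support, on a chart -/
theorem mem_support_iff (z : X) (hz : z ∈ U) :
    z ∈ I.support ↔ I.ideal ⟨U, hU⟩ ≤ (hU.primeIdealOf ⟨z, hz⟩).asIdeal := by
  rw [Scheme.IdealSheafData.mem_support_iff_of_mem (U := ⟨U, hU⟩) hz]
  have h := hU.fromSpec_preimage_zeroLocus (I.ideal ⟨U, hU⟩ : Set Γ(X, U))
  have h3 : hU.fromSpec (hU.primeIdealOf ⟨z, hz⟩) = z := hU.fromSpec_primeIdealOf ⟨z, hz⟩
  constructor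
  · intro hzz
    have h4 : hU.primeIdealOf ⟨z, hz⟩ ∈ hU.fromSpec ⁻¹' X.zeroLocus (U := U)
        (I.ideal ⟨U, hU⟩ : Set Γ(X, U)) := by
      change hU.fromSpec (hU.primeIdealOf ⟨z, hz⟩) ∈ X.zeroLocus (U := U) _
      rw [h3]
      exact hzz
    rw [h] at h4
    exact (PrimeSpectrum.mem_zeroLocus _ _).mp h4
  · intro hle
    have h4 : hU.primeIdealOf ⟨z, hz⟩ ∈ PrimeSpectrum.zeroLocus
        (I.ideal ⟨U, hU⟩ : Set Γ(X, U)) := (PrimeSpectrum.mem_zeroLocus _ _).mpr hle
    rw [← h] at h4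
    have h5 : hU.fromSpec (hU.primeIdealOf ⟨z, hz⟩) ∈ X.zeroLocus (U := U)
        (I.ideal ⟨U, hU⟩ : Set Γ(X, U)) := h4
    rwa [h3] at h5

/-- the ideal of an integral closed subscheme on a chart meeting it is prime -/
theorem ideal_isPrime [IsIntegral I.subscheme] (z : X) (hz : z ∈ U) (hzs : z ∈ I.support) :
    (I.ideal ⟨U, hU⟩).IsPrime := by
  have hr : z ∈ Set.range I.subschemeι := by
    rw [Scheme.IdealSheafData.range_subschemeι]
    exact hzs
  obtain ⟨y, hy⟩ := hr
  have hyU : y ∈ I.subschemeι ⁻¹ᵁ U := by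
    change I.subschemeι y ∈ U
    rw [hy]
    exact hz
  have hdom : IsDomain Γ(I.subscheme, I.subschemeι ⁻¹ᵁ U) :=
    @IsIntegral.component_integral _ _ (I.subschemeι ⁻¹ᵁ U) ⟨⟨y, hyU⟩⟩
  have e := (I.subschemeObjIso ⟨U, hU⟩).commRingCatIsoToRingEquiv
  have hdom2 : IsDomain (Γ(X, U) ⧸ I.ideal ⟨U, hU⟩) := e.symm.toMulEquiv.isDomain _
  exact (Ideal.Quotient.isDomain_iff_prime _).mp hdom2

end chart

section stalk

variable {X : Scheme.{u}} {U : X.Opens} (hU : IsAffineOpen U) (ξ : X) (hξ : ξ ∈ U)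

theorem map_germ_le_maximalIdeal (𝔞 : Ideal Γ(X, U))
    (h : 𝔞 ≤ (hU.primeIdealOf ⟨ξ, hξ⟩).asIdeal) :
    𝔞.map (X.presheaf.germ U ξ hξ).hom ≤ IsLocalRing.maximalIdeal (X.presheaf.stalk ξ) := by
  let _ := X.presheaf.algebra_section_stalk ⟨ξ, hξ⟩
  have hloc := hU.isLocalization_stalk ⟨ξ, hξ⟩
  rw [← IsLocalization.AtPrime.map_eq_maximalIdeal (hU.primeIdealOf ⟨ξ, hξ⟩).asIdeal
    (X.presheaf.stalk ξ)]
  exact Ideal.map_mono h

theorem map_germ_ne_top (𝔞 : Ideal Γ(X, U))
    (h : 𝔞 ≤ (hU.primeIdealOf ⟨ξ, hξ⟩).asIdeal) :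
    𝔞.map (X.presheaf.germ U ξ hξ).hom ≠ ⊤ := by
  intro htop
  have h1 := map_germ_le_maximalIdeal hU ξ hξ 𝔞 h
  rw [htop] at h1
  exact (IsLocalRing.maximalIdeal.isMaximal (X.presheaf.stalk ξ)).ne_top (top_le_iff.mp h1)

theorem map_germ_isPrime (𝔞 : Ideal Γ(X, U)) [h𝔞 : 𝔞.IsPrime]
    (h : 𝔞 ≤ (hU.primeIdealOf ⟨ξ, hξ⟩).asIdeal) :
    (𝔞.map (X.presheaf.germ U ξ hξ).hom).IsPrime := by
  let _ := X.presheaf.algebra_section_stalk ⟨ξ, hξ⟩
  have hloc := hU.isLocalization_stalk ⟨ξ, hξ⟩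
  apply IsLocalization.isPrime_of_isPrime_disjoint (hU.primeIdealOf ⟨ξ, hξ⟩).asIdeal.primeCompl
    (X.presheaf.stalk ξ) 𝔞 h𝔞
  rw [Set.disjoint_left]
  intro a ha ha2
  exact ha (h ha2)

include hU hξ in
/-- the primes of the local ring at `ξ` containing both stalk ideals are maximal, when `ξ` is
maximal under generization in the intersection -/
theorem isMaximal_of_le (IV IW : X.IdealSheafData)
    (hmax : ∀ ξ' : X, ξ' ∈ IV.support → ξ' ∈ IW.support → ξ' ⤳ ξ → ξ' = ξ)
    (𝔮 : Ideal (X.presheaf.stalk ξ)) (h𝔮 : 𝔮.IsPrime)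
    (hle : IntMult.stalkIdeal IW ξ ⊔ IntMult.stalkIdeal IV ξ ≤ 𝔮) : 𝔮.IsMaximal := by
  let _ := X.presheaf.algebra_section_stalk ⟨ξ, hξ⟩
  have hloc := hU.isLocalization_stalk ⟨ξ, hξ⟩
  let q : PrimeSpectrum Γ(X, U) :=
    ⟨𝔮.comap (algebraMap Γ(X, U) (X.presheaf.stalk ξ)), inferInstance⟩
  have hqp : q ≤ hU.primeIdealOf ⟨ξ, hξ⟩ := by
    have h1 : 𝔮 ≤ IsLocalRing.maximalIdeal _ := IsLocalRing.le_maximalIdeal h𝔮.ne_top
    have h2 := Ideal.comap_mono (f := algebraMap Γ(X, U) (X.presheaf.stalk ξ)) h1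
    have h3 := IsLocalization.AtPrime.under_maximalIdeal (X.presheaf.stalk ξ)
      (hU.primeIdealOf ⟨ξ, hξ⟩).asIdeal
    rw [Ideal.under_def] at h3
    rw [h3] at h2
    exact h2
  have hξ'U : hU.fromSpec q ∈ U := Groth.Agent.H24.fromSpec_mem hU q
  have hpq : hU.primeIdealOf ⟨hU.fromSpec q, hξ'U⟩ = q :=
    Groth.Agent.H24.primeIdealOf_fromSpec hU q
  have hsp : hU.fromSpec q ⤳ ξ :=
    (Groth.Agent.H79.SchChart.specializes_iff hU hξ'U hξ).mpr (by rw [hpq]; exact hqp)
  have hmem : ∀ I : X.IdealSheafData, IntMult.stalkIdeal I ξ ≤ 𝔮 → hU.fromSpec q ∈ I.support := by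
    intro I hI
    rw [mem_support_iff I hU _ hξ'U, hpq]
    rw [stalkIdeal_eq I hU ξ hξ] at hI
    exact Ideal.map_le_iff_le_comap.mp hI
  have heq := hmax _ (hmem IV (le_sup_right.trans hle)) (hmem IW (le_sup_left.trans hle)) hsp
  have hqp' : q = hU.primeIdealOf ⟨ξ, hξ⟩ := by
    rw [← hpq]
    exact Groth.Agent.H79.SchDim.primeIdealOf_congr hU heq hξ'U hξ
  have h3 : 𝔮 = IsLocalRing.maximalIdeal (X.presheaf.stalk ξ) := by
    have h4 := IsLocalization.map_under (hU.primeIdealOf ⟨ξ, hξ⟩).asIdeal.primeCompl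
      (X.presheaf.stalk ξ) 𝔮
    rw [Ideal.under_def] at h4
    rw [← h4, ← IsLocalization.AtPrime.map_eq_maximalIdeal (hU.primeIdealOf ⟨ξ, hξ⟩).asIdeal
        (X.presheaf.stalk ξ)]
    congr 1
    exact congrArg PrimeSpectrum.asIdeal hqp'
  rw [h3]
  exact IsLocalRing.maximalIdeal.isMaximal _

end stalk

section dim

attribute [local instance] Curv2.stalkAlgebra Curv2.resAlgebra Groth.Agent.H79.SchChart.secAlgebra

variable (k : Type u) [Field k] {X : Scheme.{u}} [X.Over (Spec (CommRingCat.of k))]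
  [LocallyOfFiniteType (X ↘ Spec (CommRingCat.of k))] {U : X.Opens} (hU : IsAffineOpen U)

include k in
/-- the coheight of the prime of a point is the dimension of its closure -/
theorem coheight_eq_dim_closure (x : X) (hx : x ∈ U) :
    ((Order.coheight (hU.primeIdealOf ⟨x, hx⟩) : ℕ∞) : WithBot ℕ∞) =
      topologicalKrullDim ↥(closure ({x} : Set X)) := by
  obtain ⟨n, hn⟩ := Groth.Agent.H79.SchChart.exists_trdeg_eq (k := k) x
  rw [Groth.Agent.H79.SchDim.topologicalKrullDim_closure_eq k x n hn,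
    Groth.Agent.H79.SchChart.coheight_pt hU x hx n hn]
  rfl

include k in
/-- the dimension formula for a specialization `η ⤳ ξ` on a chart -/
theorem dim_formula (η ξ : X) (hη : η ∈ U) (hξ : ξ ∈ U) (h : η ⤳ ξ) :
    ringKrullDim (X.presheaf.stalk ξ ⧸
      (hU.primeIdealOf ⟨η, hη⟩).asIdeal.map (X.presheaf.germ U ξ hξ).hom) +
        topologicalKrullDim ↥(closure ({ξ} : Set X)) =
      topologicalKrullDim ↥(closure ({η} : Set X)) := by
  let _ := X.presheaf.algebra_section_stalk ⟨ξ, hξ⟩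
  have hloc := hU.isLocalization_stalk ⟨ξ, hξ⟩
  have := Groth.Agent.H79.SchChart.finiteType_sec k hU
  rw [← coheight_eq_dim_closure k hU ξ hξ, ← coheight_eq_dim_closure k hU η hη]
  exact ringKrullDim_quot_map_add_coheight k (hU.primeIdealOf ⟨ξ, hξ⟩) (hU.primeIdealOf ⟨η, hη⟩)
    ((Groth.Agent.H79.SchChart.specializes_iff hU hη hξ).mp h)

omit [X.Over (Spec (CommRingCat.of k))] [LocallyOfFiniteType (X ↘ Spec (CommRingCat.of k))] in
/-- the generic point of an integral closed subscheme, on a chart meeting it -/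
theorem exists_generic (I : X.IdealSheafData) [IsIntegral I.subscheme] (ξ : X) (hξ : ξ ∈ U)
    (hξs : ξ ∈ I.support) :
    ∃ (η : X) (hη : η ∈ U), η ⤳ ξ ∧ closure ({η} : Set X) = (I.support : Set X) ∧
      (hU.primeIdealOf ⟨η, hη⟩).asIdeal = I.ideal ⟨U, hU⟩ := by
  have hirr : IsIrreducible (I.support : Set X) := by
    rw [← Scheme.IdealSheafData.range_subschemeι, ← Set.image_univ]
    exact (IrreducibleSpace.isIrreducible_univ _).image _
      I.subschemeι.continuous.continuousOn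
  obtain ⟨η, hηgen⟩ := QuasiSober.sober hirr I.support.isClosed
  have hcl : closure ({η} : Set X) = (I.support : Set X) := hηgen
  have hsp : η ⤳ ξ := by
    rw [specializes_iff_mem_closure, hcl]
    exact hξs
  have hη : η ∈ U := Groth.Agent.H79.SchChart.mem_of_specializes hsp hξ
  refine ⟨η, hη, hsp, hcl, ?_⟩
  have hηs : η ∈ I.support := by
    have : η ∈ closure ({η} : Set X) := subset_closure rfl
    rw [hcl] at this
    exact this
  have h1 := (mem_support_iff I hU η hη).mp hηs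
  have hprime := ideal_isPrime I hU ξ hξ hξs
  let P : PrimeSpectrum Γ(X, U) := ⟨I.ideal ⟨U, hU⟩, hprime⟩
  have hζU : hU.fromSpec P ∈ U := Groth.Agent.H24.fromSpec_mem hU P
  have hPζ : hU.primeIdealOf ⟨hU.fromSpec P, hζU⟩ = P := Groth.Agent.H24.primeIdealOf_fromSpec hU P
  have hζs : hU.fromSpec P ∈ I.support := by
    rw [mem_support_iff I hU _ hζU, hPζ]
  have hsp2 : η ⤳ hU.fromSpec P := by
    rw [specializes_iff_mem_closure, hcl]
    exact hζs
  have h2 := (Groth.Agent.H79.SchChart.specializes_iff hU hη hζU).mp hsp2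
  rw [hPζ] at h2
  exact le_antisymm h2 h1

include k in
/-- the dimension of the local ring of an integral closed subscheme -/
theorem dim_stalk_quot (I : X.IdealSheafData) [IsIntegral I.subscheme] (ξ : X)
    (hξs : ξ ∈ I.support) :
    ringKrullDim (X.presheaf.stalk ξ ⧸ IntMult.stalkIdeal I ξ) +
        topologicalKrullDim ↥(closure ({ξ} : Set X)) =
      topologicalKrullDim ↥(I.support : Set X) := by
  obtain ⟨_, ⟨U, hU, rfl⟩, hξU, -⟩ :=
    X.isBasis_affineOpens.exists_subset_of_mem_open (Set.mem_univ ξ) isOpen_univ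
  have hU' : IsAffineOpen U := hU
  have hξ : ξ ∈ U := hξU
  obtain ⟨η, hη, hsp, hcl, hP⟩ := exists_generic hU' I ξ hξ hξs
  have h := dim_formula k hU' η ξ hη hξ hsp
  rw [hP, ← stalkIdeal_eq I hU' ξ hξ, hcl] at h
  exact h

include k in
/-- the dimension of the local ring of an integral scheme of finite type over a field -/
theorem dim_stalk [IsIntegral X] (ξ : X) :
    ringKrullDim (X.presheaf.stalk ξ) + topologicalKrullDim ↥(closure ({ξ} : Set X)) =
      topologicalKrullDim X := by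
  obtain ⟨_, ⟨U, hU, rfl⟩, hξU, -⟩ :=
    X.isBasis_affineOpens.exists_subset_of_mem_open (Set.mem_univ ξ) isOpen_univ
  have hU' : IsAffineOpen U := hU
  have hξ : ξ ∈ U := hξU
  have hne : Nonempty U := ⟨⟨ξ, hξ⟩⟩
  have hgen := genericPoint_spec X
  have hcl : closure ({genericPoint X} : Set X) = Set.univ := hgen
  have hsp : genericPoint X ⤳ ξ := by
    rw [specializes_iff_mem_closure, hcl]
    trivial
  have hη : genericPoint X ∈ U := Groth.Agent.H79.SchChart.mem_of_specializes hsp hξ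
  have h := dim_formula k hU' (genericPoint X) ξ hη hξ hsp
  have hdom : IsDomain Γ(X, U) := IsIntegral.component_integral U
  have hP : hU'.primeIdealOf ⟨genericPoint X, hη⟩ = (⊥ : PrimeSpectrum Γ(X, U)) := by
    have h1 := hU'.primeIdealOf_genericPoint
    rw [genericPoint_eq_bot_of_affine] at h1
    exact h1
  rw [hP, hcl] at h
  have h2 : (⊥ : PrimeSpectrum Γ(X, U)).asIdeal = ⊥ := rfl
  rw [h2, Ideal.map_bot] at h
  rw [← ringKrullDim_eq_of_ringEquiv (RingEquiv.quotientBot (X.presheaf.stalk ξ)), h]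
  exact (Homeomorph.Set.univ X).isHomeomorph.topologicalKrullDim_eq

omit [Field k] [X.Over (Spec (CommRingCat.of k))]
  [LocallyOfFiniteType (X ↘ Spec (CommRingCat.of k))] in
theorem exists_nat_of_add_eq (x y : WithBot ℕ∞) (m : ℕ) (h : x + y = (m : WithBot ℕ∞)) :
    ∃ x' y' : ℕ, x = (x' : WithBot ℕ∞) ∧ y = (y' : WithBot ℕ∞) ∧ x' + y' = m := by
  induction x using WithBot.recBotCoe with
  | bot =>
    rw [WithBot.bot_add] at h
    exact absurd h (WithBot.bot_ne_coe)
  | coe x =>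
    induction y using WithBot.recBotCoe with
    | bot =>
      rw [WithBot.add_bot] at h
      exact absurd h (WithBot.bot_ne_coe)
    | coe y =>
      have h' : x + y = (m : ℕ∞) := by exact_mod_cast h
      induction x using ENat.recTopCoe with
      | top =>
        rw [top_add] at h'
        exact absurd h' (ENat.top_ne_natCast m)
      | coe x' =>
        induction y using ENat.recTopCoe with
        | top =>
          rw [add_top] at h'
          exact absurd h' (ENat.top_ne_natCast m)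
        | coe y' =>
          refine ⟨x', y', rfl, rfl, ?_⟩
          exact_mod_cast h'

include k in
/-- **the local picture at a component of a proper intersection** -/
theorem master [IsIntegral X] (IV IW : X.IdealSheafData) [IsIntegral IV.subscheme]
    [IsIntegral IW.subscheme] (n r s : ℕ) (hn : topologicalKrullDim X = n)
    (hr : topologicalKrullDim IV.support = r) (hs : topologicalKrullDim IW.support = s)
    (hprop : IntMult.ProperInt (IV.support : Set X) (IW.support : Set X) n r s) (ξ : X)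
    (hξV : ξ ∈ IV.support) (hξW : ξ ∈ IW.support)
    (hmax : ∀ ξ' : X, ξ' ∈ IV.support → ξ' ∈ IW.support → ξ' ⤳ ξ → ξ' = ξ) :
    (∀ 𝔮 : Ideal (X.presheaf.stalk ξ), 𝔮.IsPrime →
      IntMult.stalkIdeal IW ξ ⊔ IntMult.stalkIdeal IV ξ ≤ 𝔮 → 𝔮.IsMaximal) ∧
    (IntMult.stalkIdeal IW ξ).IsPrime ∧ IntMult.stalkIdeal IV ξ ≠ ⊤ ∧
    ringKrullDim (X.presheaf.stalk ξ) ≤
      ringKrullDim (X.presheaf.stalk ξ ⧸ IntMult.stalkIdeal IV ξ) +
        ringKrullDim (X.presheaf.stalk ξ ⧸ IntMult.stalkIdeal IW ξ) := by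
  obtain ⟨_, ⟨U, hU, rfl⟩, hξU, -⟩ :=
    X.isBasis_affineOpens.exists_subset_of_mem_open (Set.mem_univ ξ) isOpen_univ
  have hU' : IsAffineOpen U := hU
  have hξ : ξ ∈ U := hξU
  refine ⟨fun 𝔮 h𝔮 hle => isMaximal_of_le hU' ξ hξ IV IW hmax 𝔮 h𝔮 hle, ?_, ?_, ?_⟩
  · rw [stalkIdeal_eq IW hU' ξ hξ]
    have := ideal_isPrime IW hU' ξ hξ hξW
    exact map_germ_isPrime hU' ξ hξ _ ((mem_support_iff IW hU' ξ hξ).mp hξW)
  · rw [stalkIdeal_eq IV hU' ξ hξ]
    exact map_germ_ne_top hU' ξ hξ _ ((mem_support_iff IV hU' ξ hξ).mp hξV)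
  · have h1 := dim_stalk k ξ
    have h2 := dim_stalk_quot k IV ξ hξV
    have h3 := dim_stalk_quot k IW ξ hξW
    rw [hn] at h1
    have hr' : topologicalKrullDim ↥(IV.support : Set X) = r := hr
    have hs' : topologicalKrullDim ↥(IW.support : Set X) = s := hs
    rw [hr'] at h2
    rw [hs'] at h3
    obtain ⟨hle, hdim⟩ := hprop ⟨ξ, hξV, hξW⟩
    have hsub : closure ({ξ} : Set X) ⊆ (IV.support : Set X) ∩ (IW.support : Set X) :=
      closure_minimal (Set.singleton_subset_iff.mpr ⟨hξV, hξW⟩)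
        (IV.support.isClosed.inter IW.support.isClosed)
    have h4 : topologicalKrullDim ↥(closure ({ξ} : Set X)) ≤
        topologicalKrullDim ↥((IV.support : Set X) ∩ (IW.support : Set X)) :=
      (Topology.IsEmbedding.inclusion hsub).isInducing.topologicalKrullDim_le
    have h5 := h4.trans hdim
    obtain ⟨d, δ, hd, hδ, hdδ⟩ := exists_nat_of_add_eq _ _ _ h1
    obtain ⟨a, δ', ha, hδ', haδ⟩ := exists_nat_of_add_eq _ _ _ h2
    obtain ⟨b, δ'', hb, hδ'', hbδ⟩ := exists_nat_of_add_eq _ _ _ h3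
    rw [hδ] at hδ' hδ'' h5
    have e1 : δ = δ' := by exact_mod_cast hδ'
    have e2 : δ = δ'' := by exact_mod_cast hδ''
    have h6 : δ ≤ r + s - n := by exact_mod_cast h5
    rw [hd, ha, hb]
    have h7 : d ≤ a + b := by omega
    exact_mod_cast h7

end dim

end Groth.Agent.H79.IntMultGeom
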