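import Groth.Agent.H79.DiagBridge
import Groth.Agent.H79.IntMultGeom
import Groth.Agent.H53.SmoothFieldRegular
import Mathlib.AlgebraicGeometry.Morphisms.Flat

/-!
# Reduction to the diagonal on schemes (helper79)

`X` smooth and separated over a field `K`, `V`, `W` closed subschemes, `ξ` a point. The stalk of
`X ×_K X` at `Δ(ξ)` is a localization of `Γ(U) ⊗_K Γ(U)` (`U ∋ ξ` affine), the stalk ideals of
`Δ` and of `V ×_K W` are the expected ones, and `DiagBridge.length_tor_bridge` gives the equality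
of `Tor` lengths `Tor^{O_{X×X,Δξ}}(O_Δ, O_{V×W}) ↔ Tor^{O_{X,ξ}}(O_W, O_V)`.
-/

set_option autoImplicit false
set_option linter.unusedSectionVars false
universe u
open CategoryTheory CategoryTheory.Limits AlgebraicGeometry TensorProduct
attribute [local instance] HasDerivedCategory.standard

namespace Groth.Agent.H79.DiagSch

variable (K : Type u) [Field K]

/-- sections of a fibre product over affine opens are a tensor product -/
theorem exists_tensor_equiv {X T : Scheme.{u}} (fX : X ⟶ Spec (CommRingCat.of K))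
    (fT : T ⟶ Spec (CommRingCat.of K)) {UX : X.Opens} {UT : T.Opens}
    (hUX : IsAffineOpen UX) (hUT : IsAffineOpen UT)
    [Algebra K Γ(X, UX)] [Algebra K Γ(T, UT)]
    (hX : algebraMap K Γ(X, UX) =
      (fX.appLE ⊤ UX le_top).hom.comp (Scheme.ΓSpecIso (CommRingCat.of K)).inv.hom)
    (hT : algebraMap K Γ(T, UT) =
      (fT.appLE ⊤ UT le_top).hom.comp (Scheme.ΓSpecIso (CommRingCat.of K)).inv.hom) :
    ∃ θ : Γ(X, UX) ⊗[K] Γ(T, UT) ≃+*
        Γ(pullback fX fT, pullback.fst fX fT ⁻¹ᵁ UX ⊓ pullback.snd fX fT ⁻¹ᵁ UT),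
      (∀ a, θ (a ⊗ₜ 1) = ((pullback.fst fX fT).appLE UX _ inf_le_left).hom a) ∧
      (∀ b, θ (1 ⊗ₜ b) = ((pullback.snd fX fT).appLE UT _ inf_le_right).hom b) := by
  have H := IsPullback.of_hasPullback fX fT
  have h1 := isIso_pushoutSection_of_isAffineOpen H (US := ⊤) (UT := UT) (UX := UX) le_top le_top
    rfl (isAffineOpen_top _) hUT hUX
  have H₀ := (isIso_pushoutSection_iff H _ _ _).mp h1
  have H' : IsPushout (CommRingCat.ofHom (algebraMap K Γ(X, UX)))
      (CommRingCat.ofHom (algebraMap K Γ(T, UT)))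
      ((pullback.fst fX fT).appLE UX (pullback.fst fX fT ⁻¹ᵁ UX ⊓ pullback.snd fX fT ⁻¹ᵁ UT)
        inf_le_left)
      ((pullback.snd fX fT).appLE UT (pullback.fst fX fT ⁻¹ᵁ UX ⊓ pullback.snd fX fT ⁻¹ᵁ UT)
        inf_le_right) := by
    refine IsPushout.of_iso H₀ (Scheme.ΓSpecIso (CommRingCat.of K)) (Iso.refl _) (Iso.refl _)
      (Iso.refl _) ?_ ?_ ?_ ?_
    · rw [hX]
      ext x
      simp
    · rw [hT]
      ext x
      simp
    · simp
    · simp
  let iso := (CommRingCat.isPushout_tensorProduct K Γ(X, UX) Γ(T, UT)).isoIsPushout _ _ H'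
  refine ⟨iso.commRingCatIsoToRingEquiv, ?_, ?_⟩
  · intro a
    have := (CommRingCat.isPushout_tensorProduct K Γ(X, UX) Γ(T, UT)).inl_isoIsPushout_hom _ _ H'
    exact congr($(this).hom a)
  · intro b
    have := (CommRingCat.isPushout_tensorProduct K Γ(X, UX) Γ(T, UT)).inr_isoIsPushout_hom _ _ H'
    exact congr($(this).hom b)

omit [Field K] in
/-- membership in the prime of a point of an affine open, via germs -/
theorem mem_primeIdealOf_iff {X : Scheme.{u}} {U : X.Opens} (hU : IsAffineOpen U) (x : X)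
    (hx : x ∈ U) (b : Γ(X, U)) :
    b ∈ (hU.primeIdealOf ⟨x, hx⟩).asIdeal ↔ ¬ IsUnit ((X.presheaf.germ U x hx).hom b) := by
  let _ : Algebra Γ(X, U) (X.presheaf.stalk x) :=
    TopCat.Presheaf.algebra_section_stalk X.presheaf ⟨x, hx⟩
  have hloc := hU.isLocalization_stalk ⟨x, hx⟩
  have h := IsLocalization.AtPrime.isUnit_to_map_iff (X.presheaf.stalk x)
    (hU.primeIdealOf ⟨x, hx⟩).asIdeal b
  change IsUnit ((X.presheaf.germ U x hx).hom b) ↔ _ at h
  rw [h]
  simp [Ideal.primeCompl]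

omit [Field K] in
/-- primes of points of affine opens are compatible with morphisms -/
theorem comap_primeIdealOf {X Z : Scheme.{u}} (h : X ⟶ Z) {U : X.Opens} {W₀ : Z.Opens}
    (hU : IsAffineOpen U) (hW : IsAffineOpen W₀) (hle : U ≤ h ⁻¹ᵁ W₀) (x : X) (hx : x ∈ U)
    (hx' : h x ∈ W₀) :
    (hU.primeIdealOf ⟨x, hx⟩).asIdeal.comap (h.appLE W₀ U hle).hom =
      (hW.primeIdealOf ⟨h x, hx'⟩).asIdeal := by
  ext b
  rw [Ideal.mem_comap, mem_primeIdealOf_iff, mem_primeIdealOf_iff]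
  have e : (X.presheaf.germ U x hx).hom ((h.appLE W₀ U hle).hom b) =
      (h.stalkMap x).hom ((Z.presheaf.germ W₀ (h x) hx').hom b) := by
    have h1 := Scheme.Hom.germ_stalkMap_apply h W₀ x hx' b
    rw [h1]
    unfold Scheme.Hom.appLE
    simp
  rw [e]
  rw [isUnit_map_iff]

omit [Field K] in
theorem appLE_of_eq_id {X : Scheme.{u}} (h : X ⟶ X) (hh : h = 𝟙 X) (U : X.Opens)
    (e : U ≤ h ⁻¹ᵁ U) : h.appLE U U e = 𝟙 _ := by
  subst hh
  simp only [Scheme.Hom.appLE, Scheme.Hom.id_app]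
  exact X.presheaf.map_id (Opposite.op U)

omit [Field K] in
theorem ker_app_eq_ker_appLE {X Z : Scheme.{u}} (h : X ⟶ Z) (W : Z.Opens) (U : X.Opens)
    (hUeq : h ⁻¹ᵁ W = U) :
    RingHom.ker (h.app W).hom = RingHom.ker (h.appLE W U hUeq.ge).hom := by
  subst hUeq
  rw [Scheme.Hom.appLE_eq_app]

omit [Field K] in
theorem appLE_congr_hom {X Z : Scheme.{u}} (h h' : X ⟶ Z) (hh : h = h') (W : Z.Opens)
    (U : X.Opens) (e : U ≤ h ⁻¹ᵁ W) (e' : U ≤ h' ⁻¹ᵁ W) : h.appLE W U e = h'.appLE W U e' := by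
  subst hh
  rfl

variable {X : Scheme.{u}} (f : X ⟶ Spec (CommRingCat.of K)) {U : X.Opens}

/-- the product chart -/
noncomputable abbrev W₀ (U : X.Opens) : (pullback f f).Opens :=
  pullback.fst f f ⁻¹ᵁ U ⊓ pullback.snd f f ⁻¹ᵁ U

theorem isAffineOpen_W₀ (hU : IsAffineOpen U) : IsAffineOpen (W₀ K f U) := by
  have H := IsPullback.of_hasPullback f f
  have : IsAffine (⊤ : (Spec (CommRingCat.of K)).Opens).toScheme := isAffineOpen_top _
  have : IsAffine U.toScheme := hU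
  exact .of_isIso (Scheme.Hom.isPullback_resLE H (US := ⊤) (UT := U) (UX := U) le_top le_top
    rfl).isoPullback.hom

theorem preimage_diagonal : pullback.diagonal f ⁻¹ᵁ (W₀ K f U) = U := by
  ext x
  simp only [W₀, Scheme.Hom.preimage_inf, TopologicalSpace.Opens.coe_inf, Set.mem_inter_iff,
    SetLike.mem_coe]
  rw [← Scheme.Hom.comp_preimage, ← Scheme.Hom.comp_preimage]
  simp

theorem le_preimage_diagonal : U ≤ pullback.diagonal f ⁻¹ᵁ (W₀ K f U) :=
  (preimage_diagonal K f).ge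

theorem appLE_fst_diagonal (r : Γ(X, U)) :
    ((pullback.diagonal f).appLE (W₀ K f U) U (le_preimage_diagonal K f)).hom
      (((pullback.fst f f).appLE U (W₀ K f U) inf_le_left).hom r) = r := by
  rw [← CommRingCat.comp_apply, Scheme.Hom.appLE_comp_appLE]
  rw [appLE_of_eq_id _ (pullback.diagonal_fst f)]
  rfl

theorem appLE_snd_diagonal (r : Γ(X, U)) :
    ((pullback.diagonal f).appLE (W₀ K f U) U (le_preimage_diagonal K f)).hom
      (((pullback.snd f f).appLE U (W₀ K f U) inf_le_right).hom r) = r := by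
  rw [← CommRingCat.comp_apply, Scheme.Hom.appLE_comp_appLE]
  rw [appLE_of_eq_id _ (pullback.diagonal_snd f)]
  rfl

section prod

variable {V W : Scheme.{u}} (ιV : V ⟶ X) (ιW : W ⟶ X)

/-- the product map `V ×_K W → X ×_K X` -/
noncomputable abbrev gmap : pullback (ιV ≫ f) (ιW ≫ f) ⟶ pullback f f :=
  pullback.map (ιV ≫ f) (ιW ≫ f) f f ιV ιW (𝟙 _) (Category.comp_id _) (Category.comp_id _)

/-- the product chart of `V ×_K W` -/
noncomputable abbrev W₁ (U : X.Opens) : (pullback (ιV ≫ f) (ιW ≫ f)).Opens :=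
  pullback.fst (ιV ≫ f) (ιW ≫ f) ⁻¹ᵁ (ιV ⁻¹ᵁ U) ⊓ pullback.snd (ιV ≫ f) (ιW ≫ f) ⁻¹ᵁ (ιW ⁻¹ᵁ U)

theorem preimage_gmap : gmap K f ιV ιW ⁻¹ᵁ (W₀ K f U) = W₁ K f ιV ιW U := by
  simp only [W₀, W₁, Scheme.Hom.preimage_inf]
  rw [← Scheme.Hom.comp_preimage, ← Scheme.Hom.comp_preimage, ← Scheme.Hom.comp_preimage,
    ← Scheme.Hom.comp_preimage]
  simp only [gmap, pullback.lift_fst, pullback.lift_snd]

theorem gmap_fst : gmap K f ιV ιW ≫ pullback.fst f f = pullback.fst (ιV ≫ f) (ιW ≫ f) ≫ ιV :=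
  pullback.lift_fst _ _ _

theorem gmap_snd : gmap K f ιV ιW ≫ pullback.snd f f = pullback.snd (ιV ≫ f) (ιW ≫ f) ≫ ιW :=
  pullback.lift_snd _ _ _

theorem gmap_appLE_fst (r : Γ(X, U)) :
    ((gmap K f ιV ιW).appLE (W₀ K f U) (W₁ K f ιV ιW U) (preimage_gmap K f ιV ιW).ge).hom
      (((pullback.fst f f).appLE U (W₀ K f U) inf_le_left).hom r) =
    ((pullback.fst (ιV ≫ f) (ιW ≫ f)).appLE (ιV ⁻¹ᵁ U) (W₁ K f ιV ιW U) inf_le_left).hom
      ((ιV.app U).hom r) := by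
  have hle2 : W₁ K f ιV ιW U ≤ (pullback.fst (ιV ≫ f) (ιW ≫ f) ≫ ιV) ⁻¹ᵁ U := inf_le_left
  have hle1 : W₁ K f ιV ιW U ≤ (gmap K f ιV ιW ≫ pullback.fst f f) ⁻¹ᵁ U := by
    rw [gmap_fst]
    exact hle2
  have h1 : (pullback.fst f f).appLE U (W₀ K f U) inf_le_left ≫
      (gmap K f ιV ιW).appLE (W₀ K f U) (W₁ K f ιV ιW U) (preimage_gmap K f ιV ιW).ge =
      (gmap K f ιV ιW ≫ pullback.fst f f).appLE U (W₁ K f ιV ιW U) hle1 :=
    Scheme.Hom.appLE_comp_appLE _ _ _ _ _ _ _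
  have h2 : (pullback.fst (ιV ≫ f) (ιW ≫ f) ≫ ιV).appLE U (W₁ K f ιV ιW U) hle2 =
      ιV.app U ≫ (pullback.fst (ιV ≫ f) (ιW ≫ f)).appLE (ιV ⁻¹ᵁ U) (W₁ K f ιV ιW U)
        inf_le_left := Scheme.Hom.comp_appLE _ _ _ _ _
  have h3 := appLE_congr_hom _ _ (gmap_fst K f ιV ιW) U (W₁ K f ιV ιW U) hle1 hle2
  have h4 := h1.trans (h3.trans h2)
  exact congr($(h4).hom r)

theorem gmap_appLE_snd (r : Γ(X, U)) :
    ((gmap K f ιV ιW).appLE (W₀ K f U) (W₁ K f ιV ιW U) (preimage_gmap K f ιV ιW).ge).hom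
      (((pullback.snd f f).appLE U (W₀ K f U) inf_le_right).hom r) =
    ((pullback.snd (ιV ≫ f) (ιW ≫ f)).appLE (ιW ⁻¹ᵁ U) (W₁ K f ιV ιW U) inf_le_right).hom
      ((ιW.app U).hom r) := by
  have hle2 : W₁ K f ιV ιW U ≤ (pullback.snd (ιV ≫ f) (ιW ≫ f) ≫ ιW) ⁻¹ᵁ U := inf_le_right
  have hle1 : W₁ K f ιV ιW U ≤ (gmap K f ιV ιW ≫ pullback.snd f f) ⁻¹ᵁ U := by
    rw [gmap_snd]
    exact hle2
  have h1 : (pullback.snd f f).appLE U (W₀ K f U) inf_le_right ≫
      (gmap K f ιV ιW).appLE (W₀ K f U) (W₁ K f ιV ιW U) (preimage_gmap K f ιV ιW).ge =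
      (gmap K f ιV ιW ≫ pullback.snd f f).appLE U (W₁ K f ιV ιW U) hle1 :=
    Scheme.Hom.appLE_comp_appLE _ _ _ _ _ _ _
  have h2 : (pullback.snd (ιV ≫ f) (ιW ≫ f) ≫ ιW).appLE U (W₁ K f ιV ιW U) hle2 =
      ιW.app U ≫ (pullback.snd (ιV ≫ f) (ιW ≫ f)).appLE (ιW ⁻¹ᵁ U) (W₁ K f ιV ιW U)
        inf_le_right := Scheme.Hom.comp_appLE _ _ _ _ _
  have h3 := appLE_congr_hom _ _ (gmap_snd K f ιV ιW) U (W₁ K f ιV ιW U) hle1 hle2
  have h4 := h1.trans (h3.trans h2)
  exact congr($(h4).hom r)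

end prod

/-- the `K`-algebra structure on sections of a `K`-scheme -/
noncomputable abbrev secAlg {T : Scheme.{u}} (fT : T ⟶ Spec (CommRingCat.of K)) (UT : T.Opens) :
    Algebra K Γ(T, UT) :=
  ((fT.appLE ⊤ UT le_top).hom.comp (Scheme.ΓSpecIso (CommRingCat.of K)).inv.hom).toAlgebra

section main

variable [Smooth f] [IsSeparated f] (IV IW : X.IdealSheafData)

set_option maxHeartbeats 1000000 in
/-- **reduction to the diagonal on schemes**: lengths of `Tor` at `Δ(ξ)` and at `ξ` agree -/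
theorem length_tor_eq (ξ : X) (n : ℕ) :
    Module.length ((pullback f f).presheaf.stalk (pullback.diagonal f ξ))
      (DRing.Tor ((pullback f f).presheaf.stalk (pullback.diagonal f ξ)) n
        (((pullback f f).presheaf.stalk (pullback.diagonal f ξ)) ⧸
          IntMult.stalkIdeal (pullback.diagonal f).ker (pullback.diagonal f ξ))
        (((pullback f f).presheaf.stalk (pullback.diagonal f ξ)) ⧸
          IntMult.stalkIdeal (gmap K f IV.subschemeι IW.subschemeι).ker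
            (pullback.diagonal f ξ))) =
    Module.length (X.presheaf.stalk ξ) (DRing.Tor (X.presheaf.stalk ξ) n
      (X.presheaf.stalk ξ ⧸ IntMult.stalkIdeal IW ξ)
      (X.presheaf.stalk ξ ⧸ IntMult.stalkIdeal IV ξ)) := by
  obtain ⟨_, ⟨U, hU, rfl⟩, hξU, -⟩ :=
    X.isBasis_affineOpens.exists_subset_of_mem_open (Set.mem_univ ξ) isOpen_univ
  have hU' : IsAffineOpen U := hU
  have hξ : ξ ∈ U := hξU
  -- the `K`-algebra `R`
  letI : Algebra K Γ(X, U) := secAlg K f U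
  have hle : U ≤ f ⁻¹ᵁ ⊤ := le_top
  have hψ : (f.appLE ⊤ U hle).hom.Smooth :=
    HasRingHomProperty.appLE (P := @Smooth) f inferInstance ⟨⊤, isAffineOpen_top _⟩ ⟨U, hU'⟩ hle
  have hι : (Scheme.ΓSpecIso (CommRingCat.of K)).inv.hom.Smooth :=
    RingHom.Smooth.of_bijective
      (ConcreteCategory.bijective_of_isIso (Scheme.ΓSpecIso (CommRingCat.of K)).inv)
  have hsm : Algebra.Smooth K Γ(X, U) := hι.comp hψ
  -- the local ring `A`
  let _ : Algebra Γ(X, U) (X.presheaf.stalk ξ) :=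
    TopCat.Presheaf.algebra_section_stalk X.presheaf ⟨ξ, hξ⟩
  have hlocA := hU'.isLocalization_stalk ⟨ξ, hξ⟩
  have hregA : IsRegularLocalRing (X.presheaf.stalk ξ) :=
    Groth.Agent.H53.isRegularLocalRing_stalk_of_smooth_field K f ξ
  -- the tensor model of the product chart
  obtain ⟨θ, hθ1, hθ2⟩ := exists_tensor_equiv K f f hU' hU' rfl rfl
  have hW := isAffineOpen_W₀ K f hU'
  have hz : pullback.diagonal f ξ ∈ W₀ K f U := le_preimage_diagonal K f hξ
  let _ : Algebra Γ(pullback f f, W₀ K f U)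
      ((pullback f f).presheaf.stalk (pullback.diagonal f ξ)) :=
    TopCat.Presheaf.algebra_section_stalk (pullback f f).presheaf ⟨_, hz⟩
  have hlocC := hW.isLocalization_stalk ⟨_, hz⟩
  -- the diagonal
  obtain ⟨hd, hkerd⟩ := Groth.Agent.H79.DiagBridge.ker_eq_map_ker_lmul θ
    ((pullback.diagonal f).appLE (W₀ K f U) U (le_preimage_diagonal K f)).hom
    (fun r => by rw [hθ1]; exact appLE_fst_diagonal K f r)
    (fun r => by rw [hθ2]; exact appLE_snd_diagonal K f r)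
  have hq : (hW.primeIdealOf ⟨_, hz⟩).asIdeal.comap (θ : Γ(X, U) ⊗[K] Γ(X, U) →+* _) =
      Groth.Agent.H79.DiagGeom.q K Γ(X, U) (hU'.primeIdealOf ⟨ξ, hξ⟩).asIdeal := by
    rw [← comap_primeIdealOf (pullback.diagonal f) hU' hW (le_preimage_diagonal K f) ξ hξ hz,
      Ideal.comap_comap]
    unfold Groth.Agent.H79.DiagGeom.q
    congr 1
    exact RingHom.ext (fun t => hd t)
  have h𝔡 : RingHom.ker ((pullback.diagonal f).app (W₀ K f U)).hom =
      (RingHom.ker (Groth.Agent.H79.DiagGeom.μB K Γ(X, U)).toRingHom).map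
        (θ : Γ(X, U) ⊗[K] Γ(X, U) →+* _) := by
    rw [ker_app_eq_ker_appLE _ _ _ (preimage_diagonal K f)]
    exact hkerd
  -- the product of the subschemes
  have hUV : IsAffineOpen (IV.subschemeι ⁻¹ᵁ U) := hU'.preimage IV.subschemeι
  have hUW : IsAffineOpen (IW.subschemeι ⁻¹ᵁ U) := hU'.preimage IW.subschemeι
  letI : Algebra K Γ(IV.subscheme, IV.subschemeι ⁻¹ᵁ U) := secAlg K (IV.subschemeι ≫ f) _
  letI : Algebra K Γ(IW.subscheme, IW.subschemeι ⁻¹ᵁ U) := secAlg K (IW.subschemeι ≫ f) _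
  obtain ⟨θ', hθ'1, hθ'2⟩ := exists_tensor_equiv K (IV.subschemeι ≫ f) (IW.subschemeι ≫ f)
    hUV hUW rfl rfl
  let ρV : Γ(X, U) →ₐ[K] Γ(IV.subscheme, IV.subschemeι ⁻¹ᵁ U) :=
    { (IV.subschemeι.app U).hom with
      commutes' := fun k => by
        have h1 : f.appLE ⊤ U le_top ≫ IV.subschemeι.app U =
            (IV.subschemeι ≫ f).appLE ⊤ (IV.subschemeι ⁻¹ᵁ U) le_top := by
          rw [Scheme.Hom.app_eq_appLE]
          exact Scheme.Hom.appLE_comp_appLE IV.subschemeι f ⊤ U (IV.subschemeι ⁻¹ᵁ U) le_top le_rfl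
        exact congr($(h1).hom ((Scheme.ΓSpecIso (CommRingCat.of K)).inv.hom k)) }
  let ρW : Γ(X, U) →ₐ[K] Γ(IW.subscheme, IW.subschemeι ⁻¹ᵁ U) :=
    { (IW.subschemeι.app U).hom with
      commutes' := fun k => by
        have h1 : f.appLE ⊤ U le_top ≫ IW.subschemeι.app U =
            (IW.subschemeι ≫ f).appLE ⊤ (IW.subschemeι ⁻¹ᵁ U) le_top := by
          rw [Scheme.Hom.app_eq_appLE]
          exact Scheme.Hom.appLE_comp_appLE IW.subschemeι f ⊤ U (IW.subschemeι ⁻¹ᵁ U) le_top le_rfl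
        exact congr($(h1).hom ((Scheme.ΓSpecIso (CommRingCat.of K)).inv.hom k)) }
  have hρV : Function.Surjective ρV := IV.subschemeι_app_surjective ⟨U, hU'⟩
  have hρW : Function.Surjective ρW := IW.subschemeι_app_surjective ⟨U, hU'⟩
  have hkρV : RingHom.ker ρV.toRingHom = IV.ideal ⟨U, hU'⟩ := IV.ker_subschemeι_app ⟨U, hU'⟩
  have hkρW : RingHom.ker ρW.toRingHom = IW.ideal ⟨U, hU'⟩ := IW.ker_subschemeι_app ⟨U, hU'⟩
  have hkerγ := Groth.Agent.H79.DiagBridge.ker_eq_map_sup ρV ρW hρV hρW θ θ'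
    ((gmap K f IV.subschemeι IW.subschemeι).appLE (W₀ K f U)
      (W₁ K f IV.subschemeι IW.subschemeι U)
      (preimage_gmap K f IV.subschemeι IW.subschemeι).ge).hom
    (fun r => by
      rw [hθ1, hθ'1]
      exact gmap_appLE_fst K f IV.subschemeι IW.subschemeι r)
    (fun r => by
      rw [hθ2, hθ'2]
      exact gmap_appLE_snd K f IV.subschemeι IW.subschemeι r)
  rw [hkρV, hkρW] at hkerγ
  have h𝔞 : RingHom.ker ((gmap K f IV.subschemeι IW.subschemeι).app (W₀ K f U)).hom =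
      ((IV.ideal ⟨U, hU'⟩).map (Algebra.TensorProduct.includeLeft (R := K) (S := K)
          (A := Γ(X, U)) (B := Γ(X, U))) ⊔
        (IW.ideal ⟨U, hU'⟩).map (Algebra.TensorProduct.includeRight (R := K)
          (A := Γ(X, U)) (B := Γ(X, U)))).map (θ : Γ(X, U) ⊗[K] Γ(X, U) →+* _) := by
    rw [ker_app_eq_ker_appLE _ _ _ (preimage_gmap K f IV.subschemeι IW.subschemeι)]
    exact hkerγ
  -- quasi-compactness of the product map
  have hqc : QuasiCompact (gmap K f IV.subschemeι IW.subschemeι) :=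
    MorphismProperty.pullbackMap (P := @QuasiCompact) inferInstance inferInstance rfl rfl
  -- stalk ideals
  have e1 : IntMult.stalkIdeal (pullback.diagonal f).ker (pullback.diagonal f ξ) =
      (RingHom.ker ((pullback.diagonal f).app (W₀ K f U)).hom).map
        (algebraMap Γ(pullback f f, W₀ K f U)
          ((pullback f f).presheaf.stalk (pullback.diagonal f ξ))) := by
    rw [Groth.Agent.H79.IntMultGeom.stalkIdeal_eq _ hW _ hz, Scheme.Hom.ker_apply]
    rfl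
  have e2 : IntMult.stalkIdeal (gmap K f IV.subschemeι IW.subschemeι).ker
        (pullback.diagonal f ξ) =
      (RingHom.ker ((gmap K f IV.subschemeι IW.subschemeι).app (W₀ K f U)).hom).map
        (algebraMap Γ(pullback f f, W₀ K f U)
          ((pullback f f).presheaf.stalk (pullback.diagonal f ξ))) := by
    rw [Groth.Agent.H79.IntMultGeom.stalkIdeal_eq _ hW _ hz, Scheme.Hom.ker_apply]
    rfl
  have e3 : IntMult.stalkIdeal IV ξ =
      (IV.ideal ⟨U, hU'⟩).map (algebraMap Γ(X, U) (X.presheaf.stalk ξ)) := by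
    rw [Groth.Agent.H79.IntMultGeom.stalkIdeal_eq IV hU' ξ hξ]
    rfl
  have e4 : IntMult.stalkIdeal IW ξ =
      (IW.ideal ⟨U, hU'⟩).map (algebraMap Γ(X, U) (X.presheaf.stalk ξ)) := by
    rw [Groth.Agent.H79.IntMultGeom.stalkIdeal_eq IW hU' ξ hξ]
    rfl
  rw [e1, e2, e3, e4]
  exact Groth.Agent.H79.DiagBridge.length_tor_bridge K Γ(X, U)
    (hU'.primeIdealOf ⟨ξ, hξ⟩).asIdeal (X.presheaf.stalk ξ) Γ(pullback f f, W₀ K f U) θ
    (hW.primeIdealOf ⟨_, hz⟩).asIdeal hq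
    ((pullback f f).presheaf.stalk (pullback.diagonal f ξ))
    (IV.ideal ⟨U, hU'⟩) (IW.ideal ⟨U, hU'⟩) _ _ h𝔡 h𝔞 n

end main

end Groth.Agent.H79.DiagSch
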