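import Mathlib
universe u v
namespace Groth.Agent.H79
open TrivSqZeroExt

section
variable {k : Type u} [Field k] {A : Type u} [CommRing A] [Algebra k A]

/-- The automorphism of the dual numbers attached to a derivation. -/
noncomputable def dualAutHom (D : Derivation k A A) : DualNumber A →ₐ[k] DualNumber A :=
  AlgHom.ofLinearMap
    { toFun := fun x => (inl x.fst + inr (x.snd + D x.fst) : DualNumber A)
      map_add' := fun x y => by
        ext <;> simp [add_add_add_comm]
      map_smul' := fun c x => by
        ext <;> simp }
    (by ext <;> simp)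
    (fun x y => by
      ext
      · simp
      · simp [Derivation.leibniz]; ring)

theorem dualAutHom_fst (D : Derivation k A A) (x : DualNumber A) : (dualAutHom D x).fst = x.fst := by
  simp [dualAutHom]

theorem dualAutHom_snd (D : Derivation k A A) (x : DualNumber A) :
    (dualAutHom D x).snd = x.snd + D x.fst := by
  simp [dualAutHom]

noncomputable def dualAut (D : Derivation k A A) : DualNumber A ≃ₐ[k] DualNumber A :=
  AlgEquiv.ofAlgHom (dualAutHom D) (dualAutHom (-D))
    (by
      apply AlgHom.ext; intro x
      ext
      · simp [dualAutHom_fst]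
      · simp [dualAutHom_snd, dualAutHom_fst])
    (by
      apply AlgHom.ext; intro x
      ext
      · simp [dualAutHom_fst]
      · simp [dualAutHom_snd, dualAutHom_fst])


theorem dualAut_apply (D : Derivation k A A) (x : DualNumber A) :
    dualAut D x = dualAutHom D x := rfl

/-- The derivation attached to an automorphism that is the identity modulo `ε`. -/
noncomputable def derivOfAut (φ : DualNumber A ≃ₐ[k] DualNumber A)
    (hφ : ∀ x, (φ x).fst = x.fst) : Derivation k A A where
  toFun a := (φ (inl a : DualNumber A)).snd
  map_add' a b := by simp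
  map_smul' c a := by
    have : (inl (c • a) : DualNumber A) = c • (inl a : DualNumber A) := by
      ext <;> simp
    rw [this, map_smul]
    simp
  map_one_eq_zero' := by
    change (φ (inl (1 : A) : DualNumber A)).snd = 0
    have : (inl (1 : A) : DualNumber A) = 1 := rfl
    rw [this, map_one]
    simp
  leibniz' a b := by
    change (φ (inl (a * b) : DualNumber A)).snd = a • (φ (inl b : DualNumber A)).snd
      + b • (φ (inl a : DualNumber A)).snd
    have : (inl (a * b) : DualNumber A) = inl a * inl b := by
      ext <;> simp
    rw [this, map_mul, TrivSqZeroExt.snd_mul, hφ, hφ]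
    simp [mul_comm]

theorem derivOfAut_apply (φ : DualNumber A ≃ₐ[k] DualNumber A)
    (hφ : ∀ x, (φ x).fst = x.fst) (a : A) :
    derivOfAut φ hφ a = (φ (inl a : DualNumber A)).snd := rfl

theorem aut_snd (φ : DualNumber A ≃ₐ[k] DualNumber A) (hε : φ DualNumber.eps = DualNumber.eps)
    (hφ : ∀ x, (φ x).fst = x.fst) (x : DualNumber A) :
    (φ x).snd = x.snd + (φ (inl x.fst : DualNumber A)).snd := by
  have hx : x = inl x.fst + inl x.snd * DualNumber.eps := by
    ext <;> simp
  conv_lhs => rw [hx]
  rw [map_add, map_mul, hε, TrivSqZeroExt.snd_add, TrivSqZeroExt.snd_mul, hφ]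
  simp [add_comm]

end
end Groth.Agent.H79
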