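import Groth.Agent.H79.DualNum
universe u v
namespace Groth.Agent.H79
open TrivSqZeroExt

section
variable {k : Type u} [Field k] {A : Type u} [CommRing A] [Algebra k A]
variable {ι : Type v}

/-- CRT: evaluation at finitely many distinct rational points is surjective. -/
theorem exists_eval_eq [Finite ι] (q : ι → (A →ₐ[k] k)) (hq : Function.Injective q) (v : ι → k) :
    ∃ a : A, ∀ i, q i a = v i := by
  have hmax : ∀ i, (RingHom.ker (q i : A →+* k)).IsMaximal := fun i =>
    RingHom.ker_isMaximal_of_surjective _ (fun c => ⟨algebraMap k A c, by simp⟩)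
  have hcop : Pairwise (Function.onFun IsCoprime fun i => RingHom.ker (q i : A →+* k)) := by
    intro i j hij
    apply Ideal.isCoprime_of_isMaximal
    intro h
    replace h : RingHom.ker (q i : A →+* k) = RingHom.ker (q j : A →+* k) := h
    apply hij
    apply hq
    apply AlgHom.ext
    intro a
    have h1 : a - algebraMap k A (q i a) ∈ RingHom.ker (q i : A →+* k) := by
      rw [RingHom.mem_ker]; simp
    rw [h, RingHom.mem_ker] at h1
    have h2 : q j a - q i a = 0 := by simpa using h1
    exact (sub_eq_zero.1 h2).symm
  obtain ⟨r, hr⟩ := Ideal.exists_forall_sub_mem_ideal hcop (fun i => algebraMap k A (v i))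
  refine ⟨r, fun i => ?_⟩
  have := hr i
  rw [RingHom.mem_ker] at this
  have h2 : q i r - v i = 0 := by simpa using this
  exact sub_eq_zero.1 h2


/-- Lift point-derivations at finitely many distinct rational points to a global derivation. -/
theorem exists_derivation_eval [Finite ι] [Algebra.FormallySmooth k A]
    (q : ι → (A →ₐ[k] k)) (hq : Function.Injective q)
    (δ : ι → A →ₗ[k] k) (hδ : ∀ i a b, δ i (a * b) = q i a * δ i b + q i b * δ i a) :
    ∃ D : Derivation k A A, ∀ i a, q i (D a) = δ i a := by
  classical
  let π : A →ₐ[k] (ι → k) := AlgHom.pi q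
  let _ : Algebra A (ι → k) := π.toRingHom.toAlgebra
  have : IsScalarTower k A (ι → k) := IsScalarTower.of_algHom π
  have hsmul : ∀ (a : A) (v : ι → k) (i : ι), (a • v) i = q i a * v i := fun a v i => rfl
  let Δ : Derivation k A (ι → k) :=
    { toLinearMap := LinearMap.pi δ
      map_one_eq_zero' := by
        funext i
        have h := hδ i 1 1
        simp only [mul_one, map_one, one_mul] at h
        change δ i 1 = 0
        exact left_eq_add.1 h
      leibniz' := fun a b => by
        funext i
        change δ i (a * b) = (a • (LinearMap.pi δ b)) i + (b • (LinearMap.pi δ a)) i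
        rw [hsmul, hsmul, hδ]
        rfl }
  let Δ' : Ω[A⁄k] →ₗ[A] (ι → k) := (KaehlerDifferential.linearMapEquivDerivation k A).symm Δ
  let πl : A →ₗ[A] (ι → k) := Algebra.linearMap A (ι → k)
  have hπl : ∀ a i, πl a i = q i a := fun a i => rfl
  have hsurj : Function.Surjective πl := by
    intro v
    obtain ⟨a, ha⟩ := exists_eval_eq q hq v
    exact ⟨a, funext fun i => by rw [hπl, ha]⟩
  obtain ⟨L, hL⟩ := Module.projective_lifting_property πl Δ' hsurj
  refine ⟨KaehlerDifferential.linearMapEquivDerivation k A L, fun i a => ?_⟩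
  rw [KaehlerDifferential.linearMapEquivDerivation_apply_apply, ← hπl]
  have := LinearMap.congr_fun hL (KaehlerDifferential.D k A a)
  rw [LinearMap.comp_apply] at this
  rw [this]
  change (Derivation.liftKaehlerDifferential Δ) (KaehlerDifferential.D k A a) i = δ i a
  rw [Derivation.liftKaehlerDifferential_comp_D]
  rfl


theorem exists_markedAut [Finite ι] [Algebra.FormallySmooth k A]
    (q : ι → (A →ₐ[k] k)) (hq : Function.Injective q)
    (q' : ι → (DualNumber A →ₐ[k] DualNumber k))
    (hε : ∀ i, q' i DualNumber.eps = DualNumber.eps) (hq' : ∀ i x, (q' i x).fst = q i x.fst) :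
    ∃ φ : DualNumber A ≃ₐ[k] DualNumber A,
      φ DualNumber.eps = DualNumber.eps ∧ (∀ x, (φ x).fst = x.fst) ∧
        ∀ i x, (q' i (φ x)).fst = q i x.fst ∧ (q' i (φ x)).snd = q i x.snd := by
  let δ : ι → A →ₗ[k] k := fun i =>
    { toFun := fun a => -(q' i (inl a : DualNumber A)).snd
      map_add' := fun a b => by simp [add_comm]
      map_smul' := fun c a => by
        have : (inl (c • a) : DualNumber A) = c • (inl a : DualNumber A) := by
          ext <;> simp
        rw [this, map_smul]
        simp }
  have hδ : ∀ i a b, δ i (a * b) = q i a * δ i b + q i b * δ i a := by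
    intro i a b
    change -(q' i (inl (a * b) : DualNumber A)).snd =
      q i a * -(q' i (inl b : DualNumber A)).snd + q i b * -(q' i (inl a : DualNumber A)).snd
    have : (inl (a * b) : DualNumber A) = inl a * inl b := by
      ext <;> simp
    rw [this, map_mul, TrivSqZeroExt.snd_mul, hq', hq']
    simp
    ring
  obtain ⟨D, hD⟩ := exists_derivation_eval q hq δ hδ
  have hD' : ∀ i a, q i (D a) = -(q' i (inl a : DualNumber A)).snd := hD
  refine ⟨dualAut D, ?_, ?_, ?_⟩
  · rw [dualAut_apply]
    ext
    · rw [dualAutHom_fst]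
    · rw [dualAutHom_snd]; simp
  · intro x
    rw [dualAut_apply, dualAutHom_fst]
  · intro i x
    rw [dualAut_apply]
    refine ⟨by rw [hq', dualAutHom_fst], ?_⟩
    have hx : dualAutHom D x = inl x.fst + inl (x.snd + D x.fst) * DualNumber.eps := by
      ext
      · rw [dualAutHom_fst]; simp
      · rw [dualAutHom_snd]; simp
    rw [hx, map_add, map_mul, hε, TrivSqZeroExt.snd_add, TrivSqZeroExt.snd_mul, hq']
    simp [hD']

end
end Groth.Agent.H79
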