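import Groth.Agent.H79.E8Enum

/-!
# Conic and exceptional classes in `DP δ`, `δ ≤ 8`: bounds, complete lists, sorting
-/

namespace Groth.Agent.H79.E8

open W4c3severiratdp

variable {δ : ℕ}

theorem cs_all (b : Fin δ → ℤ) (hδ : δ ≤ 8) : (∑ i, b i) ^ 2 ≤ 8 * ∑ i, b i * b i := by
  have h := sq_sum_le_card_mul_sum_sq (s := (Finset.univ : Finset (Fin δ))) (f := b)
  simp only [Finset.card_univ, Fintype.card_fin] at h
  have h2 : ∑ i, b i ^ 2 = ∑ i, b i * b i := Finset.sum_congr rfl fun i _ => sq (b i)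
  rw [h2] at h
  have h3 : 0 ≤ ∑ i, b i * b i := Finset.sum_nonneg fun i _ => mul_self_nonneg _
  have h4 : (δ : ℤ) ≤ 8 := by exact_mod_cast hδ
  nlinarith

theorem cs_erase (b : Fin δ → ℤ) (hδ : δ ≤ 8) (i : Fin δ) :
    (∑ j, b j - b i) ^ 2 ≤ 7 * (∑ j, b j * b j - b i * b i) := by
  have h := sq_sum_le_card_mul_sum_sq (s := (Finset.univ.erase i : Finset (Fin δ))) (f := b)
  have h2 : ∑ j ∈ Finset.univ.erase i, b j ^ 2 = ∑ j, b j * b j - b i * b i := by
    rw [Finset.sum_erase_eq_sub (Finset.mem_univ i), sq]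
    congr 1
    exact Finset.sum_congr rfl fun j _ => sq (b j)
  rw [Finset.sum_erase_eq_sub (Finset.mem_univ i), h2] at h
  have h3 : 0 ≤ ∑ j, b j * b j - b i * b i := by
    rw [← h2]; exact Finset.sum_nonneg fun j _ => sq_nonneg _
  have hc : ((Finset.univ.erase i : Finset (Fin δ)).card : ℤ) ≤ 7 := by
    rw [Finset.card_erase_of_mem (Finset.mem_univ i), Finset.card_univ, Fintype.card_fin]
    have : 0 < δ := i.pos
    omega
  nlinarith

/-- The list of all conic classes of `DP δ` (for `δ ≤ 8`). -/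
def conicsL (δ : ℕ) : List (List ℤ) := classL δ 1 11 0 4 0 2

/-- The list of all exceptional classes of `DP δ` (for `δ ≤ 8`). -/
def excsL (δ : ℕ) : List (List ℤ) := classL δ (-1) 7 (-1) 3 (-1) 1

theorem mem_conicsL (hδ : δ ≤ 8) {v : DP δ} (hv : IsConic v) : toL v ∈ conicsL δ := by
  obtain ⟨hq, hk⟩ := hv
  have hq' := hq
  have hk' := hk
  rw [form_self_eq] at hq'
  rw [form_canon_eq] at hk'
  have hS : ∑ i : Fin δ, v i.succ = 3 * v 0 - 2 := by linarith
  have hQ : ∑ i : Fin δ, v i.succ * v i.succ = v 0 * v 0 := by linarith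
  refine classL_complete 1 11 0 4 0 2 v hq hk ?_ ?_
  · have h := cs_all (fun i : Fin δ => v i.succ) hδ
    rw [hS, hQ] at h
    constructor <;> nlinarith
  · intro i
    have h := cs_erase (fun i : Fin δ => v i.succ) hδ i
    simp only [hS, hQ] at h
    have h2 : v i.succ * v i.succ - 4 * v i.succ - 4 ≤ 0 := by
      nlinarith [sq_nonneg (4 * v 0 - (6 * v i.succ + 12))]
    constructor <;> nlinarith

theorem mem_excsL (hδ : δ ≤ 8) {v : DP δ} (hv : IsExc v) : toL v ∈ excsL δ := by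
  obtain ⟨hq, hk⟩ := hv
  have hq' := hq
  have hk' := hk
  rw [form_self_eq] at hq'
  rw [form_canon_eq] at hk'
  have hS : ∑ i : Fin δ, v i.succ = 3 * v 0 - 1 := by linarith
  have hQ : ∑ i : Fin δ, v i.succ * v i.succ = v 0 * v 0 + 1 := by linarith
  refine classL_complete (-1) 7 (-1) 3 (-1) 1 v hq hk ?_ ?_
  · have h := cs_all (fun i : Fin δ => v i.succ) hδ
    rw [hS, hQ] at h
    constructor <;> nlinarith
  · intro i
    have h := cs_erase (fun i : Fin δ => v i.succ) hδ i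
    simp only [hS, hQ] at h
    have h2 : (v i.succ - 3) * (v i.succ + 1) ≤ 0 := by
      nlinarith [sq_nonneg (4 * v 0 - (6 * v i.succ + 6))]
    constructor <;> nlinarith

theorem isConic_of_mem {v : DP δ} (h : toL v ∈ conicsL δ) : IsConic v := by
  obtain ⟨_, h2, h3⟩ := classL_sound 1 11 0 4 0 2 _ h
  rw [dotL_toL] at h2 h3
  exact ⟨h2, h3⟩

theorem isExc_of_mem {v : DP δ} (h : toL v ∈ excsL δ) : IsExc v := by
  obtain ⟨_, h2, h3⟩ := classL_sound (-1) 7 (-1) 3 (-1) 1 _ h
  rw [dotL_toL] at h2 h3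
  exact ⟨h2, h3⟩

theorem length_of_mem_conicsL {l : List ℤ} (h : l ∈ conicsL δ) : l.length = δ + 1 :=
  (classL_sound 1 11 0 4 0 2 _ h).1

theorem length_of_mem_excsL {l : List ℤ} (h : l ∈ excsL δ) : l.length = δ + 1 :=
  (classL_sound (-1) 7 (-1) 3 (-1) 1 _ h).1

/-! ### Counting -/

theorem ncard_eq_length (P : DP δ → Prop) (C : List (List ℤ)) (hC : C.Nodup)
    (hlen : ∀ l ∈ C, l.length = δ + 1) (hP : ∀ v : DP δ, P v ↔ toL v ∈ C) :
    {v : DP δ | P v}.ncard = C.length := by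
  have h1 : {v : DP δ | P v} = toL ⁻¹' (↑C.toFinset : Set (List ℤ)) := by
    ext v
    simp [hP]
  rw [h1, Set.ncard_preimage_of_injective_subset_range toL_injective, Set.ncard_coe_finset,
    List.toFinset_card_of_nodup hC]
  intro l hl
  simp only [Finset.mem_coe, List.mem_toFinset] at hl
  exact ⟨ofL l, toL_ofL l (hlen l hl)⟩

theorem ncard_conics (hδ : δ ≤ 8) : {v : DP δ | IsConic v}.ncard = (conicsL δ).length :=
  ncard_eq_length _ _ (classL_nodup _ _ _ _ _ _) (fun _ h => length_of_mem_conicsL h)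
    (fun _ => ⟨mem_conicsL hδ, isConic_of_mem⟩)

theorem ncard_excs (hδ : δ ≤ 8) : {v : DP δ | IsExc v}.ncard = (excsL δ).length :=
  ncard_eq_length _ _ (classL_nodup _ _ _ _ _ _) (fun _ h => length_of_mem_excsL h)
    (fun _ => ⟨mem_excsL hδ, isExc_of_mem⟩)

/-! ### Sorting -/

theorem exists_perm_antitone (v : DP δ) :
    ∃ σ : Equiv.Perm (Fin δ), Antitone (fun i => v (σ i).succ) := by
  let b : Fin δ → ℤ := fun i => v i.succ
  refine ⟨Fin.revPerm.trans (Tuple.sort b), ?_⟩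
  intro i j hij
  have := Tuple.monotone_sort b (Fin.rev_le_rev.2 hij)
  exact this

theorem toL_permW (σ : Equiv.Perm (Fin δ)) (v : DP δ) :
    toL (permW σ v) = v 0 :: List.ofFn (fun i => v (σ i).succ) := by
  unfold toL
  rw [List.ofFn_succ]
  rfl

/-- The tail of a list is non-increasing. -/
def DescTail (l : List ℤ) : Prop := l.tail.Pairwise (fun x y => y ≤ x)

instance (l : List ℤ) : Decidable (DescTail l) := by unfold DescTail; infer_instance

theorem exists_perm_descTail (v : DP δ) : ∃ σ : Equiv.Perm (Fin δ), DescTail (toL (permW σ v)) := by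
  obtain ⟨σ, hσ⟩ := exists_perm_antitone v
  refine ⟨σ, ?_⟩
  unfold DescTail
  rw [toL_permW, List.tail_cons, List.pairwise_ofFn]
  intro i j hij
  exact hσ hij.le

end Groth.Agent.H79.E8
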