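import Groth.Agent.H79.E8Class

/-!
# Conic classes of `DP δ`, `2 ≤ δ ≤ 8`: transitivity and orbits of pairs
-/

namespace Groth.Agent.H79.E8

open W4c3severiratdp

/-- The root `e_{i+1} - e_{i+2}` of `DP δ` as a list. -/
def transpL (δ i : ℕ) : List ℤ :=
  (List.range (δ + 1)).map (fun j => if j = i + 1 then -1 else if j = i + 2 then 1 else 0)

/-- The root `ℓ - e_1 - e_2 - e_3`. -/
def cremL (δ : ℕ) : List ℤ := (List.range (δ + 1)).map (fun j => if j ≤ 3 then 1 else 0)

/-- The simple roots of `DP δ`. -/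
def simpleL (δ : ℕ) : List (List ℤ) :=
  (List.range (δ - 1)).map (transpL δ) ++ (if 3 ≤ δ then [cremL δ] else [])

/-- The dominant conic class `ℓ - e_1`. -/
def conQ0 (δ : ℕ) : List ℤ := (List.range (δ + 1)).map (fun j => if j ≤ 1 then 1 else 0)

/-- Normal forms of the second member of a pair of conic classes, `δ = 8`. -/
def conTab8 (k : ℤ) : List ℤ :=
  if k = 0 then [1,1,0,0,0,0,0,0,0]
  else if k = 1 then [1,0,1,0,0,0,0,0,0]
  else if k = 2 then [2,0,1,1,1,1,0,0,0]
  else if k = 3 then [3,0,2,1,1,1,1,1,0]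
  else if k = 4 then [5,1,2,2,2,2,2,2,0]
  else if k = 5 then [5,0,2,2,2,2,2,2,1]
  else if k = 6 then [7,1,3,3,3,3,2,2,2]
  else if k = 7 then [8,1,3,3,3,3,3,3,3]
  else [11,3,4,4,4,4,4,4,4]

/-- Normal forms of the second member of a pair of conic classes. -/
def conTab (δ : ℕ) (k : ℤ) : List ℤ := (conTab8 k).take (δ + 1)

/-- The second normal form for `δ = 8`, `k = 4`. -/
def conTab4' : List ℤ := [4,0,2,2,2,1,1,1,1]

/-- The computational certificate for `DP δ`. -/
def ConicCert (δ : ℕ) : Prop :=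
  (∀ α ∈ simpleL δ, IsRootL δ α) ∧
  (∀ l ∈ conicsL δ, reduceT (simpleL δ) 100 [l] = [conQ0 δ]) ∧
  (∀ l ∈ conicsL δ,
    reduceT (simpleL δ) 100 [conQ0 δ, l] = [conQ0 δ, conTab δ (dotL (conQ0 δ) l)] ∨
    (δ = 8 ∧ dotL (conQ0 δ) l = 4 ∧ reduceT (simpleL δ) 100 [conQ0 δ, l] = [conQ0 δ, conTab4']))

instance (δ : ℕ) : Decidable (ConicCert δ) := by unfold ConicCert; infer_instance

set_option maxRecDepth 100000 in
theorem conicCert2 : ConicCert 2 := by decide +kernel
set_option maxRecDepth 100000 in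
theorem conicCert3 : ConicCert 3 := by decide +kernel
set_option maxRecDepth 100000 in
theorem conicCert4 : ConicCert 4 := by decide +kernel
set_option maxRecDepth 100000 in
theorem conicCert5 : ConicCert 5 := by decide +kernel
set_option maxRecDepth 100000 in
theorem conicCert6 : ConicCert 6 := by decide +kernel
set_option maxRecDepth 100000 in
theorem conicCert7 : ConicCert 7 := by decide +kernel

set_option maxRecDepth 100000 in
theorem conicCert8 : ConicCert 8 := by decide +kernel

theorem conicCert_of (δ : ℕ) (h2 : 2 ≤ δ) (h8 : δ ≤ 8) : ConicCert δ := by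
  interval_cases δ
  · exact conicCert2
  · exact conicCert3
  · exact conicCert4
  · exact conicCert5
  · exact conicCert6
  · exact conicCert7
  · exact conicCert8

/-- Normal form of a pair of conic classes under the Weyl group. -/
theorem conic_pair_normal_form {δ : ℕ} (hδ : δ ≤ 8) (hC : ConicCert δ) (v₁ v₂ : DP δ)
    (h₁ : IsConic v₁) (h₂ : IsConic v₂) :
    ∃ g : DP δ ≃ₗ[ℤ] DP δ, IsWeyl g ∧ toL (g v₁) = conQ0 δ ∧
      (toL (g v₂) = conTab δ (form v₁ v₂) ∨
        (δ = 8 ∧ form v₁ v₂ = 4 ∧ toL (g v₂) = conTab4')) := by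
  obtain ⟨hR, hA, hB⟩ := hC
  obtain ⟨g0, hg0, h0⟩ := reduceT_spec (δ := δ) (simpleL δ) hR 100 [v₁]
  have h0' : toL (g0 v₁) = conQ0 δ := by
    have h2 := hA _ (mem_conicsL hδ h₁)
    simp only [List.map_cons, List.map_nil] at h0
    rw [h2] at h0
    simpa using h0.symm
  obtain ⟨g, hg, h⟩ := reduceT_spec (δ := δ) (simpleL δ) hR 100 [g0 v₁, g0 v₂]
  simp only [List.map_cons, List.map_nil] at h
  rw [h0'] at h
  have h3 : dotL (conQ0 δ) (toL (g0 v₂)) = form v₁ v₂ := by
    rw [← h0', dotL_toL, hg0.1]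
  refine ⟨g0.trans g, isWeyl_trans hg0 hg, ?_, ?_⟩
  · rcases hB _ (mem_conicsL hδ (isWeyl_conic hg0 h₂)) with h2 | ⟨_, _, h2⟩
    · rw [h2] at h
      simp only [List.cons.injEq, and_true] at h
      simpa using h.1.symm
    · rw [h2] at h
      simp only [List.cons.injEq, and_true] at h
      simpa using h.1.symm
  · rcases hB _ (mem_conicsL hδ (isWeyl_conic hg0 h₂)) with h2 | ⟨h8, h4, h2⟩
    · left
      rw [h2, h3] at h
      simp only [List.cons.injEq, and_true] at h
      simpa using h.2.symm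
    · right
      rw [h2] at h
      simp only [List.cons.injEq, and_true] at h
      exact ⟨h8, by rw [← h3]; exact h4, by simpa using h.2.symm⟩

theorem isConic_ofL {δ : ℕ} (l : List ℤ) (hl : l.length = δ + 1) (h1 : dotL l l = 0)
    (h2 : dotL (toL (canon δ)) l = -2) : IsConic (ofL l : DP δ) := by
  constructor
  · rw [← dotL_toL, toL_ofL l hl]; exact h1
  · rw [← dotL_toL, toL_ofL l hl]; exact h2

end Groth.Agent.H79.E8
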