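import Groth.Agent.H79.E8Frame

/-!
# Verified enumeration of lattice vectors of given square and degree
-/

namespace Groth.Agent.H79.E8

open W4c3severiratdp

variable {δ : ℕ}

/-- The integers `lo, …, hi`. -/
def rangeZ (lo hi : ℤ) : List ℤ :=
  (List.range (hi - lo + 1).toNat).map (fun i : ℕ => lo + (i : ℤ))

theorem mem_rangeZ {lo hi c : ℤ} : c ∈ rangeZ lo hi ↔ lo ≤ c ∧ c ≤ hi := by
  unfold rangeZ
  rw [List.mem_map]
  constructor
  · rintro ⟨i, hi', rfl⟩
    rw [List.mem_range] at hi'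
    omega
  · rintro ⟨h1, h2⟩
    refine ⟨(c - lo).toNat, ?_, ?_⟩
    · rw [List.mem_range]; omega
    · omega

theorem nodup_rangeZ (lo hi : ℤ) : (rangeZ lo hi).Nodup := by
  unfold rangeZ
  refine List.Nodup.map (f := fun i : ℕ => lo + (i : ℤ)) ?_ (List.nodup_range (n := (hi - lo + 1).toNat))
  intro i j h
  simpa using h

/-- All lists of length `n` with entries in `[lo, hi]`, sum `S` and sum of squares `Q`. -/
def enumL : ℕ → ℤ → ℤ → ℤ → ℤ → List (List ℤ)
  | 0, _, _, S, Q => if S = 0 ∧ Q = 0 then [[]] else []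
  | n + 1, lo, hi, S, Q =>
    if ((n : ℤ) + 1) * Q < S * S ∨ (lo + hi) * S - ((n : ℤ) + 1) * lo * hi < Q then [] else
    (rangeZ lo hi).flatMap (fun c => (enumL n lo hi (S - c) (Q - c * c)).map (fun l => c :: l))

theorem enumL_complete (lo hi : ℤ) : ∀ (n : ℕ) (b : Fin n → ℤ), (∀ i, lo ≤ b i ∧ b i ≤ hi) →
    List.ofFn b ∈ enumL n lo hi (∑ i, b i) (∑ i, b i * b i)
  | 0, b, _ => by simp [enumL]
  | n + 1, b, hb => by
    rw [enumL]
    have h1 : ¬ (((n : ℤ) + 1) * (∑ i, b i * b i) < (∑ i, b i) * (∑ i, b i)) := by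
      have := sq_sum_le_card_mul_sum_sq (s := (Finset.univ : Finset (Fin (n + 1)))) (f := b)
      simp only [Finset.card_univ, Fintype.card_fin, Nat.cast_add, Nat.cast_one] at this
      have h2 : ∑ i, b i ^ 2 = ∑ i, b i * b i := Finset.sum_congr rfl fun i _ => sq (b i)
      rw [h2, sq] at this
      exact not_lt.2 this
    have h2 : ¬ ((lo + hi) * (∑ i, b i) - ((n : ℤ) + 1) * lo * hi < ∑ i, b i * b i) := by
      have h3 : 0 ≤ ∑ i, ((lo + hi) * b i - lo * hi - b i * b i) :=
        Finset.sum_nonneg fun i _ => by nlinarith [hb i]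
      rw [Finset.sum_sub_distrib, Finset.sum_sub_distrib, ← Finset.mul_sum] at h3
      simp only [Finset.sum_const, Finset.card_univ, Fintype.card_fin, nsmul_eq_mul, Nat.cast_add,
        Nat.cast_one] at h3
      rw [not_lt]
      linarith
    rw [if_neg (by tauto)]
    rw [List.mem_flatMap]
    refine ⟨b 0, mem_rangeZ.2 (hb 0), ?_⟩
    rw [List.ofFn_succ, List.mem_map]
    refine ⟨_, ?_, rfl⟩
    have := enumL_complete lo hi n (fun i => b i.succ) (fun i => hb i.succ)
    have e1 : ∑ i, b i - b 0 = ∑ i : Fin n, b i.succ := by rw [Fin.sum_univ_succ]; ring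
    have e2 : ∑ i, b i * b i - b 0 * b 0 = ∑ i : Fin n, b i.succ * b i.succ := by
      rw [Fin.sum_univ_succ]; ring
    rw [e1, e2]
    exact this

theorem enumL_sound (lo hi : ℤ) : ∀ (n : ℕ) (S Q : ℤ) (l : List ℤ), l ∈ enumL n lo hi S Q →
    l.length = n ∧ l.sum = S ∧ sumProd l l = Q
  | 0, S, Q, l, hl => by
    rw [enumL] at hl
    split_ifs at hl with h
    · simp only [List.mem_singleton] at hl
      subst hl
      simp [sumProd, h.1, h.2]
    · simp at hl
  | n + 1, S, Q, l, hl => by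
    rw [enumL] at hl
    split_ifs at hl with h
    · simp at hl
    · rw [List.mem_flatMap] at hl
      obtain ⟨c, _, hl⟩ := hl
      rw [List.mem_map] at hl
      obtain ⟨l', hl', rfl⟩ := hl
      obtain ⟨h1, h2, h3⟩ := enumL_sound lo hi n _ _ l' hl'
      refine ⟨by simp [h1], by simp [h2], ?_⟩
      rw [sumProd, h3]; ring

theorem enumL_nodup (lo hi : ℤ) : ∀ (n : ℕ) (S Q : ℤ), (enumL n lo hi S Q).Nodup
  | 0, S, Q => by
    rw [enumL]; split_ifs <;> simp
  | n + 1, S, Q => by
    rw [enumL]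
    split_ifs
    · simp
    · rw [List.nodup_flatMap]
      constructor
      · intro c _
        exact (enumL_nodup lo hi n _ _).map (fun a b h => by simpa using h)
      · refine (nodup_rangeZ lo hi).pairwise_of_forall_ne (fun a _ b _ hab => ?_)
        simp only [Function.onFun]
        rw [List.disjoint_left]
        intro l hl1 hl2
        rw [List.mem_map] at hl1 hl2
        obtain ⟨l1, _, rfl⟩ := hl1
        obtain ⟨l2, _, h⟩ := hl2
        simp only [List.cons.injEq] at h
        exact hab h.1.symm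

/-- The list of all vectors `(a; b)` with `alo ≤ a ≤ ahi`, `lo ≤ b_i ≤ hi`, square `s` and
degree `m` (that is `K·v = -m`). -/
def classL (δ : ℕ) (alo ahi lo hi s m : ℤ) : List (List ℤ) :=
  (rangeZ alo ahi).flatMap
    (fun a => (enumL δ lo hi (3 * a - m) (a * a - s)).map (fun l => a :: l))

theorem form_self_eq (v : DP δ) : form v v = v 0 * v 0 - ∑ i : Fin δ, v i.succ * v i.succ := rfl

theorem form_canon_eq (v : DP δ) : form (canon δ) v = -3 * v 0 + ∑ i : Fin δ, v i.succ := by
  unfold form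
  have : ∑ i : Fin δ, canon δ i.succ * v i.succ = - ∑ i : Fin δ, v i.succ := by
    rw [← Finset.sum_neg_distrib]
    exact Finset.sum_congr rfl fun j _ => by simp [canon]
  rw [this]
  simp [canon]

theorem classL_complete (alo ahi lo hi s m : ℤ) (v : DP δ) (hs : form v v = s)
    (hm : form (canon δ) v = -m) (ha : alo ≤ v 0 ∧ v 0 ≤ ahi)
    (hb : ∀ i : Fin δ, lo ≤ v i.succ ∧ v i.succ ≤ hi) :
    toL v ∈ classL δ alo ahi lo hi s m := by
  unfold classL toL
  rw [List.mem_flatMap]
  refine ⟨v 0, mem_rangeZ.2 ha, ?_⟩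
  rw [List.ofFn_succ, List.mem_map]
  refine ⟨_, ?_, rfl⟩
  have := enumL_complete lo hi δ (fun i => v i.succ) hb
  rw [form_self_eq] at hs
  rw [form_canon_eq] at hm
  have e1 : ∑ i : Fin δ, v i.succ = 3 * v 0 - m := by linarith
  have e2 : ∑ i : Fin δ, v i.succ * v i.succ = v 0 * v 0 - s := by linarith
  rw [e1, e2] at this
  exact this

theorem classL_sound (alo ahi lo hi s m : ℤ) (l : List ℤ) (hl : l ∈ classL δ alo ahi lo hi s m) :
    l.length = δ + 1 ∧ dotL l l = s ∧ dotL (toL (canon δ)) l = -m := by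
  unfold classL at hl
  rw [List.mem_flatMap] at hl
  obtain ⟨a, _, hl⟩ := hl
  rw [List.mem_map] at hl
  obtain ⟨l', hl', rfl⟩ := hl
  obtain ⟨h1, h2, h3⟩ := enumL_sound lo hi δ _ _ l' hl'
  refine ⟨by simp [h1], by rw [dotL, h3]; ring, ?_⟩
  have hl'' : l' = List.ofFn (fun i : Fin δ => l'.getD i 0) := by
    apply List.ext_getElem
    · simp [h1]
    · intro i h4 h5
      rw [List.getElem_ofFn]
      simp [List.getD_eq_getElem?_getD, List.getElem?_eq_getElem h4]
  have : a :: l' = toL (Fin.cases a (fun i : Fin δ => l'.getD i 0) : DP δ) := by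
    unfold toL
    rw [List.ofFn_succ]
    simp only [Fin.cases_zero, Fin.cases_succ]
    rw [← hl'']
  rw [this, dotL_toL, form_canon_eq]
  simp only [Fin.cases_zero, Fin.cases_succ]
  have h5 : ∑ i : Fin δ, l'.getD (↑i) 0 = l'.sum := by
    conv_rhs => rw [hl'']
    rw [List.sum_ofFn]
  rw [h5, h2]; ring

theorem classL_nodup (alo ahi lo hi s m : ℤ) : (classL δ alo ahi lo hi s m).Nodup := by
  unfold classL
  rw [List.nodup_flatMap]
  constructor
  · intro c _
    exact (enumL_nodup lo hi δ _ _).map (fun a b h => by simpa using h)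
  · refine (nodup_rangeZ alo ahi).pairwise_of_forall_ne (fun a _ b _ hab => ?_)
    simp only [Function.onFun]
    rw [List.disjoint_left]
    intro l hl1 hl2
    rw [List.mem_map] at hl1 hl2
    obtain ⟨l1, _, rfl⟩ := hl1
    obtain ⟨l2, _, h⟩ := hl2
    simp only [List.cons.injEq] at h
    exact hab h.1.symm

end Groth.Agent.H79.E8
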