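import Groth.Agent.H79.E8Class

/-!
# Exceptional classes of `DP 8`: transitivity and the stabilizer orbits
-/

namespace Groth.Agent.H79.E8

open W4c3severiratdp

/-- The simple roots `e_i - e_{i+1}` and `ℓ - e_1 - e_2 - e_3` of `E_8`. -/
def simple8 : List (List ℤ) :=
  [[0,-1,1,0,0,0,0,0,0],[0,0,-1,1,0,0,0,0,0],[0,0,0,-1,1,0,0,0,0],[0,0,0,0,-1,1,0,0,0],
   [0,0,0,0,0,-1,1,0,0],[0,0,0,0,0,0,-1,1,0],[0,0,0,0,0,0,0,-1,1],[1,1,1,1,0,0,0,0,0]]

theorem simple8_roots : ∀ α ∈ simple8, IsRootL 8 α := by decide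

/-- The dominant exceptional class `e_8`. -/
def excL0 : List ℤ := [0,0,0,0,0,0,0,0,-1]

/-- Normal forms of the exceptional classes with prescribed product with `e_8`. -/
def excTab (c : ℤ) : List ℤ :=
  if c = 0 then [0,0,0,0,0,0,0,-1,0]
  else if c = 1 then [1,1,0,0,0,0,0,0,1]
  else if c = 2 then [3,1,1,1,1,1,1,0,2]
  else if c = 3 then [6,2,2,2,2,2,2,2,3]
  else excL0

set_option maxRecDepth 100000 in
theorem exc_checkA : ∀ l ∈ excsL 8, reduceT simple8 100 [l] = [excL0] := by decide +kernel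

set_option maxRecDepth 100000 in
theorem exc_checkB : ∀ l ∈ excsL 8,
    reduceT simple8 100 [excL0, l] = [excL0, excTab (dotL excL0 l)] := by decide +kernel

/-- `W_8` is transitive on exceptional classes. -/
theorem exc_transitive (L : DP 8) (hL : IsExc L) :
    ∃ g : DP 8 ≃ₗ[ℤ] DP 8, IsWeyl g ∧ toL (g L) = excL0 := by
  obtain ⟨g, hg, h⟩ := reduceT_spec (δ := 8) simple8 simple8_roots 100 [L]
  refine ⟨g, hg, ?_⟩
  have h2 := exc_checkA _ (mem_excsL (by norm_num) hL)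
  simp only [List.map_cons, List.map_nil] at h
  rw [h2] at h
  simpa using h.symm

/-- Normal form of a pair of exceptional classes under `W_8`. -/
theorem exc_pair_normal_form (L L₁ : DP 8) (hL : IsExc L) (hL₁ : IsExc L₁) :
    ∃ g : DP 8 ≃ₗ[ℤ] DP 8, IsWeyl g ∧ toL (g L) = excL0 ∧ toL (g L₁) = excTab (form L₁ L) := by
  obtain ⟨g0, hg0, h0⟩ := exc_transitive L hL
  obtain ⟨g, hg, h⟩ := reduceT_spec (δ := 8) simple8 simple8_roots 100 [g0 L, g0 L₁]
  have h2 := exc_checkB _ (mem_excsL (by norm_num) (isWeyl_exc hg0 hL₁))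
  simp only [List.map_cons, List.map_nil] at h
  rw [h0, h2] at h
  simp only [List.cons.injEq, and_true] at h
  refine ⟨g0.trans g, isWeyl_trans hg0 hg, ?_, ?_⟩
  · simpa using h.1.symm
  · have h3 : dotL excL0 (toL (g0 L₁)) = form L₁ L := by
      rw [← h0, dotL_toL, hg0.1, form_comm]
    rw [← h3]
    simpa using h.2.symm

end Groth.Agent.H79.E8
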