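import Groth.Prelude.Def_W4c3severiratdpLat
import Mathlib

/-!
# Computational framework for the lattices `DP δ`

Reflections and permutations as Weyl elements, a list-level mirror of the lattice
operations that the kernel can evaluate, a verified enumerator for the vectors of
given square and degree, and a verified greedy reduction by reflections.
-/

namespace Groth.Agent.H79.E8

open W4c3severiratdp

variable {δ : ℕ}

/-! ### Algebra of the form -/

theorem form_comm (v w : DP δ) : form v w = form w v := by
  unfold form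
  rw [mul_comm]
  congr 1
  exact Finset.sum_congr rfl fun i _ => mul_comm _ _

theorem form_add_left (u v w : DP δ) : form (u + v) w = form u w + form v w := by
  unfold form
  simp only [Pi.add_apply, add_mul, Finset.sum_add_distrib]
  ring

theorem form_smul_left (c : ℤ) (v w : DP δ) : form (c • v) w = c * form v w := by
  unfold form
  simp only [Pi.smul_apply, smul_eq_mul, mul_assoc, ← Finset.mul_sum]
  ring

theorem form_add_right (u v w : DP δ) : form u (v + w) = form u v + form u w := by
  rw [form_comm, form_add_left, form_comm v, form_comm w]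

theorem form_smul_right (c : ℤ) (v w : DP δ) : form v (c • w) = c * form v w := by
  rw [form_comm, form_smul_left, form_comm]

/-- `v ↦ form v α` as a linear map. -/
def formL (α : DP δ) : DP δ →ₗ[ℤ] ℤ where
  toFun v := form v α
  map_add' u v := form_add_left u v α
  map_smul' c v := form_smul_left c v α

/-- The reflection `v ↦ v + (v·α) α` as a linear map. -/
def reflLin (α : DP δ) : DP δ →ₗ[ℤ] DP δ := LinearMap.id + (formL α).smulRight α

@[simp] theorem reflLin_apply (α v : DP δ) : reflLin α v = v + form v α • α := rfl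

theorem reflLin_invol (α : DP δ) (hα : form α α = -2) : Function.Involutive (reflLin α) := by
  intro v
  simp only [reflLin_apply, form_add_left, form_smul_left, hα]
  rw [add_assoc, ← add_smul]
  have : form v α + (form v α + form v α * -2) = 0 := by ring
  rw [this, zero_smul, add_zero]

/-- The reflection in a root as a linear equivalence. -/
def reflW (α : DP δ) (hα : form α α = -2) : DP δ ≃ₗ[ℤ] DP δ :=
  LinearEquiv.ofInvolutive (reflLin α) (reflLin_invol α hα)

@[simp] theorem reflW_apply (α : DP δ) (hα : form α α = -2) (v : DP δ) :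
    reflW α hα v = v + form v α • α := rfl

theorem isWeyl_reflW (α : DP δ) (hα : form α α = -2) (hK : form (canon δ) α = 0) :
    IsWeyl (reflW α hα) := by
  refine ⟨fun v w => ?_, ?_⟩
  · simp only [reflW_apply, form_add_left, form_add_right, form_smul_left, form_smul_right, hα,
      form_comm α w]
    ring
  · simp [hK]

theorem isWeyl_refl : IsWeyl (LinearEquiv.refl ℤ (DP δ)) := ⟨fun _ _ => rfl, rfl⟩

theorem isWeyl_trans {g h : DP δ ≃ₗ[ℤ] DP δ} (hg : IsWeyl g) (hh : IsWeyl h) :
    IsWeyl (g.trans h) :=
  ⟨fun v w => by simp [hh.1, hg.1], by simp [hg.2, hh.2]⟩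

theorem isWeyl_symm {g : DP δ ≃ₗ[ℤ] DP δ} (hg : IsWeyl g) : IsWeyl g.symm := by
  refine ⟨fun v w => ?_, ?_⟩
  · have := hg.1 (g.symm v) (g.symm w)
    simpa using this.symm
  · have := hg.2
    rw [← this, LinearEquiv.symm_apply_apply, this]

theorem isWeyl_conic {g : DP δ ≃ₗ[ℤ] DP δ} (hg : IsWeyl g) {v : DP δ} (hv : IsConic v) :
    IsConic (g v) := by
  refine ⟨by rw [hg.1]; exact hv.1, ?_⟩
  have := hg.1 (canon δ) v
  rw [hg.2] at this
  rw [this]; exact hv.2

theorem isWeyl_exc {g : DP δ ≃ₗ[ℤ] DP δ} (hg : IsWeyl g) {v : DP δ} (hv : IsExc v) :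
    IsExc (g v) := by
  refine ⟨by rw [hg.1]; exact hv.1, ?_⟩
  have := hg.1 (canon δ) v
  rw [hg.2] at this
  rw [this]; exact hv.2

/-! ### Permutations of the coordinates `b_i` -/

/-- The permutation of the `b`-coordinates as a linear equivalence:
`(permW σ v) (i+1) = v (σ i + 1)`. -/
def permW (σ : Equiv.Perm (Fin δ)) : DP δ ≃ₗ[ℤ] DP δ where
  toFun v := Fin.cases (v 0) (fun i => v (σ i).succ)
  invFun v := Fin.cases (v 0) (fun i => v (σ.symm i).succ)
  map_add' u v := by
    funext i; refine Fin.cases ?_ (fun j => ?_) i <;> simp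
  map_smul' c v := by
    funext i; refine Fin.cases ?_ (fun j => ?_) i <;> simp
  left_inv v := by
    funext i; refine Fin.cases ?_ (fun j => ?_) i <;> simp
  right_inv v := by
    funext i; refine Fin.cases ?_ (fun j => ?_) i <;> simp

@[simp] theorem permW_zero (σ : Equiv.Perm (Fin δ)) (v : DP δ) : permW σ v 0 = v 0 := rfl

@[simp] theorem permW_succ (σ : Equiv.Perm (Fin δ)) (v : DP δ) (i : Fin δ) :
    permW σ v i.succ = v (σ i).succ := rfl

theorem isWeyl_permW (σ : Equiv.Perm (Fin δ)) : IsWeyl (permW σ) := by
  refine ⟨fun v w => ?_, ?_⟩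
  · unfold form
    simp only [permW_zero, permW_succ]
    congr 1
    exact Equiv.sum_comp σ (fun i => v i.succ * w i.succ)
  · funext i
    refine Fin.cases ?_ (fun j => ?_) i
    · rfl
    · simp [canon]

/-! ### The list-level mirror -/

/-- Euclidean product of two lists. -/
def sumProd : List ℤ → List ℤ → ℤ
  | a :: as, b :: bs => a * b + sumProd as bs
  | _, _ => 0

/-- Lorentzian product of two lists. -/
def dotL : List ℤ → List ℤ → ℤ
  | a :: as, b :: bs => a * b - sumProd as bs
  | _, _ => 0

/-- `x + c y` entrywise. -/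
def axpy (c : ℤ) : List ℤ → List ℤ → List ℤ
  | x :: xs, y :: ys => (x + c * y) :: axpy c xs ys
  | _, _ => []

/-- Reflection at list level. -/
def reflL (α v : List ℤ) : List ℤ := axpy (dotL v α) v α

/-- The list of coordinates of a vector. -/
def toL (v : DP δ) : List ℤ := List.ofFn v

/-- The vector with a given list of coordinates. -/
def ofL (l : List ℤ) : DP δ := fun i => l.getD i 0

theorem toL_injective : Function.Injective (toL : DP δ → List ℤ) := List.ofFn_injective

@[simp] theorem length_toL (v : DP δ) : (toL v).length = δ + 1 := by simp [toL]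

theorem toL_ofL (l : List ℤ) (hl : l.length = δ + 1) : toL (ofL l : DP δ) = l := by
  unfold toL
  apply List.ext_getElem
  · simp [hl]
  · intro i h1 h2
    rw [List.getElem_ofFn]
    simp [ofL, List.getD_eq_getElem?_getD, List.getElem?_eq_getElem h2]

theorem sumProd_ofFn : ∀ {n : ℕ} (f g : Fin n → ℤ),
    sumProd (List.ofFn f) (List.ofFn g) = ∑ i, f i * g i
  | 0, f, g => by simp [sumProd]
  | n + 1, f, g => by
    rw [List.ofFn_succ, List.ofFn_succ, sumProd, sumProd_ofFn, Fin.sum_univ_succ]

theorem axpy_ofFn (c : ℤ) : ∀ {n : ℕ} (f g : Fin n → ℤ),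
    axpy c (List.ofFn f) (List.ofFn g) = List.ofFn (fun i => f i + c * g i)
  | 0, f, g => by simp [axpy]
  | n + 1, f, g => by
    rw [List.ofFn_succ, List.ofFn_succ, axpy, axpy_ofFn, List.ofFn_succ]

theorem dotL_toL (v w : DP δ) : dotL (toL v) (toL w) = form v w := by
  unfold toL form
  rw [List.ofFn_succ, List.ofFn_succ, dotL, sumProd_ofFn]

theorem reflL_toL (α v : DP δ) : reflL (toL α) (toL v) = toL (v + form v α • α) := by
  unfold reflL
  rw [dotL_toL]
  unfold toL
  rw [axpy_ofFn]
  rfl

/-- Validity of a list as a root of `DP δ`. -/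
def IsRootL (δ : ℕ) (α : List ℤ) : Prop :=
  α.length = δ + 1 ∧ dotL α α = -2 ∧ dotL (toL (canon δ)) α = 0

instance (δ : ℕ) (α : List ℤ) : Decidable (IsRootL δ α) := by
  unfold IsRootL; infer_instance

theorem IsRootL.form_self {α : List ℤ} (h : IsRootL δ α) : form (ofL α : DP δ) (ofL α) = -2 := by
  rw [← dotL_toL, toL_ofL α h.1]; exact h.2.1

theorem IsRootL.form_canon {α : List ℤ} (h : IsRootL δ α) : form (canon δ) (ofL α : DP δ) = 0 := by
  rw [← dotL_toL, toL_ofL α h.1]; exact h.2.2

/-- The Weyl reflection attached to a valid list-level root. -/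
def rootW {α : List ℤ} (h : IsRootL δ α) : DP δ ≃ₗ[ℤ] DP δ := reflW (ofL α) h.form_self

theorem isWeyl_rootW {α : List ℤ} (h : IsRootL δ α) : IsWeyl (rootW h) :=
  isWeyl_reflW _ _ h.form_canon

theorem toL_rootW {α : List ℤ} (h : IsRootL δ α) (v : DP δ) :
    toL (rootW h v) = reflL α (toL v) := by
  rw [rootW, reflW_apply, ← reflL_toL, toL_ofL α h.1]

/-! ### Forcing evaluation (identity functions that make kernel evaluation strict) -/

/-- Continuation-passing evaluation of an integer. -/
def forceZ {β : Type} (x : ℤ) (k : ℤ → β) : β :=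
  match x with
  | Int.ofNat n => Nat.rec (k 0) (fun m _ => k (Int.ofNat (m + 1))) n
  | Int.negSucc n => Nat.rec (k (Int.negSucc 0)) (fun m _ => k (Int.negSucc (m + 1))) n

theorem forceZ_eq {β : Type} (x : ℤ) (k : ℤ → β) : forceZ x k = k x := by
  rcases x with n | n <;> cases n <;> rfl

/-- Continuation-passing evaluation of a list of integers. -/
def forceL {β : Type} : List ℤ → (List ℤ → β) → β
  | [], k => k []
  | x :: xs, k => forceZ x (fun x' => forceL xs (fun xs' => k (x' :: xs')))

theorem forceL_eq {β : Type} : ∀ (l : List ℤ) (k : List ℤ → β), forceL l k = k l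
  | [], k => rfl
  | x :: xs, k => by rw [forceL, forceZ_eq, forceL_eq]

/-- Continuation-passing evaluation of a list of lists of integers. -/
def forceLL {β : Type} : List (List ℤ) → (List (List ℤ) → β) → β
  | [], k => k []
  | x :: xs, k => forceL x (fun x' => forceLL xs (fun xs' => k (x' :: xs')))

theorem forceLL_eq {β : Type} : ∀ (l : List (List ℤ)) (k : List (List ℤ) → β), forceLL l k = k l
  | [], k => rfl
  | x :: xs, k => by rw [forceLL, forceL_eq, forceLL_eq]

/-! ### Greedy reduction by reflections -/

/-- First nonzero entry is negative. -/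
def lexNeg : List ℤ → Bool
  | [] => false
  | Int.negSucc _ :: _ => true
  | Int.ofNat 0 :: xs => lexNeg xs
  | Int.ofNat (_ + 1) :: _ => false

/-- The first root of `R` whose pairings with the tuple `vs` are lexicographically negative. -/
def findRoot (R : List (List ℤ)) (vs : List (List ℤ)) : Option (List ℤ) :=
  R.find? (fun α => lexNeg (vs.map (fun v => dotL v α)))

/-- Greedy reduction of a tuple of vectors by reflections in the roots of `R`. -/
def reduceT (R : List (List ℤ)) : ℕ → List (List ℤ) → List (List ℤ)
  | 0, vs => vs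
  | n + 1, vs =>
    match findRoot R vs with
    | none => vs
    | some α => forceLL (vs.map (reflL α)) (fun vs' => reduceT R n vs')

theorem reduceT_spec (R : List (List ℤ)) (hR : ∀ α ∈ R, IsRootL δ α) :
    ∀ (n : ℕ) (ws : List (DP δ)), ∃ g : DP δ ≃ₗ[ℤ] DP δ, IsWeyl g ∧
      reduceT R n (ws.map toL) = ws.map (fun w => toL (g w))
  | 0, ws => ⟨LinearEquiv.refl ℤ _, isWeyl_refl, by simp [reduceT]⟩
  | n + 1, ws => by
    rw [reduceT]
    rcases hfind : findRoot R (ws.map toL) with _ | α
    · exact ⟨LinearEquiv.refl ℤ _, isWeyl_refl, by simp⟩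
    · have hα : IsRootL δ α := hR α (List.mem_of_find?_eq_some hfind)
      simp only [forceLL_eq]
      obtain ⟨g, hg, hg'⟩ := reduceT_spec R hR n (ws.map (rootW hα))
      refine ⟨(rootW hα).trans g, isWeyl_trans (isWeyl_rootW hα) hg, ?_⟩
      have : (ws.map toL).map (reflL α) = (ws.map (rootW hα)).map toL := by
        simp only [List.map_map]
        apply List.map_congr_left
        intro w _
        simp [toL_rootW]
      rw [this, hg']
      simp [List.map_map]

end Groth.Agent.H79.E8
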