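import Groth.Agent.H79.E8Exc

/-!
# Triples of exceptional classes of `DP 8` summing to `-2K + L`
-/

namespace Groth.Agent.H79.E8

open W4c3severiratdp

/-- The dominant exceptional class `e_8` as a vector. -/
def excV0 : DP 8 := ofL excL0

theorem toL_excV0 : toL excV0 = excL0 := toL_ofL _ (by decide)

theorem isExc_ofL {δ : ℕ} (l : List ℤ) (hl : l.length = δ + 1) (h1 : dotL l l = -1)
    (h2 : dotL (toL (canon δ)) l = -1) : IsExc (ofL l : DP δ) := by
  constructor
  · rw [← dotL_toL, toL_ofL l hl]; exact h1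
  · rw [← dotL_toL, toL_ofL l hl]; exact h2

theorem isExc_excV0 : IsExc excV0 := isExc_ofL _ (by decide) (by decide) (by decide)

/-- Entrywise difference of lists. -/
def subL (a b : List ℤ) : List ℤ := axpy (-1) a b

theorem toL_sub {δ : ℕ} (u v : DP δ) : toL (u - v) = subL (toL u) (toL v) := by
  unfold subL toL
  rw [axpy_ofFn]
  congr 1
  funext i
  simp only [Pi.sub_apply]
  ring

/-- The class `-2K + e_8`. -/
def tripT : List ℤ := [6,2,2,2,2,2,2,2,1]

theorem toL_tripT : toL (excV0 - 2 • canon 8) = tripT := by decide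

/-- The possible normal forms of an exceptional class relative to `e_8`. -/
def excTabList : List (List ℤ) := [excTab 0, excTab 1, excTab 2, excTab 3, excL0]

theorem excTab_mem (c : ℤ) : excTab c ∈ excTabList := by
  unfold excTab excTabList
  split_ifs with h0 h1 h2 h3
  · subst h0; simp [excTab]
  · subst h1; simp [excTab]
  · subst h2; simp [excTab]
  · subst h3; simp [excTab]
  · simp

/-- The four normal forms `[e_8, M, x, y]` of triples. -/
def nfTab : Fin 4 → List (List ℤ) :=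
  ![[excL0, [1,1,0,0,0,0,0,0,1], [0,0,0,0,0,0,0,0,-1], [5,1,2,2,2,2,2,2,1]],
    [excL0, [1,1,0,0,0,0,0,0,1], [2,0,1,1,1,1,1,0,0], [3,1,1,1,1,1,1,2,0]],
    [excL0, [3,1,1,1,1,1,1,0,2], [0,0,0,0,0,0,0,0,-1], [3,1,1,1,1,1,1,2,0]],
    [excL0, [6,2,2,2,2,2,2,2,3], [0,0,0,0,0,0,0,0,-1], [0,0,0,0,0,0,0,0,-1]]]

/-- List-level test for exceptional classes. -/
def IsExcL (l : List ℤ) : Prop := dotL l l = -1 ∧ dotL (toL (canon 8)) l = -1

instance (l : List ℤ) : Decidable (IsExcL l) := by unfold IsExcL; infer_instance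

set_option maxRecDepth 100000 in
theorem triple_check : ∀ M ∈ excTabList, ∀ lx ∈ excsL 8,
    IsExcL (subL (subL tripT M) lx) → dotL lx excL0 ≤ dotL (subL (subL tripT M) lx) excL0 →
    dotL (subL (subL tripT M) lx) excL0 ≤ dotL M excL0 →
    ∃ j : Fin 4, reduceT simple8 100 [excL0, M, lx, subL (subL tripT M) lx] = nfTab j := by
  decide +kernel

/-- The representatives of the four orbits (for `L = e_8`): `![x, y, M]`. -/
def tripRep (j : Fin 4) : Fin 3 → DP 8 :=
  ![ofL ((nfTab j).getD 2 []), ofL ((nfTab j).getD 3 []), ofL ((nfTab j).getD 1 [])]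

theorem nfTab_length (j : Fin 4) (k : ℕ) (hk : k < 4) : ((nfTab j).getD k []).length = 8 + 1 := by
  interval_cases k <;> revert j <;> decide

theorem tripRep_exc : ∀ j : Fin 4, ∀ i : Fin 3, IsExc (tripRep j i) := by
  have h : ∀ (j : Fin 4) (k : ℕ), k < 4 → IsExcL ((nfTab j).getD k []) := by
    intro j k hk
    interval_cases k <;> revert j <;> decide
  intro j i
  fin_cases i
  · exact isExc_ofL _ (nfTab_length j 2 (by norm_num)) (h j 2 (by norm_num)).1 (h j 2 (by norm_num)).2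
  · exact isExc_ofL _ (nfTab_length j 3 (by norm_num)) (h j 3 (by norm_num)).1 (h j 3 (by norm_num)).2
  · exact isExc_ofL _ (nfTab_length j 1 (by norm_num)) (h j 1 (by norm_num)).1 (h j 1 (by norm_num)).2

theorem tripRep_sum : ∀ j : Fin 4,
    tripRep j 0 + tripRep j 1 + tripRep j 2 = excV0 - 2 • canon 8 := by decide

/-- The invariant separating the four orbits. -/
def tripInv (L : DP 8) (r : Fin 3 → DP 8) : ℤ := ∑ i, (form (r i) L) ^ 2

theorem tripInv_injective : ∀ j j' : Fin 4,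
    tripInv excV0 (tripRep j) = tripInv excV0 (tripRep j') → j = j' := by
  have h : ∀ j : Fin 4, tripInv excV0 (tripRep j) = ![3, 1, 5, 11] j := by
    intro j
    unfold tripInv
    rw [Fin.sum_univ_three]
    simp only [← dotL_toL, toL_excV0]
    have e : ∀ k : ℕ, k < 4 → toL (ofL ((nfTab j).getD k []) : DP 8) = (nfTab j).getD k [] :=
      fun k hk => toL_ofL _ (nfTab_length j k hk)
    have e0 : toL (tripRep j 0) = (nfTab j).getD 2 [] := e 2 (by norm_num)
    have e1 : toL (tripRep j 1) = (nfTab j).getD 3 [] := e 3 (by norm_num)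
    have e2 : toL (tripRep j 2) = (nfTab j).getD 1 [] := e 1 (by norm_num)
    rw [e0, e1, e2]
    revert j
    decide
  intro j j' hjj
  rw [h, h] at hjj
  revert j j'
  decide

theorem tripInv_eq_of_equiv (L : DP 8) (r r' : Fin 3 → DP 8) (g : DP 8 ≃ₗ[ℤ] DP 8) (hg : IsWeyl g)
    (hL : g L = L) (σ : Equiv.Perm (Fin 3)) (h : ∀ i, g (r (σ i)) = r' i) :
    tripInv L r = tripInv L r' := by
  unfold tripInv
  rw [← Equiv.sum_comp σ (fun i => (form (r i) L) ^ 2)]
  refine Finset.sum_congr rfl fun i _ => ?_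
  rw [← h i]
  conv_rhs => rw [← hL]
  rw [hg.1]

theorem nfTab_head : ∀ j : Fin 4, (nfTab j).getD 0 [] = excL0 := by decide

theorem triple_main (t : Fin 3 → DP 8) (ht : ∀ i, IsExc (t i))
    (hsum : t 0 + t 1 + t 2 = excV0 - 2 • canon 8) :
    ∃ j : Fin 4, ∃ g : DP 8 ≃ₗ[ℤ] DP 8, IsWeyl g ∧ g excV0 = excV0 ∧
      ∃ σ : Equiv.Perm (Fin 3), ∀ i, g (t (σ i)) = tripRep j i := by
  classical
  let c : Fin 3 → ℤ := fun i => form (t i) excV0
  let σ0 : Equiv.Perm (Fin 3) := Tuple.sort c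
  have hmono : Monotone (c ∘ σ0) := Tuple.monotone_sort c
  have hsum' : t (σ0 0) + t (σ0 1) + t (σ0 2) = excV0 - 2 • canon 8 := by
    have := Equiv.sum_comp σ0 t
    rw [Fin.sum_univ_three, Fin.sum_univ_three] at this
    rw [this, hsum]
  obtain ⟨g1, hg1, h1L, h1⟩ := exc_pair_normal_form excV0 (t (σ0 2)) isExc_excV0 (ht _)
  have hg1L : g1 excV0 = excV0 := toL_injective (h1L.trans toL_excV0.symm)
  have hxe : IsExc (g1 (t (σ0 0))) := isWeyl_exc hg1 (ht _)
  have hye : IsExc (g1 (t (σ0 1))) := isWeyl_exc hg1 (ht _)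
  have hy' : toL (g1 (t (σ0 1))) =
      subL (subL tripT (toL (g1 (t (σ0 2))))) (toL (g1 (t (σ0 0)))) := by
    have e : g1 (t (σ0 1)) = (excV0 - 2 • canon 8) - g1 (t (σ0 2)) - g1 (t (σ0 0)) := by
      have := congrArg g1 hsum'
      rw [map_add, map_add, map_sub, map_nsmul, hg1L, hg1.2] at this
      rw [← this]; abel
    conv_lhs => rw [e]
    rw [toL_sub, toL_sub, toL_tripT]
  have hc : ∀ i, dotL (toL (g1 (t (σ0 i)))) excL0 = c (σ0 i) := by
    intro i
    rw [← toL_excV0, dotL_toL]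
    conv_lhs => rw [← hg1L]
    rw [hg1.1]
  have hye' : IsExcL (toL (g1 (t (σ0 1)))) := by
    constructor
    · rw [dotL_toL]; exact hye.1
    · rw [dotL_toL]; exact hye.2
  have h01 : c (σ0 0) ≤ c (σ0 1) := hmono (by decide)
  have h12 : c (σ0 1) ≤ c (σ0 2) := hmono (by decide)
  obtain ⟨j, hj⟩ := triple_check (toL (g1 (t (σ0 2)))) (by rw [h1]; exact excTab_mem _)
    (toL (g1 (t (σ0 0)))) (mem_excsL (by norm_num) hxe)
    (by rw [← hy']; exact hye')
    (by rw [← hy', hc, hc]; exact h01)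
    (by rw [← hy', hc, hc]; exact h12)
  obtain ⟨g2, hg2, h2⟩ := reduceT_spec (δ := 8) simple8 simple8_roots 100
    [excV0, g1 (t (σ0 2)), g1 (t (σ0 0)), g1 (t (σ0 1))]
  simp only [List.map_cons, List.map_nil] at h2
  rw [toL_excV0, hy', hj] at h2
  have e0 := congrArg (fun l => l.getD 0 []) h2
  have e1 := congrArg (fun l => l.getD 1 []) h2
  have e2 := congrArg (fun l => l.getD 2 []) h2
  have e3 := congrArg (fun l => l.getD 3 []) h2
  simp only [List.getD_cons_zero, List.getD_cons_succ] at e0 e1 e2 e3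
  rw [nfTab_head] at e0
  have hg2L : g2 excV0 = excV0 := toL_injective (e0.symm.trans toL_excV0.symm)
  refine ⟨j, g1.trans g2, isWeyl_trans hg1 hg2, ?_, σ0, ?_⟩
  · simp [hg1L, hg2L]
  · intro i
    apply toL_injective
    fin_cases i
    · show toL (g2 (g1 (t (σ0 0)))) = toL (ofL ((nfTab j).getD 2 []) : DP 8)
      rw [toL_ofL _ (nfTab_length j 2 (by norm_num))]
      exact e2.symm
    · show toL (g2 (g1 (t (σ0 1)))) = toL (ofL ((nfTab j).getD 3 []) : DP 8)
      rw [toL_ofL _ (nfTab_length j 3 (by norm_num))]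
      exact e3.symm
    · show toL (g2 (g1 (t (σ0 2)))) = toL (ofL ((nfTab j).getD 1 []) : DP 8)
      rw [toL_ofL _ (nfTab_length j 1 (by norm_num))]
      exact e1.symm

/-- The statement on orbits of triples, for an exceptional class `L`. -/
def TripleStmt (L : DP 8) : Prop :=
  ∃ r : Fin 4 → (Fin 3 → DP 8),
    (∀ j, (∀ i, IsExc (r j i)) ∧ r j 0 + r j 1 + r j 2 = L - 2 • canon 8) ∧
    (∀ j j', (∃ g : DP 8 ≃ₗ[ℤ] DP 8, IsWeyl g ∧ g L = L ∧
      ∃ σ : Equiv.Perm (Fin 3), ∀ i, g (r j (σ i)) = r j' i) → j = j') ∧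
    ∀ t : Fin 3 → DP 8, (∀ i, IsExc (t i)) → t 0 + t 1 + t 2 = L - 2 • canon 8 →
      ∃ j, ∃ g : DP 8 ≃ₗ[ℤ] DP 8, IsWeyl g ∧ g L = L ∧
        ∃ σ : Equiv.Perm (Fin 3), ∀ i, g (t (σ i)) = r j i

theorem tripleStmt (L : DP 8) (hL : IsExc L) : TripleStmt L := by
  obtain ⟨g0, hg0, h0⟩ := exc_transitive L hL
  have hg0L : g0 L = excV0 := toL_injective (h0.trans toL_excV0.symm)
  have hg0L' : g0.symm excV0 = L := by rw [← hg0L]; simp
  have hg0s := isWeyl_symm hg0
  refine ⟨fun j i => g0.symm (tripRep j i), ?_, ?_, ?_⟩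
  · intro j
    refine ⟨fun i => isWeyl_exc hg0s (tripRep_exc j i), ?_⟩
    rw [← map_add, ← map_add, tripRep_sum, map_sub, map_nsmul, hg0L', hg0s.2]
  · rintro j j' ⟨g, hg, hgL, σ, h⟩
    apply tripInv_injective
    refine tripInv_eq_of_equiv excV0 _ _ ((g0.symm.trans g).trans g0)
      (isWeyl_trans (isWeyl_trans hg0s hg) hg0) ?_ σ ?_
    · simp [hg0L', hgL, hg0L]
    · intro i
      simp only [LinearEquiv.trans_apply]
      rw [h i]
      simp
  · intro t ht hsum
    obtain ⟨j, g', hg', hg'L, σ, h⟩ := triple_main (fun i => g0 (t i))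
      (fun i => isWeyl_exc hg0 (ht i))
      (by rw [← map_add, ← map_add, hsum, map_sub, map_nsmul, hg0L, hg0.2])
    refine ⟨j, (g0.trans g').trans g0.symm, isWeyl_trans (isWeyl_trans hg0 hg') hg0s, ?_, σ, ?_⟩
    · simp [hg0L, hg'L, hg0L']
    · intro i
      simp only [LinearEquiv.trans_apply]
      rw [h i]

end Groth.Agent.H79.E8
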