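import Mathlib

set_option autoImplicit false
universe u

open Set.powersetCard

namespace Groth.Agent.H79.ExtPowCyclic

variable {A : Type u} [CommRing A]

/-- if `K` kills `M`, it kills the positive exterior powers of `M` -/
theorem smul_eq_zero_of_mem (K : Ideal A) (i : ℕ) (hi : 1 ≤ i) (M : Type*) [AddCommGroup M]
    [Module A M] (hM : ∀ k ∈ K, ∀ m : M, k • m = 0) (k : A) (hk : k ∈ K) (x : ⋀[A]^i M) :
    k • x = 0 := by
  obtain ⟨j, rfl⟩ : ∃ j, i = j + 1 := ⟨i - 1, by omega⟩
  have hx : x ∈ Submodule.span A (Set.range (exteriorPower.ιMulti A (j + 1) (M := M))) := by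
    rw [exteriorPower.ιMulti_span]
    trivial
  induction hx using Submodule.span_induction with
  | mem x hx =>
    obtain ⟨v, rfl⟩ := hx
    have h1 : k • exteriorPower.ιMulti A (j + 1) v =
        exteriorPower.ιMulti A (j + 1) (Function.update v 0 (k • v 0)) := by
      rw [AlternatingMap.map_update_smul, Function.update_eq_self]
    rw [h1, hM k hk (v 0)]
    exact AlternatingMap.map_update_zero _ _ _
  | zero => exact smul_zero k
  | add x y _ _ hx hy => rw [smul_add, hx, hy, add_zero]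
  | smul a x _ hx => rw [smul_comm, hx, smul_zero]

section Quot

variable (K : Ideal A) (r i : ℕ)

/-- restriction of scalars of the universal alternating map over `A ⧸ K` -/
noncomputable def altA : (Fin r → A ⧸ K) [⋀^Fin i]→ₗ[A] ⋀[A ⧸ K]^i (Fin r → A ⧸ K) :=
  { (exteriorPower.ιMulti (A ⧸ K) i (M := Fin r → A ⧸ K)).toMultilinearMap.restrictScalars A with
    map_eq_zero_of_eq' :=
      (exteriorPower.ιMulti (A ⧸ K) i (M := Fin r → A ⧸ K)).map_eq_zero_of_eq' }

theorem altA_apply (v : Fin i → Fin r → A ⧸ K) :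
    altA K r i v = exteriorPower.ιMulti (A ⧸ K) i v := rfl

/-- the comparison map from the exterior power over `A` to the one over `A ⧸ K` -/
noncomputable def fwd : ⋀[A]^i (Fin r → A ⧸ K) →ₗ[A] ⋀[A ⧸ K]^i (Fin r → A ⧸ K) :=
  exteriorPower.alternatingMapLinearEquiv (altA K r i)

theorem fwd_ιMulti_family (s : Set.powersetCard (Fin r) i) :
    fwd K r i (exteriorPower.ιMulti_family A i (Pi.basisFun (A ⧸ K) (Fin r)) s) =
      exteriorPower.ιMulti_family (A ⧸ K) i (Pi.basisFun (A ⧸ K) (Fin r)) s := by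
  unfold fwd exteriorPower.ιMulti_family
  rw [exteriorPower.alternatingMapLinearEquiv_apply_ιMulti, altA_apply]

/-- coordinates -/
noncomputable def coords : ⋀[A]^i (Fin r → A ⧸ K) →ₗ[A] (Set.powersetCard (Fin r) i →₀ A ⧸ K) :=
  (((Pi.basisFun (A ⧸ K) (Fin r)).exteriorPower i).repr.restrictScalars A).toLinearMap ∘ₗ fwd K r i

variable (hi : 1 ≤ i)

include hi in
theorem le_ker (s : Set.powersetCard (Fin r) i) :
    K ≤ LinearMap.ker (LinearMap.toSpanSingleton A (⋀[A]^i (Fin r → A ⧸ K))
      (exteriorPower.ιMulti_family A i (Pi.basisFun (A ⧸ K) (Fin r)) s)) := by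
  intro k hk
  rw [LinearMap.mem_ker, LinearMap.toSpanSingleton_apply]
  refine smul_eq_zero_of_mem K i hi (Fin r → A ⧸ K) ?_ k hk _
  intro k hk m
  funext j
  rw [Pi.smul_apply, Pi.zero_apply]
  obtain ⟨a, ha⟩ := Ideal.Quotient.mk_surjective (m j)
  rw [← ha, ← Ideal.Quotient.mk_eq_mk, ← Submodule.Quotient.mk_smul, smul_eq_mul,
    Ideal.Quotient.mk_eq_mk, Ideal.Quotient.eq_zero_iff_mem]
  exact K.mul_mem_right a hk

/-- the parametrisation -/
noncomputable def param : (Set.powersetCard (Fin r) i →₀ A ⧸ K) →ₗ[A] ⋀[A]^i (Fin r → A ⧸ K) :=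
  Finsupp.lsum A (fun s => Submodule.liftQ K
    (LinearMap.toSpanSingleton A (⋀[A]^i (Fin r → A ⧸ K))
      (exteriorPower.ιMulti_family A i (Pi.basisFun (A ⧸ K) (Fin r)) s)) (le_ker K r i hi s))

theorem param_single (s : Set.powersetCard (Fin r) i) (a : A) :
    param K r i hi (Finsupp.single s (Ideal.Quotient.mk K a)) =
      a • exteriorPower.ιMulti_family A i (Pi.basisFun (A ⧸ K) (Fin r)) s := by
  unfold param
  rw [Finsupp.lsum_single]
  exact Submodule.liftQ_apply _ _ _

theorem coords_param (x : Set.powersetCard (Fin r) i →₀ A ⧸ K) :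
    coords K r i (param K r i hi x) = x := by
  induction x using Finsupp.induction_linear with
  | zero => rw [map_zero, map_zero]
  | add x y hx hy => rw [map_add, map_add, hx, hy]
  | single s c =>
    obtain ⟨a, rfl⟩ := Ideal.Quotient.mk_surjective c
    rw [param_single, map_smul]
    unfold coords
    rw [LinearMap.comp_apply, fwd_ιMulti_family]
    change a • ((Pi.basisFun (A ⧸ K) (Fin r)).exteriorPower i).repr _ = _
    rw [exteriorPower.basis_repr, Finsupp.smul_single]
    congr 1
    rw [Algebra.smul_def, mul_one]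
    rfl

theorem span_basisFun :
    Submodule.span A (Set.range (Pi.basisFun (A ⧸ K) (Fin r))) = ⊤ := by
  have h1 := Submodule.restrictScalars_span A (A ⧸ K) (M := Fin r → A ⧸ K)
    Ideal.Quotient.mk_surjective (Set.range (Pi.basisFun (A ⧸ K) (Fin r)))
  rw [← h1, (Pi.basisFun (A ⧸ K) (Fin r)).span_eq]
  rfl

theorem param_surjective : Function.Surjective (param K r i hi) := by
  rw [← LinearMap.range_eq_top, eq_top_iff,
    ← exteriorPower.ιMulti_family_span_of_span A (span_basisFun K r), Submodule.span_le]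
  rintro _ ⟨s, rfl⟩
  refine ⟨Finsupp.single s (Ideal.Quotient.mk K 1), ?_⟩
  rw [param_single, one_smul]

include hi in
theorem nonempty_equiv_quot :
    Nonempty (⋀[A]^i (Fin r → A ⧸ K) ≃ₗ[A] (Fin (r.choose i) → A ⧸ K)) := by
  have hinj : Function.Injective (param K r i hi) :=
    Function.LeftInverse.injective (coords_param K r i hi)
  have E1 := LinearEquiv.ofBijective (param K r i hi) ⟨hinj, param_surjective K r i hi⟩
  have E2 := Finsupp.linearEquivFunOnFinite A (A ⧸ K) (Set.powersetCard (Fin r) i)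
  have hcard : Nat.card (Set.powersetCard (Fin r) i) = r.choose i := by
    rw [Set.powersetCard.card, Nat.card_eq_fintype_card, Fintype.card_fin]
  have E3 : (Set.powersetCard (Fin r) i → A ⧸ K) ≃ₗ[A] (Fin (r.choose i) → A ⧸ K) :=
    LinearEquiv.funCongrLeft A _
      (((Finite.equivFin (Set.powersetCard (Fin r) i)).trans (finCongr hcard)).symm)
  exact ⟨E1.symm.trans (E2.trans E3)⟩

end Quot

/-- exterior powers respect linear equivalences -/
noncomputable def mapEquiv {M N : Type*} [AddCommGroup M] [Module A M] [AddCommGroup N]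
    [Module A N] (i : ℕ) (e : M ≃ₗ[A] N) : ⋀[A]^i M ≃ₗ[A] ⋀[A]^i N :=
  LinearEquiv.ofLinearMap (exteriorPower.map i e.toLinearMap) (exteriorPower.map i e.symm.toLinearMap)
    (by rw [← exteriorPower.map_comp, LinearEquiv.comp_symm, exteriorPower.map_id])
    (by rw [← exteriorPower.map_comp, LinearEquiv.symm_comp, exteriorPower.map_id])

/-- For a cyclic module `Q`, the `i`-th exterior power (`i ≥ 1`) of `Q^r` is `Q^(r choose i)`. -/
theorem nonempty_equiv_of_cyclic (Q : Type u) [AddCommGroup Q] [Module A Q]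
    (hQ : ∃ q : Q, Submodule.span A {q} = ⊤) (r i : ℕ) (hi : 1 ≤ i) :
    Nonempty (⋀[A]^i (Fin r → Q) ≃ₗ[A] (Fin (r.choose i) → Q)) := by
  obtain ⟨q, hq⟩ := hQ
  have hsurj : Function.Surjective (LinearMap.toSpanSingleton A Q q) := by
    rw [← LinearMap.range_eq_top, LinearMap.range_toSpanSingleton]
    exact hq
  let K : Ideal A := LinearMap.ker (LinearMap.toSpanSingleton A Q q)
  have e : (A ⧸ K) ≃ₗ[A] Q := LinearMap.quotKerEquivOfSurjective _ hsurj
  obtain ⟨E⟩ := nonempty_equiv_quot K r i hi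
  have e1 : (Fin r → Q) ≃ₗ[A] (Fin r → A ⧸ K) := LinearEquiv.piCongrRight (fun _ => e.symm)
  have e2 : (Fin (r.choose i) → A ⧸ K) ≃ₗ[A] (Fin (r.choose i) → Q) :=
    LinearEquiv.piCongrRight (fun _ => e)
  exact ⟨(mapEquiv i e1).trans (E.trans e2)⟩

end Groth.Agent.H79.ExtPowCyclic
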