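import Mathlib
import Groth.Prelude.Def_FDesc
import Groth.Prelude.Def_FlatMod2
import Groth.Agent.H9.Depth
import Groth.Agent.H8.StructAss
import Groth.Agent.H48.CycDim7
import Groth.Agent.H79.StructStalk
import Groth.Agent.H79.SuppGenericAss

/-!
# Flatness and associated points (helper79)

* `maximalIdeal_mem_associatedPrimes_of_flat`: if a flat module over a Noetherian local ring `A` has
  a nonzero element killed by the maximal ideal, then the maximal ideal is an associated prime
  of `A`.
* `maximalIdeal_mem_associatedPrimes_of_isFlatOverAt`: associated points of a module flat over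
  the base map to associated points of the base.
* `isAssPoint_structureModule_iff`, `eq_of_specializes_of_noEmbedded`.
-/

set_option autoImplicit false
universe u
open CategoryTheory AlgebraicGeometry TopologicalSpace Opposite

namespace Groth.Agent.H79.FlatAss

theorem maximalIdeal_mem_associatedPrimes_of_flat (A : Type u) [CommRing A] [IsLocalRing A]
    [IsNoetherianRing A] (M : Type u) [AddCommGroup M] [Module A M] [Module.Flat A M] (m : M)
    (hm : m ≠ 0) (hkill : ∀ a ∈ IsLocalRing.maximalIdeal A, a • m = 0) :
    IsLocalRing.maximalIdeal A ∈ associatedPrimes A A := by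
  by_contra h
  obtain ⟨r, hr, hreg⟩ :=
    Groth.Agent.H9.exists_isSMulRegular_mem_of_notMem_associatedPrimes (M := A)
      (IsLocalRing.maximalIdeal A) h
  have hr0 : r ∈ nonZeroDivisors A := by
    rw [mem_nonZeroDivisors_iff_right]
    intro z hz
    apply hreg
    simp only [smul_eq_mul, mul_zero]
    rw [mul_comm]
    exact hz
  have hregM : IsSMulRegular M r := Module.Flat.isSMulRegular_of_nonZeroDivisors hr0
  apply hm
  apply hregM
  simp only [smul_zero]
  exact hkill r hr

/-- Associated points of a module flat over the base map to associated points of the base. -/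
theorem maximalIdeal_mem_associatedPrimes_of_isFlatOverAt {X Y : Scheme.{u}} (f : X ⟶ Y)
    [IsLocallyNoetherian X] [IsLocallyNoetherian Y] (F : X.Modules) (x : X)
    (hfl : FlatMod.IsFlatOverAt f F x) (hx : Curv2.IsAssPoint F x) :
    IsLocalRing.maximalIdeal (Y.presheaf.stalk (f x)) ∈
      associatedPrimes (Y.presheaf.stalk (f x)) (Y.presheaf.stalk (f x)) := by
  obtain ⟨-, m, hm⟩ := (isAssociatedPrime_iff (R := X.presheaf.stalk x)).mp hx
  let _ := FlatMod.moduleStalkOver f F x
  have : Module.Flat (Y.presheaf.stalk (f x)) (F.presheaf.stalk x) := hfl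
  refine maximalIdeal_mem_associatedPrimes_of_flat _ (F.presheaf.stalk x) m ?_ ?_
  · rintro rfl
    have h1 : (1 : X.presheaf.stalk x) ∈ IsLocalRing.maximalIdeal (X.presheaf.stalk x) := by
      rw [hm, Submodule.mem_colon_singleton]
      simp
    exact (IsLocalRing.maximalIdeal.isMaximal _).ne_top ((Ideal.eq_top_iff_one _).mpr h1)
  · intro a ha
    have h1 : (f.stalkMap x).hom a ∈ IsLocalRing.maximalIdeal (X.presheaf.stalk x) := by
      have hloc : IsLocalHom (f.stalkMap x).hom := inferInstance
      have h4 := ((IsLocalRing.local_hom_TFAE (f.stalkMap x).hom).out 0 4).mp hloc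
      rw [← h4] at ha
      exact ha
    rw [hm, Submodule.mem_colon_singleton] at h1
    exact h1

theorem isAssPoint_structureModule_iff {Y : Scheme.{u}} (y : Y) :
    Curv2.IsAssPoint (Coh.structureModule Y) y ↔
      IsLocalRing.maximalIdeal (Y.presheaf.stalk y) ∈
        associatedPrimes (Y.presheaf.stalk y) (Y.presheaf.stalk y) :=
  (Groth.Agent.H8.isAssPoint_iff_isWeakAssPoint _ y).trans
    (Groth.Agent.H8.isWeakAssPoint_structure_iff y)

/-- On a scheme without embedded points, an associated point has no proper generization. -/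
theorem eq_of_specializes_of_noEmbedded {Y : Scheme.{u}}
    (hY : AssSch.NoEmbedded (Coh.structureModule Y)) (z : Y)
    (hz : Curv2.IsAssPoint (Coh.structureModule Y) z) (y : Y) (hy : y ⤳ z) : y = z := by
  obtain ⟨ξ, hξ, hξy⟩ := Groth.Agent.H48.CycDim7.exists_isGen_specializes y
  have hnt : Nontrivial ((Coh.structureModule Y).presheaf.stalk ξ) :=
    (Groth.Agent.H79.StructStalk.structStalkEquiv Y ξ).symm.toEquiv.nontrivial
  have hξass : Curv2.IsAssPoint (Coh.structureModule Y) ξ :=
    Groth.Agent.H79.SuppGeneric.isAssPoint_of_generic (Coh.structureModule Y) ξ hnt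
      (fun w _ hw => hξ w hw)
  have h1 : z = ξ := hY z hz ξ hξass (hξy.trans hy)
  rw [h1] at hy ⊢
  exact (hy.antisymm hξy).eq

end Groth.Agent.H79.FlatAss
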