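import Mathlib
import Groth.Agent.H46.FlatKer

/-!
# An ideal with flat quotient is determined modulo a nilpotent ideal of the base (helper79)
-/

set_option autoImplicit false
universe u

namespace Groth.Agent.H79.FlatIdealLift

variable {A R : Type u} [CommRing A] [CommRing R] [Algebra A R]

/-- for an ideal `J` with `R ⧸ J` flat over `A`: `J ∩ IR = IR * J` -/
theorem mem_mul_of_flat (I : Ideal A) (J : Ideal R) [Module.Flat A (R ⧸ J)] (y : R)
    (hyJ : y ∈ J) (hyI : y ∈ I.map (algebraMap A R)) : y ∈ I.map (algebraMap A R) * J := by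
  have hsurj : Function.Surjective (Ideal.Quotient.mkₐ A J).toLinearMap :=
    Ideal.Quotient.mk_surjective
  have hker : y ∈ LinearMap.ker (Ideal.Quotient.mkₐ A J).toLinearMap := by
    rw [LinearMap.mem_ker]
    exact Ideal.Quotient.eq_zero_iff_mem.2 hyJ
  have htop : y ∈ I • (⊤ : Submodule A R) := by
    rw [Ideal.smul_top_eq_map]
    exact hyI
  have h := Groth.Agent.H46.mem_smul_ker_of_flat (Ideal.Quotient.mkₐ A J).toLinearMap hsurj I y
    hker htop
  refine Submodule.smul_induction_on h ?_ ?_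
  · intro a ha j hj
    rw [LinearMap.mem_ker] at hj
    have hj' : j ∈ J := Ideal.Quotient.eq_zero_iff_mem.1 hj
    rw [Algebra.smul_def]
    exact Ideal.mul_mem_mul (Ideal.mem_map_of_mem _ ha) hj'
  · intro x z hx hz
    exact Ideal.add_mem _ hx hz

theorem le_sup_mul (I : Ideal A) (J K : Ideal R) [Module.Flat A (R ⧸ J)] (hKJ : K ≤ J)
    (hJK : J ≤ K ⊔ I.map (algebraMap A R)) : J ≤ K ⊔ I.map (algebraMap A R) * J := by
  intro x hx
  obtain ⟨k, hk, y, hy, rfl⟩ := Submodule.mem_sup.1 (hJK hx)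
  have hyJ : y ∈ J := by
    have := J.sub_mem hx (hKJ hk)
    rwa [add_sub_cancel_left] at this
  exact Submodule.add_mem_sup hk (mem_mul_of_flat I J y hyJ hy)

theorem le_sup_pow_mul (I : Ideal A) (J K : Ideal R) [Module.Flat A (R ⧸ J)] (hKJ : K ≤ J)
    (hJK : J ≤ K ⊔ I.map (algebraMap A R)) (n : ℕ) :
    J ≤ K ⊔ (I.map (algebraMap A R)) ^ n * J := by
  induction n with
  | zero =>
    rw [pow_zero, one_mul]
    exact le_sup_right
  | succ n ih =>
    refine (le_sup_mul I J K hKJ hJK).trans ?_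
    refine sup_le le_sup_left ?_
    refine (Ideal.mul_mono_right ih).trans ?_
    rw [Ideal.mul_sup]
    have h1 : I.map (algebraMap A R) * K ≤ K ⊔ (I.map (algebraMap A R)) ^ (n + 1) * J :=
      le_sup_of_le_left (Ideal.mul_le_right (I := I.map (algebraMap A R)) (J := K))
    have h2 : I.map (algebraMap A R) * ((I.map (algebraMap A R)) ^ n * J) ≤
        K ⊔ (I.map (algebraMap A R)) ^ (n + 1) * J := by
      rw [← mul_assoc, ← pow_succ']
      exact le_sup_of_le_right le_rfl
    exact sup_le h1 h2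

/-- an ideal with flat quotient which agrees with `K ≤ J` modulo a nilpotent ideal of the base
equals `K` -/
theorem eq_of_flat_of_nilpotent (I : Ideal A) (hI : IsNilpotent I) (J K : Ideal R)
    [Module.Flat A (R ⧸ J)] (hKJ : K ≤ J) (hJK : J ≤ K ⊔ I.map (algebraMap A R)) : J = K := by
  obtain ⟨n, hn⟩ := hI
  apply le_antisymm _ hKJ
  have h := le_sup_pow_mul I J K hKJ hJK n
  rw [← Ideal.map_pow, hn] at h
  have h0 : Ideal.map (algebraMap A R) (0 : Ideal A) = ⊥ := Ideal.map_bot
  rw [h0, Ideal.bot_mul, sup_bot_eq] at h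
  exact h

end Groth.Agent.H79.FlatIdealLift
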