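import Mathlib.Algebra.Group.ForwardDiff
import Mathlib.Analysis.SpecialFunctions.Choose
import Mathlib.Analysis.SpecificLimits.Basic

set_option autoImplicit false
open Filter Topology
open scoped fwdDiff

namespace Groth.Agent.H79.FwdDiffAsymp

/-- (II.A) a sequence whose `(d+1)`-st forward difference is eventually the constant `c` differs from
`c * choose n (d+1)` by `O(n^d)`. -/
theorem exists_bound : ∀ (d : ℕ) (f : ℕ → ℤ) (c : ℤ) (n₀ : ℕ),
    (∀ n, n₀ ≤ n → (Δ_[1]^[d + 1] f) n = c) →
    ∃ C : ℤ, 0 ≤ C ∧ ∀ n : ℕ, |f n - c * (n.choose (d + 1) : ℤ)| ≤ C * ((n : ℤ) + 1) ^ d := by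
  intro d
  induction d with
  | zero =>
    intro f c n₀ h
    simp only [zero_add, Function.iterate_one, pow_zero, mul_one, Nat.choose_one_right] at h ⊢
    have hconst : ∀ n, n₀ ≤ n → f n - c * n = f n₀ - c * n₀ := by
      intro n hn
      induction n, hn using Nat.le_induction with
      | base => rfl
      | succ n hn ih =>
        have := h n hn
        unfold fwdDiff at this
        push_cast
        linarith
    refine ⟨∑ n ∈ Finset.range (n₀ + 1), |f n - c * n|, Finset.sum_nonneg (fun _ _ => abs_nonneg _),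
      fun n => ?_⟩
    by_cases hn : n₀ ≤ n
    · rw [hconst n hn]
      exact Finset.single_le_sum (f := fun n : ℕ => |f n - c * n|) (fun _ _ => abs_nonneg _)
        (Finset.mem_range.mpr (Nat.lt_succ_self n₀))
    · exact Finset.single_le_sum (f := fun n : ℕ => |f n - c * n|) (fun _ _ => abs_nonneg _)
        (Finset.mem_range.mpr (by omega))
  | succ d ih =>
    intro f c n₀ h
    have hg : ∀ n, n₀ ≤ n → (Δ_[1]^[d + 1] (Δ_[1] f)) n = c := by
      intro n hn
      have := h n hn
      rwa [Function.iterate_succ_apply] at this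
    obtain ⟨C, hC0, hC⟩ := ih (Δ_[1] f) c n₀ hg
    set e : ℕ → ℤ := fun n => f n - c * (n.choose (d + 1 + 1) : ℤ) with he
    have hstep : ∀ n, |e (n + 1) - e n| ≤ C * ((n : ℤ) + 1) ^ d := by
      intro n
      have h1 : e (n + 1) - e n = (Δ_[1] f) n - c * (n.choose (d + 1) : ℤ) := by
        simp only [he, fwdDiff]
        rw [Nat.choose_succ_succ n (d + 1)]
        push_cast
        ring
      rw [h1]
      exact hC n
    refine ⟨|e 0| + C, by positivity, fun n => ?_⟩
    change |e n| ≤ _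
    induction n with
    | zero =>
      simp only [Nat.cast_zero, zero_add, one_pow, mul_one]
      linarith [abs_nonneg (e 0)]
    | succ n ihn =>
      have h2 : |e (n + 1)| ≤ |e n| + |e (n + 1) - e n| := by
        have := abs_add_le (e n) (e (n + 1) - e n)
        simpa using this
      have h3 := hstep n
      have hpow : ((n : ℤ) + 1) ^ (d + 1) + ((n : ℤ) + 1) ^ d ≤ (((n + 1 : ℕ) : ℤ) + 1) ^ (d + 1) := by
        push_cast
        have hx : (0 : ℤ) ≤ (n : ℤ) + 1 := by positivity
        have h5 : ((n : ℤ) + 1) ^ d ≤ ((n : ℤ) + 1 + 1) ^ d := by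
          apply pow_le_pow_left₀ hx
          linarith
        calc ((n : ℤ) + 1) ^ (d + 1) + ((n : ℤ) + 1) ^ d
            = ((n : ℤ) + 1 + 1) * ((n : ℤ) + 1) ^ d := by ring
          _ ≤ ((n : ℤ) + 1 + 1) * ((n : ℤ) + 1 + 1) ^ d := by
              apply mul_le_mul_of_nonneg_left h5
              linarith
          _ = ((n : ℤ) + 1 + 1) ^ (d + 1) := by ring
      have hA : (0 : ℤ) ≤ |e 0| + C := by positivity
      have hpd : (0 : ℤ) ≤ ((n : ℤ) + 1) ^ d := by positivity
      calc |e (n + 1)| ≤ |e n| + |e (n + 1) - e n| := h2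
        _ ≤ (|e 0| + C) * ((n : ℤ) + 1) ^ (d + 1) + C * ((n : ℤ) + 1) ^ d := add_le_add ihn h3
        _ ≤ (|e 0| + C) * ((n : ℤ) + 1) ^ (d + 1) + (|e 0| + C) * ((n : ℤ) + 1) ^ d := by
            have : C * ((n : ℤ) + 1) ^ d ≤ (|e 0| + C) * ((n : ℤ) + 1) ^ d :=
              mul_le_mul_of_nonneg_right (by linarith [abs_nonneg (e 0)]) hpd
            linarith
        _ = (|e 0| + C) * (((n : ℤ) + 1) ^ (d + 1) + ((n : ℤ) + 1) ^ d) := by ring
        _ ≤ (|e 0| + C) * (((n + 1 : ℕ) : ℤ) + 1) ^ (d + 1) := mul_le_mul_of_nonneg_left hpow hA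

/-- (II.B) the leading asymptotics of a sequence with eventually constant `d`-th difference -/
theorem tendsto_of_fwdDiff_eventually_const (d : ℕ) (f : ℕ → ℤ) (c : ℤ) (n₀ : ℕ)
    (h : ∀ n, n₀ ≤ n → (Δ_[1]^[d] f) n = c) :
    Tendsto (fun n : ℕ => (d.factorial : ℝ) * (f n : ℝ) / (n : ℝ) ^ d) atTop (𝓝 (c : ℝ)) := by
  rcases d with _ | d
  · simp only [Function.iterate_zero, id_eq] at h
    apply tendsto_const_nhds.congr'
    filter_upwards [eventually_ge_atTop n₀] with n hn
    rw [h n hn]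
    simp
  · obtain ⟨C, hC0, hC⟩ := exists_bound d f c n₀ h
    set e : ℕ → ℤ := fun n => f n - c * (n.choose (d + 1) : ℤ) with he
    have hdecomp : ∀ n : ℕ, ((d + 1).factorial : ℝ) * (f n : ℝ) / (n : ℝ) ^ (d + 1) =
        (c : ℝ) * ((n.choose (d + 1) : ℝ) / ((n : ℝ) ^ (d + 1) / ((d + 1).factorial : ℝ))) +
          ((d + 1).factorial : ℝ) * (e n : ℝ) / (n : ℝ) ^ (d + 1) := by
      intro n
      have hf : ((d + 1).factorial : ℝ) ≠ 0 := by positivity
      simp only [he]
      push_cast
      by_cases hn : (n : ℝ) = 0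
      · rw [hn]
        simp
      · field_simp
        ring
    have h1 : Tendsto (fun n : ℕ => (n.choose (d + 1) : ℝ) /
        ((n : ℝ) ^ (d + 1) / ((d + 1).factorial : ℝ))) atTop (𝓝 1) := by
      refine (Asymptotics.isEquivalent_iff_tendsto_one ?_).mp (isEquivalent_choose (d + 1))
      filter_upwards [eventually_ge_atTop 1] with n hn
      have : (0 : ℝ) < n := by exact_mod_cast hn
      positivity
    have h2 : Tendsto (fun n : ℕ => ((d + 1).factorial : ℝ) * (e n : ℝ) / (n : ℝ) ^ (d + 1))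
        atTop (𝓝 0) := by
      have hK : Tendsto (fun n : ℕ => (((d + 1).factorial : ℝ) * (C : ℝ) * 2 ^ d) / (n : ℝ))
          atTop (𝓝 0) := tendsto_const_div_atTop_nhds_zero_nat _
      apply squeeze_zero_norm' _ hK
      filter_upwards [eventually_ge_atTop 1] with n hn
      have hn0 : (0 : ℝ) < n := by exact_mod_cast hn
      have hn1 : (1 : ℝ) ≤ n := by exact_mod_cast hn
      have hbound : |(e n : ℝ)| ≤ (C : ℝ) * ((n : ℝ) + 1) ^ d := by
        have := hC n
        have h' : ((|e n| : ℤ) : ℝ) ≤ ((C * ((n : ℤ) + 1) ^ d : ℤ) : ℝ) := by exact_mod_cast this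
        push_cast at h'
        exact h'
      have hpow : ((n : ℝ) + 1) ^ d ≤ 2 ^ d * (n : ℝ) ^ d := by
        rw [← mul_pow]
        apply pow_le_pow_left₀ (by positivity)
        linarith
      rw [Real.norm_eq_abs, abs_div, abs_mul, abs_of_nonneg (by positivity : (0 : ℝ) ≤ (d + 1).factorial),
        abs_of_nonneg (by positivity : (0 : ℝ) ≤ (n : ℝ) ^ (d + 1))]
      rw [div_le_div_iff₀ (by positivity) hn0]
      have hC0' : (0 : ℝ) ≤ C := by exact_mod_cast hC0
      calc ((d + 1).factorial : ℝ) * |(e n : ℝ)| * (n : ℝ)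
          ≤ ((d + 1).factorial : ℝ) * ((C : ℝ) * (2 ^ d * (n : ℝ) ^ d)) * (n : ℝ) := by
            apply mul_le_mul_of_nonneg_right _ hn0.le
            apply mul_le_mul_of_nonneg_left _ (by positivity)
            exact hbound.trans (mul_le_mul_of_nonneg_left hpow hC0')
        _ = ((d + 1).factorial : ℝ) * (C : ℝ) * 2 ^ d * (n : ℝ) ^ (d + 1) := by ring
    have h3 := (h1.const_mul (c : ℝ)).add h2
    rw [mul_one, add_zero] at h3
    exact h3.congr (fun n => (hdecomp n).symm)

end Groth.Agent.H79.FwdDiffAsymp
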