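import Groth.Agent.H79.KoszulCone

set_option autoImplicit false
universe u
open CategoryTheory CochainComplex HomComplex Limits Groth.Agent.H12.KoszulReg
open Groth.Agent.H79.KoszulCone

namespace Groth.Agent.H79.KoszulRel

variable {A : Type u} [CommRing A]

theorem map_mem_smul_top {M N : Type*} [AddCommGroup M] [Module A M] [AddCommGroup N] [Module A N]
    (I : Ideal A) (g : M →ₗ[A] N) (y : M) (hy : y ∈ I • (⊤ : Submodule A M)) :
    g y ∈ I • (⊤ : Submodule A N) := by
  have h1 : g y ∈ (I • (⊤ : Submodule A M)).map g := Submodule.mem_map_of_mem hy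
  rw [Submodule.map_smul''] at h1
  exact Submodule.smul_mono le_rfl le_top h1

theorem range_eq_ker_of_isZero_homology' (K : CochainComplex (ModuleCat.{u} A) ℤ) (i j k : ℤ)
    (hij : i + 1 = j) (hjk : j + 1 = k) (h : IsZero (K.homology j)) :
    LinearMap.range (K.d i j).hom = LinearMap.ker (K.d j k).hom := by
  obtain rfl : i = j - 1 := by omega
  subst hjk
  exact range_eq_ker_of_isZero_homology K j h

/-- The differentials of the Koszul complex have "entries" in the ideal of the sequence. -/
theorem d_mem_smul : ∀ (l : List A) (i j : ℤ) (k : (Koszul.koszul A l).X i),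
    ((Koszul.koszul A l).d i j).hom k ∈
      Ideal.ofList l • (⊤ : Submodule A ((Koszul.koszul A l).X j)) := by
  intro l
  induction l with
  | nil =>
    intro i j k
    have hd : (Koszul.koszul A []).d i j = 0 := by
      by_cases hi : i = 0
      · by_cases hj : j = 0
        · subst hi hj
          exact HomologicalComplex.shape _ _ _ (by simp)
        · apply (HomologicalComplex.isZero_single_obj_X (ComplexShape.up ℤ) 0 (ModuleCat.of A A)
            j hj).eq_of_tgt
      · apply (HomologicalComplex.isZero_single_obj_X (ComplexShape.up ℤ) 0 (ModuleCat.of A A)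
          i hi).eq_of_src
    rw [hd]
    exact Submodule.zero_mem _
  | cons f fs ih =>
    intro i j
    let K := Koszul.koszul A fs
    let φ : K ⟶ K := f • 𝟙 K
    have key : ∀ (k : (mappingCone φ).X i), ((mappingCone φ).d i j).hom k ∈
        Ideal.ofList (f :: fs) • (⊤ : Submodule A ((mappingCone φ).X j)) := by
      intro k
      by_cases hij : i + 1 = j
      · have hle : Ideal.ofList fs ≤ Ideal.ofList (f :: fs) := by
          rw [Ideal.ofList_cons]; exact le_sup_right
        have hf : f ∈ Ideal.ofList (f :: fs) := Ideal.subset_span (by simp)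
        rw [decomp φ j (j + 1) rfl (((mappingCone φ).d i j).hom k)]
        apply Submodule.add_mem
        · apply map_mem_smul_top
          rw [fstL_d φ i j (j + 1) hij rfl]
          apply Submodule.neg_mem
          exact Submodule.smul_mono_left hle (ih j (j + 1) _)
        · apply map_mem_smul_top
          rw [sndL_d φ i j hij]
          apply Submodule.add_mem
          · rw [smul_id_f_apply]
            exact Submodule.smul_mem_smul hf Submodule.mem_top
          · exact Submodule.smul_mono_left hle (ih i j _)
      · have hd : (mappingCone φ).d i j = 0 := HomologicalComplex.shape _ _ _ hij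
        rw [hd]
        exact Submodule.zero_mem _
    exact key

/-- Degree `0` is `A`, degree `-1` is `A^r`, and the differential between them is
`a ↦ Σ a_i l_i`. -/
theorem exists_rel_equiv : ∀ (l : List A),
    ∃ (ε : (Koszul.koszul A l).X 0 ≃ₗ[A] A)
      (η : (Koszul.koszul A l).X (-1) ≃ₗ[A] (Fin l.length → A)),
      ∀ k : (Koszul.koszul A l).X (-1),
        ε (((Koszul.koszul A l).d (-1) 0).hom k) = ∑ i, η k i * l.get i := by
  intro l
  induction l with
  | nil =>
    have e : (Koszul.koszul A []).X 0 ≅ ModuleCat.of A A :=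
      HomologicalComplex.singleObjXSelf (ComplexShape.up ℤ) 0 (ModuleCat.of A A)
    have hsub : Subsingleton ((Koszul.koszul A []).X (-1)) :=
      ModuleCat.subsingleton_of_isZero (HomologicalComplex.isZero_single_obj_X
        (ComplexShape.up ℤ) 0 (ModuleCat.of A A) (-1) (by norm_num))
    have hemp : IsEmpty (Fin ([] : List A).length) := by
      rw [List.length_nil]; infer_instance
    refine ⟨e.toLinearEquiv, LinearEquiv.ofSubsingleton _ _, ?_⟩
    intro k
    have hk : k = 0 := Subsingleton.elim _ _
    rw [hk, map_zero, map_zero]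
    exact (Finset.sum_of_isEmpty _).symm
  | cons f fs ih =>
    obtain ⟨ε, η, h⟩ := ih
    let K := Koszul.koszul A fs
    let φ : K ⟶ K := f • 𝟙 K
    have hsub : Subsingleton (K.X 1) :=
      ModuleCat.subsingleton_of_isZero (isZero_X_of_pos fs 1 one_pos)
    have hinj : Function.Injective (sndL φ 0) := by
      intro a b hab
      exact ext' φ 0 1 (by norm_num) a b (Subsingleton.elim _ _) hab
    have hsurj : Function.Surjective (sndL φ 0) := fun p => ⟨inrL φ 0 p, sndL_inrL φ 0 p⟩
    let ε' : (mappingCone φ).X 0 ≃ₗ[A] A :=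
      (LinearEquiv.ofBijective (sndL φ 0) ⟨hinj, hsurj⟩).trans ε
    have hε' : ∀ k, ε' k = ε (sndL φ 0 k) := fun k => rfl
    let η' : (mappingCone φ).X (-1) ≃ₗ[A] (Fin (fs.length + 1) → A) :=
      (coneEquiv φ (-1) 0 (by norm_num)).trans
        ((ε.prodCongr η).trans (Fin.consLinearEquiv A (fun _ : Fin (fs.length + 1) => A)))
    have hη'0 : ∀ k, η' k 0 = ε (fstL φ (-1) 0 (by norm_num) k) := fun k => rfl
    have hη'S : ∀ k (i : Fin fs.length), η' k i.succ = η (sndL φ (-1) k) i := fun k i => rfl
    have key : ∀ k : (mappingCone φ).X (-1),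
        ε' (((mappingCone φ).d (-1) 0).hom k) = ∑ i, η' k i * (f :: fs).get i := by
      intro k
      rw [hε', sndL_d φ (-1) 0 (by norm_num), map_add, h, smul_id_f_apply, map_smul,
        Fin.sum_univ_succ, hη'0]
      congr 1
      · rw [smul_eq_mul, mul_comm]; rfl
    exact ⟨ε', η', key⟩

/-- If `H^{-1}` of the Koszul complex vanishes, every relation among the elements of the sequence
has its coefficients in the ideal generated by the sequence. -/
theorem rel_coeff_mem (l : List A) (h : IsZero ((Koszul.koszul A l).homology (-1)))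
    (a : Fin l.length → A) (ha : ∑ i, a i * l.get i = 0) (i : Fin l.length) :
    a i ∈ Ideal.ofList l := by
  obtain ⟨ε, η, hη⟩ := exists_rel_equiv l
  let k := η.symm a
  have hk : ((Koszul.koszul A l).d (-1) 0).hom k = 0 := by
    apply ε.injective
    rw [hη, map_zero, η.apply_symm_apply, ha]
  have hker : k ∈ LinearMap.ker ((Koszul.koszul A l).d (-1) 0).hom := hk
  rw [← range_eq_ker_of_isZero_homology' _ (-2) (-1) 0 (by norm_num) (by norm_num) h] at hker
  obtain ⟨w, hw⟩ := hker
  have h1 : k ∈ Ideal.ofList l • (⊤ : Submodule A ((Koszul.koszul A l).X (-1))) := by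
    rw [← hw]
    exact d_mem_smul l (-2) (-1) w
  have h2 := map_mem_smul_top (Ideal.ofList l) ((LinearMap.proj i).comp η.toLinearMap) k h1
  have h3 : ((LinearMap.proj i).comp η.toLinearMap) k = a i := by
    change η (η.symm a) i = a i
    rw [η.apply_symm_apply]
  rw [h3, smul_eq_mul, Ideal.mul_top] at h2
  exact h2

theorem ofList_ofFn {r : ℕ} (g : Fin r → A) :
    Ideal.ofList (List.ofFn g) = Ideal.span (Set.range g) := by
  unfold Ideal.ofList
  congr 1
  ext x
  exact List.mem_ofFn' g x

/-- Function version of `rel_coeff_mem`. -/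
theorem rel_coeff_mem_ofFn {r : ℕ} (g : Fin r → A)
    (h : IsZero ((Koszul.koszul A (List.ofFn g)).homology (-1)))
    (a : Fin r → A) (ha : ∑ i, a i * g i = 0) (i : Fin r) :
    a i ∈ Ideal.span (Set.range g) := by
  have hlen : (List.ofFn g).length = r := List.length_ofFn
  let c : Fin (List.ofFn g).length ≃ Fin r := finCongr hlen
  have hget : ∀ j, (List.ofFn g).get j = g (c j) := fun j => List.get_ofFn g j
  have hsum : ∑ j, (a ∘ c) j * (List.ofFn g).get j = 0 := by
    rw [← ha]
    apply Fintype.sum_equiv c
    intro j
    rw [hget]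
    rfl
  have := rel_coeff_mem (List.ofFn g) h (a ∘ c) hsum (c.symm i)
  rw [ofList_ofFn] at this
  simpa using this

end Groth.Agent.H79.KoszulRel
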