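import Groth.Agent.H79.KoszulCone

set_option autoImplicit false
universe u
open CategoryTheory CochainComplex HomComplex Limits Groth.Agent.H12.KoszulReg
open Groth.Agent.H79.KoszulCone

namespace Groth.Agent.H79.KoszulSwap

variable {A : Type u} [CommRing A]

section dcone

variable {K : CochainComplex (ModuleCat.{u} A) ℤ} (ψ : K ⟶ K)
  (φ : mappingCone ψ ⟶ mappingCone ψ)

/-- four components of the double cone -/
noncomputable def dconeEquiv (n : ℤ) :
    (mappingCone φ).X n ≃ₗ[A] ((K.X (n + 1 + 1) × K.X (n + 1)) × (K.X (n + 1) × K.X n)) :=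
  (coneEquiv φ n (n + 1) rfl).trans
    (LinearEquiv.prodCongr (coneEquiv ψ (n + 1) (n + 1 + 1) rfl) (coneEquiv ψ n (n + 1) rfl))

theorem dconeEquiv_apply (n : ℤ) (z : (mappingCone φ).X n) :
    dconeEquiv ψ φ n z =
      ((fstL ψ (n + 1) (n + 1 + 1) rfl (fstL φ n (n + 1) rfl z),
          sndL ψ (n + 1) (fstL φ n (n + 1) rfl z)),
        (fstL ψ n (n + 1) rfl (sndL φ n z), sndL ψ n (sndL φ n z))) := rfl

variable (K) in
/-- the differential of the double cone in components -/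
noncomputable def dformula (a b : A) (n : ℤ)
    (t : (K.X (n + 1 + 1) × K.X (n + 1)) × (K.X (n + 1) × K.X n)) :
    (K.X (n + 1 + 1 + 1) × K.X (n + 1 + 1)) × (K.X (n + 1 + 1) × K.X (n + 1)) :=
  (((K.d (n + 1 + 1) (n + 1 + 1 + 1)).hom t.1.1,
      -(b • t.1.1) - (K.d (n + 1) (n + 1 + 1)).hom t.1.2),
    (a • t.1.1 - (K.d (n + 1) (n + 1 + 1)).hom t.2.1,
      a • t.1.2 + b • t.2.1 + (K.d n (n + 1)).hom t.2.2))

theorem dcone_d (a b : A) (hψ : ∀ j (y : K.X j), (ψ.f j).hom y = b • y)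
    (hφ : ∀ j (y : (mappingCone ψ).X j), (φ.f j).hom y = a • y)
    (n : ℤ) (z : (mappingCone φ).X n) :
    dconeEquiv ψ φ (n + 1) (((mappingCone φ).d n (n + 1)).hom z) =
      dformula K a b n (dconeEquiv ψ φ n z) := by
  have e1 := fstL_d φ n (n + 1) (n + 1 + 1) rfl rfl z
  have e2 := sndL_d φ n (n + 1) rfl z
  rw [hφ] at e2
  rw [dconeEquiv_apply, dconeEquiv_apply, e1, e2]
  simp only [dformula, map_neg, map_add, map_smul,
    fstL_d ψ (n + 1) (n + 1 + 1) (n + 1 + 1 + 1) rfl rfl,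
    sndL_d ψ (n + 1) (n + 1 + 1) rfl, fstL_d ψ n (n + 1) (n + 1 + 1) rfl rfl,
    sndL_d ψ n (n + 1) rfl, hψ, neg_neg]
  refine Prod.ext (Prod.ext rfl ?_) (Prod.ext ?_ ?_)
  · simp only
    abel
  · simp only
    abel
  · simp only
    abel

end dcone

section swap

variable (K : CochainComplex (ModuleCat.{u} A) ℤ)

/-- the swap of the two middle components, with a sign on the first -/
def sigma (n : ℤ) :
    ((K.X (n + 1 + 1) × K.X (n + 1)) × (K.X (n + 1) × K.X n)) ≃ₗ[A]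
      ((K.X (n + 1 + 1) × K.X (n + 1)) × (K.X (n + 1) × K.X n)) where
  toFun t := ((-t.1.1, t.2.1), (t.1.2, t.2.2))
  map_add' s t := by
    refine Prod.ext (Prod.ext ?_ rfl) (Prod.ext rfl rfl)
    simp only [Prod.fst_add, neg_add]
  map_smul' r t := by
    refine Prod.ext (Prod.ext ?_ rfl) (Prod.ext rfl rfl)
    simp only [Prod.smul_fst, smul_neg, RingHom.id_apply]
  invFun t := ((-t.1.1, t.2.1), (t.1.2, t.2.2))
  left_inv t := by
    refine Prod.ext (Prod.ext ?_ rfl) (Prod.ext rfl rfl)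
    simp only [neg_neg]
  right_inv t := by
    refine Prod.ext (Prod.ext ?_ rfl) (Prod.ext rfl rfl)
    simp only [neg_neg]

theorem sigma_dformula (a b : A) (n : ℤ)
    (t : (K.X (n + 1 + 1) × K.X (n + 1)) × (K.X (n + 1) × K.X n)) :
    sigma K (n + 1) (dformula K a b n t) = dformula K b a n (sigma K n t) := by
  refine Prod.ext (Prod.ext ?_ ?_) (Prod.ext ?_ ?_)
  · change -(K.d (n + 1 + 1) (n + 1 + 1 + 1)).hom t.1.1 =
      (K.d (n + 1 + 1) (n + 1 + 1 + 1)).hom (-t.1.1)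
    rw [map_neg]
  · change a • t.1.1 - (K.d (n + 1) (n + 1 + 1)).hom t.2.1 =
      -(a • -t.1.1) - (K.d (n + 1) (n + 1 + 1)).hom t.2.1
    rw [smul_neg, neg_neg]
  · change -(b • t.1.1) - (K.d (n + 1) (n + 1 + 1)).hom t.1.2 =
      b • -t.1.1 - (K.d (n + 1) (n + 1 + 1)).hom t.1.2
    rw [smul_neg]
  · change a • t.1.2 + b • t.2.1 + (K.d n (n + 1)).hom t.2.2 =
      b • t.2.1 + a • t.1.2 + (K.d n (n + 1)).hom t.2.2
    rw [add_comm (a • t.1.2)]

variable (a b : A)

/-- the degreewise swap isomorphism between the two double cones -/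
noncomputable def theta (n : ℤ) :
    (mappingCone (a • 𝟙 (mappingCone (b • 𝟙 K)))).X n ≃ₗ[A]
      (mappingCone (b • 𝟙 (mappingCone (a • 𝟙 K)))).X n :=
  (dconeEquiv (b • 𝟙 K) (a • 𝟙 (mappingCone (b • 𝟙 K))) n).trans
    ((sigma K n).trans (dconeEquiv (a • 𝟙 K) (b • 𝟙 (mappingCone (a • 𝟙 K))) n).symm)

theorem theta_d (n : ℤ) (z : (mappingCone (a • 𝟙 (mappingCone (b • 𝟙 K)))).X n) :
    theta K a b (n + 1) (((mappingCone (a • 𝟙 (mappingCone (b • 𝟙 K)))).d n (n + 1)).hom z) =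
      ((mappingCone (b • 𝟙 (mappingCone (a • 𝟙 K)))).d n (n + 1)).hom (theta K a b n z) := by
  apply (dconeEquiv (a • 𝟙 K) (b • 𝟙 (mappingCone (a • 𝟙 K))) (n + 1)).injective
  rw [dcone_d (a • 𝟙 K) (b • 𝟙 (mappingCone (a • 𝟙 K))) b a
    (fun j y => smul_id_f_apply a K j y) (fun j y => smul_id_f_apply b _ j y)]
  unfold theta
  simp only [LinearEquiv.trans_apply, LinearEquiv.apply_symm_apply]
  rw [dcone_d (b • 𝟙 K) (a • 𝟙 (mappingCone (b • 𝟙 K))) a b
    (fun j y => smul_id_f_apply b K j y) (fun j y => smul_id_f_apply a _ j y), sigma_dformula]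

/-- swapping the first two elements of the Koszul-type double cone -/
noncomputable def swapIso :
    mappingCone (a • 𝟙 (mappingCone (b • 𝟙 K))) ≅ mappingCone (b • 𝟙 (mappingCone (a • 𝟙 K))) :=
  HomologicalComplex.Hom.isoOfComponents (fun n => (theta K a b n).toModuleIso) (by
    intro i j hij
    have hij' : i + 1 = j := hij
    subst hij'
    ext z
    exact (theta_d K a b i z).symm)

end swap

end Groth.Agent.H79.KoszulSwap
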