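import Groth.Agent.H79.KoszulEuler
import Groth.Agent.H79.KoszulSwap
import Groth.Agent.H79.KoszulRel

set_option autoImplicit false
universe u
open CategoryTheory CochainComplex HomComplex Limits MonoidalCategory Groth.Agent.H12.KoszulReg
open Groth.Agent.H79.KoszulCone Groth.Agent.H79.ConeLength Groth.Agent.H79.LenComp
open Groth.Agent.H79.KoszulEuler
open scoped Pointwise

namespace Groth.Agent.H79.KoszulEulerPow

variable {A : Type u} [CommRing A]

/-- moving an element from the middle of the sequence to the front -/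
theorem nonempty_iso_middle (N : ModuleCat.{u} A) (a : A) (l₂ : List A) : ∀ l₁ : List A,
    Nonempty (CohIII.koszulCx N (l₁ ++ a :: l₂) ≅ CohIII.koszulCx N (a :: (l₁ ++ l₂))) := by
  intro l₁
  induction l₁ with
  | nil => exact ⟨Iso.refl _⟩
  | cons c l₁ ih =>
    obtain ⟨e⟩ := ih
    have e1 : CohIII.koszulCx N (c :: (l₁ ++ a :: l₂)) ≅
        mappingCone (c • 𝟙 (mappingCone (a • 𝟙 (CohIII.koszulCx N (l₁ ++ l₂))))) :=
      (coneFunctor c).mapIso e
    exact ⟨e1 ≪≫ Groth.Agent.H79.KoszulSwap.swapIso (CohIII.koszulCx N (l₁ ++ l₂)) c a⟩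

variable (M : Type u) [AddCommGroup M] [Module A M]

theorem hlen_congr {l l' : List A}
    (e : CohIII.koszulCx (ModuleCat.of A M) l ≅ CohIII.koszulCx (ModuleCat.of A M) l') (i : ℤ) :
    hlen M l i = hlen M l' i :=
  ((HomologicalComplex.homologyFunctor (ModuleCat.{u} A) (ComplexShape.up ℤ) i).mapIso
    e).toLinearEquiv.length_eq

theorem chi_middle (l₁ : List A) (a : A) (l₂ : List A) :
    chi M (l₁ ++ a :: l₂) = chi M (a :: (l₁ ++ l₂)) := by
  obtain ⟨e⟩ := nonempty_iso_middle (ModuleCat.of A M) a l₂ l₁
  unfold chi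
  apply finsum_congr
  intro i
  rw [hlen_congr M e i]

theorem chi_one (l : List A) : chi M ((1 : A) :: l) = 0 := by
  unfold chi
  have h : ∀ i : ℤ, hlen M ((1 : A) :: l) i = 0 := by
    intro i
    rw [hlen_cons]
    have h1 : cK M l 1 i = 0 := by
      unfold cK
      rw [Module.length_eq_zero_iff]
      refine ⟨fun x y => ?_⟩
      obtain ⟨x, rfl⟩ := Submodule.mkQ_surjective _ x
      obtain ⟨y, rfl⟩ := Submodule.mkQ_surjective _ y
      have hx : ∀ z : Nmod M l i, Submodule.mkQ ((1 : A) • (⊤ : Submodule A (Nmod M l i))) z = 0 := by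
        intro z
        rw [Submodule.mkQ_apply, Submodule.Quotient.mk_eq_zero]
        have := Submodule.smul_mem_pointwise_smul z (1 : A) (⊤ : Submodule A (Nmod M l i))
          Submodule.mem_top
        have h2 : (1 : A) • z = z := one_smul A z
        rwa [h2] at this
      rw [hx x, hx y]
    have h2 : kK M l 1 (i + 1) = 0 := by
      unfold kK
      rw [Module.length_eq_zero_iff]
      refine ⟨fun x y => ?_⟩
      have hx : ∀ z : kerSMul (Nmod M l (i + 1)) (1 : A), z = 0 := by
        intro z
        apply Subtype.ext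
        have := (mem_kerSMul _ (1 : A) z.1).mp z.2
        rwa [one_smul] at this
      rw [hx x, hx y]
    rw [h1, h2, add_zero]
  simp only [h, ENat.toNat_zero, Nat.cast_zero, mul_zero, finsum_zero]

section noeth

variable [IsNoetherianRing A] [Module.Finite A M]

omit [IsNoetherianRing A] [Module.Finite A M] in
theorem suppCond_of_forall {l l' : List A} (hl : SuppCond M l)
    (h : ∀ p : Ideal A, p.IsPrime → (∀ a ∈ l', a ∈ p) → ∀ a ∈ l, a ∈ p) : SuppCond M l' := by
  intro p hp hle
  apply hl p hp
  rw [Ideal.span_le]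
  intro a ha
  exact h p.asIdeal p.2 (fun a ha => hle (Ideal.subset_span ha)) a ha

theorem chi_pow (L : List A) (a : A) (hs : SuppCond M (a :: L)) (m : ℕ) :
    chi M (a ^ m :: L) = (m : ℤ) * chi M (a :: L) := by
  induction m with
  | zero =>
    rw [pow_zero, chi_one]
    simp
  | succ m ih =>
    have hs' : SuppCond M (a ^ m :: L) := by
      apply suppCond_of_forall M hs
      intro p hp h x hx
      rcases List.mem_cons.mp hx with rfl | hx
      · exact hp.mem_of_pow_mem m (h _ (by simp))
      · exact h x (List.mem_cons_of_mem _ hx)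
    rw [pow_succ, chi_mul_of_suppCond M L (a ^ m) a hs' hs, ih]
    push_cast
    ring

theorem chi_ofFn_pow : ∀ (k : ℕ) (pre : List A) (x : Fin k → A) (m : Fin k → ℕ),
    SuppCond M (pre ++ List.ofFn x) →
    chi M (pre ++ List.ofFn (fun j => x j ^ m j)) =
      (∏ j, (m j : ℤ)) * chi M (pre ++ List.ofFn x) := by
  intro k
  induction k with
  | zero =>
    intro pre x m _
    simp
  | succ k ih =>
    intro pre x m hs
    rw [List.ofFn_succ, List.ofFn_succ, Fin.prod_univ_succ] at *
    have hs1 : SuppCond M (x 0 :: (pre ++ List.ofFn fun j : Fin k => x j.succ ^ m j.succ)) := by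
      apply suppCond_of_forall M hs
      intro p hp h a ha
      rcases List.mem_append.mp ha with ha | ha
      · exact h a (List.mem_cons_of_mem _ (List.mem_append_left _ ha))
      · rcases List.mem_cons.mp ha with rfl | ha
        · exact h _ (by simp)
        · rw [List.mem_ofFn'] at ha
          obtain ⟨j, rfl⟩ := ha
          apply hp.mem_of_pow_mem (m j.succ)
          apply h
          apply List.mem_cons_of_mem
          apply List.mem_append_right
          rw [List.mem_ofFn']
          exact ⟨j, rfl⟩
    have hs2 : SuppCond M ((pre ++ [x 0]) ++ List.ofFn fun j : Fin k => x j.succ) := by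
      rw [List.append_assoc]
      exact hs
    rw [chi_middle, chi_pow M _ _ hs1, ← chi_middle]
    have e1 : pre ++ x 0 :: (List.ofFn fun j : Fin k => x j.succ ^ m j.succ) =
        (pre ++ [x 0]) ++ List.ofFn fun j : Fin k => x j.succ ^ m j.succ := by
      rw [List.append_assoc]; rfl
    have e2 : pre ++ x 0 :: (List.ofFn fun j : Fin k => x j.succ) =
        (pre ++ [x 0]) ++ List.ofFn fun j : Fin k => x j.succ := by
      rw [List.append_assoc]; rfl
    rw [e1, e2, ih (pre ++ [x 0]) (fun j => x j.succ) (fun j => m j.succ) hs2]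
    ring

end noeth

end Groth.Agent.H79.KoszulEulerPow
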