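import Groth.Agent.H79.SerreMain
import Groth.Agent.H79.FwdDiffAsymp

set_option autoImplicit false
universe u
open CategoryTheory CochainComplex HomComplex Limits Filter Topology
open Groth.Agent.H79.KoszulEuler Groth.Agent.H79.SerreTerms Groth.Agent.H79.SerreMain
open Groth.Agent.H79.FwdDiffAsymp
open scoped Pointwise fwdDiff

namespace Groth.Agent.H79.SerreLimit

variable {A : Type u} [CommRing A] [IsNoetherianRing A] (M : Type u) [AddCommGroup M] [Module A M]
  [Module.Finite A M]

/-- the integer-valued Samuel function -/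
noncomputable def fsam (I : Ideal A) (n : ℕ) : ℤ := ((Lsam M I n).toNat : ℤ)

omit [IsNoetherianRing A] [Module.Finite A M] in
theorem finsum_eq_fwdDiff (l : List A) (n : ℕ) :
    (∑ᶠ q : ℤ, ((q.negOnePow : ℤˣ) : ℤ) *
      ((((cb l.length q : ℕ) : ℕ∞) * Lsam M (Ideal.ofList l) (((n + l.length : ℕ) : ℤ) + q).toNat).toNat : ℤ)) =
      ((fwdDiff (1 : ℕ))^[l.length] (fsam M (Ideal.ofList l))) n := by
  set d := l.length with hd
  rw [fwdDiff_iter_eq_sum_shift]
  have hsupp : (Function.support fun q : ℤ => ((q.negOnePow : ℤˣ) : ℤ) *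
      ((((cb d q : ℕ) : ℕ∞) * Lsam M (Ideal.ofList l) (((n + d : ℕ) : ℤ) + q).toNat).toNat : ℤ)) ⊆
      ↑((Finset.range (d + 1)).image (fun p : ℕ => -(p : ℤ))) := by
    intro q hq
    rw [Function.mem_support] at hq
    by_contra hcon
    apply hq
    have hq' : 0 < q ∨ q + d < 0 := by
      by_contra h
      push Not at h
      apply hcon
      rw [Finset.coe_image, Set.mem_image]
      refine ⟨(-q).toNat, ?_, by omega⟩
      rw [Finset.coe_range, Set.mem_Iio]
      omega
    rw [cb_eq_zero d q hq']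
    simp
  rw [finsum_eq_sum_of_support_subset _ hsupp, Finset.sum_image (by
    intro a _ b _ hab
    simpa using hab)]
  rw [← Finset.sum_range_reflect]
  apply Finset.sum_congr rfl
  intro p hp
  rw [Finset.mem_range] at hp
  have hp' : p ≤ d := by omega
  have e1 : d + 1 - 1 - p = d - p := by omega
  rw [e1]
  have e2 : (((n + d : ℕ) : ℤ) + -((d - p : ℕ) : ℤ)).toNat = n + p := by omega
  have e3 : cb d (-((d - p : ℕ) : ℤ)) = d.choose (d - p) := by
    unfold cb
    rw [if_pos (by omega)]
    congr 1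
    omega
  rw [e2, e3, ENat.toNat_mul, ENat.toNat_natCast, Nat.choose_symm hp', Int.negOnePow_neg,
    Int.coe_negOnePow_natCast]
  simp only [fsam, smul_eq_mul, mul_one, Nat.cast_mul]
  ring

theorem tendsto_samuel (l : List A) (hs : SuppCond M l) :
    Tendsto (fun n : ℕ => (l.length.factorial : ℝ) *
      ((Lsam M (Ideal.ofList l) n).toNat : ℝ) / (n : ℝ) ^ l.length) atTop (𝓝 ((chi M l : ℤ) : ℝ)) := by
  obtain ⟨i₀, hi₀⟩ := serre_identity M l hs
  have h := tendsto_of_fwdDiff_eventually_const l.length (fsam M (Ideal.ofList l)) (chi M l) i₀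
    (fun n hn => by
      rw [← finsum_eq_fwdDiff]
      exact hi₀ (n + l.length) (by omega))
  refine h.congr (fun n => ?_)
  simp [fsam]

end Groth.Agent.H79.SerreLimit
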