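import Groth.Agent.H79.HDPoly

/-!
# Hasse–Davenport, part 2: the logarithmic-derivative recursion

Unique factorization in `F[X]` gives `m * A m = ∑_{i=1}^m N i * A (m - i)` where
`N i = ∑_{P monic irreducible, deg P ∣ i} deg P * lam P ^ (i / deg P)`.
-/

set_option autoImplicit false

namespace Groth.Agent.H79.HasseDav

open Polynomial UniqueFactorizationMonoid

open scoped Classical

variable {F : Type*} [Field F] [Fintype F] {R : Type*} [CommRing R]
variable (χ : MulChar F R) (ψ : AddChar F R)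

/-- Monic irreducible polynomials of degree at most `m`. -/
noncomputable def Irr (m : ℕ) : Finset F[X] :=
  ((Finset.Icc 1 m).biUnion (Mon (F := F))).filter Irreducible

theorem mem_Irr {m : ℕ} {P : F[X]} :
    P ∈ Irr m ↔ P.Monic ∧ Irreducible P ∧ P.natDegree ≤ m := by
  classical
  unfold Irr
  rw [Finset.mem_filter, Finset.mem_biUnion]
  constructor
  · rintro ⟨⟨d, hd, hP⟩, hirr⟩
    rw [mem_Mon] at hP
    rw [Finset.mem_Icc] at hd
    exact ⟨hP.1, hirr, by omega⟩
  · rintro ⟨hm, hirr, hle⟩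
    refine ⟨⟨P.natDegree, ?_, mem_Mon.mpr ⟨hm, rfl⟩⟩, hirr⟩
    rw [Finset.mem_Icc]
    exact ⟨hirr.natDegree_pos, hle⟩

theorem deg_eq_sum {m : ℕ} {f : F[X]} (hf : f ∈ Mon m) :
    m = ∑ P ∈ Irr (F := F) m, ∑ j ∈ Finset.Icc 1 m, if P ^ j ∣ f then P.natDegree else 0 := by
  classical
  rw [mem_Mon] at hf
  obtain ⟨hfm, hfd⟩ := hf
  have hf0 : f ≠ 0 := hfm.ne_zero
  set s := normalizedFactors f with hs
  have hprod : s.prod = f := by
    rw [hs, prod_normalizedFactors_eq hf0, hfm.normalize_eq_self]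
  have hmem : ∀ P ∈ s, Irreducible P ∧ P.Monic ∧ P ∣ f := fun P hP =>
    (Polynomial.mem_normalizedFactors_iff hf0).mp hP
  have h1 : m = (s.map natDegree).sum := by
    rw [← natDegree_multiset_prod_of_monic s (fun P hP => (hmem P hP).2.1), hprod, hfd]
  have h2 : (s.map natDegree).sum = ∑ P ∈ s.toFinset, s.count P * P.natDegree := by
    rw [Finset.sum_multiset_map_count]
    simp only [smul_eq_mul]
  have hcount : ∀ P : F[X], P.Monic → Irreducible P → ∀ j : ℕ, P ^ j ∣ f ↔ j ≤ s.count P := by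
    intro P hPm hPi j
    rw [pow_dvd_iff_le_emultiplicity, emultiplicity_eq_count_normalizedFactors hPi hf0,
      hPm.normalize_eq_self, Nat.cast_le]
  have h4 : ∀ P ∈ Irr (F := F) m,
      (∑ j ∈ Finset.Icc 1 m, if P ^ j ∣ f then P.natDegree else 0) = s.count P * P.natDegree := by
    intro P hP
    rw [mem_Irr] at hP
    obtain ⟨hPm, hPi, hPd⟩ := hP
    have hdpos : 0 < P.natDegree := hPi.natDegree_pos
    have hcm : s.count P ≤ m := by
      have hd : P ^ (s.count P) ∣ f := (hcount P hPm hPi _).mpr le_rfl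
      have := natDegree_le_of_dvd hd hf0
      rw [natDegree_pow, hfd] at this
      calc s.count P = s.count P * 1 := (mul_one _).symm
        _ ≤ s.count P * P.natDegree := Nat.mul_le_mul_left _ hdpos
        _ ≤ m := this
    simp_rw [hcount P hPm hPi]
    rw [← Finset.sum_filter, Finset.sum_const, smul_eq_mul]
    congr 1
    have : (Finset.Icc 1 m).filter (fun j => j ≤ s.count P) = Finset.Icc 1 (s.count P) := by
      ext j
      simp only [Finset.mem_filter, Finset.mem_Icc]
      omega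
    rw [this, Nat.card_Icc]
    omega
  have h3 : s.toFinset ⊆ Irr (F := F) m := by
    intro P hP
    rw [Multiset.mem_toFinset] at hP
    obtain ⟨hPi, hPm, hPd⟩ := hmem P hP
    rw [mem_Irr]
    refine ⟨hPm, hPi, ?_⟩
    have := natDegree_le_of_dvd hPd hf0
    rwa [hfd] at this
  have h5 : ∑ P ∈ s.toFinset, s.count P * P.natDegree =
      ∑ P ∈ Irr (F := F) m, s.count P * P.natDegree := by
    apply Finset.sum_subset h3
    intro P _ hPs
    rw [Multiset.mem_toFinset] at hPs
    rw [Multiset.count_eq_zero_of_notMem hPs, zero_mul]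
  rw [Finset.sum_congr rfl h4, ← h5, ← h2]
  exact h1

theorem filter_dvd_eq_image {m j : ℕ} {P : F[X]} (hP : P.Monic) (hd : j * P.natDegree ≤ m) :
    (Mon (F := F) m).filter (fun f => P ^ j ∣ f) =
      (Mon (F := F) (m - j * P.natDegree)).image (fun g => P ^ j * g) := by
  classical
  ext f
  simp only [Finset.mem_filter, Finset.mem_image, mem_Mon]
  have hPj : (P ^ j).Monic := hP.pow j
  have hPjd : (P ^ j).natDegree = j * P.natDegree := natDegree_pow' (by simp [hP.leadingCoeff])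
  constructor
  · rintro ⟨⟨hfm, hfd⟩, g, rfl⟩
    have hg : g.Monic := hPj.of_mul_monic_left hfm
    refine ⟨g, ⟨hg, ?_⟩, rfl⟩
    rw [hPj.natDegree_mul hg, hPjd] at hfd
    omega
  · rintro ⟨g, ⟨hg, hgd⟩, rfl⟩
    refine ⟨⟨hPj.mul hg, ?_⟩, dvd_mul_right _ _⟩
    rw [hPj.natDegree_mul hg, hPjd, hgd]
    omega

theorem sum_dvd {m j : ℕ} {P : F[X]} (hP : P.Monic) (hd : j * P.natDegree ≤ m) :
    ∑ f ∈ (Mon (F := F) m).filter (fun f => P ^ j ∣ f), lam χ ψ f =
      lam χ ψ P ^ j * A χ ψ (m - j * P.natDegree) := by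
  classical
  rw [filter_dvd_eq_image (F := F) hP hd, Finset.sum_image]
  · unfold A
    rw [Finset.mul_sum]
    apply Finset.sum_congr rfl
    intro g hg
    rw [mem_Mon] at hg
    rw [lam_mul χ ψ (hP.pow j) hg.1, lam_pow χ ψ hP]
  · intro g _ g' _ hgg
    exact mul_left_cancel₀ (hP.pow j).ne_zero hgg

theorem sum_dvd_zero {m j : ℕ} {P : F[X]} (hP : P.Monic) (hd : m < j * P.natDegree) :
    ∑ f ∈ (Mon (F := F) m).filter (fun f => P ^ j ∣ f), lam χ ψ f = 0 := by
  classical
  have : (Mon (F := F) m).filter (fun f => P ^ j ∣ f) = ∅ := by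
    rw [Finset.filter_eq_empty_iff]
    intro f hf hdvd
    rw [mem_Mon] at hf
    have := natDegree_le_of_dvd hdvd hf.1.ne_zero
    rw [natDegree_pow' (by simp [hP.leadingCoeff]), hf.2] at this
    omega
  rw [this, Finset.sum_empty]

theorem recursion (m : ℕ) :
    (m : R) * A χ ψ m = ∑ P ∈ Irr (F := F) m, ∑ j ∈ Finset.Icc 1 m,
      if j * P.natDegree ≤ m then
        (P.natDegree : R) * (lam χ ψ P ^ j * A χ ψ (m - j * P.natDegree)) else 0 := by
  classical
  have h1 : (m : R) * A χ ψ m = ∑ f ∈ Mon (F := F) m,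
      ∑ P ∈ Irr (F := F) m, ∑ j ∈ Finset.Icc 1 m,
        if P ^ j ∣ f then (P.natDegree : R) * lam χ ψ f else 0 := by
    unfold A
    rw [Finset.mul_sum]
    apply Finset.sum_congr rfl
    intro f hf
    have h := deg_eq_sum hf
    have hc : (m : R) = ∑ P ∈ Irr (F := F) m, ∑ j ∈ Finset.Icc 1 m,
        if P ^ j ∣ f then (P.natDegree : R) else 0 := by
      conv_lhs => rw [h]
      push_cast
      rfl
    rw [hc, Finset.sum_mul]
    apply Finset.sum_congr rfl
    intro P _
    rw [Finset.sum_mul]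
    apply Finset.sum_congr rfl
    intro j _
    split_ifs
    · rfl
    · rw [zero_mul]
  rw [h1, Finset.sum_comm]
  apply Finset.sum_congr rfl
  intro P hP
  rw [mem_Irr] at hP
  rw [Finset.sum_comm]
  apply Finset.sum_congr rfl
  intro j _
  rw [← Finset.sum_filter, ← Finset.mul_sum]
  split_ifs with hd
  · rw [sum_dvd χ ψ (m := m) (j := j) hP.1 hd]
  · rw [sum_dvd_zero χ ψ (m := m) (j := j) hP.1 (by omega), mul_zero]

/-- The contribution of the monic irreducible `P` to `N i`. -/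
noncomputable def T (P : F[X]) (i : ℕ) : R :=
  if P.natDegree ∣ i then (P.natDegree : R) * lam χ ψ P ^ (i / P.natDegree) else 0

/-- `N i = ∑_{P monic irreducible, deg P ∣ i} deg P * lam P ^ (i / deg P)`. -/
noncomputable def N (i : ℕ) : R := ∑ P ∈ Irr (F := F) i, T χ ψ P i

theorem N_eq_sum_of_le {i m : ℕ} (hi : 1 ≤ i) (him : i ≤ m) :
    N χ ψ i = ∑ P ∈ Irr (F := F) m, T χ ψ P i := by
  unfold N
  apply Finset.sum_subset
  · intro P hP
    rw [mem_Irr] at hP ⊢
    exact ⟨hP.1, hP.2.1, hP.2.2.trans him⟩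
  · intro P hP hPi
    rw [mem_Irr] at hP hPi
    unfold T
    rw [if_neg]
    intro hdvd
    apply hPi
    exact ⟨hP.1, hP.2.1, Nat.le_of_dvd (by omega) hdvd⟩

theorem sum_T_eq {m : ℕ} {P : F[X]} (hd : 0 < P.natDegree) :
    ∑ i ∈ Finset.Icc 1 m, T χ ψ P i * A χ ψ (m - i) =
      ∑ j ∈ Finset.Icc 1 m, if j * P.natDegree ≤ m then
        (P.natDegree : R) * (lam χ ψ P ^ j * A χ ψ (m - j * P.natDegree)) else 0 := by
  set d := P.natDegree with hdd
  have h1 : ∑ i ∈ Finset.Icc 1 m, T χ ψ P i * A χ ψ (m - i) =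
      ∑ i ∈ (Finset.Icc 1 m).filter (fun i => d ∣ i),
        (d : R) * (lam χ ψ P ^ (i / d) * A χ ψ (m - i)) := by
    rw [Finset.sum_filter]
    apply Finset.sum_congr rfl
    intro i _
    unfold T
    rw [← hdd]
    split_ifs
    · ring
    · rw [zero_mul]
  rw [h1, ← Finset.sum_filter]
  refine Finset.sum_nbij' (fun i => i / d) (fun j => j * d) ?_ ?_ ?_ ?_ ?_
  · intro i hi
    simp only [Finset.mem_filter, Finset.mem_Icc] at hi ⊢
    obtain ⟨⟨h1i, him⟩, k, rfl⟩ := hi
    rw [Nat.mul_div_cancel_left k hd]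
    have hk : 1 ≤ k := by
      rcases Nat.eq_zero_or_pos k with rfl | hk
      · omega
      · exact hk
    refine ⟨⟨hk, ?_⟩, ?_⟩
    · calc k = 1 * k := (one_mul k).symm
        _ ≤ d * k := Nat.mul_le_mul_right k hd
        _ ≤ m := him
    · rw [mul_comm]; exact him
  · intro j hj
    simp only [Finset.mem_filter, Finset.mem_Icc] at hj ⊢
    obtain ⟨⟨h1j, hjm⟩, hjd⟩ := hj
    refine ⟨⟨?_, hjd⟩, dvd_mul_left d j⟩
    calc 1 = 1 * 1 := rfl
      _ ≤ j * d := Nat.mul_le_mul h1j hd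
  · intro i hi
    simp only [Finset.mem_filter, Finset.mem_Icc] at hi
    exact Nat.div_mul_cancel hi.2
  · intro j _
    exact Nat.mul_div_cancel j hd
  · intro i hi
    simp only [Finset.mem_filter, Finset.mem_Icc] at hi
    rw [Nat.div_mul_cancel hi.2]

theorem recursion' (m : ℕ) :
    (m : R) * A χ ψ m = ∑ i ∈ Finset.Icc 1 m, N χ ψ i * A χ ψ (m - i) := by
  rw [recursion]
  have h1 : ∑ i ∈ Finset.Icc 1 m, N χ ψ i * A χ ψ (m - i) =
      ∑ i ∈ Finset.Icc 1 m, ∑ P ∈ Irr (F := F) m, T χ ψ P i * A χ ψ (m - i) := by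
    apply Finset.sum_congr rfl
    intro i hi
    rw [Finset.mem_Icc] at hi
    rw [N_eq_sum_of_le χ ψ hi.1 hi.2, Finset.sum_mul]
  rw [h1]
  conv_rhs => rw [Finset.sum_comm]
  apply Finset.sum_congr rfl
  intro P hP
  rw [mem_Irr] at hP
  exact (sum_T_eq χ ψ hP.2.1.natDegree_pos).symm

/-- Solving the recursion: `N m = -(-G)^m` where `G = A 1`, if `A 0 = 1` and `A m = 0` for `m ≥ 2`. -/
theorem N_eq (hA : ∀ m, 2 ≤ m → A χ ψ m = 0) {m : ℕ} (hm : 1 ≤ m) :
    N χ ψ m = -(-(A χ ψ 1)) ^ m := by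
  induction m, hm using Nat.le_induction with
  | base =>
    have h := recursion' χ ψ (F := F) 1
    simp only [Nat.cast_one, one_mul, Finset.Icc_self, Finset.sum_singleton, Nat.sub_self] at h
    rw [A_zero, mul_one] at h
    rw [← h]
    ring
  | succ m hm ih =>
    have h := recursion' χ ψ (F := F) (m + 1)
    rw [hA (m + 1) (by omega), mul_zero] at h
    have hsplit : ∑ i ∈ Finset.Icc 1 (m + 1), N χ ψ i * A χ ψ (m + 1 - i) =
        N χ ψ (m + 1) * A χ ψ 0 + N χ ψ m * A χ ψ 1 := by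
      have hsub : ({m + 1, m} : Finset ℕ) ⊆ Finset.Icc 1 (m + 1) := by
        intro i hi
        simp only [Finset.mem_insert, Finset.mem_singleton] at hi
        rw [Finset.mem_Icc]
        omega
      rw [← Finset.sum_subset hsub]
      · rw [Finset.sum_pair (by omega)]
        congr 2
        · rw [Nat.sub_self]
        · congr 1
          omega
      · intro i hi hni
        simp only [Finset.mem_insert, Finset.mem_singleton, not_or] at hni
        rw [Finset.mem_Icc] at hi
        rw [hA (m + 1 - i) (by omega), mul_zero]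
    rw [hsplit, A_zero, mul_one, ih] at h
    have : N χ ψ (m + 1) = -(-(-(A χ ψ 1)) ^ m * A χ ψ 1) := by
      rw [eq_neg_iff_add_eq_zero]
      exact h.symm
    rw [this]
    ring

end Groth.Agent.H79.HasseDav
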