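import Groth.Agent.H79.HDCount

/-!
# Hasse–Davenport, part 3: the character sum over an extension is `N n`

Grouping the elements of a finite extension `F'/F` of degree `n` by their minimal polynomial gives
`∑_{x ∈ F'} χ(N x) ψ(Tr x) = N n`.
-/

set_option autoImplicit false

namespace Groth.Agent.H79.HasseDav

open Polynomial Module IntermediateField

open scoped Classical

variable {F : Type*} [Field F] [Fintype F] {F' : Type*} [Field F'] [Fintype F'] [Algebra F F']
variable {R : Type*} [CommRing R] (χ : MulChar F R) (ψ : AddChar F R)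

omit [Fintype F] in
theorem term_eq (α : F') :
    χ (Algebra.norm F α) * ψ (Algebra.trace F F' α) =
      lam χ ψ (minpoly F α) ^ (finrank F F' / (minpoly F α).natDegree) := by
  have hα : IsIntegral F α := IsIntegral.of_finite F α
  have hd : 0 < (minpoly F α).natDegree := minpoly.natDegree_pos hα
  have hn : finrank F F' = (minpoly F α).natDegree * finrank F⟮α⟯ F' := by
    rw [← adjoin.finrank hα, finrank_mul_finrank]
  have he : finrank F F' / (minpoly F α).natDegree = finrank F⟮α⟯ F' := by
    rw [hn, Nat.mul_div_cancel_left _ hd]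
  rw [he]
  have htr := _root_.trace_eq_finrank_mul_minpoly_nextCoeff F α
  have hnorm1 := Algebra.norm_eq_norm_adjoin F α
  have hnorm2 := Algebra.PowerBasis.norm_gen_eq_coeff_zero_minpoly (adjoin.powerBasis hα)
  rw [adjoin.powerBasis_gen, adjoin.powerBasis_dim, minpoly_gen] at hnorm2
  rw [hnorm1, hnorm2, htr]
  unfold lam
  rw [map_pow, ← nsmul_eq_mul, AddChar.map_nsmul_eq_pow]
  ring

theorem minpoly_mem_Irr (α : F') : minpoly F α ∈ Irr (F := F) (finrank F F') := by
  have hα : IsIntegral F α := IsIntegral.of_finite F α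
  rw [mem_Irr]
  refine ⟨minpoly.monic hα, minpoly.irreducible hα, ?_⟩
  exact Nat.le_of_dvd finrank_pos (minpoly.degree_dvd hα)

theorem card_fiber {P : F[X]} (hP : P ∈ Irr (F := F) (finrank F F')) :
    (Finset.univ.filter (fun α : F' => minpoly F α = P)).card =
      if P.natDegree ∣ finrank F F' then P.natDegree else 0 := by
  rw [mem_Irr] at hP
  obtain ⟨hPm, hPi, -⟩ := hP
  split_ifs with hdvd
  · have hsep : P.Separable := PerfectField.separable_of_irreducible hPi
    have hsplit : (P.map (algebraMap F F')).Splits := by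
      have h1 : P ∣ X ^ Nat.card F ^ finrank F F' - X :=
        hPi.natDegree_dvd_iff_dvd_X_pow_card_pow_sub_X.mp hdvd
      have h2 : Nat.card F ^ finrank F F' = Fintype.card F' := by
        rw [Nat.card_eq_fintype_card, ← Module.card_eq_pow_finrank]
      rw [h2] at h1
      have h3 := (FiniteField.isSplittingField_sub F' F).splits
      refine Splits.of_dvd h3 ?_ (Polynomial.map_dvd (algebraMap F F') h1)
      rw [Polynomial.map_sub, Polynomial.map_pow, map_X]
      exact FiniteField.X_pow_card_sub_X_ne_zero F' Fintype.one_lt_card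
    rw [← card_rootSet_eq_natDegree hsep hsplit]
    symm
    apply Fintype.card_of_subtype
    intro x
    rw [Finset.mem_filter, mem_rootSet]
    constructor
    · rintro ⟨-, h⟩
      rw [← h]
      exact ⟨minpoly.ne_zero (IsIntegral.of_finite F x), minpoly.aeval F x⟩
    · rintro ⟨-, h⟩
      exact ⟨Finset.mem_univ x, (minpoly.eq_of_irreducible_of_monic hPi h hPm).symm⟩
  · rw [Finset.card_eq_zero, Finset.filter_eq_empty_iff]
    intro α _ h
    apply hdvd
    rw [← h]
    exact minpoly.degree_dvd (IsIntegral.of_finite F α)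

theorem sum_ext_eq_N :
    ∑ x : F', χ (Algebra.norm F x) * ψ (Algebra.trace F F' x) = N χ ψ (finrank F F') := by
  simp_rw [term_eq χ ψ]
  rw [← Finset.sum_fiberwise_of_maps_to (s := Finset.univ) (t := Irr (F := F) (finrank F F'))
    (g := fun α : F' => minpoly F α) (fun α _ => minpoly_mem_Irr α)]
  unfold N
  apply Finset.sum_congr rfl
  intro P hP
  have h1 : ∀ α ∈ Finset.univ.filter (fun α : F' => minpoly F α = P),
      lam χ ψ (minpoly F α) ^ (finrank F F' / (minpoly F α).natDegree) =
        lam χ ψ P ^ (finrank F F' / P.natDegree) := by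
    intro α hα
    rw [Finset.mem_filter] at hα
    rw [hα.2]
  rw [Finset.sum_congr rfl h1, Finset.sum_const, card_fiber hP]
  unfold T
  split_ifs
  · rw [nsmul_eq_mul]
  · rw [zero_smul]

/-- **Hasse–Davenport relation.** -/
theorem hasse_davenport [IsDomain R] (hψ : ψ ≠ 1) :
    -(∑ x : F', χ (Algebra.norm F x) * ψ (Algebra.trace F F' x)) =
      (-(∑ x : F, χ x * ψ x)) ^ finrank F F' := by
  rw [sum_ext_eq_N, N_eq χ ψ (fun m hm => A_eq_zero χ ψ hψ hm) finrank_pos, A_one, neg_neg]

end Groth.Agent.H79.HasseDav
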