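import Mathlib

/-!
# Hasse–Davenport, part 1: the character `lam` on monic polynomials over a finite field

`lam f = ψ (-nextCoeff f) * χ ((-1)^deg f * f(0))`, multiplicative on monic polynomials;
`Mon m` the finset of monic polynomials of degree `m`; `A m = ∑_{f ∈ Mon m} lam f`;
`A 0 = 1`, `A 1 = ∑ χ ψ`, `A m = 0` for `m ≥ 2` when `ψ` is non-trivial.
-/

set_option autoImplicit false

namespace Groth.Agent.H79.HasseDav

open Polynomial

variable {F : Type*} [Field F] {R : Type*} [CommRing R]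
variable (χ : MulChar F R) (ψ : AddChar F R)

/-- The multiplicative function on monic polynomials attached to `χ`, `ψ`. -/
noncomputable def lam (f : F[X]) : R :=
  ψ (-f.nextCoeff) * χ ((-1) ^ f.natDegree * f.coeff 0)

theorem lam_one : lam χ ψ (1 : F[X]) = 1 := by
  have h : (1 : F[X]).nextCoeff = 0 := by
    rw [← C_1]; exact nextCoeff_C_eq_zero 1
  simp [lam, h]

theorem lam_mul {f g : F[X]} (hf : f.Monic) (hg : g.Monic) :
    lam χ ψ (f * g) = lam χ ψ f * lam χ ψ g := by
  unfold lam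
  rw [Monic.nextCoeff_mul hf hg, hf.natDegree_mul hg, mul_coeff_zero, neg_add,
    AddChar.map_add_eq_mul, pow_add]
  have h : (-1 : F) ^ f.natDegree * (-1) ^ g.natDegree * (f.coeff 0 * g.coeff 0) =
      ((-1) ^ f.natDegree * f.coeff 0) * ((-1) ^ g.natDegree * g.coeff 0) := by ring
  rw [h, map_mul]
  ring

theorem lam_pow {P : F[X]} (hP : P.Monic) (j : ℕ) : lam χ ψ (P ^ j) = lam χ ψ P ^ j := by
  induction j with
  | zero => simp [lam_one]
  | succ j ih => rw [pow_succ, lam_mul χ ψ (hP.pow j) hP, ih, pow_succ]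

/-- The monic polynomial of degree `m` with lower coefficients `c`. -/
noncomputable def mk (m : ℕ) (c : Fin m → F) : F[X] :=
  X ^ m + ∑ i : Fin m, C (c i) * X ^ (i : ℕ)

theorem mk_monic (m : ℕ) (c : Fin m → F) : (mk m c).Monic :=
  monic_X_pow_add (degree_sum_fin_lt c)

theorem mk_natDegree (m : ℕ) (c : Fin m → F) : (mk m c).natDegree = m := by
  unfold mk
  rw [natDegree_add_eq_left_of_degree_lt, natDegree_X_pow]
  rw [degree_X_pow]
  exact degree_sum_fin_lt c

theorem mk_coeff (m : ℕ) (c : Fin m → F) (i : Fin m) : (mk m c).coeff i = c i := by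
  unfold mk
  rw [coeff_add, coeff_X_pow, if_neg (by omega), zero_add, finsetSum_coeff]
  rw [Finset.sum_eq_single i]
  · simp
  · intro j _ hj
    rw [coeff_C_mul, coeff_X_pow, if_neg, mul_zero]
    intro h
    exact hj (Fin.ext h.symm)
  · intro h
    exact absurd (Finset.mem_univ i) h

theorem mk_injective (m : ℕ) : Function.Injective (mk (F := F) m) := by
  intro c c' h
  funext i
  rw [← mk_coeff m c i, ← mk_coeff m c' i, h]

theorem exists_mk_eq {m : ℕ} {f : F[X]} (hf : f.Monic) (hm : f.natDegree = m) :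
    ∃ c : Fin m → F, mk m c = f := by
  subst hm
  refine ⟨fun i => f.coeff i, ?_⟩
  unfold mk
  conv_rhs => rw [hf.as_sum]
  congr 1
  rw [Fin.sum_univ_eq_sum_range (fun i => C (f.coeff i) * X ^ i)]

variable [Fintype F]

open Classical in
/-- The finset of monic polynomials of degree `m`. -/
noncomputable def Mon (m : ℕ) : Finset F[X] := Finset.univ.image (mk m)

theorem mem_Mon {m : ℕ} {f : F[X]} : f ∈ Mon m ↔ f.Monic ∧ f.natDegree = m := by
  classical
  unfold Mon
  rw [Finset.mem_image]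
  constructor
  · rintro ⟨c, -, rfl⟩
    exact ⟨mk_monic m c, mk_natDegree m c⟩
  · rintro ⟨hf, hm⟩
    obtain ⟨c, hc⟩ := exists_mk_eq hf hm
    exact ⟨c, Finset.mem_univ c, hc⟩

/-- `A m = ∑_{f monic of degree m} lam f`. -/
noncomputable def A (m : ℕ) : R := ∑ f ∈ Mon (F := F) m, lam χ ψ f

theorem A_eq_sum (m : ℕ) : A χ ψ m = ∑ c : Fin m → F, lam χ ψ (mk m c) := by
  classical
  unfold A Mon
  rw [Finset.sum_image]
  intro c _ c' _ h
  exact mk_injective m h

theorem A_zero : A χ ψ 0 = 1 := by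
  rw [A_eq_sum]
  have : ∀ c : Fin 0 → F, mk 0 c = 1 := by
    intro c
    simp [mk]
  simp [this, lam_one]

theorem A_one : A χ ψ 1 = ∑ x : F, χ x * ψ x := by
  rw [A_eq_sum]
  have h1 : ∀ c : Fin 1 → F, lam χ ψ (mk 1 c) = ψ (-(c 0)) * χ (-(c 0)) := by
    intro c
    have e : mk 1 c = X + C (c 0) := by
      simp [mk]
    rw [e]
    unfold lam
    rw [nextCoeff_X_add_C, natDegree_X_add_C]
    simp
  simp_rw [h1]
  rw [← Equiv.sum_comp (Equiv.funUnique (Fin 1) F).symm]
  simp only [Equiv.funUnique_symm_apply, uniqueElim_const]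
  rw [← Equiv.sum_comp (Equiv.neg F)]
  simp only [Equiv.neg_apply, neg_neg]
  exact Finset.sum_congr rfl (fun x _ => mul_comm _ _)

theorem A_eq_zero [IsDomain R] (hψ : ψ ≠ 1) {m : ℕ} (hm : 2 ≤ m) : A χ ψ m = 0 := by
  classical
  rw [A_eq_sum]
  obtain ⟨s, hs⟩ : ∃ s : F, ψ s ≠ 1 := by
    by_contra hcon
    rw [not_exists] at hcon
    apply hψ
    ext x
    have := hcon x
    rw [not_not] at this
    simpa using this
  let k : Fin m := ⟨m - 1, by omega⟩
  have hk0 : (k : ℕ) ≠ 0 := by
    change m - 1 ≠ 0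
    omega
  have key : ∀ c : Fin m → F, lam χ ψ (mk m (c + Pi.single k (-s))) = ψ s * lam χ ψ (mk m c) := by
    intro c
    unfold lam
    have hpos : ∀ c' : Fin m → F, 0 < (mk m c').natDegree := by
      intro c'; rw [mk_natDegree]; omega
    have hnc : ∀ c' : Fin m → F, (mk m c').nextCoeff = c' k := by
      intro c'
      rw [nextCoeff_of_natDegree_pos (hpos c'), mk_natDegree]
      exact mk_coeff m c' k
    have hc0 : ∀ c' : Fin m → F, (mk m c').coeff 0 = c' ⟨0, by omega⟩ := by
      intro c'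
      exact mk_coeff m c' ⟨0, by omega⟩
    rw [hnc, hnc, hc0, hc0, mk_natDegree, mk_natDegree]
    have h0 : (⟨0, by omega⟩ : Fin m) ≠ k := by
      intro h
      apply hk0
      have := congrArg Fin.val h
      exact this.symm
    simp only [Pi.add_apply, Pi.single_eq_same, Pi.single_eq_of_ne h0, add_zero]
    rw [neg_add, neg_neg, AddChar.map_add_eq_mul]
    ring
  have h2 : ∑ c : Fin m → F, lam χ ψ (mk m c) =
      ∑ c : Fin m → F, lam χ ψ (mk m (c + Pi.single k (-s))) :=
    (Equiv.sum_comp (Equiv.addRight (Pi.single k (-s) : Fin m → F))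
      (fun c => lam χ ψ (mk m c))).symm
  simp_rw [key] at h2
  rw [← Finset.mul_sum] at h2
  have h3 : (1 - ψ s) * ∑ c : Fin m → F, lam χ ψ (mk m c) = 0 := by
    rw [sub_mul, one_mul, ← h2, sub_self]
  rcases mul_eq_zero.mp h3 with h | h
  · exact absurd (sub_eq_zero.mp h).symm hs
  · exact h

end Groth.Agent.H79.HasseDav
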