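import Groth.Agent.H79.KoszulEulerDim

set_option autoImplicit false
universe u
open CategoryTheory CochainComplex HomComplex Limits Groth.Agent.H12.KoszulReg
open Groth.Agent.H79.KoszulEuler Groth.Agent.H79.KoszulEulerAdd Groth.Agent.H79.ConeLength
open Groth.Agent.H79.LenComp Groth.Agent.H79.KoszulEulerPow Groth.Agent.H79.KoszulEulerReg
open Groth.Agent.H79.KoszulEulerDim
open scoped Pointwise

namespace Groth.Agent.H79.KoszulEulerPos

variable {A : Type u} [CommRing A]

section nil

variable (M : Type u) [AddCommGroup M] [Module A M]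

theorem hlen_nil_zero : hlen M ([] : List A) 0 = Module.length A M := by
  unfold hlen
  exact (HomologicalComplex.singleObjHomologySelfIso (ComplexShape.up ℤ) 0
    (ModuleCat.of A M)).toLinearEquiv.length_eq

theorem chi_nil : chi M ([] : List A) = ((Module.length A M).toNat : ℤ) := by
  unfold chi
  rw [finsum_eq_single _ (0 : ℤ)]
  · rw [hlen_nil_zero]
    simp
  · intro i hi
    rw [hlen_eq_zero M [] i (by simp; omega)]
    simp

end nil

section dim

variable [IsNoetherianRing A] [IsLocalRing A]

/-- a module whose quotient by `l` has finite length has dimension at most the length of `l` -/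
theorem supportDim_le_length : ∀ (l : List A), (∀ a ∈ l, a ∈ IsLocalRing.maximalIdeal A) →
    ∀ (M : Type u) [AddCommGroup M] [Module A M] [Module.Finite A M], SuppCond M l →
      Module.supportDim A M ≤ (l.length : WithBot ℕ∞) := by
  intro l
  induction l with
  | nil =>
    intro _ M _ _ _ hs
    unfold Module.supportDim
    simp only [List.length_nil, Nat.cast_zero]
    rw [Order.krullDim_nonpos_iff_forall_isMax]
    intro x y hxy
    have hx : x.1.asIdeal.IsMaximal := hs x.1 x.2 (by
      rw [Ideal.span_le]
      intro a ha
      simp at ha)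
    have : x.1.asIdeal = y.1.asIdeal := hx.eq_of_le y.1.2.ne_top hxy
    exact le_of_eq (Subtype.ext (PrimeSpectrum.ext this)).symm
  | cons f l ih =>
    intro hl M _ _ _ hs
    have hfm : f ∈ IsLocalRing.maximalIdeal A := hl f (by simp)
    have h1 := Module.supportDim_le_supportDim_quotSMulTop_succ (M := M) hfm
    have h2 := ih (fun a ha => hl a (List.mem_cons_of_mem _ ha)) (QuotSMulTop f M)
      (suppCond_quotSMulTop f l hs)
    refine h1.trans ?_
    simp only [List.length_cons, Nat.cast_add, Nat.cast_one]
    exact add_le_add_left h2 1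

omit [IsNoetherianRing A] [IsLocalRing A] in
theorem supportDim_le_max {M : Type u} [AddCommGroup M] [Module A M] (N : Submodule A M) :
    Module.supportDim A M ≤ max (Module.supportDim A N) (Module.supportDim A (M ⧸ N)) := by
  unfold Module.supportDim Order.krullDim
  apply iSup_le
  intro p
  have hsupp := Module.support_of_exact (LinearMap.exact_subtype_mkQ N) N.subtype_injective
    N.mkQ_surjective
  have hhead : p.head.1 ∈ Module.support A N ∪ Module.support A (M ⧸ N) := by
    rw [← hsupp]
    exact p.head.2
  rcases hhead with h | h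
  · let q : LTSeries (Module.support A N) :=
      LTSeries.mk p.length (fun i => ⟨(p i).1, Module.mem_support_mono (p.head_le i) h⟩)
        (fun i j hij => p.strictMono hij)
    exact le_max_of_le_left (Order.LTSeries.length_le_krullDim q)
  · let q : LTSeries (Module.support A (M ⧸ N)) :=
      LTSeries.mk p.length (fun i => ⟨(p i).1, Module.mem_support_mono (p.head_le i) h⟩)
        (fun i j hij => p.strictMono hij)
    exact le_max_of_le_right (Order.LTSeries.length_le_krullDim q)

theorem withBot_cancel (x : WithBot ℕ∞) (n : ℕ) (h : x + 1 = (n : WithBot ℕ∞) + 1) :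
    x = (n : WithBot ℕ∞) := by
  induction x using WithBot.recBotCoe with
  | bot =>
    exfalso
    rw [WithBot.bot_add] at h
    have h4 : (⊥ : WithBot ℕ∞) = (((n : ℕ∞) + 1 : ℕ∞) : WithBot ℕ∞) := by exact_mod_cast h
    exact WithBot.bot_ne_coe h4
  | coe x =>
    have h4 : ((x + 1 : ℕ∞) : WithBot ℕ∞) = (((n : ℕ∞) + 1 : ℕ∞) : WithBot ℕ∞) := by
      exact_mod_cast h
    rw [WithBot.coe_inj] at h4
    have h5 : x = (n : ℕ∞) := ENat.add_left_injective_of_ne_top (by simp) h4
    rw [h5]
    rfl

theorem chi_pos_of_dim_eq : ∀ (l : List A), (∀ a ∈ l, a ∈ IsLocalRing.maximalIdeal A) →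
    ∀ (M : Type u) [AddCommGroup M] [Module A M] [Module.Finite A M], SuppCond M l →
      Module.supportDim A M = (l.length : WithBot ℕ∞) → 0 < chi M l := by
  intro l
  induction l with
  | nil =>
    intro _ M _ _ _ hs hdim
    have hnt : Nontrivial M := by
      rw [← Module.supportDim_ne_bot_iff_nontrivial A M, hdim]
      simp
    rw [chi_nil]
    have h1 : Module.length A M ≠ ⊤ := by
      rw [← hlen_nil_zero]
      exact hlen_ne_top M _ hs 0
    have h2 : Module.length A M ≠ 0 := by
      rw [Ne, Module.length_eq_zero_iff]
      exact not_subsingleton M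
    have h3 : (Module.length A M).toNat ≠ 0 := by
      rw [Ne, ENat.toNat_eq_zero]
      tauto
    exact_mod_cast Nat.pos_of_ne_zero h3
  | cons f l ih =>
    intro hl M _ _ _ hs hdim
    obtain ⟨k, N, hN, hreg⟩ := exists_torsion_split M f
    have hfm : f ∈ IsLocalRing.maximalIdeal A := hl f (by simp)
    have hl' : ∀ a ∈ l, a ∈ IsLocalRing.maximalIdeal A :=
      fun a ha => hl a (List.mem_cons_of_mem _ ha)
    have hsN : SuppCond N (f :: l) := suppCond_of_injective N.subtype N.subtype_injective _ hs
    have hsQ : SuppCond (M ⧸ N) (f :: l) :=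
      suppCond_of_surjective N.mkQ N.mkQ_surjective _ hs
    have hadd := chi_add' N.subtype N.mkQ N.subtype_injective N.mkQ_surjective
      (LinearMap.exact_subtype_mkQ N) (f :: l) (hlen_ne_top N _ hsN) (hlen_ne_top M _ hs)
    have hA : chi N (f :: l) = 0 :=
      chi_eq_zero_of_pow_smul_eq_zero N f l hsN k (fun n => Subtype.ext (hN n.1 n.2))
    have hB : chi (M ⧸ N) (f :: l) = chi (QuotSMulTop f (M ⧸ N)) l :=
      chi_cons_of_regular (M ⧸ N) f l hreg
    rw [hadd, hA, hB, zero_add]
    apply ih hl' (QuotSMulTop f (M ⧸ N)) (suppCond_quotSMulTop f l hsQ)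
    -- dimension count
    have hsN' : SuppCond N l := by
      intro p hp hle
      apply hsN p hp
      rw [Ideal.span_le]
      intro a ha
      rcases List.mem_cons.mp ha with rfl | ha
      · have h1 : a ^ k ∈ Module.annihilator A N := by
          rw [Module.mem_annihilator]
          intro n
          exact Subtype.ext (hN n.1 n.2)
        exact p.2.mem_of_pow_mem k (Module.annihilator_le_of_mem_support hp h1)
      · exact hle (Ideal.subset_span ha)
    have hdN : Module.supportDim A N ≤ (l.length : WithBot ℕ∞) :=
      supportDim_le_length l hl' N hsN'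
    have hmax := supportDim_le_max N
    have hQle : Module.supportDim A (M ⧸ N) ≤ Module.supportDim A M :=
      Module.supportDim_le_of_surjective N.mkQ N.mkQ_surjective
    have hdim' : Module.supportDim A M = (l.length : WithBot ℕ∞) + 1 := by
      rw [hdim]
      simp
    have hlt : (l.length : WithBot ℕ∞) < (l.length : WithBot ℕ∞) + 1 := by
      have : ((l.length : ℕ) : WithBot ℕ∞) + 1 = ((l.length + 1 : ℕ) : WithBot ℕ∞) := by simp
      rw [this]
      exact_mod_cast Nat.lt_succ_self _
    have hQ : Module.supportDim A (M ⧸ N) = (l.length : WithBot ℕ∞) + 1 := by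
      apply le_antisymm (hdim' ▸ hQle)
      rw [← hdim']
      rcases le_max_iff.mp hmax with h | h
      · exfalso
        rw [hdim'] at h
        exact absurd (h.trans hdN) (not_le.mpr hlt)
      · exact h
    have h1 : Module.supportDim A (QuotSMulTop f (M ⧸ N)) + 1 = Module.supportDim A (M ⧸ N) :=
      Module.supportDim_quotSMulTop_succ_eq_supportDim hreg hfm
    rw [hQ] at h1
    exact withBot_cancel _ _ h1

end dim

end Groth.Agent.H79.KoszulEulerPos
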