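import Groth.Agent.H79.KoszulEulerAdd
import Mathlib.Algebra.Homology.HomotopyCategory.ShortExact

set_option autoImplicit false
universe u
open CategoryTheory CochainComplex HomComplex Limits Groth.Agent.H12.KoszulReg
open Groth.Agent.H79.KoszulEuler Groth.Agent.H79.KoszulEulerAdd Groth.Agent.H79.ConeLength
open Groth.Agent.H79.LenComp Groth.Agent.H79.KoszulEulerPow
open scoped Pointwise

namespace Groth.Agent.H79.KoszulEulerReg

variable {A : Type u} [CommRing A] (M : Type u) [AddCommGroup M] [Module A M]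

theorem length_cone_congr {K : CochainComplex (ModuleCat.{u} A) ℤ} (φ ψ : K ⟶ K) (h : φ = ψ)
    (i : ℤ) : Module.length A ((mappingCone φ).homology i) =
      Module.length A ((mappingCone ψ).homology i) := by
  subst h
  rfl

/-- Claim B: a regular first element can be divided out. -/
theorem hlen_cons_of_regular (f : A) (l : List A) (hf : IsSMulRegular M f) (i : ℤ) :
    hlen M (f :: l) i = hlen (QuotSMulTop f M) l i := by
  have hS := regSC_shortExact M f hf
  have hT := koszulFunctor_shortExact l _ hS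
  have hq := mappingCone.quasiIso_descShortComplex hT
  have e := isoOfQuasiIsoAt (mappingCone.descShortComplex ((regSC M f).map (koszulFunctor l))) i
  have h1 : Module.length A ((mappingCone ((regSC M f).map (koszulFunctor l)).f).homology i) =
      hlen (QuotSMulTop f M) l i := by
    rw [hlen_functor]
    exact e.toLinearEquiv.length_eq
  have h2 : ((regSC M f).map (koszulFunctor l)).f = f • 𝟙 _ := koszulFunctor_map_smul l f _
  rw [hlen_functor, ← h1]
  exact (length_cone_congr _ _ h2 i).symm

theorem chi_cons_of_regular (f : A) (l : List A) (hf : IsSMulRegular M f) :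
    chi M (f :: l) = chi (QuotSMulTop f M) l := by
  unfold chi
  apply finsum_congr
  intro i
  rw [hlen_cons_of_regular M f l hf i]

theorem smul_id_eq_zero_congr {K K' : CochainComplex (ModuleCat.{u} A) ℤ} (h : K = K') (a : A)
    (h0 : a • 𝟙 K = 0) : a • 𝟙 K' = 0 := by
  subst h
  exact h0

theorem smul_id_koszulCx_eq_zero (a : A) (h : ∀ m : M, a • m = 0) (l : List A) :
    a • 𝟙 (CohIII.koszulCx (ModuleCat.of A M) l) = 0 := by
  have h0 : a • 𝟙 (ModuleCat.of A M) = 0 := by
    ext m
    exact h m
  have h1 := koszulFunctor_map_smul l a (ModuleCat.of A M)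
  rw [h0, Functor.map_zero] at h1
  exact smul_id_eq_zero_congr (koszulFunctor_obj l _) a h1.symm

theorem smul_Nmod_eq_zero (a : A) (h : ∀ m : M, a • m = 0) (l : List A) (i : ℤ)
    (z : Nmod M l i) : a • z = 0 := by
  obtain ⟨w, hw, rfl⟩ := Hc.mk_surjective z
  rw [Hc.smul_mk]
  have h0 := smul_id_koszulCx_eq_zero M a h l
  have h1 : a • w = 0 := by
    rw [← Groth.Agent.H79.KoszulCone.smul_id_f_apply a _ i w, h0]
    rfl
  rw [Hc.mk_eq_zero]
  exact ⟨0, by rw [map_zero, h1]⟩

theorem cK_eq_kK_of_smul_eq_zero (a : A) (h : ∀ m : M, a • m = 0) (l : List A) (i : ℤ) :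
    cK M l a i = kK M l a i := by
  unfold cK kK
  have h0 := smul_Nmod_eq_zero M a h l i
  have h1 : a • (⊤ : Submodule A (Nmod M l i)) = ⊥ := by
    rw [eq_bot_iff]
    intro z hz
    obtain ⟨w, -, rfl⟩ := (Submodule.mem_smul_pointwise_iff_exists _ _ _).mp hz
    rw [Submodule.mem_bot]
    exact h0 w
  have h2 : kerSMul (Nmod M l i) a = ⊤ := by
    rw [eq_top_iff]
    intro z _
    rw [mem_kerSMul]
    exact h0 z
  have e1 : QuotSMulTop a (Nmod M l i) ≃ₗ[A] Nmod M l i :=
    (Submodule.quotEquivOfEqBot _ h1)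
  rw [e1.length_eq, h2, Module.length_top]

theorem echi_eq_zero_of_smul_eq_zero (a : A) (h : ∀ m : M, a • m = 0) (l : List A) :
    echi M l a = 0 := by
  unfold echi
  have : ∀ i : ℤ, ((i.negOnePow : ℤˣ) : ℤ) *
      (((cK M l a i).toNat : ℤ) - ((kK M l a i).toNat : ℤ)) = 0 := by
    intro i
    rw [cK_eq_kK_of_smul_eq_zero M a h l i, sub_self, mul_zero]
  rw [finsum_congr this, finsum_zero]

section noeth

variable [IsNoetherianRing A] [Module.Finite A M]

/-- Claim A: the Euler characteristic vanishes when a power of the first element kills `M`. -/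
theorem chi_eq_zero_of_pow_smul_eq_zero (f : A) (l : List A) (hs : SuppCond M (f :: l))
    (k : ℕ) (h : ∀ m : M, f ^ k • m = 0) : chi M (f :: l) = 0 := by
  have h' : ∀ m : M, f ^ (k + 1) • m = 0 := fun m => by
    rw [pow_succ', mul_smul, h m, smul_zero]
  have hs' : SuppCond M (f ^ (k + 1) :: l) := by
    apply suppCond_of_forall M hs
    intro p hp hh x hx
    rcases List.mem_cons.mp hx with rfl | hx
    · exact hp.mem_of_pow_mem (k + 1) (hh _ (by simp))
    · exact hh x (List.mem_cons_of_mem _ hx)
  have h1 := chi_pow M l f hs (k + 1)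
  rw [chi_cons M l _ (hlen_ne_top M _ hs'), echi_eq_zero_of_smul_eq_zero M _ h' l] at h1
  have h2 : ((k + 1 : ℕ) : ℤ) ≠ 0 := by positivity
  exact (mul_eq_zero.mp h1.symm).resolve_left h2

end noeth

end Groth.Agent.H79.KoszulEulerReg
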