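import Groth.Agent.H79.SerreLimit

set_option autoImplicit false
universe u
open CategoryTheory CochainComplex HomComplex Limits Filter Topology
open Groth.Agent.H79.KoszulEuler Groth.Agent.H79.KoszulEulerAdd Groth.Agent.H79.KoszulEulerPow
open Groth.Agent.H79.KoszulBound2 Groth.Agent.H79.SerreMain
open scoped Pointwise

namespace Groth.Agent.H79.LechLimit

variable {A : Type u} [CommRing A] (M : Type u) [AddCommGroup M] [Module A M]

/-- the Euler characteristic as a finite sum -/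
theorem chi_eq_sum_range (L : List A) :
    chi M L = ∑ p ∈ Finset.range (L.length + 1),
      (-1 : ℤ) ^ p * ((hlen M L (-(p : ℤ))).toNat : ℤ) := by
  unfold chi
  have hsupp : (Function.support fun q : ℤ => ((q.negOnePow : ℤˣ) : ℤ) *
      ((hlen M L q).toNat : ℤ)) ⊆
      ↑((Finset.range (L.length + 1)).image (fun p : ℕ => -(p : ℤ))) := by
    intro q hq
    rw [Function.mem_support] at hq
    by_contra hcon
    apply hq
    have hq' : 0 < q ∨ q + L.length < 0 := by
      by_contra h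
      push Not at h
      apply hcon
      rw [Finset.coe_image, Set.mem_image]
      refine ⟨(-q).toNat, ?_, by omega⟩
      rw [Finset.coe_range, Set.mem_Iio]
      omega
    rw [hlen_eq_zero M L q hq']
    simp
  rw [finsum_eq_sum_of_support_subset _ hsupp, Finset.sum_image (by
    intro a _ b _ hab
    simpa using hab)]
  apply Finset.sum_congr rfl
  intro p _
  rw [Int.negOnePow_neg, Int.coe_negOnePow_natCast]

theorem pw_eq_ofFn (l : List A) (n : ℕ) : pw l n = List.ofFn (fun j => l.get j ^ n) := by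
  unfold pw
  conv_lhs => rw [← List.ofFn_get l]
  rw [List.map_ofFn]
  rfl

variable [IsNoetherianRing A] [Module.Finite A M]

theorem chi_pw (l : List A) (hs : SuppCond M l) (n : ℕ) :
    chi M (pw l n) = (n : ℤ) ^ l.length * chi M l := by
  have h := chi_ofFn_pow M l.length [] l.get (fun _ => n) (by
    rw [List.nil_append, List.ofFn_get]
    exact hs)
  rw [List.nil_append, List.nil_append, List.ofFn_get, ← pw_eq_ofFn] at h
  rw [h, Finset.prod_const, Finset.card_univ, Fintype.card_fin]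

omit [IsNoetherianRing A] [Module.Finite A M] in
theorem hlen_zero_eq (L : List A) :
    hlen M L 0 = Module.length A (M ⧸ (Ideal.ofList L • (⊤ : Submodule A M))) := by
  obtain ⟨e⟩ := Groth.Agent.H79.KoszulTop.homology_zero_equiv (ModuleCat.of A M) L
  exact e.length_eq

/-- Lech-type estimate: `length (M/(l^n)M) = n^d χ + O(n^(d-1))` -/
theorem lech_bound (l : List A) (hs : SuppCond M l) :
    ∃ C : ℕ, ∀ n : ℕ, 0 < n →
      |((hlen M (pw l n) 0).toNat : ℤ) - (n : ℤ) ^ l.length * chi M l| * (n : ℤ) ≤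
        (C : ℤ) * (n : ℤ) ^ l.length := by
  obtain ⟨c, hc⟩ := bound56 l M hs
  refine ⟨l.length * c, fun n hn => ?_⟩
  rw [← chi_pw M l hs n, chi_eq_sum_range M (pw l n), pw_length, Finset.sum_range_succ']
  simp only [Nat.cast_zero, neg_zero, pow_zero, one_mul]
  rw [sub_add_cancel_right, abs_neg]
  have hn' : (0 : ℤ) < n := by exact_mod_cast hn
  have hterm : ∀ p ∈ Finset.range l.length,
      |(-1 : ℤ) ^ (p + 1) * ((hlen M (pw l n) (-((p + 1 : ℕ) : ℤ))).toNat : ℤ)| * (n : ℤ) ≤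
        (c : ℤ) * (n : ℤ) ^ l.length := by
    intro p hp
    rw [Finset.mem_range] at hp
    have h1 := hc n hn (p + 1) (by omega)
    have h2 : (hlen M (pw l n) (-((p + 1 : ℕ) : ℤ))).toNat ≤ c * n ^ (l.length - (p + 1)) := by
      have := ENat.toNat_le_toNat h1 (ENat.natCast_ne_top _)
      rwa [ENat.toNat_natCast] at this
    rw [abs_mul, abs_pow, abs_neg, abs_one, one_pow, one_mul, Nat.abs_cast]
    have h3 : ((hlen M (pw l n) (-((p + 1 : ℕ) : ℤ))).toNat : ℤ) ≤
        (c : ℤ) * (n : ℤ) ^ (l.length - (p + 1)) := by exact_mod_cast h2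
    calc ((hlen M (pw l n) (-((p + 1 : ℕ) : ℤ))).toNat : ℤ) * (n : ℤ)
        ≤ (c : ℤ) * (n : ℤ) ^ (l.length - (p + 1)) * (n : ℤ) :=
          mul_le_mul_of_nonneg_right h3 hn'.le
      _ = (c : ℤ) * (n : ℤ) ^ (l.length - (p + 1) + 1) := by ring
      _ ≤ (c : ℤ) * (n : ℤ) ^ l.length := by
          apply mul_le_mul_of_nonneg_left _ (by positivity)
          apply pow_le_pow_right₀ (by omega)
          omega
  calc |∑ p ∈ Finset.range l.length,
        (-1 : ℤ) ^ (p + 1) * ((hlen M (pw l n) (-((p + 1 : ℕ) : ℤ))).toNat : ℤ)| * (n : ℤ)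
      ≤ (∑ p ∈ Finset.range l.length,
        |(-1 : ℤ) ^ (p + 1) * ((hlen M (pw l n) (-((p + 1 : ℕ) : ℤ))).toNat : ℤ)|) * (n : ℤ) :=
        mul_le_mul_of_nonneg_right (Finset.abs_sum_le_sum_abs _ _) hn'.le
    _ = ∑ p ∈ Finset.range l.length,
        |(-1 : ℤ) ^ (p + 1) * ((hlen M (pw l n) (-((p + 1 : ℕ) : ℤ))).toNat : ℤ)| * (n : ℤ) :=
        Finset.sum_mul _ _ _
    _ ≤ ∑ _p ∈ Finset.range l.length, (c : ℤ) * (n : ℤ) ^ l.length := Finset.sum_le_sum hterm
    _ = ((l.length * c : ℕ) : ℤ) * (n : ℤ) ^ l.length := by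
        rw [Finset.sum_const, Finset.card_range]
        push_cast
        ring

theorem tendsto_lech (l : List A) (hs : SuppCond M l) :
    Tendsto (fun n : ℕ => ((hlen M (pw l n) 0).toNat : ℝ) / (n : ℝ) ^ l.length) atTop
      (𝓝 ((chi M l : ℤ) : ℝ)) := by
  obtain ⟨C, hC⟩ := lech_bound M l hs
  rw [tendsto_iff_norm_sub_tendsto_zero]
  have hK : Tendsto (fun n : ℕ => (C : ℝ) / (n : ℝ)) atTop (𝓝 0) :=
    tendsto_const_div_atTop_nhds_zero_nat _
  apply squeeze_zero' (Eventually.of_forall (fun n => norm_nonneg _)) _ hK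
  filter_upwards [eventually_ge_atTop 1] with n hn
  have hn0 : (0 : ℝ) < n := by exact_mod_cast hn
  have hnd : (0 : ℝ) < (n : ℝ) ^ l.length := by positivity
  have h1 := hC n hn
  have h2 : |(((hlen M (pw l n) 0).toNat : ℤ) : ℝ) - (n : ℝ) ^ l.length * ((chi M l : ℤ) : ℝ)| *
      (n : ℝ) ≤ (C : ℝ) * (n : ℝ) ^ l.length := by
    have : ((|((hlen M (pw l n) 0).toNat : ℤ) - (n : ℤ) ^ l.length * chi M l| * (n : ℤ) : ℤ) : ℝ) ≤
        (((C : ℤ) * (n : ℤ) ^ l.length : ℤ) : ℝ) := by exact_mod_cast h1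
    push_cast at this
    exact this
  rw [Real.norm_eq_abs]
  have h3 : ((hlen M (pw l n) 0).toNat : ℝ) / (n : ℝ) ^ l.length - ((chi M l : ℤ) : ℝ) =
      ((((hlen M (pw l n) 0).toNat : ℤ) : ℝ) - (n : ℝ) ^ l.length * ((chi M l : ℤ) : ℝ)) /
        (n : ℝ) ^ l.length := by
    field_simp
    push_cast
    ring
  rw [h3, abs_div, abs_of_pos hnd, div_le_div_iff₀ hnd hn0]
  exact h2

end Groth.Agent.H79.LechLimit
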