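import Mathlib
open scoped TensorProduct
universe u
namespace Groth.Agent.H79

section
variable {k : Type u} [Field k] {V : Type u} [AddCommGroup V] [Module k V]
  {R : Type u} [CommRing R] [Algebra k R]

theorem commute_baseChange_of_mem_adjoin {a X : Module.End k V}
    (ha : a ∈ Algebra.adjoin k {X}) (h : Module.End R (R ⊗[k] V))
    (hX : Commute h (X.baseChange R)) : Commute h (a.baseChange R) := by
  induction ha using Algebra.adjoin_induction with
  | mem x hx =>
    rw [Set.mem_singleton_iff] at hx
    rw [hx]; exact hX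
  | algebraMap r =>
    rw [Algebra.algebraMap_eq_smul_one, LinearMap.baseChange_smul, LinearMap.baseChange_one]
    exact (Commute.one_right h).smul_right r
  | add x y _ _ hx hy =>
    rw [LinearMap.baseChange_add]
    exact hx.add_right hy
  | mul x y _ _ hx hy =>
    rw [LinearMap.baseChange_mul]
    exact hx.mul_right hy

variable [PerfectField k] [FiniteDimensional k V]

theorem mem_adjoin_of_jordan {X Y N : Module.End k V} (hY : Y.IsSemisimple) (hN : IsNilpotent N)
    (hc : Commute Y N) (hX : X = Y + N) :
    Y ∈ Algebra.adjoin k {X} ∧ N ∈ Algebra.adjoin k {X} := by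
  obtain ⟨n₀, hn₀, s₀, hs₀, hn₀_nil, hs₀_ss, h₀⟩ := X.exists_isNilpotent_isSemisimple
  have hcomm : Commute n₀ s₀ :=
    Algebra.commute_of_mem_adjoin_singleton_of_commute hs₀
      (Algebra.commute_of_mem_adjoin_self hn₀).symm
  have huniq := Module.End.isNilpotent_isSemisimple_unique hN hY hn₀_nil hs₀_ss hc.symm hcomm
    (by rw [← h₀, hX, add_comm])
  rw [huniq.1, huniq.2]
  exact ⟨hs₀, hn₀⟩

/-- additive statement -/
theorem commute_baseChange_iff_add (h : Module.End R (R ⊗[k] V)) {X Y N : Module.End k V}
    (hY : Y.IsSemisimple) (hN : IsNilpotent N) (hc : Commute Y N) (hX : X = Y + N) :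
    Commute h (X.baseChange R) ↔ Commute h (Y.baseChange R) ∧ Commute h (N.baseChange R) := by
  obtain ⟨hYm, hNm⟩ := mem_adjoin_of_jordan hY hN hc hX
  constructor
  · intro hh
    exact ⟨commute_baseChange_of_mem_adjoin hYm h hh, commute_baseChange_of_mem_adjoin hNm h hh⟩
  · rintro ⟨h1, h2⟩
    rw [hX, LinearMap.baseChange_add]
    exact h1.add_right h2

/-- multiplicative statement -/
theorem commute_baseChange_iff_mul (h : Module.End R (R ⊗[k] V)) {g t u : Module.End k V}
    (hg : IsUnit g) (ht : t.IsSemisimple) (hu : IsNilpotent (u - 1)) (hc : Commute t u)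
    (hgtu : g = t * u) :
    Commute h (g.baseChange R) ↔ Commute h (t.baseChange R) ∧ Commute h (u.baseChange R) := by
  have huu : IsUnit u := by
    have := hu.isUnit_add_one
    simpa using this
  have htu : IsUnit t := by
    rw [hgtu] at hg
    obtain ⟨u', rfl⟩ := huu
    exact (Units.isUnit_mul_units t u').1 hg
  have hN : IsNilpotent (t * (u - 1)) := by
    have hc' : Commute t (u - 1) := hc.sub_right (Commute.one_right t)
    exact hc'.isNilpotent_mul_left hu
  have hc2 : Commute t (t * (u - 1)) :=
    (Commute.refl t).mul_right (hc.sub_right (Commute.one_right t))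
  have hX : g = t + t * (u - 1) := by rw [hgtu]; noncomm_ring
  obtain ⟨hYm, -⟩ := mem_adjoin_of_jordan ht hN hc2 hX
  constructor
  · intro hh
    have h1 := commute_baseChange_of_mem_adjoin hYm h hh
    refine ⟨h1, ?_⟩
    have htR : IsUnit (t.baseChange R) := by
      obtain ⟨t', rfl⟩ := htu
      refine ⟨⟨(t' : Module.End k V).baseChange R, ((t'⁻¹ : (Module.End k V)ˣ) : Module.End k V).baseChange R, ?_, ?_⟩, rfl⟩
      · rw [← LinearMap.baseChange_mul, Units.mul_inv, LinearMap.baseChange_one]
      · rw [← LinearMap.baseChange_mul, Units.inv_mul, LinearMap.baseChange_one]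
    rw [hgtu, LinearMap.baseChange_mul] at hh
    have h3 : t.baseChange R * (h * u.baseChange R) = t.baseChange R * (u.baseChange R * h) := by
      rw [← mul_assoc, ← h1.eq, mul_assoc, hh.eq, mul_assoc]
    exact htR.mul_left_cancel h3
  · rintro ⟨h1, h2⟩
    rw [hgtu, LinearMap.baseChange_mul]
    exact h1.mul_right h2

end
end Groth.Agent.H79
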