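import Groth.Agent.H79.KoszulEulerRank

set_option autoImplicit false
universe u
open CategoryTheory CochainComplex HomComplex Limits Groth.Agent.H12.KoszulReg
open Groth.Agent.H79.KoszulEuler Groth.Agent.H79.KoszulEulerAdd Groth.Agent.H79.ConeLength
open Groth.Agent.H79.LenComp Groth.Agent.H79.KoszulEulerPow Groth.Agent.H79.KoszulEulerReg
open Groth.Agent.H79.KoszulEulerDim Groth.Agent.H79.KoszulEulerPos
open scoped Pointwise

namespace Groth.Agent.H79.KoszulBound

variable {A : Type u} [CommRing A]

/-- (L1) subadditivity of the lengths of Koszul cohomology over short exact sequences -/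
theorem hlen_le_add (S : ShortComplex (ModuleCat.{u} A)) (hS : S.ShortExact) (l : List A)
    (i : ℤ) : hlen S.X₂ l i ≤ hlen S.X₁ l i + hlen S.X₃ l i := by
  have hT := koszulFunctor_shortExact l S hS
  have h2 := len_X₂ (S.map (koszulFunctor l)) hT i
  have e1 : hlen S.X₁ l i = Module.length A ((S.map (koszulFunctor l)).X₁.homology i) :=
    hlen_functor _ l i
  have e2 : hlen S.X₂ l i = Module.length A ((S.map (koszulFunctor l)).X₂.homology i) :=
    hlen_functor _ l i
  have e3 : hlen S.X₃ l i = Module.length A ((S.map (koszulFunctor l)).X₃.homology i) :=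
    hlen_functor _ l i
  rw [e1, e2, e3, h2]
  apply add_le_add
  · exact Module.length_le_of_surjective
      (HomologicalComplex.homologyMap (S.map (koszulFunctor l)).f i).hom.rangeRestrict
      (LinearMap.surjective_rangeRestrict _)
  · exact Module.length_le_of_injective
      (LinearMap.range (HomologicalComplex.homologyMap (S.map (koszulFunctor l)).g i).hom).subtype
      (Submodule.subtype_injective _)

section lin

variable {M' M M'' : Type u} [AddCommGroup M'] [Module A M'] [AddCommGroup M] [Module A M]
  [AddCommGroup M''] [Module A M'']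

theorem hlen_le_add' (i : M' →ₗ[A] M) (p : M →ₗ[A] M'') (hi : Function.Injective i)
    (hp : Function.Surjective p) (hex : Function.Exact i p) (l : List A) (j : ℤ) :
    hlen M l j ≤ hlen M' l j + hlen M'' l j := by
  let S : ShortComplex (ModuleCat.{u} A) :=
    ShortComplex.mk (ModuleCat.ofHom i) (ModuleCat.ofHom p) (by
      ext x
      exact hex.apply_apply_eq_zero x)
  have hS : S.ShortExact := by
    refine ShortComplex.ShortExact.mk' ?_ ?_ ?_
    · rw [ShortComplex.moduleCat_exact_iff]
      intro y hy
      exact (hex y).mp hy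
    · rw [ModuleCat.mono_iff_injective]
      exact hi
    · rw [ModuleCat.epi_iff_surjective]
      exact hp
  exact hlen_le_add S hS l j

end lin

variable (M : Type u) [AddCommGroup M] [Module A M]

/-- (L2) an element acting as zero -/
theorem hlen_cons_of_smul_eq_zero (f : A) (h : ∀ m : M, f • m = 0) (l : List A) (i : ℤ) :
    hlen M (f :: l) i = hlen M l i + hlen M l (i + 1) := by
  rw [hlen_cons]
  have hc : ∀ j, cK M l f j = hlen M l j := by
    intro j
    unfold cK
    have h0 := smul_Nmod_eq_zero M f h l j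
    have h1 : f • (⊤ : Submodule A (Nmod M l j)) = ⊥ := by
      rw [eq_bot_iff]
      intro z hz
      obtain ⟨w, -, rfl⟩ := (Submodule.mem_smul_pointwise_iff_exists _ _ _).mp hz
      rw [Submodule.mem_bot]
      exact h0 w
    have e1 : QuotSMulTop f (Nmod M l j) ≃ₗ[A] Nmod M l j := Submodule.quotEquivOfEqBot _ h1
    rw [e1.length_eq, hlen_eq]
  have hk : ∀ j, kK M l f j = hlen M l j := by
    intro j
    rw [← hc j]
    exact (cK_eq_kK_of_smul_eq_zero M f h l j).symm
  rw [hc, hk]

/-- the map `M/f^m M → M/f^(m+1) M` induced by multiplication by `f` -/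
noncomputable def quotMul (f : A) (m : ℕ) : QuotSMulTop (f ^ m) M →ₗ[A] QuotSMulTop (f ^ (m + 1)) M :=
  Submodule.mapQ _ _ (f • (LinearMap.id : M →ₗ[A] M)) (by
    intro x hx
    obtain ⟨y, -, rfl⟩ := (Submodule.mem_smul_pointwise_iff_exists _ _ _).mp hx
    rw [Submodule.mem_comap, LinearMap.smul_apply, LinearMap.id_apply, smul_smul, ← pow_succ']
    exact Submodule.smul_mem_pointwise_smul y _ ⊤ Submodule.mem_top)

/-- the projection `M/f^(m+1) M → M/f M` -/
noncomputable def quotProj (f : A) (m : ℕ) : QuotSMulTop (f ^ (m + 1)) M →ₗ[A] QuotSMulTop f M :=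
  Submodule.mapQ _ _ (LinearMap.id : M →ₗ[A] M) (by
    intro x hx
    obtain ⟨y, -, rfl⟩ := (Submodule.mem_smul_pointwise_iff_exists _ _ _).mp hx
    rw [Submodule.mem_comap, LinearMap.id_apply, pow_succ', mul_smul]
    exact Submodule.smul_mem_pointwise_smul _ _ ⊤ Submodule.mem_top)

theorem quotMul_injective (f : A) (hf : IsSMulRegular M f) (m : ℕ) :
    Function.Injective (quotMul M f m) := by
  rw [← LinearMap.ker_eq_bot, eq_bot_iff]
  intro z hz
  obtain ⟨x, rfl⟩ := Submodule.Quotient.mk_surjective _ z
  rw [LinearMap.mem_ker] at hz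
  change Submodule.Quotient.mk (f • x) = 0 at hz
  rw [Submodule.Quotient.mk_eq_zero] at hz
  obtain ⟨y, -, hy⟩ := (Submodule.mem_smul_pointwise_iff_exists _ _ _).mp hz
  rw [pow_succ', mul_smul] at hy
  have := hf hy
  rw [Submodule.mem_bot, Submodule.Quotient.mk_eq_zero, ← this]
  exact Submodule.smul_mem_pointwise_smul y _ ⊤ Submodule.mem_top

theorem quotProj_surjective (f : A) (m : ℕ) : Function.Surjective (quotProj M f m) := by
  intro z
  obtain ⟨x, rfl⟩ := Submodule.Quotient.mk_surjective _ z
  exact ⟨Submodule.Quotient.mk x, rfl⟩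

theorem quot_exact (f : A) (m : ℕ) : Function.Exact (quotMul M f m) (quotProj M f m) := by
  intro z
  obtain ⟨x, rfl⟩ := Submodule.Quotient.mk_surjective _ z
  constructor
  · intro hz
    change Submodule.Quotient.mk x = 0 at hz
    rw [Submodule.Quotient.mk_eq_zero] at hz
    obtain ⟨y, -, rfl⟩ := (Submodule.mem_smul_pointwise_iff_exists _ _ _).mp hz
    exact ⟨Submodule.Quotient.mk y, rfl⟩
  · rintro ⟨w, hw⟩
    obtain ⟨y, rfl⟩ := Submodule.Quotient.mk_surjective _ w
    rw [← hw]
    change Submodule.Quotient.mk (f • y) = 0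
    rw [Submodule.Quotient.mk_eq_zero]
    exact Submodule.smul_mem_pointwise_smul y _ ⊤ Submodule.mem_top

/-- (L4) the filtration of `M/f^m M` by copies of `M/fM` -/
theorem hlen_quot_pow_le (f : A) (hf : IsSMulRegular M f) (l : List A) (i : ℤ) (m : ℕ) :
    hlen (QuotSMulTop (f ^ m) M) l i ≤ (m : ℕ∞) * hlen (QuotSMulTop f M) l i := by
  induction m with
  | zero =>
    have : Subsingleton (QuotSMulTop (f ^ 0) M) := by
      refine ⟨fun a b => ?_⟩
      obtain ⟨x, rfl⟩ := Submodule.Quotient.mk_surjective _ a
      obtain ⟨y, rfl⟩ := Submodule.Quotient.mk_surjective _ b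
      rw [Submodule.Quotient.eq]
      have : x - y = (f ^ 0) • (x - y) := by rw [pow_zero, one_smul]
      rw [this]
      exact Submodule.smul_mem_pointwise_smul _ _ ⊤ Submodule.mem_top
    rw [hlen_eq_zero_of_subsingleton]
    simp
  | succ m ih =>
    have h := hlen_le_add' (quotMul M f m) (quotProj M f m) (quotMul_injective M f hf m)
      (quotProj_surjective M f m) (quot_exact M f m) l i
    refine h.trans ?_
    push_cast
    rw [add_mul, one_mul]
    exact add_le_add ih le_rfl

end Groth.Agent.H79.KoszulBound
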