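import Groth.Agent.H79.KoszulBound
import Mathlib.RingTheory.Ideal.AssociatedPrime.Finiteness

set_option autoImplicit false
universe u
open CategoryTheory CochainComplex HomComplex Limits Groth.Agent.H12.KoszulReg
open Groth.Agent.H79.KoszulEuler Groth.Agent.H79.KoszulEulerAdd Groth.Agent.H79.ConeLength
open Groth.Agent.H79.LenComp Groth.Agent.H79.KoszulEulerPow Groth.Agent.H79.KoszulEulerReg
open Groth.Agent.H79.KoszulEulerDim Groth.Agent.H79.KoszulEulerPos Groth.Agent.H79.KoszulBound
open scoped Pointwise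

namespace Groth.Agent.H79.KoszulBound2

variable {A : Type u} [CommRing A]

/-- the list of `n`-th powers -/
def pw (l : List A) (n : ℕ) : List A := l.map (· ^ n)

theorem pw_cons (f : A) (l : List A) (n : ℕ) : pw (f :: l) n = f ^ n :: pw l n := rfl

theorem pw_length (l : List A) (n : ℕ) : (pw l n).length = l.length := List.length_map _

theorem suppCond_pw (M : Type u) [AddCommGroup M] [Module A M] (l : List A) (hs : SuppCond M l)
    (n : ℕ) : SuppCond M (pw l n) := by
  apply suppCond_of_forall M hs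
  intro p hp h a ha
  apply hp.mem_of_pow_mem n
  apply h
  exact List.mem_map.mpr ⟨a, ha, rfl⟩

/-- behaviour of an element on a module isomorphic to `A ⧸ p` -/
theorem zero_or_regular (N : Type u) [AddCommGroup N] [Module A N] (p : PrimeSpectrum A)
    (e : N ≃ₗ[A] A ⧸ p.1) (f : A) :
    (∀ m : N, f • m = 0) ∨ IsSMulRegular N f := by
  by_cases hf : f ∈ p.1
  · left
    intro m
    apply e.injective
    rw [map_smul, map_zero]
    obtain ⟨a, ha⟩ := Ideal.Quotient.mk_surjective (e m)
    rw [← ha, ← Ideal.Quotient.mk_eq_mk, ← Submodule.Quotient.mk_smul, Ideal.Quotient.mk_eq_mk,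
      Ideal.Quotient.eq_zero_iff_mem, smul_eq_mul]
    exact Ideal.mul_mem_right _ _ hf
  · right
    rw [isSMulRegular_iff_right_eq_zero_of_smul]
    intro m hm
    apply e.injective
    rw [map_zero]
    have h1 : f • e m = 0 := by rw [← map_smul, hm, map_zero]
    obtain ⟨a, ha⟩ := Ideal.Quotient.mk_surjective (e m)
    rw [← ha] at h1 ⊢
    rw [← Ideal.Quotient.mk_eq_mk, ← Submodule.Quotient.mk_smul, Ideal.Quotient.mk_eq_mk,
      Ideal.Quotient.eq_zero_iff_mem, smul_eq_mul] at h1
    rw [Ideal.Quotient.eq_zero_iff_mem]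
    exact (p.2.mem_or_mem h1).resolve_left hf

section noeth

variable [IsNoetherianRing A]

omit [IsNoetherianRing A] in
theorem suppCond_tail_of_smul_eq_zero (N : Type u) [AddCommGroup N] [Module A N] (f : A)
    (l : List A) (h0 : ∀ m : N, f • m = 0) (hs : SuppCond N (f :: l)) : SuppCond N l := by
  intro q hq hle
  apply hs q hq
  rw [Ideal.span_le]
  intro a ha
  rcases List.mem_cons.mp ha with rfl | ha
  · have h1 : a ∈ Module.annihilator A N := by
      rw [Module.mem_annihilator]
      exact h0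
    exact Module.annihilator_le_of_mem_support hq h1
  · exact hle (Ideal.subset_span ha)

theorem bound56 : ∀ (l : List A) (M : Type u) [AddCommGroup M] [Module A M] [Module.Finite A M],
    SuppCond M l → ∃ c : ℕ, ∀ n : ℕ, 0 < n → ∀ i : ℕ, i ≤ l.length →
      hlen M (pw l n) (-(i : ℤ)) ≤ ((c * n ^ (l.length - i) : ℕ) : ℕ∞) := by
  intro l
  induction l with
  | nil =>
    intro M _ _ _ hs
    have hfin : Module.length A M ≠ ⊤ := by
      rw [← hlen_nil_zero]
      exact hlen_ne_top M _ hs 0
    refine ⟨(Module.length A M).toNat, fun n hn i hi => ?_⟩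
    have hi0 : i = 0 := by simpa using hi
    subst hi0
    change hlen M [] (-((0 : ℕ) : ℤ)) ≤ _
    simp only [Nat.cast_zero, neg_zero, List.length_nil, Nat.sub_zero, pow_zero, mul_one]
    rw [hlen_nil_zero, ENat.natCast_toNat hfin]
  | cons f l ih =>
    intro M _ _ hfinM hs
    refine IsNoetherianRing.induction_on_isQuotientEquivQuotientPrime A hfinM
      (motive := fun N _ _ _ => SuppCond N (f :: l) → ∃ c : ℕ, ∀ n : ℕ, 0 < n → ∀ i : ℕ,
        i ≤ l.length + 1 → hlen N (pw (f :: l) n) (-(i : ℤ)) ≤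
          ((c * n ^ (l.length + 1 - i) : ℕ) : ℕ∞)) ?_ ?_ ?_ hs
    · intro N _ _ _ _ _
      exact ⟨0, fun n hn i hi => by rw [hlen_eq_zero_of_subsingleton]; simp⟩
    · intro N _ _ _ p e hsN
      rcases zero_or_regular N p e f with h0 | hreg
      · obtain ⟨c, hc⟩ := ih N (suppCond_tail_of_smul_eq_zero N f l h0 hsN)
        refine ⟨2 * c, fun n hn i hi => ?_⟩
        have h0' : ∀ m : N, f ^ n • m = 0 := by
          intro m
          obtain ⟨k, rfl⟩ := Nat.exists_eq_succ_of_ne_zero hn.ne'
          rw [pow_succ, mul_smul, h0, smul_zero]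
        rw [pw_cons, hlen_cons_of_smul_eq_zero N (f ^ n) h0' (pw l n) (-(i : ℤ))]
        have hn1 : 1 ≤ n := hn
        have t1 : hlen N (pw l n) (-(i : ℤ)) ≤ ((c * n ^ (l.length + 1 - i) : ℕ) : ℕ∞) := by
          by_cases hil : i ≤ l.length
          · refine (hc n hn i hil).trans ?_
            exact_mod_cast Nat.mul_le_mul_left c (Nat.pow_le_pow_right hn1 (by omega))
          · rw [hlen_eq_zero N (pw l n) _ (Or.inr (by rw [pw_length]; omega))]
            simp
        have t2 : hlen N (pw l n) (-(i : ℤ) + 1) ≤ ((c * n ^ (l.length + 1 - i) : ℕ) : ℕ∞) := by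
          rcases Nat.eq_zero_or_pos i with rfl | hipos
          · rw [hlen_eq_zero N (pw l n) _ (Or.inl (by simp))]
            simp
          · obtain ⟨j, rfl⟩ := Nat.exists_eq_succ_of_ne_zero hipos.ne'
            have hj : -((j + 1 : ℕ) : ℤ) + 1 = -(j : ℤ) := by push_cast; ring
            rw [hj]
            refine (hc n hn j (by omega)).trans ?_
            have : l.length + 1 - (j + 1) = l.length - j := by omega
            rw [this]
        refine (add_le_add t1 t2).trans ?_
        rw [← two_mul]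
        exact_mod_cast le_of_eq (by ring)
      · obtain ⟨c, hc⟩ := ih (QuotSMulTop f N) (suppCond_quotSMulTop f l hsN)
        refine ⟨c, fun n hn i hi => ?_⟩
        rw [pw_cons, hlen_cons_of_regular N (f ^ n) (pw l n) (hreg.pow n) (-(i : ℤ))]
        refine (hlen_quot_pow_le N f hreg (pw l n) _ n).trans ?_
        by_cases hil : i ≤ l.length
        · refine (mul_le_mul_right (hc n hn i hil) _).trans ?_
          have : l.length + 1 - i = (l.length - i) + 1 := by omega
          rw [this]
          exact_mod_cast le_of_eq (by ring)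
        · rw [hlen_eq_zero _ (pw l n) _ (Or.inr (by rw [pw_length]; omega))]
          simp
    · intro N₁ _ _ _ N₂ _ _ _ N₃ _ _ _ g₁ g₂ hinj hsurj hex h₁ h₃ hs₂
      obtain ⟨c₁, hc₁⟩ := h₁ (suppCond_of_injective g₁ hinj _ hs₂)
      obtain ⟨c₃, hc₃⟩ := h₃ (suppCond_of_surjective g₂ hsurj _ hs₂)
      refine ⟨c₁ + c₃, fun n hn i hi => ?_⟩
      refine (hlen_le_add' g₁ g₂ hinj hsurj hex _ _).trans ?_
      refine (add_le_add (hc₁ n hn i hi) (hc₃ n hn i hi)).trans ?_
      exact_mod_cast le_of_eq (by ring)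

theorem withBot_le_of_succ_le (x : WithBot ℕ∞) (d : ℕ) (h : x + 1 ≤ ((d + 1 : ℕ) : WithBot ℕ∞)) :
    x ≤ (d : WithBot ℕ∞) := by
  induction x using WithBot.recBotCoe with
  | bot => exact bot_le
  | coe x =>
    have h4 : ((x + 1 : ℕ∞) : WithBot ℕ∞) ≤ (((d : ℕ∞) + 1 : ℕ∞) : WithBot ℕ∞) := by
      exact_mod_cast h
    rw [WithBot.coe_le_coe] at h4
    have h5 : x ≤ (d : ℕ∞) := (ENat.add_le_add_iff_right (by simp)).mp h4
    exact_mod_cast h5

theorem bound57 [IsLocalRing A] : ∀ (l : List A), (∀ a ∈ l, a ∈ IsLocalRing.maximalIdeal A) →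
    ∀ (d : ℕ) (M : Type u) [AddCommGroup M] [Module A M] [Module.Finite A M],
    SuppCond M l → Module.supportDim A M ≤ (d : WithBot ℕ∞) → ∃ c : ℕ, ∀ n : ℕ, 0 < n → ∀ i : ℤ,
      hlen M (pw l n) i ≤ ((c * n ^ d : ℕ) : ℕ∞) := by
  intro l
  induction l with
  | nil =>
    intro _ d M _ _ _ hs _
    have hfin : Module.length A M ≠ ⊤ := by
      rw [← hlen_nil_zero]
      exact hlen_ne_top M _ hs 0
    refine ⟨(Module.length A M).toNat, fun n hn i => ?_⟩
    change hlen M [] i ≤ _
    have hn1 : 1 ≤ n ^ d := Nat.one_le_pow _ _ hn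
    by_cases hi0 : i = 0
    · subst hi0
      rw [hlen_nil_zero]
      conv_lhs => rw [← ENat.natCast_toNat hfin]
      exact_mod_cast Nat.le_mul_of_pos_right _ hn1
    · rw [hlen_eq_zero M [] i (by simp; omega)]
      simp
  | cons f l ih =>
    intro hl d M _ _ hfinM hs hdim
    have hfm : f ∈ IsLocalRing.maximalIdeal A := hl f (by simp)
    have hl' : ∀ a ∈ l, a ∈ IsLocalRing.maximalIdeal A :=
      fun a ha => hl a (List.mem_cons_of_mem _ ha)
    refine IsNoetherianRing.induction_on_isQuotientEquivQuotientPrime A hfinM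
      (motive := fun N _ _ _ => SuppCond N (f :: l) → Module.supportDim A N ≤ (d : WithBot ℕ∞) →
        ∃ c : ℕ, ∀ n : ℕ, 0 < n → ∀ i : ℤ,
          hlen N (pw (f :: l) n) i ≤ ((c * n ^ d : ℕ) : ℕ∞)) ?_ ?_ ?_ hs hdim
    · intro N _ _ _ _ _ _
      exact ⟨0, fun n hn i => by rw [hlen_eq_zero_of_subsingleton]; simp⟩
    · intro N _ _ _ p e hsN hdN
      rcases zero_or_regular N p e f with h0 | hreg
      · obtain ⟨c, hc⟩ := ih hl' d N (suppCond_tail_of_smul_eq_zero N f l h0 hsN) hdN
        refine ⟨2 * c, fun n hn i => ?_⟩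
        have h0' : ∀ m : N, f ^ n • m = 0 := by
          intro m
          obtain ⟨k, rfl⟩ := Nat.exists_eq_succ_of_ne_zero hn.ne'
          rw [pow_succ, mul_smul, h0, smul_zero]
        rw [pw_cons, hlen_cons_of_smul_eq_zero N (f ^ n) h0' (pw l n) i]
        refine (add_le_add (hc n hn i) (hc n hn (i + 1))).trans ?_
        rw [← two_mul]
        exact_mod_cast le_of_eq (by ring)
      · have hQ1 : Module.supportDim A (QuotSMulTop f N) + 1 = Module.supportDim A N :=
          Module.supportDim_quotSMulTop_succ_eq_supportDim hreg hfm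
        rcases d with _ | d'
        · have hsub : Subsingleton (QuotSMulTop f N) := by
            by_contra hcon
            rw [not_subsingleton_iff_nontrivial] at hcon
            have : Nonempty (Module.support A (QuotSMulTop f N)) :=
              Module.nonempty_support_of_nontrivial.to_subtype
            have h0le : (0 : WithBot ℕ∞) ≤ Module.supportDim A (QuotSMulTop f N) := by
              unfold Module.supportDim
              exact Order.krullDim_nonneg
            have h1 : (0 : WithBot ℕ∞) + 1 ≤ ((0 : ℕ) : WithBot ℕ∞) :=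
              (add_le_add h0le le_rfl).trans (hQ1.le.trans hdN)
            simp at h1
            exact absurd h1 (not_le.mpr zero_lt_one)
          refine ⟨0, fun n hn i => ?_⟩
          rw [pw_cons, hlen_cons_of_regular N (f ^ n) (pw l n) (hreg.pow n) i]
          refine (hlen_quot_pow_le N f hreg (pw l n) _ n).trans ?_
          rw [hlen_eq_zero_of_subsingleton]
          simp
        · have hdQ : Module.supportDim A (QuotSMulTop f N) ≤ (d' : WithBot ℕ∞) :=
            withBot_le_of_succ_le _ _ (hQ1.le.trans hdN)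
          obtain ⟨c, hc⟩ := ih hl' d' (QuotSMulTop f N) (suppCond_quotSMulTop f l hsN) hdQ
          refine ⟨c, fun n hn i => ?_⟩
          rw [pw_cons, hlen_cons_of_regular N (f ^ n) (pw l n) (hreg.pow n) i]
          refine (hlen_quot_pow_le N f hreg (pw l n) _ n).trans ?_
          refine (mul_le_mul_right (hc n hn i) _).trans ?_
          exact_mod_cast le_of_eq (by ring)
    · intro N₁ _ _ _ N₂ _ _ _ N₃ _ _ _ g₁ g₂ hinj hsurj hex h₁ h₃ hs₂ hd₂
      obtain ⟨c₁, hc₁⟩ := h₁ (suppCond_of_injective g₁ hinj _ hs₂)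
        ((Module.supportDim_le_of_injective g₁ hinj).trans hd₂)
      obtain ⟨c₃, hc₃⟩ := h₃ (suppCond_of_surjective g₂ hsurj _ hs₂)
        ((Module.supportDim_le_of_surjective g₂ hsurj).trans hd₂)
      refine ⟨c₁ + c₃, fun n hn i => ?_⟩
      refine (hlen_le_add' g₁ g₂ hinj hsurj hex _ _).trans ?_
      refine (add_le_add (hc₁ n hn i) (hc₃ n hn i)).trans ?_
      exact_mod_cast le_of_eq (by ring)

end noeth

end Groth.Agent.H79.KoszulBound2
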