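import Groth.Agent.H79.KoszulEulerPow
import Mathlib.Algebra.Homology.HomologySequence

set_option autoImplicit false
universe u
open CategoryTheory CochainComplex HomComplex Limits Groth.Agent.H12.KoszulReg
open Groth.Agent.H79.KoszulEuler

namespace Groth.Agent.H79.KoszulEulerAdd

theorem fin_supp (n : ℕ) (g : ℤ → ℤ)
    (hg : ∀ i : ℤ, (0 < i ∨ i + n < 0) → g i = 0) : (Function.support g).Finite := by
  apply (Set.finite_Icc (-(n : ℤ)) 0).subset
  intro i hi
  rw [Function.mem_support] at hi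
  rw [Set.mem_Icc]
  by_contra hcon
  apply hi
  apply hg
  omega

theorem alt_sum_eq (n : ℕ) (a b c α β γ : ℤ → ℕ∞)
    (ha : ∀ i, a i = γ i + α i) (hb : ∀ i, b i = α i + β i) (hc : ∀ i, c i = β i + γ (i + 1))
    (hfa : ∀ i, a i ≠ ⊤) (hfb : ∀ i, b i ≠ ⊤)
    (hva : ∀ i : ℤ, (0 < i ∨ i + n < 0) → a i = 0)
    (hvb : ∀ i : ℤ, (0 < i ∨ i + n < 0) → b i = 0) :
    (∑ᶠ i : ℤ, ((i.negOnePow : ℤˣ) : ℤ) * ((b i).toNat : ℤ)) =
      (∑ᶠ i : ℤ, ((i.negOnePow : ℤˣ) : ℤ) * ((a i).toNat : ℤ)) +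
        ∑ᶠ i : ℤ, ((i.negOnePow : ℤˣ) : ℤ) * ((c i).toNat : ℤ) := by
  have hγt : ∀ i, γ i ≠ ⊤ := fun i => by
    have := hfa i; rw [ha] at this; exact (WithTop.add_ne_top.mp this).1
  have hαt : ∀ i, α i ≠ ⊤ := fun i => by
    have := hfa i; rw [ha] at this; exact (WithTop.add_ne_top.mp this).2
  have hβt : ∀ i, β i ≠ ⊤ := fun i => by
    have := hfb i; rw [hb] at this; exact (WithTop.add_ne_top.mp this).2
  have hγ0 : ∀ i : ℤ, (0 < i ∨ i + n < 0) → γ i = 0 := fun i hi => by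
    have := hva i hi; rw [ha] at this; exact (add_eq_zero.mp this).1
  have hα0 : ∀ i : ℤ, (0 < i ∨ i + n < 0) → α i = 0 := fun i hi => by
    have := hva i hi; rw [ha] at this; exact (add_eq_zero.mp this).2
  have hβ0 : ∀ i : ℤ, (0 < i ∨ i + n < 0) → β i = 0 := fun i hi => by
    have := hvb i hi; rw [hb] at this; exact (add_eq_zero.mp this).2
  have e1 : ∀ i : ℤ, ((i.negOnePow : ℤˣ) : ℤ) * ((a i).toNat : ℤ) =
      ((i.negOnePow : ℤˣ) : ℤ) * ((γ i).toNat : ℤ) + ((i.negOnePow : ℤˣ) : ℤ) * ((α i).toNat : ℤ) := by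
    intro i
    rw [ha, ENat.toNat_add (hγt i) (hαt i)]
    push_cast
    ring
  have e2 : ∀ i : ℤ, ((i.negOnePow : ℤˣ) : ℤ) * ((b i).toNat : ℤ) =
      ((i.negOnePow : ℤˣ) : ℤ) * ((α i).toNat : ℤ) + ((i.negOnePow : ℤˣ) : ℤ) * ((β i).toNat : ℤ) := by
    intro i
    rw [hb, ENat.toNat_add (hαt i) (hβt i)]
    push_cast
    ring
  have e3 : ∀ i : ℤ, ((i.negOnePow : ℤˣ) : ℤ) * ((c i).toNat : ℤ) =
      ((i.negOnePow : ℤˣ) : ℤ) * ((β i).toNat : ℤ) +
        -((((i + 1).negOnePow : ℤˣ) : ℤ) * ((γ (i + 1)).toNat : ℤ)) := by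
    intro i
    rw [hc, ENat.toNat_add (hβt i) (hγt (i + 1)), Int.negOnePow_succ]
    push_cast
    ring
  have sγ : (Function.support fun i : ℤ => ((i.negOnePow : ℤˣ) : ℤ) * ((γ i).toNat : ℤ)).Finite :=
    fin_supp n _ (fun i hi => by rw [hγ0 i hi]; simp)
  have sα : (Function.support fun i : ℤ => ((i.negOnePow : ℤˣ) : ℤ) * ((α i).toNat : ℤ)).Finite :=
    fin_supp n _ (fun i hi => by rw [hα0 i hi]; simp)
  have sβ : (Function.support fun i : ℤ => ((i.negOnePow : ℤˣ) : ℤ) * ((β i).toNat : ℤ)).Finite :=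
    fin_supp n _ (fun i hi => by rw [hβ0 i hi]; simp)
  have sγ' : (Function.support fun i : ℤ =>
      -((((i + 1).negOnePow : ℤˣ) : ℤ) * ((γ (i + 1)).toNat : ℤ))).Finite := by
    have : (fun i : ℤ => -((((i + 1).negOnePow : ℤˣ) : ℤ) * ((γ (i + 1)).toNat : ℤ))) =
        (fun j : ℤ => -(((j.negOnePow : ℤˣ) : ℤ) * ((γ j).toNat : ℤ))) ∘
          (Equiv.addRight (1 : ℤ)) := rfl
    rw [this]
    apply Set.Finite.subset (sγ.preimage (Equiv.injective _).injOn)
    intro i hi
    simp only [Function.mem_support, Function.comp_apply, ne_eq, neg_eq_zero,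
      Set.mem_preimage] at hi ⊢
    exact hi
  have h2 : (∑ᶠ i : ℤ, -((((i + 1).negOnePow : ℤˣ) : ℤ) * ((γ (i + 1)).toNat : ℤ))) =
      -∑ᶠ j : ℤ, ((j.negOnePow : ℤˣ) : ℤ) * ((γ j).toNat : ℤ) := by
    rw [finsum_neg_distrib]
    congr 1
    exact finsum_comp_equiv (Equiv.addRight (1 : ℤ))
      (f := fun j : ℤ => ((j.negOnePow : ℤˣ) : ℤ) * ((γ j).toNat : ℤ))
  rw [finsum_congr e1, finsum_congr e2, finsum_congr e3, finsum_add_distrib sγ sα,
    finsum_add_distrib sα sβ, finsum_add_distrib sβ sγ', h2]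
  ring


variable {A : Type u} [CommRing A]

section les

variable (S : ShortComplex (CochainComplex (ModuleCat.{u} A) ℤ)) (hS : S.ShortExact)

/-- length of the image of the connecting map -/
noncomputable def gam (i j : ℤ) (hij : i + 1 = j) : ℕ∞ :=
  Module.length A (LinearMap.range (hS.δ i j hij).hom)

/-- length of the image of `H^i X₁ → H^i X₂` -/
noncomputable def alp (i : ℤ) : ℕ∞ :=
  Module.length A (LinearMap.range (HomologicalComplex.homologyMap S.f i).hom)

/-- length of the image of `H^i X₂ → H^i X₃` -/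
noncomputable def bet (i : ℤ) : ℕ∞ :=
  Module.length A (LinearMap.range (HomologicalComplex.homologyMap S.g i).hom)

include hS in
theorem len_X₂ (i : ℤ) : Module.length A (S.X₂.homology i) = alp S i + bet S i := by
  have h := (hS.homology_exact₂ i).moduleCat_range_eq_ker
  exact Groth.Agent.H15.Len.length_eq_range_add_range _ _ (LinearMap.exact_iff.mpr h.symm)

theorem len_X₃ (i j : ℤ) (hij : i + 1 = j) :
    Module.length A (S.X₃.homology i) = bet S i + gam S hS i j hij := by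
  have h := (hS.homology_exact₃ i j hij).moduleCat_range_eq_ker
  exact Groth.Agent.H15.Len.length_eq_range_add_range _ _ (LinearMap.exact_iff.mpr h.symm)

theorem len_X₁ (i j : ℤ) (hij : i + 1 = j) :
    Module.length A (S.X₁.homology j) = gam S hS i j hij + alp S j := by
  have h := (hS.homology_exact₁ i j hij).moduleCat_range_eq_ker
  exact Groth.Agent.H15.Len.length_eq_range_add_range _ _ (LinearMap.exact_iff.mpr h.symm)

theorem gam_congr (i i' j : ℤ) (h : i + 1 = j) (h' : i' + 1 = j) :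
    gam S hS i j h = gam S hS i' j h' := by
  obtain rfl : i = i' := by omega
  rfl

end les

section add

variable (M : Type u) [AddCommGroup M] [Module A M]

theorem hlen_functor (l : List A) (i : ℤ) :
    hlen M l i = Module.length A (((koszulFunctor l).obj (ModuleCat.of A M)).homology i) := by
  unfold hlen
  rw [koszulFunctor_obj]

theorem hlen_eq_zero (l : List A) (i : ℤ) (hi : 0 < i ∨ i + l.length < 0) : hlen M l i = 0 := by
  rw [hlen_eq, Module.length_eq_zero_iff]
  exact subsingleton_Nmod M l i hi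

end add

theorem chi_add (S : ShortComplex (ModuleCat.{u} A)) (hS : S.ShortExact) (l : List A)
    (h1 : ∀ i, hlen S.X₁ l i ≠ ⊤) (h2 : ∀ i, hlen S.X₂ l i ≠ ⊤) :
    chi S.X₂ l = chi S.X₁ l + chi S.X₃ l := by
  have hT := koszulFunctor_shortExact l S hS
  unfold chi
  have key := alt_sum_eq l.length (fun i => hlen S.X₁ l i) (fun i => hlen S.X₂ l i)
    (fun i => hlen S.X₃ l i) (alp (S.map (koszulFunctor l))) (bet (S.map (koszulFunctor l)))
    (fun j => gam (S.map (koszulFunctor l)) hT (j - 1) j (by omega))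
    (fun i => by
      rw [hlen_functor]
      exact len_X₁ (S.map (koszulFunctor l)) hT (i - 1) i (by omega))
    (fun i => by
      rw [hlen_functor]
      exact len_X₂ (S.map (koszulFunctor l)) hT i)
    (fun i => by
      rw [hlen_functor]
      rw [gam_congr (S.map (koszulFunctor l)) hT (i + 1 - 1) i (i + 1) (by omega) rfl]
      exact len_X₃ (S.map (koszulFunctor l)) hT i (i + 1) rfl)
    h1 h2 (fun i hi => hlen_eq_zero _ l i hi) (fun i hi => hlen_eq_zero _ l i hi)
  exact key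

end Groth.Agent.H79.KoszulEulerAdd
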