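import Groth.Agent.H79.KoszulEulerReg
import Mathlib.RingTheory.KrullDimension.Regular

set_option autoImplicit false
universe u
open CategoryTheory CochainComplex HomComplex Limits Groth.Agent.H12.KoszulReg
open Groth.Agent.H79.KoszulEuler Groth.Agent.H79.KoszulEulerAdd Groth.Agent.H79.ConeLength
open Groth.Agent.H79.LenComp Groth.Agent.H79.KoszulEulerPow Groth.Agent.H79.KoszulEulerReg
open scoped Pointwise

namespace Groth.Agent.H79.KoszulEulerDim

variable {A : Type u} [CommRing A]

section basic

variable {M' M M'' : Type u} [AddCommGroup M'] [Module A M'] [AddCommGroup M] [Module A M]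
  [AddCommGroup M''] [Module A M'']

/-- additivity of the Koszul Euler characteristic, linear map version -/
theorem chi_add' (i : M' →ₗ[A] M) (p : M →ₗ[A] M'') (hi : Function.Injective i)
    (hp : Function.Surjective p) (hex : Function.Exact i p) (l : List A)
    (h1 : ∀ j, hlen M' l j ≠ ⊤) (h2 : ∀ j, hlen M l j ≠ ⊤) :
    chi M l = chi M' l + chi M'' l := by
  let S : ShortComplex (ModuleCat.{u} A) :=
    ShortComplex.mk (ModuleCat.ofHom i) (ModuleCat.ofHom p) (by
      ext x
      exact hex.apply_apply_eq_zero x)
  have hS : S.ShortExact := by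
    refine ShortComplex.ShortExact.mk' ?_ ?_ ?_
    · rw [ShortComplex.moduleCat_exact_iff]
      intro y hy
      exact (hex y).mp hy
    · rw [ModuleCat.mono_iff_injective]
      exact hi
    · rw [ModuleCat.epi_iff_surjective]
      exact hp
  exact chi_add S hS l h1 h2

theorem suppCond_of_injective (i : M' →ₗ[A] M) (hi : Function.Injective i) (l : List A)
    (hs : SuppCond M l) : SuppCond M' l :=
  fun p hp hle => hs p (Module.support_subset_of_injective i hi hp) hle

theorem suppCond_of_surjective (p : M →ₗ[A] M'') (hp : Function.Surjective p) (l : List A)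
    (hs : SuppCond M l) : SuppCond M'' l :=
  fun q hq hle => hs q (Module.support_subset_of_surjective p hp hq) hle

theorem suppCond_quotSMulTop [Module.Finite A M] (f : A) (l : List A) (hs : SuppCond M (f :: l)) :
    SuppCond (QuotSMulTop f M) l := by
  intro p hp hle
  rw [Module.support_quotSMulTop] at hp
  apply hs p hp.1
  rw [Ideal.span_le]
  intro a ha
  rcases List.mem_cons.mp ha with rfl | ha
  · exact hp.2 (Set.mem_singleton _)
  · exact hle (Ideal.subset_span ha)

end basic

section single

variable (M : Type u) [AddCommGroup M] [Module A M]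

theorem hlen_eq_zero_of_subsingleton [Subsingleton M] (l : List A) (i : ℤ) : hlen M l i = 0 := by
  rw [hlen_eq, Module.length_eq_zero_iff]
  refine ⟨fun a b => ?_⟩
  have h0 := smul_Nmod_eq_zero M (1 : A) (fun m => Subsingleton.elim _ _) l i
  rw [← one_smul A a, ← one_smul A b, h0 a, h0 b]

theorem chi_eq_zero_of_subsingleton [Subsingleton M] (l : List A) : chi M l = 0 := by
  unfold chi
  have : ∀ i : ℤ, ((i.negOnePow : ℤˣ) : ℤ) * ((hlen M l i).toNat : ℤ) = 0 := by
    intro i
    rw [hlen_eq_zero_of_subsingleton]
    simp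
  rw [finsum_congr this, finsum_zero]

theorem exists_torsion_split [IsNoetherianRing A] [Module.Finite A M] (f : A) :
    ∃ (k : ℕ) (N : Submodule A M), (∀ n ∈ N, f ^ k • n = 0) ∧ IsSMulRegular (M ⧸ N) f := by
  have hN : IsNoetherian A M := isNoetherian_of_isNoetherianRing_of_finite A M
  let c : ℕ →o Submodule A M :=
    ⟨fun k => kerSMul M (f ^ k), by
      intro a b hab x hx
      rw [mem_kerSMul] at hx ⊢
      obtain ⟨d, rfl⟩ := Nat.exists_eq_add_of_le hab
      rw [pow_add, mul_comm, mul_smul, hx, smul_zero]⟩
  obtain ⟨k, hk⟩ := monotone_stabilizes_iff_noetherian.mpr hN c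
  refine ⟨k, kerSMul M (f ^ k), fun n hn => (mem_kerSMul M _ n).mp hn, ?_⟩
  rw [isSMulRegular_iff_right_eq_zero_of_smul]
  intro z hz
  obtain ⟨m, rfl⟩ := Submodule.Quotient.mk_surjective _ z
  rw [← Submodule.Quotient.mk_smul, Submodule.Quotient.mk_eq_zero, mem_kerSMul] at hz
  rw [Submodule.Quotient.mk_eq_zero]
  have h1 : m ∈ c (k + 1) := by
    change m ∈ kerSMul M (f ^ (k + 1))
    rw [mem_kerSMul, pow_succ, mul_smul]
    exact hz
  have h2 : c k = c (k + 1) := hk (k + 1) (Nat.le_succ k)
  rw [← h2] at h1
  exact h1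

end single

section main

variable [IsNoetherianRing A] [IsLocalRing A]

theorem chi_eq_zero_of_dim_lt : ∀ (l : List A), (∀ a ∈ l, a ∈ IsLocalRing.maximalIdeal A) →
    ∀ (M : Type u) [AddCommGroup M] [Module A M] [Module.Finite A M], SuppCond M l →
      Module.supportDim A M < (l.length : WithBot ℕ∞) → chi M l = 0 := by
  intro l
  induction l with
  | nil =>
    intro _ M _ _ _ _ hdim
    have hb : Module.supportDim A M = ⊥ := by
      by_contra hne
      have : (0 : WithBot ℕ∞) ≤ Module.supportDim A M := by
        have hnt := (Module.supportDim_ne_bot_iff_nontrivial A M).mp hne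
        have : Nonempty (Module.support A M) := Module.nonempty_support_of_nontrivial.to_subtype
        unfold Module.supportDim
        exact Order.krullDim_nonneg
      simp at hdim
      exact absurd (lt_of_le_of_lt this hdim) (lt_irrefl _)
    have := (Module.supportDim_eq_bot_iff_subsingleton A M).mp hb
    exact chi_eq_zero_of_subsingleton M []
  | cons f l ih =>
    intro hl M _ _ _ hs hdim
    obtain ⟨k, N, hN, hreg⟩ := exists_torsion_split M f
    have hfm : f ∈ IsLocalRing.maximalIdeal A := hl f (by simp)
    have hsN : SuppCond N (f :: l) := suppCond_of_injective N.subtype N.subtype_injective _ hs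
    have hsQ : SuppCond (M ⧸ N) (f :: l) :=
      suppCond_of_surjective N.mkQ N.mkQ_surjective _ hs
    have hadd := chi_add' N.subtype N.mkQ N.subtype_injective N.mkQ_surjective
      (LinearMap.exact_subtype_mkQ N) (f :: l) (hlen_ne_top N _ hsN) (hlen_ne_top M _ hs)
    have hA : chi N (f :: l) = 0 :=
      chi_eq_zero_of_pow_smul_eq_zero N f l hsN k (fun n => Subtype.ext (hN n.1 n.2))
    have hB : chi (M ⧸ N) (f :: l) = chi (QuotSMulTop f (M ⧸ N)) l :=
      chi_cons_of_regular (M ⧸ N) f l hreg
    rw [hadd, hA, hB, zero_add]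
    apply ih (fun a ha => hl a (List.mem_cons_of_mem _ ha)) (QuotSMulTop f (M ⧸ N))
      (suppCond_quotSMulTop f l hsQ)
    have h1 : Module.supportDim A (QuotSMulTop f (M ⧸ N)) + 1 = Module.supportDim A (M ⧸ N) :=
      Module.supportDim_quotSMulTop_succ_eq_supportDim hreg hfm
    have h2 : Module.supportDim A (M ⧸ N) ≤ Module.supportDim A M :=
      Module.supportDim_le_of_surjective N.mkQ N.mkQ_surjective
    have h3 : Module.supportDim A (QuotSMulTop f (M ⧸ N)) + 1 < ((l.length : ℕ) : WithBot ℕ∞) + 1 := by
      rw [h1]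
      refine lt_of_le_of_lt h2 ?_
      simpa using hdim
    generalize Module.supportDim A (QuotSMulTop f (M ⧸ N)) = x at h3
    induction x using WithBot.recBotCoe with
    | bot => exact WithBot.bot_lt_coe _
    | coe x =>
      have h4 : ((x + 1 : ℕ∞) : WithBot ℕ∞) < (((l.length : ℕ∞) + 1 : ℕ∞) : WithBot ℕ∞) := by
        exact_mod_cast h3
      rw [WithBot.coe_lt_coe] at h4
      have h5 : x < (l.length : ℕ∞) := by
        by_contra hcon
        rw [not_lt] at hcon
        exact absurd (add_le_add_left hcon 1) (not_le.mpr h4)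
      exact_mod_cast h5

end main

end Groth.Agent.H79.KoszulEulerDim
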