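import Groth.Agent.H79.KoszulEulerPos
import Mathlib.LinearAlgebra.Dimension.Localization
import Mathlib.RingTheory.KrullDimension.NonZeroDivisors
import Mathlib.RingTheory.Localization.BaseChange

set_option autoImplicit false
universe u
open CategoryTheory CochainComplex HomComplex Limits Groth.Agent.H12.KoszulReg
open Groth.Agent.H79.KoszulEuler Groth.Agent.H79.KoszulEulerAdd Groth.Agent.H79.ConeLength
open Groth.Agent.H79.LenComp Groth.Agent.H79.KoszulEulerPow Groth.Agent.H79.KoszulEulerReg
open Groth.Agent.H79.KoszulEulerDim Groth.Agent.H79.KoszulEulerPos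
open scoped Pointwise TensorProduct nonZeroDivisors

namespace Groth.Agent.H79.KoszulEulerRank

variable {A : Type u} [CommRing A]

section congr

variable {M M' : Type u} [AddCommGroup M] [Module A M] [AddCommGroup M'] [Module A M']

theorem hlen_congr_equiv (e : M ≃ₗ[A] M') (l : List A) (i : ℤ) : hlen M l i = hlen M' l i := by
  rw [hlen_functor, hlen_functor]
  exact ((HomologicalComplex.homologyFunctor (ModuleCat.{u} A) (ComplexShape.up ℤ) i).mapIso
    ((koszulFunctor l).mapIso e.toModuleIso)).toLinearEquiv.length_eq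

theorem chi_congr_equiv (e : M ≃ₗ[A] M') (l : List A) : chi M l = chi M' l := by
  unfold chi
  apply finsum_congr
  intro i
  rw [hlen_congr_equiv e l i]

end congr

section pi

variable [IsNoetherianRing A]

/-- every prime containing `l` is maximal -/
def PrimeCond (l : List A) : Prop :=
  ∀ p : PrimeSpectrum A, Ideal.ofList l ≤ p.asIdeal → p.asIdeal.IsMaximal

omit [IsNoetherianRing A] in
theorem suppCond_of_primeCond {l : List A} (hP : PrimeCond l) (M : Type u) [AddCommGroup M]
    [Module A M] : SuppCond M l := fun p _ hle => hP p hle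

/-- the Euler characteristic of a free module of finite rank -/
theorem chi_pi (l : List A) (hP : PrimeCond l) : ∀ r : ℕ,
    chi (Fin r → A) l = (r : ℤ) * chi A l := by
  intro r
  induction r with
  | zero =>
    rw [chi_eq_zero_of_subsingleton]
    simp
  | succ r ih =>
    let i : A →ₗ[A] (Fin (r + 1) → A) := LinearMap.single A (fun _ => A) 0
    let p : (Fin (r + 1) → A) →ₗ[A] (Fin r → A) :=
      LinearMap.pi (fun j => LinearMap.proj j.succ)
    have hi : Function.Injective i := by
      intro a b h
      have := congrFun h 0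
      simpa [i] using this
    have hp : Function.Surjective p := by
      intro g
      refine ⟨Fin.cons 0 g, ?_⟩
      ext j
      simp [p]
    have hex : Function.Exact i p := by
      intro g
      constructor
      · intro hg
        refine ⟨g 0, ?_⟩
        ext j
        refine Fin.cases ?_ (fun j => ?_) j
        · simp [i]
        · have := congrFun hg j
          simp only [p, LinearMap.pi_apply, LinearMap.proj_apply, Pi.zero_apply] at this
          simp [i, this]
      · rintro ⟨a, rfl⟩
        ext j
        simp [i, p]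
    rw [chi_add' i p hi hp hex l (hlen_ne_top A l (suppCond_of_primeCond hP A))
      (hlen_ne_top _ l (suppCond_of_primeCond hP _)), ih]
    push_cast
    ring

end pi

section rank

variable [IsNoetherianRing A] [IsLocalRing A] [IsDomain A]

omit [IsNoetherianRing A] [IsLocalRing A] in
theorem exists_ne_zero_smul_eq_zero (Q : Type u) [AddCommGroup Q] [Module A Q] [Module.Finite A Q]
    (ht : ∀ x : Q, ∃ a : A, a ≠ 0 ∧ a • x = 0) : ∃ a : A, a ≠ 0 ∧ ∀ x : Q, a • x = 0 := by
  obtain ⟨s, hs⟩ := (Module.Finite.fg_top : (⊤ : Submodule A Q).FG)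
  choose c hc0 hc using ht
  refine ⟨∏ x ∈ s, c x, Finset.prod_ne_zero_iff.mpr (fun x _ => hc0 x), ?_⟩
  have hle : Submodule.span A (s : Set Q) ≤ kerSMul Q (∏ x ∈ s, c x) := by
    rw [Submodule.span_le]
    intro x hx
    rw [SetLike.mem_coe, mem_kerSMul]
    obtain ⟨b, hb⟩ := Finset.dvd_prod_of_mem c hx
    rw [hb, mul_comm, mul_smul, hc x, smul_zero]
  intro x
  rw [← mem_kerSMul]
  apply hle
  rw [hs]
  exact Submodule.mem_top

omit [IsNoetherianRing A] [IsLocalRing A] in
theorem supportDim_lt_of_torsion (d : ℕ) (hd : ringKrullDim A = d) (Q : Type u) [AddCommGroup Q]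
    [Module A Q] [Module.Finite A Q] (ht : ∀ x : Q, ∃ a : A, a ≠ 0 ∧ a • x = 0) :
    Module.supportDim A Q < (d : WithBot ℕ∞) := by
  obtain ⟨a, ha0, ha⟩ := exists_ne_zero_smul_eq_zero Q ht
  have hann : a ∈ Module.annihilator A Q := by
    rw [Module.mem_annihilator]
    exact ha
  have h1 := ringKrullDim_succ_le_of_surjective (Ideal.Quotient.mk (Module.annihilator A Q))
    Ideal.Quotient.mk_surjective (mem_nonZeroDivisors_of_ne_zero ha0)
    (Ideal.Quotient.eq_zero_iff_mem.mpr hann)
  rw [← Module.supportDim_eq_ringKrullDim_quotient_annihilator, hd] at h1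
  generalize Module.supportDim A Q = x at h1
  induction x using WithBot.recBotCoe with
  | bot => exact WithBot.bot_lt_coe _
  | coe x =>
    have h4 : ((x + 1 : ℕ∞) : WithBot ℕ∞) ≤ (((d : ℕ∞)) : WithBot ℕ∞) := by
      exact_mod_cast h1
    rw [WithBot.coe_le_coe] at h4
    have hx : x ≠ ⊤ := by
      rintro rfl
      simp at h4
    have h5 : x < (d : ℕ∞) := (ENat.add_one_le_iff hx).mp h4
    exact_mod_cast h5

theorem chi_eq_rank_mul (d : ℕ) (hd : ringKrullDim A = d) (l : List A)
    (hl : ∀ a ∈ l, a ∈ IsLocalRing.maximalIdeal A) (hlen : l.length = d) (hP : PrimeCond l)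
    (M : Type u) [AddCommGroup M] [Module A M] [Module.Finite A M] :
    chi M l = (Module.finrank A M : ℤ) * chi A l := by
  obtain ⟨v, hv⟩ := exists_linearIndependent_of_le_finrank (R := A) (M := M) le_rfl
  set F : Submodule A M := Submodule.span A (Set.range v) with hF
  have e : F ≃ₗ[A] (Fin (Module.finrank A M) → A) := (Module.Basis.span hv).equivFun
  have hFr : Module.finrank A F = Module.finrank A M := by
    rw [hF, finrank_span_eq_card hv, Fintype.card_fin]
  have hQ0 : Module.finrank A (M ⧸ F) = 0 := by
    have := Submodule.finrank_quotient_add_finrank F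
    omega
  have ht := Module.finrank_eq_zero_iff.mp hQ0
  have hdim := supportDim_lt_of_torsion d hd (M ⧸ F) ht
  have hQ : chi (M ⧸ F) l = 0 :=
    chi_eq_zero_of_dim_lt l hl (M ⧸ F) (suppCond_of_primeCond hP _) (by rw [hlen]; exact hdim)
  rw [chi_add' F.subtype F.mkQ F.subtype_injective F.mkQ_surjective
    (LinearMap.exact_subtype_mkQ F) l (hlen_ne_top F l (suppCond_of_primeCond hP _))
    (hlen_ne_top M l (suppCond_of_primeCond hP _)), hQ, add_zero, chi_congr_equiv e l,
    chi_pi l hP]

end rank

end Groth.Agent.H79.KoszulEulerRank
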