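import Groth.Agent.H79.KoszulSplit

set_option autoImplicit false
universe u
open CategoryTheory CochainComplex HomComplex Limits Groth.Agent.H12.KoszulReg
open Groth.Agent.H79.KoszulCone Groth.Agent.H79.KoszulSplit

namespace Groth.Agent.H79.KoszulKill

variable {A : Type u} [CommRing A]

/-- an element killing `M` kills every term of every Koszul complex of `M` -/
theorem smul_X_eq_zero (M : ModuleCat.{u} A) (y : A) (hy : ∀ m : M, y • m = 0) :
    ∀ (l : List A) (n : ℤ) (x : (CohIII.koszulCx M l).X n), y • x = 0 := by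
  intro l
  induction l with
  | nil =>
    intro n x
    by_cases hn : n = 0
    · subst hn
      have e : (CohIII.koszulCx M []).X 0 ≅ M :=
        HomologicalComplex.singleObjXSelf (ComplexShape.up ℤ) 0 M
      apply e.toLinearEquiv.injective
      rw [map_smul, hy, map_zero]
    · have hz : IsZero ((CohIII.koszulCx M []).X n) :=
        HomologicalComplex.isZero_single_obj_X (ComplexShape.up ℤ) 0 _ n hn
      have hsub : Subsingleton ((CohIII.koszulCx M []).X n) := ModuleCat.subsingleton_of_isZero hz
      exact Subsingleton.elim _ _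
  | cons f fs ih =>
    intro n
    change ∀ x : (mappingCone (f • 𝟙 (CohIII.koszulCx M fs))).X n, y • x = 0
    intro x
    apply (coneEquiv _ n (n + 1) rfl).injective
    rw [map_smul, map_zero]
    exact Prod.ext (ih (n + 1) _) (ih n _)

/-- multiplication by an element killing `M` is (homotopic to) zero on Koszul complexes of `M` -/
theorem nonempty_homotopy (M : ModuleCat.{u} A) (y : A) (hy : ∀ m : M, y • m = 0) (l : List A) :
    Nonempty (Homotopy (y • 𝟙 (CohIII.koszulCx M l)) 0) := by
  have h0 : y • 𝟙 (CohIII.koszulCx M l) = 0 := by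
    ext n x
    rw [smul_id_f_apply]
    exact smul_X_eq_zero M y hy l n x
  exact ⟨Homotopy.ofEq h0⟩

section Decomp

variable (M : ModuleCat.{u} A) (xs : List A)

/-- decomposition of the Koszul homology of `xs ++ ys` when `ys` kills `M` -/
theorem exists_decomp : ∀ ys : List A, (∀ y ∈ ys, ∀ m : M, y • m = 0) →
    ∃ (ι : Type) (_ : Finite ι) (dg : ι → ℕ),
      (∀ j : ℕ, Nat.card {i // dg i = j} = ys.length.choose j) ∧
      ∀ m : ℤ, Nonempty ((CohIII.koszulCx M (xs ++ ys)).homology m ≃ₗ[A]
        (∀ i : ι, (CohIII.koszulCx M xs).homology (m + (dg i : ℤ)))) := by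
  intro ys
  induction ys with
  | nil =>
    intro _
    refine ⟨PUnit, inferInstance, fun _ => 0, ?_, ?_⟩
    · intro j
      rcases j with _ | j
      · simp
      · simp
    · intro m
      rw [List.append_nil]
      exact ⟨(homCongr _ (by simp)).trans
        (LinearEquiv.funUnique PUnit A ((CohIII.koszulCx M xs).homology (m + ((0 : ℕ) : ℤ)))).symm⟩
  | cons y ys ih =>
    intro hy
    obtain ⟨ι, hfin, dg, hcard, hiso⟩ := ih (fun z hz => hy z (List.mem_cons_of_mem _ hz))
    refine ⟨ι ⊕ ι, inferInstance, Sum.elim (fun i => dg i + 1) dg, ?_, ?_⟩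
    · intro j
      rw [Nat.card_congr Equiv.subtypeSum, Nat.card_sum]
      simp only [Sum.elim_inl, Sum.elim_inr, List.length_cons]
      rcases j with _ | j
      · rw [hcard 0]
        simp
      · rw [hcard (j + 1), Nat.choose_succ_succ]
        congr 1
        rw [← hcard j]
        exact Nat.card_congr (Equiv.subtypeEquivRight (fun i => by omega))
    · intro m
      obtain ⟨e0⟩ := Groth.Agent.H79.KoszulEulerPow.nonempty_iso_middle M y ys xs
      obtain ⟨H⟩ := nonempty_homotopy M y (hy y List.mem_cons_self) (xs ++ ys)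
      obtain ⟨e1⟩ := nonempty_homology_cone_equiv (CohIII.koszulCx M (xs ++ ys)) y H m
      obtain ⟨e2⟩ := hiso (m + 1)
      obtain ⟨e3⟩ := hiso m
      have e00 := ((HomologicalComplex.homologyFunctor (ModuleCat.{u} A) (ComplexShape.up ℤ)
        m).mapIso e0).toLinearEquiv
      have e4 : (∀ i : ι, (CohIII.koszulCx M xs).homology (m + 1 + (dg i : ℤ))) ≃ₗ[A]
          (∀ i : ι, (CohIII.koszulCx M xs).homology (m + ((dg i + 1 : ℕ) : ℤ))) :=
        LinearEquiv.piCongrRight (fun i => homCongr _ (by push_cast; ring))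
      have e5 := (LinearEquiv.sumPiEquivProdPi A ι ι
        (fun st => (CohIII.koszulCx M xs).homology
          (m + ((Sum.elim (fun i => dg i + 1) dg st : ℕ) : ℤ)))).symm
      exact ⟨e00.trans (e1.trans ((LinearEquiv.prodCongr (e2.trans e4) e3).trans e5))⟩

/-- if moreover the Koszul complex of `xs` on `M` is acyclic off degree zero, the homology of
`xs ++ ys` in degree `-i` is a sum of `C(|ys|, i)` copies of the degree zero homology -/
theorem nonempty_equiv_of_acyclic (ys : List A) (hy : ∀ y ∈ ys, ∀ m : M, y • m = 0)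
    (hacyc : ∀ n : ℤ, n ≠ 0 → IsZero ((CohIII.koszulCx M xs).homology n)) (i : ℕ) :
    Nonempty ((CohIII.koszulCx M (xs ++ ys)).homology (-(i : ℤ)) ≃ₗ[A]
      (Fin (ys.length.choose i) → (CohIII.koszulCx M xs).homology 0)) := by
  obtain ⟨ι, hfin, dg, hcard, hiso⟩ := exists_decomp M xs ys hy
  obtain ⟨e⟩ := hiso (-(i : ℤ))
  have hsub : ∀ k : ι, dg k ≠ i →
      Subsingleton ((CohIII.koszulCx M xs).homology (-(i : ℤ) + (dg k : ℤ))) := by
    intro k hk
    apply ModuleCat.subsingleton_of_isZero
    apply hacyc
    intro h0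
    apply hk
    omega
  -- restriction to the indices of degree `i`
  let R : (∀ k : ι, (CohIII.koszulCx M xs).homology (-(i : ℤ) + (dg k : ℤ))) →ₗ[A]
      ({k // dg k = i} → (CohIII.koszulCx M xs).homology 0) :=
    LinearMap.pi (fun s => (homCongr (CohIII.koszulCx M xs)
      (show -(i : ℤ) + (dg s.1 : ℤ) = 0 by rw [s.2]; omega)).toLinearMap ∘ₗ LinearMap.proj s.1)
  have hR : Function.Bijective R := by
    constructor
    · rw [← LinearMap.ker_eq_bot, LinearMap.ker_eq_bot']
      intro v hv
      funext k
      by_cases hk : dg k = i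
      · have h1 := congrFun hv ⟨k, hk⟩
        exact (homCongr (CohIII.koszulCx M xs)
          (show -(i : ℤ) + (dg k : ℤ) = 0 by rw [hk]; omega)).injective
          (h1.trans (map_zero _).symm)
      · have := hsub k hk
        exact Subsingleton.elim _ _
    · intro w
      classical
      refine ⟨fun k => if hk : dg k = i then
        (homCongr (CohIII.koszulCx M xs)
          (show -(i : ℤ) + (dg k : ℤ) = 0 by rw [hk]; omega)).symm (w ⟨k, hk⟩) else 0, ?_⟩
      funext s
      change (homCongr (CohIII.koszulCx M xs) _) (dite _ _ _) = w s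
      rw [dif_pos s.2, LinearEquiv.apply_symm_apply]
  have E1 := LinearEquiv.ofBijective R hR
  have E2 : ({k // dg k = i} → (CohIII.koszulCx M xs).homology 0) ≃ₗ[A]
      (Fin (ys.length.choose i) → (CohIII.koszulCx M xs).homology 0) :=
    LinearEquiv.funCongrLeft A _
      (((Finite.equivFin {k // dg k = i}).trans (finCongr (hcard i))).symm)
  exact ⟨e.trans (E1.trans E2)⟩

end Decomp

end Groth.Agent.H79.KoszulKill
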