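import Groth.Agent.H79.KoszulBound2
import Groth.Agent.H79.KoszulRel
import Groth.Agent.H72.KoszulHomotopy
import Mathlib.RingTheory.Filtration

set_option autoImplicit false
universe u
open CategoryTheory CochainComplex HomComplex Limits
open scoped Pointwise

namespace Groth.Agent.H79.SerreFilt

variable {A : Type u} [CommRing A]

/-- a null-homotopy of `a • 𝟙 K`, evaluated on an element -/
theorem homotopy_apply (K : CochainComplex (ModuleCat.{u} A) ℤ) (a : A)
    (h : Homotopy (a • 𝟙 K) 0) (q : ℤ) (y : K.X q) :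
    a • y = (h.hom (q + 1) q).hom ((K.d q (q + 1)).hom y) +
      (K.d (q - 1) q).hom ((h.hom q (q - 1)).hom y) := by
  have hc := h.comm q
  rw [dNext_eq h.hom (show (ComplexShape.up ℤ).Rel q (q + 1) from rfl),
    prevD_eq h.hom (show (ComplexShape.up ℤ).Rel (q - 1) q by simp)] at hc
  have := congr($(hc).hom y)
  simp only [HomologicalComplex.smul_f_apply, HomologicalComplex.id_f, ModuleCat.hom_smul,
    ModuleCat.hom_id, LinearMap.smul_apply, LinearMap.id_coe, id_eq, HomologicalComplex.zero_f,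
    add_zero, ModuleCat.hom_add, ModuleCat.hom_comp, LinearMap.add_apply,
    LinearMap.comp_apply] at this
  exact this

variable [IsNoetherianRing A]

/-- (I.a) the filtration pieces of a complex on which `I` acts null-homotopically are acyclic in
high filtration degree -/
theorem exists_acyclic_bound (K : CochainComplex (ModuleCat.{u} A) ℤ) (I : Ideal A)
    (hfin : ∀ q, Module.Finite A (K.X q))
    (hhom : ∀ a ∈ I, Nonempty (Homotopy (a • 𝟙 K) 0)) (q : ℤ) :
    ∃ c : ℕ, ∀ n : ℕ, c ≤ n → ∀ z : K.X q, z ∈ (I ^ (n + 1) • ⊤ : Submodule A (K.X q)) →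
      (K.d q (q + 1)).hom z = 0 →
      ∃ w ∈ (I ^ n • ⊤ : Submodule A (K.X (q - 1))), (K.d (q - 1) q).hom w = z := by
  have := hfin q
  set Z : Submodule A (K.X q) := LinearMap.ker (K.d q (q + 1)).hom with hZ
  obtain ⟨k, hk⟩ := Ideal.exists_pow_inf_eq_pow_smul I Z
  refine ⟨k, fun n hn z hz hdz => ?_⟩
  have h1 : z ∈ (I ^ (n + 1) • ⊤ ⊓ Z : Submodule A (K.X q)) :=
    ⟨hz, LinearMap.mem_ker.mpr hdz⟩
  rw [hk (n + 1) (by omega)] at h1
  have e1 : n + 1 - k = (n - k) + 1 := by omega
  rw [e1, pow_succ', mul_smul] at h1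
  -- the inner module
  have hle : I ^ (n - k) • (I ^ k • ⊤ ⊓ Z) ≤ (I ^ n • ⊤ ⊓ Z : Submodule A (K.X q)) := by
    apply le_inf
    · refine (Submodule.smul_mono le_rfl inf_le_left).trans ?_
      rw [← mul_smul, ← pow_add, Nat.sub_add_cancel hn]
    · rw [Submodule.smul_le]
      intro r _ y hy
      exact Z.smul_mem r hy.2
  have h2 : z ∈ I • (I ^ n • ⊤ ⊓ Z : Submodule A (K.X q)) := Submodule.smul_mono le_rfl hle h1
  -- the target submodule
  have key : I • (I ^ n • ⊤ ⊓ Z : Submodule A (K.X q)) ≤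
      Submodule.map (K.d (q - 1) q).hom (I ^ n • ⊤ : Submodule A (K.X (q - 1))) := by
    rw [Submodule.smul_le]
    intro a ha y hy
    obtain ⟨h⟩ := hhom a ha
    rw [homotopy_apply K a h q y, LinearMap.mem_ker.mp hy.2, map_zero, zero_add]
    exact Submodule.mem_map_of_mem
      (Groth.Agent.H79.KoszulRel.map_mem_smul_top (I ^ n) (h.hom q (q - 1)).hom y hy.1)
  obtain ⟨w, hw, hwz⟩ := key h2
  exact ⟨w, hw, hwz⟩

end Groth.Agent.H79.SerreFilt
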