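import Groth.Agent.H79.KoszulEulerPow
import Groth.Agent.H79.SerreFilt
import Groth.Agent.H72.KoszulHomotopy

set_option autoImplicit false
universe u
open CategoryTheory CochainComplex HomComplex Limits Groth.Agent.H12.KoszulReg
open Groth.Agent.H79.KoszulCone Groth.Agent.H79.ConeLength

namespace Groth.Agent.H79.KoszulSplit

variable {A : Type u} [CommRing A]

section Split

variable (K : CochainComplex (ModuleCat.{u} A) ℤ) (f : A) (h : Homotopy (f • 𝟙 K) 0)

theorem homotopy_apply' (p q r : ℤ) (hpq : p + 1 = q) (hqr : q + 1 = r) (y : K.X q) :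
    f • y = (h.hom r q).hom ((K.d q r).hom y) + (K.d p q).hom ((h.hom q p).hom y) := by
  obtain rfl : r = q + 1 := hqr.symm
  obtain rfl : p = q - 1 := by omega
  exact Groth.Agent.H79.SerreFilt.homotopy_apply K f h q y

/-- the section of `beta` given by a null-homotopy -/
noncomputable def sigma (a b c d : ℤ) (hab : a + 1 = b) (hbc : b + 1 = c) (hcd : c + 1 = d) :
    Hc K b c d →ₗ[A] Hc (mappingCone (f • 𝟙 K)) a b c :=
  Hc.map (inlL (f • 𝟙 K) b c hbc - (inrL (f • 𝟙 K) b).comp (h.hom c b).hom)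
    (fun z hz => by
      apply ext' (f • 𝟙 K) c d hcd
      · rw [fstL_d (f • 𝟙 K) b c d hbc hcd]
        simp only [LinearMap.sub_apply, LinearMap.comp_apply, map_sub, fstL_inlL, fstL_inrL,
          sub_zero, hz, neg_zero, map_zero]
      · rw [sndL_d (f • 𝟙 K) b c hbc]
        simp only [LinearMap.sub_apply, LinearMap.comp_apply, map_sub, fstL_inlL, fstL_inrL,
          sndL_inlL, sndL_inrL, sub_zero, zero_sub, map_neg, map_zero, smul_id_f_apply]
        have := homotopy_apply' K f h b c d hbc hcd z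
        rw [hz, map_zero, zero_add] at this
        rw [this]
        abel)
    (fun w => ⟨-inlL (f • 𝟙 K) a b hab w + inrL (f • 𝟙 K) a ((h.hom b a).hom w), by
      apply ext' (f • 𝟙 K) b c hbc
      · rw [fstL_d (f • 𝟙 K) a b c hab hbc]
        simp only [LinearMap.sub_apply, LinearMap.comp_apply, map_sub, map_add, map_neg,
          fstL_inlL, fstL_inrL, sub_zero, add_zero, neg_neg]
      · rw [sndL_d (f • 𝟙 K) a b hab]
        simp only [LinearMap.sub_apply, LinearMap.comp_apply, map_sub, map_add, map_neg,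
          fstL_inlL, fstL_inrL, sndL_inlL, sndL_inrL, zero_sub, add_zero, neg_zero,
          zero_add, smul_id_f_apply]
        have := homotopy_apply' K f h a b c hab hbc w
        rw [this]
        abel⟩)

theorem sigma_mk (b c : ℤ) (hbc : b + 1 = c) (p : K.X c) :
    fstL (f • 𝟙 K) b c hbc
      ((inlL (f • 𝟙 K) b c hbc - (inrL (f • 𝟙 K) b).comp (h.hom c b).hom) p) = p := by
  simp only [LinearMap.sub_apply, LinearMap.comp_apply, map_sub, fstL_inlL, fstL_inrL, sub_zero]

theorem beta_sigma (a b c d : ℤ) (hab : a + 1 = b) (hbc : b + 1 = c) (hcd : c + 1 = d)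
    (u : Hc K b c d) :
    beta K f a b c d hab hbc hcd (sigma K f h a b c d hab hbc hcd u) = u := by
  obtain ⟨p, hp, rfl⟩ := Hc.mk_surjective u
  unfold sigma
  rw [Hc.map_mk, beta_mk]
  congr 1
  exact sigma_mk K f h b c hbc p

include h in
theorem smul_Hc_eq_zero (a b c : ℤ) (hab : a + 1 = b) (hbc : b + 1 = c) (v : Hc K a b c) :
    f • v = 0 := by
  obtain ⟨q, hq, rfl⟩ := Hc.mk_surjective v
  rw [Hc.smul_mk, Hc.mk_eq_zero]
  refine ⟨(h.hom b a).hom q, ?_⟩
  have := homotopy_apply' K f h a b c hab hbc q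
  rw [hq, map_zero, zero_add] at this
  exact this.symm

include h in
theorem alpha_injective (a b c : ℤ) (hab : a + 1 = b) (hbc : b + 1 = c) :
    Function.Injective (alpha K f a b c) := by
  rw [← LinearMap.ker_eq_bot, ker_alpha a b c hab hbc, LinearMap.range_eq_bot]
  refine LinearMap.ext fun v => ?_
  exact smul_Hc_eq_zero K f h a b c hab hbc v

include h in
/-- the cohomology of the cone of a null-homotopic multiplication splits -/
theorem nonempty_Hc_cone_equiv (a b c d : ℤ) (hab : a + 1 = b) (hbc : b + 1 = c)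
    (hcd : c + 1 = d) :
    Nonempty (Hc (mappingCone (f • 𝟙 K)) a b c ≃ₗ[A] (Hc K b c d × Hc K a b c)) := by
  let Φ : (Hc K b c d × Hc K a b c) →ₗ[A] Hc (mappingCone (f • 𝟙 K)) a b c :=
    (sigma K f h a b c d hab hbc hcd).coprod (alpha K f a b c)
  have hβα : ∀ v, beta K f a b c d hab hbc hcd (alpha K f a b c v) = 0 := by
    intro v
    have : alpha K f a b c v ∈ LinearMap.ker (beta K f a b c d hab hbc hcd) := by
      rw [ker_beta]
      exact ⟨v, rfl⟩
    exact LinearMap.mem_ker.mp this
  have hinj : Function.Injective Φ := by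
    rw [← LinearMap.ker_eq_bot, LinearMap.ker_eq_bot']
    rintro ⟨u, v⟩ huv
    simp only [Φ, LinearMap.coprod_apply] at huv
    have h1 := congrArg (beta K f a b c d hab hbc hcd) huv
    rw [map_add, beta_sigma, hβα, add_zero, map_zero] at h1
    subst h1
    rw [map_zero, zero_add] at huv
    have h2 := alpha_injective K f h a b c hab hbc (huv.trans (map_zero _).symm)
    subst h2
    rfl
  have hsurj : Function.Surjective Φ := by
    intro z
    set u := beta K f a b c d hab hbc hcd z with hu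
    have hz : z - sigma K f h a b c d hab hbc hcd u ∈
        LinearMap.ker (beta K f a b c d hab hbc hcd) := by
      rw [LinearMap.mem_ker, map_sub, beta_sigma, hu, sub_self]
    rw [ker_beta] at hz
    obtain ⟨v, hv⟩ := hz
    refine ⟨(u, v), ?_⟩
    simp only [Φ, LinearMap.coprod_apply]
    rw [hv]
    abel
  exact ⟨(LinearEquiv.ofBijective Φ ⟨hinj, hsurj⟩).symm⟩

end Split


section Homology

variable (K : CochainComplex (ModuleCat.{u} A) ℤ)

/-- transport of homology along an equality of degrees -/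
noncomputable def homCongr {p q : ℤ} (hpq : p = q) : K.homology p ≃ₗ[A] K.homology q := by
  subst hpq
  exact LinearEquiv.refl _ _

theorem nonempty_homology_equiv_Hc (p q r : ℤ) (hpq : p + 1 = q) (hqr : q + 1 = r) :
    Nonempty (K.homology q ≃ₗ[A] Hc K p q r) := by
  obtain rfl : r = q + 1 := hqr.symm
  obtain rfl : p = q - 1 := by omega
  exact ⟨(homologyIsoKerQuot K q).toLinearEquiv⟩

theorem nonempty_homology_cone_equiv (f : A) (h : Homotopy (f • 𝟙 K) 0) (n : ℤ) :
    Nonempty ((mappingCone (f • 𝟙 K)).homology n ≃ₗ[A]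
      (K.homology (n + 1) × K.homology n)) := by
  obtain ⟨e1⟩ := nonempty_homology_equiv_Hc (mappingCone (f • 𝟙 K)) (n - 1) n (n + 1)
    (by omega) rfl
  obtain ⟨e2⟩ := nonempty_Hc_cone_equiv K f h (n - 1) n (n + 1) (n + 1 + 1) (by omega) rfl rfl
  obtain ⟨e3⟩ := nonempty_homology_equiv_Hc K n (n + 1) (n + 1 + 1) rfl rfl
  obtain ⟨e4⟩ := nonempty_homology_equiv_Hc K (n - 1) n (n + 1) (by omega) rfl
  exact ⟨e1.trans (e2.trans (LinearEquiv.prodCongr e3.symm e4.symm))⟩

end Homology

section Decomp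

variable (M : ModuleCat.{u} A) (xs : List A)

theorem exists_decomp : ∀ ys : List A, (∀ y ∈ ys, y ∈ Ideal.span {a | a ∈ xs}) →
    ∃ (ι : Type) (_ : Finite ι) (dg : ι → ℕ),
      (∀ j : ℕ, Nat.card {i // dg i = j} = ys.length.choose j) ∧
      ∀ m : ℤ, Nonempty ((CohIII.koszulCx M (xs ++ ys)).homology m ≃ₗ[A]
        (∀ i : ι, (CohIII.koszulCx M xs).homology (m + (dg i : ℤ)))) := by
  intro ys
  induction ys with
  | nil =>
    intro _
    refine ⟨PUnit, inferInstance, fun _ => 0, ?_, ?_⟩
    · intro j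
      rcases j with _ | j
      · simp
      · simp
    · intro m
      rw [List.append_nil]
      exact ⟨(homCongr _ (by simp)).trans
        (LinearEquiv.funUnique PUnit A ((CohIII.koszulCx M xs).homology (m + ((0 : ℕ) : ℤ)))).symm⟩
  | cons y ys ih =>
    intro hy
    obtain ⟨ι, hfin, dg, hcard, hiso⟩ := ih (fun z hz => hy z (List.mem_cons_of_mem _ hz))
    refine ⟨ι ⊕ ι, inferInstance, Sum.elim (fun i => dg i + 1) dg, ?_, ?_⟩
    · intro j
      rw [Nat.card_congr Equiv.subtypeSum, Nat.card_sum]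
      simp only [Sum.elim_inl, Sum.elim_inr, List.length_cons]
      rcases j with _ | j
      · rw [hcard 0]
        simp
      · rw [hcard (j + 1), Nat.choose_succ_succ]
        congr 1
        rw [← hcard j]
        exact Nat.card_congr (Equiv.subtypeEquivRight (fun i => by omega))
    · intro m
      obtain ⟨e0⟩ := Groth.Agent.H79.KoszulEulerPow.nonempty_iso_middle M y ys xs
      have hyI : y ∈ Ideal.span {a | a ∈ xs ++ ys} :=
        Ideal.span_mono (fun a ha => List.mem_append_left _ ha) (hy y List.mem_cons_self)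
      obtain ⟨H⟩ := Groth.Agent.H72.KoszulHomotopy.nonempty_homotopy M (xs ++ ys) y hyI
      obtain ⟨e1⟩ := nonempty_homology_cone_equiv (CohIII.koszulCx M (xs ++ ys)) y H m
      obtain ⟨e2⟩ := hiso (m + 1)
      obtain ⟨e3⟩ := hiso m
      have e00 := ((HomologicalComplex.homologyFunctor (ModuleCat.{u} A) (ComplexShape.up ℤ)
        m).mapIso e0).toLinearEquiv
      have e4 : (∀ i : ι, (CohIII.koszulCx M xs).homology (m + 1 + (dg i : ℤ))) ≃ₗ[A]
          (∀ i : ι, (CohIII.koszulCx M xs).homology (m + ((dg i + 1 : ℕ) : ℤ))) :=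
        LinearEquiv.piCongrRight (fun i => homCongr _ (by push_cast; ring))
      have e5 := (LinearEquiv.sumPiEquivProdPi A ι ι
        (fun st => (CohIII.koszulCx M xs).homology
          (m + ((Sum.elim (fun i => dg i + 1) dg st : ℕ) : ℤ)))).symm
      exact ⟨e00.trans (e1.trans ((LinearEquiv.prodCongr (e2.trans e4) e3).trans e5))⟩

theorem nonempty_equiv_pi (ys : List A) (hy : ∀ y ∈ ys, y ∈ Ideal.span {a | a ∈ xs}) (m : ℤ) :
    Nonempty ((CohIII.koszulCx M (xs ++ ys)).homology m ≃ₗ[A]
      ((j : Fin (ys.length + 1)) → Fin (ys.length.choose j) →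
        (CohIII.koszulCx M xs).homology (m + j))) := by
  obtain ⟨ι, hfin, dg, hcard, hiso⟩ := exists_decomp M xs ys hy
  obtain ⟨e⟩ := hiso m
  have hle : ∀ i, dg i < ys.length + 1 := by
    intro i
    by_contra hcon
    have h1 := hcard (dg i)
    rw [Nat.choose_eq_zero_of_lt (by omega)] at h1
    have : Nonempty {i' // dg i' = dg i} := ⟨⟨i, rfl⟩⟩
    exact (Nat.card_pos (α := {i' // dg i' = dg i})).ne' h1
  let dgF : ι → Fin (ys.length + 1) := fun i => ⟨dg i, hle i⟩
  have hc : ∀ j : Fin (ys.length + 1), Nat.card {i // dgF i = j} = ys.length.choose j := by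
    intro j
    rw [← hcard j]
    exact Nat.card_congr (Equiv.subtypeEquivRight (fun i => Fin.ext_iff))
  have E1 := LinearEquiv.piCongrLeft' A
    (fun i => (CohIII.koszulCx M xs).homology (m + (dg i : ℤ))) (Equiv.sigmaFiberEquiv dgF).symm
  have E2 : (∀ s : (Σ j : Fin (ys.length + 1), {i // dgF i = j}),
      (CohIII.koszulCx M xs).homology
        (m + (dg ((Equiv.sigmaFiberEquiv dgF).symm.symm s) : ℤ))) ≃ₗ[A]
      (∀ s : (Σ j : Fin (ys.length + 1), {i // dgF i = j}),
        (CohIII.koszulCx M xs).homology (m + ((s.1 : ℕ) : ℤ))) :=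
    LinearEquiv.piCongrRight (fun s => homCongr _ (by
      have h1 : (Equiv.sigmaFiberEquiv dgF).symm.symm s = s.2.1 := rfl
      have h2 : dg s.2.1 = (s.1 : ℕ) := congrArg Fin.val s.2.2
      rw [h1, h2]))
  have E3 := LinearEquiv.piCurry A
    (fun (j : Fin (ys.length + 1)) (_ : {i // dgF i = j}) =>
      (CohIII.koszulCx M xs).homology (m + ((j : ℕ) : ℤ)))
  have E4 : (∀ j : Fin (ys.length + 1), {i // dgF i = j} →
      (CohIII.koszulCx M xs).homology (m + ((j : ℕ) : ℤ))) ≃ₗ[A]
      (∀ j : Fin (ys.length + 1), Fin (ys.length.choose j) →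
        (CohIII.koszulCx M xs).homology (m + ((j : ℕ) : ℤ))) :=
    LinearEquiv.piCongrRight (fun j => LinearEquiv.funCongrLeft A _
      (((Finite.equivFin {i // dgF i = j}).trans (finCongr (hc j))).symm))
  exact ⟨e.trans (E1.trans (E2.trans (E3.trans E4)))⟩

end Decomp

end Groth.Agent.H79.KoszulSplit
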