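import Groth.Prelude.Def_DRing2
import Groth.Agent.H79.KoszulCone
import Mathlib.Algebra.Homology.Monoidal
import Groth.Agent.H12.KoszulReg
import Groth.Prelude.Def_Koszul

set_option autoImplicit false
set_option linter.unnecessarySimpa false
universe u
open CategoryTheory CochainComplex HomComplex Limits MonoidalCategory

namespace Groth.Agent.H79.KoszulTensor

variable {A : Type u} [CommRing A]

theorem sub_whiskerRight' {Y Z : ModuleCat.{u} A} (f g : Y ⟶ Z) (X : ModuleCat.{u} A) :
    (f - g) ▷ X = f ▷ X - g ▷ X := (tensorRight X).map_sub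

theorem neg_whiskerRight' {Y Z : ModuleCat.{u} A} (f : Y ⟶ Z) (X : ModuleCat.{u} A) :
    (-f) ▷ X = -(f ▷ X) := (tensorRight X).map_neg

section

variable {F G : CochainComplex (ModuleCat.{u} A) ℤ} (φ : F ⟶ G)
  (L : CochainComplex (ModuleCat.{u} A) ℤ)

/-- `cone φ ⊗ L` -/
noncomputable abbrev TT : CochainComplex (ModuleCat.{u} A) ℤ := HomologicalComplex.tensorObj (mappingCone φ) L

/-- `φ ⊗ L` -/
noncomputable abbrev phiL : HomologicalComplex.tensorObj F L ⟶ HomologicalComplex.tensorObj G L := HomologicalComplex.tensorHom φ (𝟙 L)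

/-- `cone (φ ⊗ L)` -/
noncomputable abbrev UU : CochainComplex (ModuleCat.{u} A) ℤ := mappingCone (phiL φ L)

/-- first part of the map `cone (φ ⊗ L) ⟶ cone φ ⊗ L` -/
noncomputable def psi1 (m n : ℤ) (h : n + 1 = m) : (HomologicalComplex.tensorObj F L).X m ⟶ (TT φ L).X n :=
  HomologicalComplex.mapBifunctorDesc (fun a q (haq : a + q = m) =>
    ((mappingCone.inl φ).v a (a - 1) (by omega) ▷ L.X q) ≫
      HomologicalComplex.ιTensorObj (mappingCone φ) L (a - 1) q n (by omega))

theorem ι_psi1 (m n : ℤ) (h : n + 1 = m) (a q : ℤ) (haq : a + q = m) (b : ℤ) (hb : b + 1 = a) :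
    HomologicalComplex.ιTensorObj F L a q m haq ≫ psi1 φ L m n h =
      ((mappingCone.inl φ).v a b (by omega) ▷ L.X q) ≫
        HomologicalComplex.ιTensorObj (mappingCone φ) L b q n (by omega) := by
  obtain rfl : b = a - 1 := by omega
  exact HomologicalComplex.ι_mapBifunctorDesc _ a q haq

/-- second part of the map `cone (φ ⊗ L) ⟶ cone φ ⊗ L` -/
noncomputable abbrev psi2 : HomologicalComplex.tensorObj G L ⟶ TT φ L := HomologicalComplex.tensorHom (mappingCone.inr φ) (𝟙 L)

theorem ι_psi2 (n : ℤ) (p q : ℤ) (hpq : p + q = n) :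
    HomologicalComplex.ιTensorObj G L p q n hpq ≫ (psi2 φ L).f n =
      ((mappingCone.inr φ).f p ▷ L.X q) ≫ HomologicalComplex.ιTensorObj (mappingCone φ) L p q n hpq := by
  have := HomologicalComplex.ι_mapBifunctorMap (mappingCone.inr φ) (𝟙 L) (curriedTensor (ModuleCat.{u} A))
    (ComplexShape.up ℤ) p q n hpq
  simpa using this


/-- the differential of a tensor product on a summand -/
theorem ι_d (X : CochainComplex (ModuleCat.{u} A) ℤ) (p q n m : ℤ) (hpq : p + q = n)
    (hnm : n + 1 = m) (p' q' : ℤ) (hp : p + 1 = p') (hq : q + 1 = q') :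
    HomologicalComplex.ιTensorObj X L p q n hpq ≫ (HomologicalComplex.tensorObj X L).d n m =
      (X.d p p' ▷ L.X q) ≫ HomologicalComplex.ιTensorObj X L p' q m (by omega) +
        (p.negOnePow : ℤˣ) • ((X.X p ◁ L.d q q') ≫
          HomologicalComplex.ιTensorObj X L p q' m (by omega)) := by
  subst hp hq
  rw [HomologicalComplex.mapBifunctor.d_eq, Preadditive.comp_add,
    HomologicalComplex.mapBifunctor.ι_D₁, HomologicalComplex.mapBifunctor.ι_D₂,
    HomologicalComplex.mapBifunctor.d₁_eq X L _ _ (show (ComplexShape.up ℤ).Rel p (p + 1) from rfl)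
      q m (by change p + 1 + q = m; omega),
    HomologicalComplex.mapBifunctor.d₂_eq X L _ _ p
      (show (ComplexShape.up ℤ).Rel q (q + 1) from rfl) m (by change p + (q + 1) = m; omega)]
  simp


theorem ι_phiL (m a q : ℤ) (haq : a + q = m) :
    HomologicalComplex.ιTensorObj F L a q m haq ≫ (phiL φ L).f m =
      (φ.f a ▷ L.X q) ≫ HomologicalComplex.ιTensorObj G L a q m haq := by
  have := HomologicalComplex.ι_mapBifunctorMap φ (𝟙 L) (curriedTensor (ModuleCat.{u} A))
    (ComplexShape.up ℤ) a q m haq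
  simpa using this

theorem psi1_d (n m m' : ℤ) (h : n + 1 = m) (h' : m + 1 = m') :
    psi1 φ L m n h ≫ (TT φ L).d n m =
      (phiL φ L).f m ≫ (psi2 φ L).f m -
        (HomologicalComplex.tensorObj F L).d m m' ≫ psi1 φ L m' m h' := by
  apply HomologicalComplex.mapBifunctor.hom_ext
  intro a q haq
  have haq' : a + q = m := haq
  rw [Preadditive.comp_sub, ← Category.assoc, ι_psi1 φ L m n h a q haq' (a - 1) (by omega),
    Category.assoc, ι_d L (mappingCone φ) (a - 1) q n m (by omega) h a (q + 1) (by omega) rfl,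
    ← Category.assoc (HomologicalComplex.ιTensorObj F L a q m haq'), ι_phiL, Category.assoc,
    ι_psi2 φ L m a q haq',
    ← Category.assoc (HomologicalComplex.ιTensorObj F L a q m haq'),
    ι_d L F a q m m' haq' h' (a + 1) (q + 1) rfl rfl, Preadditive.add_comp, Category.assoc,
    ι_psi1 φ L m' m h' (a + 1) q (by omega) a rfl, Linear.units_smul_comp, Category.assoc,
    ι_psi1 φ L m' m h' a (q + 1) (by omega) (a - 1) (by omega)]
  rw [Preadditive.comp_add, ← Category.assoc, ← comp_whiskerRight,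
    mappingCone.inl_v_d φ a (a - 1) (a + 1) (by omega) (by omega)]
  have hε : ((a - 1).negOnePow : ℤˣ) = -(a.negOnePow) := by
    have := Int.negOnePow_succ (a - 1)
    rw [show a - 1 + 1 = a by omega] at this
    rw [this, neg_neg]
  rw [hε, Linear.comp_units_smul, ← Category.assoc ((mappingCone.inl φ).v a (a - 1) _ ▷ L.X q),
    ← whisker_exchange]
  simp only [sub_whiskerRight', comp_whiskerRight, Preadditive.sub_comp,
    Category.assoc, Units.neg_smul]
  abel


/-- the comparison map `cone (φ ⊗ L) ⟶ cone φ ⊗ L` in degree `n` -/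
noncomputable def psiF (n : ℤ) : (UU φ L).X n ⟶ (TT φ L).X n :=
  (mappingCone.fst (phiL φ L)).1.v n (n + 1) rfl ≫ psi1 φ L (n + 1) n rfl +
    (mappingCone.snd (phiL φ L)).v n n (add_zero n) ≫ (psi2 φ L).f n

theorem inl_psiF (n m : ℤ) (h : n + 1 = m) :
    (mappingCone.inl (phiL φ L)).v m n (by omega) ≫ psiF φ L n = psi1 φ L m n h := by
  subst h
  simp [psiF]

theorem inr_psiF (n : ℤ) :
    (mappingCone.inr (phiL φ L)).f n ≫ psiF φ L n = (psi2 φ L).f n := by
  simp [psiF]

theorem psiF_comm (n : ℤ) :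
    psiF φ L n ≫ (TT φ L).d n (n + 1) = (UU φ L).d n (n + 1) ≫ psiF φ L (n + 1) := by
  apply mappingCone.ext_from (phiL φ L) (n + 1) n rfl
  · rw [← Category.assoc, inl_psiF φ L n (n + 1) rfl, psi1_d φ L n (n + 1) (n + 1 + 1) rfl rfl,
      ← Category.assoc, mappingCone.inl_v_d (phiL φ L) (n + 1) n (n + 1 + 1) (by omega) (by omega),
      Preadditive.sub_comp, Category.assoc, Category.assoc, inr_psiF,
      inl_psiF φ L (n + 1) (n + 1 + 1) rfl]
  · rw [← Category.assoc, inr_psiF, ← Category.assoc, mappingCone.inr_f_d, Category.assoc,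
      inr_psiF, (psi2 φ L).comm]

/-- the inverse comparison map in degree `n` -/
noncomputable def phiF (n : ℤ) : (TT φ L).X n ⟶ (UU φ L).X n :=
  HomologicalComplex.mapBifunctorDesc (fun p q (hpq : p + q = n) =>
    ((mappingCone.fst φ).1.v p (p + 1) rfl ▷ L.X q) ≫
        HomologicalComplex.ιTensorObj F L (p + 1) q (n + 1) (by omega) ≫
          (mappingCone.inl (phiL φ L)).v (n + 1) n (by omega) +
      ((mappingCone.snd φ).v p p (add_zero p) ▷ L.X q) ≫
        HomologicalComplex.ιTensorObj G L p q n hpq ≫ (mappingCone.inr (phiL φ L)).f n)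

theorem ι_phiF (n p q : ℤ) (hpq : p + q = n) (p₁ n₁ : ℤ) (hp : p + 1 = p₁) (hn : n + 1 = n₁) :
    HomologicalComplex.ιTensorObj (mappingCone φ) L p q n hpq ≫ phiF φ L n =
      ((mappingCone.fst φ).1.v p p₁ hp ▷ L.X q) ≫
          HomologicalComplex.ιTensorObj F L p₁ q n₁ (by omega) ≫
            (mappingCone.inl (phiL φ L)).v n₁ n (by omega) +
        ((mappingCone.snd φ).v p p (add_zero p) ▷ L.X q) ≫
          HomologicalComplex.ιTensorObj G L p q n hpq ≫ (mappingCone.inr (phiL φ L)).f n := by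
  subst hp hn
  exact HomologicalComplex.ι_mapBifunctorDesc _ p q hpq

theorem phiF_psiF (n : ℤ) : phiF φ L n ≫ psiF φ L n = 𝟙 _ := by
  apply HomologicalComplex.mapBifunctor.hom_ext
  intro p q hpq
  have hpq' : p + q = n := hpq
  rw [← Category.assoc, ι_phiF φ L n p q hpq' (p + 1) (n + 1) rfl rfl, Preadditive.add_comp,
    Category.assoc, Category.assoc, inl_psiF φ L n (n + 1) rfl, Category.assoc, Category.assoc,
    inr_psiF, ι_psi1 φ L (n + 1) n rfl (p + 1) q (by omega) p rfl, ι_psi2 φ L n p q hpq',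
    ← Category.assoc, ← comp_whiskerRight, ← Category.assoc, ← comp_whiskerRight,
    ← Preadditive.add_comp, ← MonoidalPreadditive.add_whiskerRight,
    mappingCone.id_X φ p (p + 1) rfl, id_whiskerRight]
  exact (Category.id_comp _).trans (Category.comp_id _).symm

theorem psiF_phiF (n : ℤ) : psiF φ L n ≫ phiF φ L n = 𝟙 _ := by
  apply mappingCone.ext_from (phiL φ L) (n + 1) n rfl
  · rw [← Category.assoc, inl_psiF φ L n (n + 1) rfl, Category.comp_id]
    apply HomologicalComplex.mapBifunctor.hom_ext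
    intro a q haq
    have haq' : a + q = n + 1 := haq
    rw [← Category.assoc, ι_psi1 φ L (n + 1) n rfl a q haq' (a - 1) (by omega), Category.assoc,
      ι_phiF φ L n (a - 1) q (by omega) a (n + 1) (by omega) rfl, Preadditive.comp_add,
      ← comp_whiskerRight_assoc, ← comp_whiskerRight_assoc,
      mappingCone.inl_v_fst_v φ a (a - 1) (by omega), mappingCone.inl_v_snd_v φ a (a - 1) (by omega),
      id_whiskerRight, MonoidalPreadditive.zero_whiskerRight, Category.id_comp, zero_comp,
      add_zero]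
  · rw [← Category.assoc, inr_psiF, Category.comp_id]
    apply HomologicalComplex.mapBifunctor.hom_ext
    intro p q hpq
    have hpq' : p + q = n := hpq
    rw [← Category.assoc, ι_psi2 φ L n p q hpq', Category.assoc,
      ι_phiF φ L n p q hpq' (p + 1) (n + 1) rfl rfl, Preadditive.comp_add,
      ← comp_whiskerRight_assoc, ← comp_whiskerRight_assoc,
      mappingCone.inr_f_fst_v φ p (p + 1) rfl, mappingCone.inr_f_snd_v φ p,
      id_whiskerRight, MonoidalPreadditive.zero_whiskerRight, Category.id_comp, zero_comp,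
      zero_add]

/-- tensoring commutes with mapping cones -/
noncomputable def coneTensorIso : UU φ L ≅ TT φ L :=
  HomologicalComplex.Hom.isoOfComponents
    (fun n => ⟨psiF φ L n, phiF φ L n, psiF_phiF φ L n, phiF_psiF φ L n⟩) (by
      intro i j hij
      have hij' : i + 1 = j := hij
      subst hij'
      exact psiF_comm φ L i)

end

theorem phiL_smul (f : A) (K L : CochainComplex (ModuleCat.{u} A) ℤ) :
    phiL (f • 𝟙 K) L = f • 𝟙 (HomologicalComplex.tensorObj K L) := by
  ext m : 1
  apply HomologicalComplex.mapBifunctor.hom_ext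
  intro a q haq
  have haq' : a + q = m := haq
  rw [ι_phiL (f • 𝟙 K) L m a q haq']
  simp only [HomologicalComplex.smul_f_apply, HomologicalComplex.id_f,
    MonoidalLinear.smul_whiskerRight, id_whiskerRight, Linear.smul_comp, Linear.comp_smul,
    Category.id_comp, Category.comp_id]

theorem cone_congr {F G : CochainComplex (ModuleCat.{u} A) ℤ} {φ ψ : F ⟶ G} (h : φ = ψ) :
    mappingCone φ = mappingCone ψ := by
  subst h
  rfl

/-- `cone (f • 𝟙 K) ⊗ L ≅ cone (f • 𝟙 (K ⊗ L))` -/
noncomputable def coneSmulTensorIso (f : A) (K L : CochainComplex (ModuleCat.{u} A) ℤ) :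
    HomologicalComplex.tensorObj (mappingCone (f • 𝟙 K)) L ≅
      mappingCone (f • 𝟙 (HomologicalComplex.tensorObj K L)) :=
  (coneTensorIso (f • 𝟙 K) L).symm ≪≫ eqToIso (cone_congr (phiL_smul f K L))

theorem koszul_tensor (f g : List A) :
    Nonempty ((MonoidalCategoryStruct.tensorObj (C := CochainComplex (ModuleCat.{u} A) ℤ)
      (Koszul.koszul A f) (Koszul.koszul A g)) ≅ Koszul.koszul A (f ++ g)) := by
  induction f with
  | nil => exact ⟨λ_ (Koszul.koszul A g)⟩
  | cons a fs ih =>
    obtain ⟨e⟩ := ih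
    exact ⟨coneSmulTensorIso a (Koszul.koszul A fs) (Koszul.koszul A g) ≪≫
      (Groth.Agent.H12.KoszulReg.coneFunctor a).mapIso e⟩

end Groth.Agent.H79.KoszulTensor
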