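import Groth.Agent.H79.KoszulTop

set_option autoImplicit false
universe u
open CategoryTheory CochainComplex HomComplex Limits Groth.Agent.H12.KoszulReg
open Groth.Agent.H79.KoszulCone

namespace Groth.Agent.H79.KoszulTopNat

variable {A : Type u} [CommRing A]

section TopIso

variable (M : ModuleCat.{u} A)

theorem sndL_bijective (l : List A) (f : A) :
    Function.Bijective (sndL (f • 𝟙 (CohIII.koszulCx M l)) 0) := by
  have hsub : Subsingleton ((CohIII.koszulCx M l).X 1) :=
    ModuleCat.subsingleton_of_isZero (Groth.Agent.H79.KoszulTop.isZero_X_of_pos M l 1 one_pos)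
  refine ⟨fun a b hab => ?_, fun p => ⟨inrL _ 0 p, sndL_inrL _ 0 p⟩⟩
  exact ext' _ 0 1 (by norm_num) a b (Subsingleton.elim _ _) hab

/-- explicit identification of the top term of the Koszul complex -/
noncomputable def topIso : ∀ l : List A, (CohIII.koszulCx M l).X 0 ≃ₗ[A] M
  | [] => (HomologicalComplex.singleObjXSelf (ComplexShape.up ℤ) 0 M).toLinearEquiv
  | f :: fs => (LinearEquiv.ofBijective (sndL (f • 𝟙 (CohIII.koszulCx M fs)) 0)
      (sndL_bijective M fs f)).trans (topIso fs)

theorem topIso_cons (f : A) (fs : List A) (k : (CohIII.koszulCx M (f :: fs)).X 0) :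
    topIso M (f :: fs) k = topIso M fs (sndL (f • 𝟙 (CohIII.koszulCx M fs)) 0 k) := rfl

theorem range_d_iff : ∀ (l : List A) (b : ℤ) (_ : b + 1 = 0) (k : (CohIII.koszulCx M l).X 0),
    (∃ k', ((CohIII.koszulCx M l).d b 0).hom k' = k) ↔
      topIso M l k ∈ Ideal.ofList l • (⊤ : Submodule A M) := by
  intro l
  induction l with
  | nil =>
    intro b hb k
    have hd : (CohIII.koszulCx M []).d b 0 = 0 := by
      apply (HomologicalComplex.isZero_single_obj_X (ComplexShape.up ℤ) 0 M
        b (by omega)).eq_of_src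
    rw [hd, Ideal.ofList_nil, Submodule.bot_smul]
    simp only [ModuleCat.hom_zero, LinearMap.zero_apply, exists_const, Submodule.mem_bot]
    constructor
    · intro h
      rw [← h, map_zero]
    · intro h
      exact ((topIso M []).map_eq_zero_iff.mp h).symm
  | cons f fs ih =>
    let K := CohIII.koszulCx M fs
    let φ : K ⟶ K := f • 𝟙 K
    have hinj : Function.Injective (sndL φ 0) := (sndL_bijective M fs f).1
    have key : ∀ (b : ℤ) (_ : b + 1 = 0) (k : (mappingCone φ).X 0),
        (∃ k', ((mappingCone φ).d b 0).hom k' = k) ↔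
          topIso M fs (sndL φ 0 k) ∈ Ideal.ofList (f :: fs) • (⊤ : Submodule A M) := by
      intro b hb k
      rw [Ideal.ofList_cons_smul, Submodule.mem_sup]
      constructor
      · rintro ⟨k', rfl⟩
        rw [sndL_d φ b 0 hb, map_add]
        refine ⟨_, ?_, _, (ih b hb _).mp ⟨sndL φ b k', rfl⟩, rfl⟩
        rw [smul_id_f_apply, map_smul]
        exact Submodule.smul_mem_pointwise_smul _ f ⊤ Submodule.mem_top
      · rintro ⟨y, hy, z, hz, hyz⟩
        obtain ⟨a, -, rfl⟩ := (Submodule.mem_smul_pointwise_iff_exists _ _ _).mp hy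
        obtain ⟨w, hw⟩ := (ih b hb ((topIso M fs).symm z)).mpr
          (by rwa [(topIso M fs).apply_symm_apply])
        refine ⟨inlL φ b 0 hb ((topIso M fs).symm a) + inrL φ b w, ?_⟩
        apply hinj
        have h1 : fstL φ b 0 hb (inlL φ b 0 hb ((topIso M fs).symm a) + inrL φ b w) =
            (topIso M fs).symm a := by
          rw [map_add, fstL_inlL, fstL_inrL, add_zero]
        have h2 : sndL φ b (inlL φ b 0 hb ((topIso M fs).symm a) + inrL φ b w) = w := by
          rw [map_add, sndL_inlL, sndL_inrL, zero_add]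
        rw [sndL_d φ b 0 hb, h1, h2, hw]
        apply (topIso M fs).injective
        rw [map_add, (topIso M fs).apply_symm_apply, ← hyz]
        congr 1
        rw [smul_id_f_apply, map_smul, (topIso M fs).apply_symm_apply]
    intro b hb k
    exact key b hb k

theorem topIso_trans_step (n m : ℕ) (h : n ≤ m) (f : A) (fs : List A)
    (ih : ∀ (z : (CohIII.koszulCx M (fs.map (· ^ n))).X 0),
      topIso M (fs.map (· ^ m)) (((CohIII.koszulTrans M n m h fs).f 0).hom z) =
        (fs.map (· ^ (m - n))).prod • topIso M (fs.map (· ^ n)) z)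
    (comm : (f ^ n • 𝟙 (CohIII.koszulCx M (fs.map (· ^ n)))) ≫
      (f ^ (m - n) • CohIII.koszulTrans M n m h fs) =
      CohIII.koszulTrans M n m h fs ≫ (f ^ m • 𝟙 (CohIII.koszulCx M (fs.map (· ^ m)))))
    (z : (mappingCone (f ^ n • 𝟙 (CohIII.koszulCx M (fs.map (· ^ n))))).X 0) :
    topIso M (fs.map (· ^ m)) (csnd (f ^ m • 𝟙 (CohIII.koszulCx M (fs.map (· ^ m)))) 0
      (((mappingCone.map (f ^ n • 𝟙 (CohIII.koszulCx M (fs.map (· ^ n))))
        (f ^ m • 𝟙 (CohIII.koszulCx M (fs.map (· ^ m)))) (CohIII.koszulTrans M n m h fs)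
        (f ^ (m - n) • CohIII.koszulTrans M n m h fs) comm).f 0).hom z)) =
      f ^ (m - n) • (fs.map (· ^ (m - n))).prod •
        topIso M (fs.map (· ^ n)) (csnd (f ^ n • 𝟙 (CohIII.koszulCx M (fs.map (· ^ n)))) 0 z) := by
  rw [csnd_map]
  change topIso M (fs.map (· ^ m)) (f ^ (m - n) • ((CohIII.koszulTrans M n m h fs).f 0).hom
    (csnd _ 0 z)) = _
  rw [map_smul, ih]

/-- compatibility of the top identification with the transition maps -/
theorem topIso_trans (n m : ℕ) (h : n ≤ m) : ∀ (l : List A)
    (z : (CohIII.koszulCx M (l.map (· ^ n))).X 0),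
    topIso M (l.map (· ^ m)) (((CohIII.koszulTrans M n m h l).f 0).hom z) =
      (l.map (· ^ (m - n))).prod • topIso M (l.map (· ^ n)) z := by
  intro l
  induction l with
  | nil =>
    intro z
    simp [CohIII.koszulTrans]
    rfl
  | cons f fs ih =>
    intro z
    have hp : (List.map (· ^ (m - n)) (f :: fs)).prod =
        f ^ (m - n) * (List.map (· ^ (m - n)) fs).prod := by
      simp [List.prod_cons]
    rw [hp, mul_smul]
    exact topIso_trans_step M n m h f fs ih _ z

end TopIso


section Pi

variable (K L : CochainComplex (ModuleCat.{u} A) ℤ) (q : ℤ)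

/-- the canonical surjection `K^q → H^q(K)` when the differential out of degree `q` vanishes -/
noncomputable def piTop (hK : K.d q (q + 1) = 0) : K.X q →ₗ[A] K.homology q :=
  (K.pOpcycles q ≫ (K.isoHomologyι q (q + 1) (by simp) hK).inv).hom

theorem piTop_surjective (hK : K.d q (q + 1) = 0) : Function.Surjective (piTop K q hK) := by
  have : Epi (K.pOpcycles q ≫ (K.isoHomologyι q (q + 1) (by simp) hK).inv) := inferInstance
  exact (ModuleCat.epi_iff_surjective _).mp this

theorem piTop_eq_zero_iff (hK : K.d q (q + 1) = 0) (x : K.X q) :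
    piTop K q hK x = 0 ↔ ∃ y, (K.d (q - 1) q).hom y = x := by
  have h1 : piTop K q hK x = 0 ↔ (K.pOpcycles q).hom x = 0 := by
    unfold piTop
    rw [ModuleCat.hom_comp, LinearMap.comp_apply]
    have hinj : Function.Injective (K.isoHomologyι q (q + 1) (by simp) hK).inv.hom :=
      (ModuleCat.mono_iff_injective _).mp inferInstance
    constructor
    · intro h
      exact hinj (h.trans (map_zero _).symm)
    · intro h
      rw [h, map_zero]
  rw [h1]
  have h2 := ShortComplex.moduleCat_pOpcycles_eq_zero_iff (S := K.sc q) x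
  have hp : (ComplexShape.up ℤ).prev q = q - 1 := by simp
  change (K.pOpcycles q).hom x = 0 ↔ x ∈ LinearMap.range (K.d ((ComplexShape.up ℤ).prev q) q).hom
    at h2
  rw [hp] at h2
  rw [h2]
  rfl

theorem piTop_naturality (φ : K ⟶ L) (hK : K.d q (q + 1) = 0) (hL : L.d q (q + 1) = 0)
    (x : K.X q) :
    piTop L q hL ((φ.f q).hom x) = (HomologicalComplex.homologyMap φ q).hom (piTop K q hK x) := by
  have h1 : (K.isoHomologyι q (q + 1) (by simp) hK).inv ≫ HomologicalComplex.homologyMap φ q =
      HomologicalComplex.opcyclesMap φ q ≫ (L.isoHomologyι q (q + 1) (by simp) hL).inv := by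
    rw [Iso.inv_comp_eq, ← Category.assoc, Iso.eq_comp_inv]
    exact HomologicalComplex.homologyι_naturality φ q
  have h2 : φ.f q ≫ L.pOpcycles q ≫ (L.isoHomologyι q (q + 1) (by simp) hL).inv =
      (K.pOpcycles q ≫ (K.isoHomologyι q (q + 1) (by simp) hK).inv) ≫
        HomologicalComplex.homologyMap φ q := by
    rw [Category.assoc, h1, ← Category.assoc, ← Category.assoc,
      HomologicalComplex.p_opcyclesMap]
  exact congr($(h2).hom x)

end Pi


section TopMap

variable (M : ModuleCat.{u} A)

theorem d_zero_one (l : List A) : (CohIII.koszulCx M l).d 0 (0 + 1) = 0 :=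
  (Groth.Agent.H79.KoszulTop.isZero_X_of_pos M l (0 + 1) (by norm_num)).eq_of_tgt _ _

/-- the canonical surjection `M → H^0(K(l; M))` -/
noncomputable def topMap (l : List A) : M →ₗ[A] (CohIII.koszulCx M l).homology 0 :=
  (piTop (CohIII.koszulCx M l) 0 (d_zero_one M l)) ∘ₗ (topIso M l).symm.toLinearMap

theorem topMap_surjective (l : List A) : Function.Surjective (topMap M l) := by
  unfold topMap
  rw [LinearMap.coe_comp]
  exact (piTop_surjective _ 0 _).comp (LinearEquiv.surjective _)

theorem topMap_eq_zero_iff (l : List A) (p : M) :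
    topMap M l p = 0 ↔ p ∈ Ideal.ofList l • (⊤ : Submodule A M) := by
  unfold topMap
  rw [LinearMap.comp_apply, piTop_eq_zero_iff, range_d_iff M l (0 - 1) (by norm_num)]
  simp

theorem topMap_trans (n m : ℕ) (h : n ≤ m) (l : List A) (p : M) :
    (HomologicalComplex.homologyMap (CohIII.koszulTrans M n m h l) 0).hom
      (topMap M (l.map (· ^ n)) p) =
      topMap M (l.map (· ^ m)) ((l.map (· ^ (m - n))).prod • p) := by
  unfold topMap
  rw [LinearMap.comp_apply, LinearMap.comp_apply,
    ← piTop_naturality _ _ 0 (CohIII.koszulTrans M n m h l) (d_zero_one M _) (d_zero_one M _)]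
  congr 1
  apply (topIso M (l.map (· ^ m))).injective
  rw [LinearEquiv.coe_coe, LinearEquiv.coe_coe, (topIso M (l.map (· ^ m))).apply_symm_apply,
    topIso_trans, (topIso M (l.map (· ^ n))).apply_symm_apply]

end TopMap

end Groth.Agent.H79.KoszulTopNat
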