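import Mathlib

/-!
# Non-zero-divisors that are linear in a private variable

`NZ x I` : `x` is a non-zero-divisor modulo the ideal `I` (membership form).
Main tools:
* `poly_linear_nz` : in `R₀[X]`, `C u * X + C r` is NZ modulo `I₀.map C` when `u` is NZ mod `I₀`.
* `NoVar v p` : the multivariate polynomial `p` does not involve the variable `v`.
* `linear_nz` : in `MvPolynomial σ A`, `u * X v + r` is NZ modulo `span G` when `G, u, r` do not
  involve `v` and `u` is NZ modulo `span G`.
* `swap_nz` : exchange lemma for regular sequences of length two over a base ideal.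
* `isRegular_three` : unfolding of `RingTheory.Sequence.IsRegular R [x₁, x₂, x₃]`.
-/

set_option autoImplicit false

namespace Groth.Agent.H79.LinVarReg

open MvPolynomial

section General

variable {R : Type*} [CommRing R]

/-- `x` is a non-zero-divisor modulo `I`. -/
def NZ (x : R) (I : Ideal R) : Prop := ∀ y, x * y ∈ I → y ∈ I

theorem NZ.neg {x : R} {I : Ideal R} (h : NZ x I) : NZ (-x) I := by
  intro y hy
  apply h y
  have : x * y = -(-x * y) := by ring
  rw [this]
  exact I.neg_mem hy

theorem NZ.of_isUnit {x : R} (I : Ideal R) (h : IsUnit x) : NZ x I := by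
  intro y hy
  obtain ⟨u, rfl⟩ := h
  have : y = (↑u⁻¹ : R) * ((u : R) * y) := by
    rw [← mul_assoc, Units.inv_mul, one_mul]
  rw [this]
  exact I.mul_mem_left _ hy

theorem NZ.one (I : Ideal R) : NZ (1 : R) I := NZ.of_isUnit I isUnit_one

theorem NZ.neg_one (I : Ideal R) : NZ (-1 : R) I := (NZ.one I).neg

/-- Exchange lemma: if `x` is NZ mod `span G` and `y` is NZ mod `span (insert x G)`, then `x` is NZ mod
`span (insert y G)`. -/
theorem swap_nz (G : Set R) (x y : R) (hx : NZ x (Ideal.span G))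
    (hy : NZ y (Ideal.span (insert x G))) : NZ x (Ideal.span (insert y G)) := by
  intro m hm
  rw [Ideal.mem_span_insert] at hm
  obtain ⟨a, z, hz, hxm⟩ := hm
  have h1 : y * a ∈ Ideal.span (insert x G) := by
    rw [Ideal.mem_span_insert]
    refine ⟨m, -z, (Ideal.span G).neg_mem hz, ?_⟩
    rw [mul_comm m x, hxm]; ring
  have h2 := hy a h1
  rw [Ideal.mem_span_insert] at h2
  obtain ⟨b, z', hz', hab⟩ := h2
  have h3 : x * (m - b * y) ∈ Ideal.span G := by
    have : x * (m - b * y) = z' * y + z := by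
      rw [mul_sub, hxm, hab]; ring
    rw [this]
    exact (Ideal.span G).add_mem ((Ideal.span G).mul_mem_right _ hz') hz
  have h4 := hx _ h3
  rw [Ideal.mem_span_insert]
  exact ⟨b, m - b * y, h4, by ring⟩

end General

section Poly

variable {R₀ : Type*} [CommRing R₀]

theorem poly_linear_nz (I₀ : Ideal R₀) (u r : R₀) (hu : NZ u I₀) :
    NZ (Polynomial.C u * Polynomial.X + Polynomial.C r) (I₀.map (Polynomial.C : R₀ →+* _)) := by
  intro f hf
  rw [Ideal.mem_map_C_iff] at hf ⊢
  have key : ∀ m n : ℕ, f.natDegree + 1 ≤ n + m → f.coeff n ∈ I₀ := by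
    intro m
    induction m with
    | zero =>
      intro n hn
      rw [Polynomial.coeff_eq_zero_of_natDegree_lt (by omega)]
      exact I₀.zero_mem
    | succ m ih =>
      intro n hn
      have h1 := hf (n + 1)
      have h2 : ((Polynomial.C u * Polynomial.X + Polynomial.C r) * f).coeff (n + 1) =
          u * f.coeff n + r * f.coeff (n + 1) := by
        rw [add_mul, Polynomial.coeff_add, mul_assoc, Polynomial.coeff_C_mul,
          Polynomial.coeff_X_mul, Polynomial.coeff_C_mul]
      rw [h2] at h1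
      have h3 : f.coeff (n + 1) ∈ I₀ := ih (n + 1) (by omega)
      have h4 : u * f.coeff n ∈ I₀ := by
        have : u * f.coeff n = (u * f.coeff n + r * f.coeff (n + 1)) - r * f.coeff (n + 1) := by
          ring
        rw [this]
        exact I₀.sub_mem h1 (I₀.mul_mem_left _ h3)
      exact hu _ h4
  intro n
  exact key (f.natDegree + 1) n (by omega)

end Poly

section Mv

variable {σ : Type*} [DecidableEq σ] {A : Type*} [CommRing A]

/-- The identification `A[σ] ≃ A[σ ∖ {v}][X]`, with `X v ↦ X`. -/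
noncomputable def θ (v : σ) :
    MvPolynomial σ A ≃ₐ[A] Polynomial (MvPolynomial {b // b ≠ v} A) :=
  (renameEquiv A (Equiv.optionSubtypeNe v).symm).trans (optionEquivLeft A {b // b ≠ v})

theorem θ_X_self (v : σ) : θ (A := A) v (X v) = Polynomial.X := by
  simp [θ, optionEquivLeft_X_none]

theorem θ_X_ne (v : σ) {w : σ} (h : w ≠ v) :
    θ (A := A) v (X w) = Polynomial.C (X ⟨w, h⟩) := by
  simp [θ, Equiv.optionSubtypeNe_symm_of_ne h, optionEquivLeft_X_some]

theorem θ_C (v : σ) (a : A) : θ (A := A) v (C a) = Polynomial.C (C a) := by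
  simp [θ, optionEquivLeft_C]

/-- `p` does not involve the variable `v`. -/
def NoVar (v : σ) (p : MvPolynomial σ A) : Prop :=
  ∃ p₀ : MvPolynomial {b // b ≠ v} A, θ v p = Polynomial.C p₀

theorem NoVar.X (v : σ) {w : σ} (h : w ≠ v) : NoVar (A := A) v (X w) := ⟨_, θ_X_ne v h⟩

theorem NoVar.C (v : σ) (a : A) : NoVar (A := A) v (C a) := ⟨_, θ_C v a⟩

theorem NoVar.zero (v : σ) : NoVar (A := A) v 0 := ⟨0, by simp⟩

theorem NoVar.one (v : σ) : NoVar (A := A) v 1 := ⟨1, by simp⟩

theorem NoVar.add {v : σ} {p q : MvPolynomial σ A} (hp : NoVar v p) (hq : NoVar v q) :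
    NoVar v (p + q) := by
  obtain ⟨p₀, hp⟩ := hp
  obtain ⟨q₀, hq⟩ := hq
  exact ⟨p₀ + q₀, by rw [map_add, hp, hq, Polynomial.C_add]⟩

theorem NoVar.mul {v : σ} {p q : MvPolynomial σ A} (hp : NoVar v p) (hq : NoVar v q) :
    NoVar v (p * q) := by
  obtain ⟨p₀, hp⟩ := hp
  obtain ⟨q₀, hq⟩ := hq
  exact ⟨p₀ * q₀, by rw [map_mul, hp, hq, Polynomial.C_mul]⟩

theorem NoVar.neg {v : σ} {p : MvPolynomial σ A} (hp : NoVar v p) : NoVar v (-p) := by
  obtain ⟨p₀, hp⟩ := hp
  exact ⟨-p₀, by rw [map_neg, hp, Polynomial.C_neg]⟩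

theorem NoVar.sub {v : σ} {p q : MvPolynomial σ A} (hp : NoVar v p) (hq : NoVar v q) :
    NoVar v (p - q) := by
  rw [sub_eq_add_neg]
  exact hp.add hq.neg

/-- `u * X v + r` is a non-zero-divisor modulo `span G` as soon as `G`, `u`, `r` do not involve `v`
and `u` is a non-zero-divisor modulo `span G`. -/
theorem linear_nz (v : σ) (G : Set (MvPolynomial σ A)) (hG : ∀ g ∈ G, NoVar v g)
    (u r : MvPolynomial σ A) (hu : NoVar v u) (hr : NoVar v r) (h : NZ u (Ideal.span G)) :
    NZ (u * X v + r) (Ideal.span G) := by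
  obtain ⟨u₀, hu₀⟩ := hu
  obtain ⟨r₀, hr₀⟩ := hr
  set e : MvPolynomial σ A ≃+* Polynomial (MvPolynomial {b // b ≠ v} A) :=
    (θ (A := A) v).toRingEquiv with he
  have heθ : ∀ p, e p = θ v p := fun _ => rfl
  let φ : MvPolynomial {b // b ≠ v} A →+* MvPolynomial σ A :=
    (e.symm : _ →+* _).comp Polynomial.C
  let I₀ : Ideal (MvPolynomial {b // b ≠ v} A) := (Ideal.span G).comap φ
  have h1 : ∀ y, y ∈ Ideal.span G → e y ∈ I₀.map (Polynomial.C : _ →+* _) := by
    intro y hy
    have hle : Ideal.span G ≤ (I₀.map (Polynomial.C : _ →+* _)).comap (e : _ →+* _) := by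
      rw [Ideal.span_le]
      intro g hg
      obtain ⟨g₀, hg₀⟩ := hG g hg
      rw [SetLike.mem_coe, Ideal.mem_comap]
      change e g ∈ _
      rw [heθ, hg₀]
      apply Ideal.mem_map_of_mem
      change φ g₀ ∈ Ideal.span G
      change e.symm (Polynomial.C g₀) ∈ _
      rw [← hg₀, ← heθ, RingEquiv.symm_apply_apply]
      exact Ideal.subset_span hg
    exact hle hy
  have h2 : ∀ z, z ∈ I₀.map (Polynomial.C : _ →+* _) → e.symm z ∈ Ideal.span G := by
    intro z hz
    have hle : I₀.map (Polynomial.C : _ →+* _) ≤ (Ideal.span G).comap (e.symm : _ →+* _) := by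
      rw [Ideal.map_le_iff_le_comap]
      intro y₀ hy₀
      exact hy₀
    exact hle hz
  have hu' : NZ u₀ I₀ := by
    intro y₀ hy₀
    change e.symm (Polynomial.C (u₀ * y₀)) ∈ Ideal.span G at hy₀
    change e.symm (Polynomial.C y₀) ∈ Ideal.span G
    apply h
    rw [Polynomial.C_mul, map_mul, ← hu₀, ← heθ, RingEquiv.symm_apply_apply] at hy₀
    exact hy₀
  intro y hy
  have h3 := h1 _ hy
  rw [map_mul, map_add, map_mul, heθ u, heθ (MvPolynomial.X v), heθ r, hu₀, hr₀, θ_X_self] at h3
  have h4 := poly_linear_nz I₀ u₀ r₀ hu' _ h3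
  have h5 := h2 _ h4
  rwa [RingEquiv.symm_apply_apply] at h5

end Mv

section Reg

variable {R : Type*} [CommRing R]

theorem isRegular_three (x₁ x₂ x₃ : R) (h1 : NZ x₁ (Ideal.span (∅ : Set R)))
    (h2 : NZ x₂ (Ideal.span {x₁})) (h3 : NZ x₃ (Ideal.span {x₂, x₁}))
    (hne : (1 : R) ∉ Ideal.span ({x₁, x₂, x₃} : Set R)) :
    RingTheory.Sequence.IsRegular R [x₁, x₂, x₃] := by
  have hsm : ∀ I : Ideal R, (I • (⊤ : Submodule R R) : Submodule R R) = I := by
    intro I
    exact Ideal.mul_top I
  constructor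
  · constructor
    intro i hi
    rw [hsm, isSMulRegular_quotient_iff_mem_of_smul_mem]
    have hi' : i < 3 := by simpa using hi
    interval_cases i
    · intro m hm
      simp only [List.take_zero, Ideal.ofList_nil, List.getElem_cons_zero, smul_eq_mul] at hm ⊢
      have := h1 m (by simpa using hm)
      simpa using this
    · intro m hm
      simp only [List.take_succ_cons, List.take_zero, Ideal.ofList_singleton,
        List.getElem_cons_succ, List.getElem_cons_zero, smul_eq_mul] at hm ⊢
      exact h2 m hm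
    · intro m hm
      have e : Ideal.ofList (List.take 2 [x₁, x₂, x₃]) = Ideal.span {x₂, x₁} := by
        simp only [List.take_succ_cons, List.take_zero, Ideal.ofList_cons, Ideal.ofList_nil,
          bot_le, sup_of_le_left]
        rw [sup_comm, ← Ideal.span_insert]
      rw [e] at hm ⊢
      simp only [List.getElem_cons_succ, List.getElem_cons_zero, smul_eq_mul] at hm
      exact h3 m hm
  · rw [hsm]
    intro htop
    apply hne
    have e : Ideal.ofList [x₁, x₂, x₃] = Ideal.span ({x₁, x₂, x₃} : Set R) := by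
      simp only [Ideal.ofList_cons, Ideal.ofList_nil, bot_le, sup_of_le_left]
      rw [Ideal.span_insert, Ideal.span_insert]
    rw [← e, ← htop]
    exact Submodule.mem_top

end Reg

end Groth.Agent.H79.LinVarReg
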