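import Mathlib

/-!
# Maximal points of closed subsets of Noetherian sober spaces

For a closed subset `Z` of a Noetherian, quasi-sober, T0 space, the points of `Z` that are maximal for
generization inside `Z` (the generic points of the irreducible components of `Z`) form a finite set,
every point of `Z` is a specialization of one of them, and a dense open subset contains all the
maximal points of the whole space.
-/

set_option autoImplicit false

namespace Groth.Agent.H79.MaxPts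

open TopologicalSpace

variable {α : Type*} [TopologicalSpace α]

/-- The points of `Z` which are maximal for generization inside `Z`. -/
def maxPts (Z : Set α) : Set α := {ξ | ξ ∈ Z ∧ ∀ η ∈ Z, η ⤳ ξ → η = ξ}

theorem maxPts_finite [NoetherianSpace α] [QuasiSober α] [T0Space α] {Z : Set α}
    (hZ : IsClosed Z) : (maxPts Z).Finite := by
  obtain ⟨𝒮, hfin, hcl, hirr, hU⟩ := NoetherianSpace.exists_finite_set_isClosed_irreducible hZ
  have hsub : maxPts Z ⊆ ⋃ t ∈ 𝒮, {ξ | IsGenericPoint ξ t} := by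
    rintro ξ ⟨hξZ, hmax⟩
    rw [hU] at hξZ
    obtain ⟨t, ht, hξt⟩ := hξZ
    obtain ⟨g, hg⟩ := QuasiSober.sober (hirr t ht) (hcl t ht)
    have hgt : g ∈ t := hg.mem
    have hgZ : g ∈ Z := by
      rw [hU]; exact ⟨t, ht, hgt⟩
    have hspec : g ⤳ ξ := hg.specializes hξt
    have := hmax g hgZ hspec
    subst this
    simp only [Set.mem_iUnion, Set.mem_ofPred_eq]
    exact ⟨t, ht, hg⟩
  refine (hfin.biUnion ?_).subset hsub
  intro t _
  apply Set.Subsingleton.finite
  intro a ha b hb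
  exact IsGenericPoint.eq ha hb

theorem exists_maxPt_specializes [NoetherianSpace α] [QuasiSober α] [T0Space α] {Z : Set α}
    (hZ : IsClosed Z) {y : α} (hy : y ∈ Z) : ∃ ξ ∈ maxPts Z, ξ ⤳ y := by
  obtain ⟨𝒮, hfin, hcl, hirr, hU⟩ := NoetherianSpace.exists_finite_set_isClosed_irreducible hZ
  have hy' := hy
  rw [hU] at hy'
  obtain ⟨t, ht, hyt⟩ := hy'
  obtain ⟨t₀, htt₀, hmax⟩ := hfin.exists_le_maximal ht
  obtain ⟨g, hg⟩ := QuasiSober.sober (hirr t₀ hmax.prop) (hcl t₀ hmax.prop)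
  have hgZ : g ∈ Z := by
    rw [hU]; exact ⟨t₀, hmax.prop, hg.mem⟩
  refine ⟨g, ⟨hgZ, ?_⟩, hg.specializes (htt₀ hyt)⟩
  intro η hηZ hηg
  rw [hU] at hηZ
  obtain ⟨t₁, ht₁, hηt₁⟩ := hηZ
  have h1 : t₀ ⊆ t₁ := by
    intro z hz
    have hgz : g ⤳ z := hg.specializes hz
    have hηz : η ⤳ z := hηg.trans hgz
    exact hηz.mem_closed (hcl t₁ ht₁) hηt₁
  have h2 : t₁ ⊆ t₀ := hmax.le_of_ge ht₁ h1
  have h3 : g ⤳ η := hg.specializes (h2 hηt₁)
  exact (hηg.antisymm h3).eq

theorem mem_of_dense_of_isOpen [NoetherianSpace α] [QuasiSober α] [T0Space α] {U : Set α}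
    (hUo : IsOpen U) (hUd : Dense U) {η : α} (hη : ∀ ζ, ζ ⤳ η → ζ = η) : η ∈ U := by
  obtain ⟨𝒮, hfin, hcl, hirr, hU⟩ :=
    NoetherianSpace.exists_finite_set_isClosed_irreducible (isClosed_univ (X := α))
  let C : Set α := ⋃ t ∈ {t ∈ 𝒮 | η ∉ t}, t
  have hCcl : IsClosed C := by
    apply Set.Finite.isClosed_biUnion (hfin.subset (fun t ht => ht.1))
    intro t ht
    exact hcl t ht.1
  have hηC : η ∈ Cᶜ := by
    intro h
    simp only [C, Set.mem_iUnion] at h
    obtain ⟨t, ht, hηt⟩ := h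
    exact ht.2 hηt
  obtain ⟨y, hyC, hyU⟩ := hUd.inter_open_nonempty Cᶜ hCcl.isOpen_compl ⟨η, hηC⟩
  have hyuniv : y ∈ (Set.univ : Set α) := Set.mem_univ y
  rw [hU] at hyuniv
  obtain ⟨t, ht, hyt⟩ := hyuniv
  have hηt : η ∈ t := by
    by_contra hcon
    apply hyC
    simp only [C, Set.mem_iUnion]
    exact ⟨t, ⟨ht, hcon⟩, hyt⟩
  obtain ⟨g, hg⟩ := QuasiSober.sober (hirr t ht) (hcl t ht)
  have hgη : g ⤳ η := hg.specializes hηt
  have := hη g hgη
  subst this
  have hgy : g ⤳ y := hg.specializes hyt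
  exact hgy.mem_open hUo hyU

end Groth.Agent.H79.MaxPts
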