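import Mathlib

namespace Groth.Agent.H79

open CategoryTheory CategoryTheory.Limits

universe u v

theorem modulecat_isPullback_of_elementwise {R : Type u} [Ring R] {X₁ X₂ X₃ X₄ : ModuleCat.{v} R}
    (t : X₁ ⟶ X₂) (l : X₁ ⟶ X₃) (r : X₂ ⟶ X₄) (b : X₃ ⟶ X₄)
    (w : t ≫ r = l ≫ b)
    (inj : ∀ x y : X₁, t x = t y → l x = l y → x = y)
    (surj : ∀ (x₂ : X₂) (x₃ : X₃), r x₂ = b x₃ → ∃ x₁ : X₁, t x₁ = x₂ ∧ l x₁ = x₃) :
    IsPullback t l r b := by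
  apply IsPullback.of_map (forget (ModuleCat.{v} R)) w
  rw [Types.isPullback_iff]
  refine ⟨?_, ?_, ?_⟩
  · rw [← Functor.map_comp, ← Functor.map_comp, w]
  · rintro x y ⟨h1, h2⟩
    exact inj x y h1 h2
  · intro x₂ x₃ h
    exact surj x₂ x₃ h

end Groth.Agent.H79
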