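import Mathlib

/-!
# A discrete Poincaré lemma on `ℕ × ℕ × ℕ`

Given transition weights `w e` and increments `M e` along the three coordinate directions satisfying
the compatibility (flatness + cocycle) identities on elementary squares, there is a function `pot`
with `pot 0 0 0 = 0` solving the three recursions
`pot (β + e) = w e β * pot β + M e β`.
-/

set_option autoImplicit false

namespace Groth.Agent.H79.MonoDual

variable {k : Type*} [CommRing k]

section pot

variable (w1 w2 w3 M1 M2 M3 : ℕ → ℕ → ℕ → k)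

/-- the potential along the third axis. -/
def pot3 : ℕ → k
  | 0 => 0
  | c + 1 => w3 0 0 c * pot3 c + M3 0 0 c

/-- the potential on the coordinate plane `a = 0`. -/
def pot2 : ℕ → ℕ → k
  | 0, c => pot3 w3 M3 c
  | b + 1, c => w2 0 b c * pot2 b c + M2 0 b c

/-- the potential: integrate first along the third axis, then the second, then the first. -/
def pot : ℕ → ℕ → ℕ → k
  | 0, b, c => pot2 w2 w3 M2 M3 b c
  | a + 1, b, c => w1 a b c * pot a b c + M1 a b c

/-- the potential vanishes at the origin. -/
theorem pot_zero : pot w1 w2 w3 M1 M2 M3 0 0 0 = 0 := rfl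

/-- the recursion in the first direction holds by definition. -/
theorem pot_succ1 (a b c : ℕ) :
    pot w1 w2 w3 M1 M2 M3 (a + 1) b c =
      w1 a b c * pot w1 w2 w3 M1 M2 M3 a b c + M1 a b c := rfl

/-- the recursion in the second direction, from the compatibility on `(1,2)`-squares. -/
theorem pot_succ2
    (h12 : ∀ a b c x, w2 (a + 1) b c * (w1 a b c * x + M1 a b c) + M2 (a + 1) b c =
      w1 a (b + 1) c * (w2 a b c * x + M2 a b c) + M1 a (b + 1) c) (a b c : ℕ) :
    pot w1 w2 w3 M1 M2 M3 a (b + 1) c =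
      w2 a b c * pot w1 w2 w3 M1 M2 M3 a b c + M2 a b c := by
  induction a with
  | zero => rfl
  | succ a ih =>
    rw [pot_succ1, ih, pot_succ1, ← h12]

/-- the recursion in the third direction, from the compatibility on `(1,3)`- and `(2,3)`-squares. -/
theorem pot_succ3
    (h13 : ∀ a b c x, w3 (a + 1) b c * (w1 a b c * x + M1 a b c) + M3 (a + 1) b c =
      w1 a b (c + 1) * (w3 a b c * x + M3 a b c) + M1 a b (c + 1))
    (h23 : ∀ a b c x, w3 a (b + 1) c * (w2 a b c * x + M2 a b c) + M3 a (b + 1) c =
      w2 a b (c + 1) * (w3 a b c * x + M3 a b c) + M2 a b (c + 1)) (a b c : ℕ) :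
    pot w1 w2 w3 M1 M2 M3 a b (c + 1) =
      w3 a b c * pot w1 w2 w3 M1 M2 M3 a b c + M3 a b c := by
  induction a with
  | zero =>
    change pot2 w2 w3 M2 M3 b (c + 1) = w3 0 b c * pot2 w2 w3 M2 M3 b c + M3 0 b c
    induction b with
    | zero => rfl
    | succ b ih =>
      change w2 0 b (c + 1) * pot2 w2 w3 M2 M3 b (c + 1) + M2 0 b (c + 1) =
        w3 0 (b + 1) c * (w2 0 b c * pot2 w2 w3 M2 M3 b c + M2 0 b c) + M3 0 (b + 1) c
      rw [ih, ← h23]
  | succ a ih =>
    rw [pot_succ1, ih, pot_succ1, ← h13]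

end pot

end Groth.Agent.H79.MonoDual
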