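import Mathlib

/-!
# Staircases in `ℤ³`: basic vocabulary

A staircase is a finite down-closed set `L` of nonnegative integer vectors in `ℤ³` (the exponents of the
standard monomials of a monomial ideal of finite colength in three variables).  We set up unit vectors,
the sets `Nset L δ = {b ∈ L | b + δ ∈ L}` and functions with prescribed finite support.
-/

set_option autoImplicit false
set_option linter.unusedSimpArgs false

namespace Groth.Agent.H79.MonoDual

/-- integer vectors with three entries. -/
abbrev Z3 : Type := Fin 3 → ℤ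

/-- the `i`-th unit vector. -/
def ev (i : Fin 3) : Z3 := Pi.single i 1

/-- the all-ones vector. -/
def one3 : Z3 := fun _ => 1

/-- all entries nonnegative. -/
def NN (v : Z3) : Prop := ∀ i, 0 ≤ v i

theorem ev_apply (i j : Fin 3) : ev i j = if j = i then 1 else 0 := by
  unfold ev
  rw [Pi.single_apply]

theorem ev_nonneg (i j : Fin 3) : 0 ≤ ev i j := by
  rw [ev_apply]; split_ifs <;> norm_num

theorem ev_self (i : Fin 3) : ev i i = 1 := by rw [ev_apply, if_pos rfl]

theorem ev_ne {i j : Fin 3} (h : j ≠ i) : ev i j = 0 := by rw [ev_apply, if_neg h]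

theorem add3 (a : Fin 3) : a + 1 + 2 = a := by revert a; decide
theorem add3' (a : Fin 3) : a + 2 + 1 = a := by revert a; decide
theorem add3'' (a : Fin 3) : a + 2 + 2 = a + 1 := by revert a; decide
theorem add11 (a : Fin 3) : a + 1 + 1 = a + 2 := by revert a; decide
theorem succ_ne (i : Fin 3) : i + 1 ≠ i := by revert i; decide
theorem succ2_ne (i : Fin 3) : i + 2 ≠ i := by revert i; decide
theorem succ2_ne_succ (i : Fin 3) : i + 2 ≠ i + 1 := by revert i; decide
theorem cover3 (i j : Fin 3) : j = i ∨ j = i + 1 ∨ j = i + 2 := by revert i j; decide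

/-- a sum over `Fin 3`, started at any index. -/
theorem sum3 {M : Type*} [AddCommMonoid M] (f : Fin 3 → M) (i : Fin 3) :
    ∑ j, f j = f i + f (i + 1) + f (i + 2) := by
  fin_cases i
  · simp [Fin.sum_univ_three]
  · simp only [Fin.sum_univ_three]
    change f 0 + f 1 + f 2 = f 1 + f 2 + f 0
    abel
  · simp only [Fin.sum_univ_three]
    change f 0 + f 1 + f 2 = f 2 + f 0 + f 1
    abel

/-- the all-ones vector is the sum of the three unit vectors, in cyclic order from any index. -/
theorem one3_eq (c : Fin 3) : one3 = ev c + ev (c + 1) + ev (c + 2) := by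
  funext j
  simp only [one3, Pi.add_apply, ev_apply]
  rcases cover3 c j with rfl | rfl | rfl
  · simp [(succ_ne _).symm, (succ2_ne _).symm]
  · simp [succ_ne, (succ2_ne_succ _).symm]
  · simp [succ2_ne, succ2_ne_succ]

/-- a vector identity used to transpose the curl matrix. -/
theorem vec_id1 (a : Fin 3) (x y γ : Z3) :
    y + (γ + one3 - ev a) - (x + (γ + ev (a + 1))) = -(x - y) + ev (a + 2) := by
  rw [one3_eq a]; abel

/-- a vector identity used to transpose the curl matrix. -/
theorem vec_id2 (a : Fin 3) (x y γ : Z3) :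
    y + (γ + one3 - ev a) - (x + (γ + ev (a + 2))) = -(x - y) + ev (a + 1) := by
  rw [one3_eq a]; abel

theorem NN_add {u v : Z3} (hu : NN u) (hv : NN v) : NN (u + v) := fun i =>
  add_nonneg (hu i) (hv i)

theorem NN_ev (i : Fin 3) : NN (ev i) := ev_nonneg i

theorem NN_add_ev {u : Z3} (hu : NN u) (i : Fin 3) : NN (u + ev i) := NN_add hu (NN_ev i)

/-- if `u + e_i` has a negative entry, so does `u`. -/
theorem not_NN_of_add_ev {u : Z3} {i : Fin 3} (h : ¬ NN (u + ev i)) : ¬ NN u :=
  fun hu => h (NN_add_ev hu i)

/-- a finite down-closed set of nonnegative vectors. -/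
structure IsStair (L : Finset Z3) : Prop where
  nn : ∀ v ∈ L, NN v
  down : ∀ v ∈ L, ∀ u : Z3, NN u → (∀ i, u i ≤ v i) → u ∈ L

namespace IsStair

variable {L : Finset Z3} (hL : IsStair L)

include hL

/-- removing a unit vector stays in the staircase, if the result is nonnegative. -/
theorem mem_of_add_ev {u : Z3} {i : Fin 3} (hu : NN u) (h : u + ev i ∈ L) : u ∈ L :=
  hL.down _ h u hu fun j => by
    have := ev_nonneg i j
    simp only [Pi.add_apply]; omega

/-- removing two unit vectors stays in the staircase, if the result is nonnegative. -/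
theorem mem_of_add_ev_ev {u : Z3} {i j : Fin 3} (hu : NN u) (h : u + ev i + ev j ∈ L) : u ∈ L :=
  hL.mem_of_add_ev hu (hL.mem_of_add_ev (NN_add_ev hu i) h)

/-- a vector with a negative entry is not in the staircase. -/
theorem not_mem_of_not_NN {u : Z3} (h : ¬ NN u) : u ∉ L := fun hu => h (hL.nn u hu)

end IsStair

/-- the pairs `(b, b + δ)` of points of the staircase, indexed by their first member. -/
def Nset (L : Finset Z3) (δ : Z3) : Finset Z3 := L.filter fun b => b + δ ∈ L

theorem mem_Nset {L : Finset Z3} {δ b : Z3} : b ∈ Nset L δ ↔ b ∈ L ∧ b + δ ∈ L := by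
  unfold Nset
  rw [Finset.mem_filter]

/-- translation by `δ` identifies `Nset L δ` with `Nset L (-δ)`. -/
def shiftEquiv (L : Finset Z3) (δ δ' : Z3) (h : δ' = -δ) : ↥(Nset L δ) ≃ ↥(Nset L δ') where
  toFun b := ⟨b.1 + δ, by
    have := mem_Nset.1 b.2
    rw [mem_Nset, h]
    refine ⟨this.2, ?_⟩
    rw [add_neg_cancel_right]; exact this.1⟩
  invFun b := ⟨b.1 + δ', by
    subst h
    have := mem_Nset.1 b.2
    rw [mem_Nset]
    refine ⟨this.2, ?_⟩
    rw [neg_add_cancel_right]; exact this.1⟩
  left_inv b := by
    subst h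
    apply Subtype.ext
    change b.1 + δ + -δ = b.1
    rw [add_neg_cancel_right]
  right_inv b := by
    subst h
    apply Subtype.ext
    change b.1 + -δ + δ = b.1
    rw [neg_add_cancel_right]

theorem card_Nset_neg (L : Finset Z3) (δ : Z3) : (Nset L (-δ)).card = (Nset L δ).card := by
  have := Fintype.card_congr (shiftEquiv L δ (-δ) rfl)
  rw [Fintype.card_coe, Fintype.card_coe] at this
  exact this.symm

section supp

variable {k : Type*} [Field k] {ι : Type*} [DecidableEq ι]

/-- the functions vanishing outside the finite set `s`. -/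
def suppSub (k : Type*) [Field k] {ι : Type*} (s : Finset ι) : Submodule k (ι → k) where
  carrier := {f | ∀ i, i ∉ s → f i = 0}
  zero_mem' := fun _ _ => rfl
  add_mem' := by
    intro f g hf hg i hi
    rw [Pi.add_apply, hf i hi, hg i hi, add_zero]
  smul_mem' := by
    intro a f hf i hi
    rw [Pi.smul_apply, hf i hi, smul_zero]

omit [DecidableEq ι] in
theorem mem_suppSub {s : Finset ι} {f : ι → k} : f ∈ suppSub k s ↔ ∀ i, i ∉ s → f i = 0 := Iff.rfl

/-- functions supported on `s` are the functions on `s`. -/
def suppEquiv (s : Finset ι) : ↥(suppSub k s) ≃ₗ[k] (↥s → k) where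
  toFun f := fun i => f.1 i.1
  map_add' _ _ := rfl
  map_smul' _ _ := rfl
  invFun g := ⟨fun i => if h : i ∈ s then g ⟨i, h⟩ else 0, fun i hi => dif_neg hi⟩
  left_inv f := by
    apply Subtype.ext
    funext i
    by_cases h : i ∈ s
    · exact dif_pos h
    · change (if h : i ∈ s then f.1 i else 0) = f.1 i
      rw [dif_neg h, f.2 i h]
  right_inv g := by
    funext i
    change (if h : i.1 ∈ s then g ⟨i.1, h⟩ else 0) = g i
    rw [dif_pos i.2]

instance (s : Finset ι) : FiniteDimensional k ↥(suppSub k s) :=
  LinearEquiv.finiteDimensional (suppEquiv (k := k) s).symm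

/-- the space of functions supported on `s` has dimension `#s`. -/
theorem finrank_suppSub (s : Finset ι) : Module.finrank k ↥(suppSub k s) = s.card := by
  rw [LinearEquiv.finrank_eq (suppEquiv (k := k) s), Module.finrank_fintype_fun_eq_card,
    Fintype.card_coe]

end supp

end Groth.Agent.H79.MonoDual
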