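import Mathlib
import Groth.Agent.H79.MonoDual2

/-!
# The curl matrix of a staircase and its transpose symmetry

For a staircase `L` and a degree `γ`, the 1-cochains are functions on the edges
`{(c, b) | b ∈ L, b + γ + e_c ∈ L}` and the 2-cochains are functions on the squares
`{(a, b) | b ∈ L, b + γ + 1 - e_a ∈ L}`.  The discrete curl is a matrix `curlM L γ`, and under the
translation bijections its transpose is the curl matrix of the dual degree `-γ - 1`.  Hence the
spaces of 1-cocycles in degrees `γ` and `-γ - 1` have dimensions differing by the number of edges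
minus the number of squares.
-/

set_option autoImplicit false

namespace Groth.Agent.H79.MonoDual

variable (k : Type*) [Field k] (L : Finset Z3) (γ : Z3)

/-- the edges of degree `γ`: pairs `(c, b)` with `b ∈ L` and `b + γ + e_c ∈ L`. -/
abbrev Idx1 : Type := Σ c : Fin 3, ↥(Nset L (γ + ev c))

/-- the squares of degree `γ`: pairs `(a, b)` with `b ∈ L` and `b + γ + 1 - e_a ∈ L`. -/
abbrev Idx2 : Type := Σ a : Fin 3, ↥(Nset L (γ + one3 - ev a))

/-- the number of edges of degree `γ`. -/
theorem card_Idx1 : Fintype.card (Idx1 L γ) = ∑ c : Fin 3, (Nset L (γ + ev c)).card := by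
  rw [Fintype.card_sigma]
  exact Finset.sum_congr rfl fun c _ => Fintype.card_coe _

/-- the number of squares of degree `γ`. -/
theorem card_Idx2 : Fintype.card (Idx2 L γ) = ∑ a : Fin 3, (Nset L (γ + one3 - ev a)).card := by
  rw [Fintype.card_sigma]
  exact Finset.sum_congr rfl fun c _ => Fintype.card_coe _

variable {L γ} in
/-- the one-step difference kernel: `th m b b' = [b' = b] - [b' = b + e_m]`. -/
def th (m : Fin 3) (b b' : Z3) : k := (if b' = b then 1 else 0) - (if b' = b + ev m then 1 else 0)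

/-- reflecting the difference of the two arguments through `e_m / 2` changes the sign of `th`. -/
theorem th_swap (m : Fin 3) (B B' b b' : Z3) (h : B' - B = -(b - b') + ev m) :
    th k m B B' = - th k m b' b := by
  have h1 : B' = B ↔ b = b' + ev m := by
    rw [← sub_eq_zero, h, neg_add_eq_zero, sub_eq_iff_eq_add']
  have h2 : B' = B + ev m ↔ b = b' := by
    rw [← sub_eq_iff_eq_add', h, add_eq_right, neg_eq_zero, sub_eq_zero]
  unfold th
  simp only [h1, h2]
  ring

/-- the discrete curl, as a matrix from edges to squares. -/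
def curlM : Matrix (Idx2 L γ) (Idx1 L γ) k := fun i j =>
  (if j.1 = i.1 + 2 then th k (i.1 + 1) i.2.1 j.2.1 else 0) -
    (if j.1 = i.1 + 1 then th k (i.1 + 2) i.2.1 j.2.1 else 0)

variable {L γ} in
/-- extension by zero of a 1-cochain to all of `ℤ³`. -/
def hat (μ : Idx1 L γ → k) (c : Fin 3) (b : Z3) : k :=
  if h : b ∈ Nset L (γ + ev c) then μ ⟨c, ⟨b, h⟩⟩ else 0

variable {k} in
theorem hat_of_mem {μ : Idx1 L γ → k} {c : Fin 3} {b : Z3} (h : b ∈ Nset L (γ + ev c)) :
    hat k μ c b = μ ⟨c, ⟨b, h⟩⟩ := dif_pos h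

variable {k} in
theorem hat_of_not_mem {μ : Idx1 L γ → k} {c : Fin 3} {b : Z3} (h : b ∉ Nset L (γ + ev c)) :
    hat k μ c b = 0 := dif_neg h

variable {k} in
/-- summing a function against the difference kernel. -/
theorem sum_th (s : Finset Z3) (f : ↥s → k) (m : Fin 3) (b : Z3) :
    ∑ b' : ↥s, th k m b b'.1 * f b' =
      (if h : b ∈ s then f ⟨b, h⟩ else 0) - (if h : b + ev m ∈ s then f ⟨b + ev m, h⟩ else 0) := by
  have key : ∀ x : Z3, ∑ b' : ↥s, (if b'.1 = x then (1 : k) else 0) * f b' =
      if h : x ∈ s then f ⟨x, h⟩ else 0 := by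
    intro x
    by_cases hx : x ∈ s
    · rw [dif_pos hx, Finset.sum_eq_single (⟨x, hx⟩ : ↥s)]
      · rw [if_pos rfl, one_mul]
      · intro b' _ hb'
        rw [if_neg (fun e => hb' (Subtype.ext e)), zero_mul]
      · intro h; exact absurd (Finset.mem_univ _) h
    · rw [dif_neg hx]
      refine Finset.sum_eq_zero fun b' _ => ?_
      rw [if_neg (fun e : b'.1 = x => hx (e ▸ b'.2)), zero_mul]
  unfold th
  simp only [sub_mul, Finset.sum_sub_distrib, key]

variable {k} in
/-- the curl of a 1-cochain, in terms of its extension by zero. -/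
theorem curlM_mulVec (μ : Idx1 L γ → k) (i : Idx2 L γ) :
    (curlM k L γ).mulVec μ i =
      (hat k μ (i.1 + 2) i.2.1 - hat k μ (i.1 + 2) (i.2.1 + ev (i.1 + 1))) -
        (hat k μ (i.1 + 1) i.2.1 - hat k μ (i.1 + 1) (i.2.1 + ev (i.1 + 2))) := by
  obtain ⟨a, b⟩ := i
  unfold Matrix.mulVec dotProduct
  rw [Fintype.sum_sigma]
  simp only [curlM, sub_mul, Finset.sum_sub_distrib, ite_mul, zero_mul]
  have e1 : ∀ (a' : Fin 3) (m : Fin 3),
      (∑ c : Fin 3, ∑ b' : ↥(Nset L (γ + ev c)),
        if c = a' then th k m b.1 b'.1 * μ ⟨c, b'⟩ else 0) =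
      hat k μ a' b.1 - hat k μ a' (b.1 + ev m) := by
    intro a' m
    rw [Finset.sum_eq_single a']
    · simp only [if_true]
      rw [sum_th (Nset L (γ + ev a')) (fun b' => μ ⟨a', b'⟩) m b.1]
      rfl
    · intro c _ hc
      simp only [if_neg hc, Finset.sum_const_zero]
    · intro h; exact absurd (Finset.mem_univ _) h
  rw [e1, e1]

/-- the space of 1-cocycles of degree `γ`. -/
def Z1 : Submodule k (Idx1 L γ → k) := LinearMap.ker (Matrix.mulVecLin (curlM k L γ))

variable {k L γ} in
theorem mem_Z1 {μ : Idx1 L γ → k} : μ ∈ Z1 k L γ ↔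
    ∀ (a : Fin 3) (b : Z3), b ∈ Nset L (γ + one3 - ev a) →
      (hat k μ (a + 2) b - hat k μ (a + 2) (b + ev (a + 1))) -
        (hat k μ (a + 1) b - hat k μ (a + 1) (b + ev (a + 2))) = 0 := by
  unfold Z1
  rw [LinearMap.mem_ker, Matrix.mulVecLin_apply]
  constructor
  · intro h a b hb
    have := congrFun h ⟨a, ⟨b, hb⟩⟩
    rw [curlM_mulVec] at this
    exact this
  · intro h
    funext i
    rw [curlM_mulVec]
    exact h i.1 i.2.1 i.2.2

/-- rank–nullity for the curl. -/
theorem finrank_Z1 :
    Module.finrank k ↥(Z1 k L γ) + (curlM k L γ).rank = Fintype.card (Idx1 L γ) := by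
  have h := LinearMap.finrank_range_add_finrank_ker (Matrix.mulVecLin (curlM k L γ))
  rw [Module.finrank_fintype_fun_eq_card] at h
  unfold Z1 Matrix.rank
  omega

/-- the dual degree. -/
def dual (γ : Z3) : Z3 := -γ - one3

theorem dual_dual (γ : Z3) : dual (dual γ) = γ := by
  unfold dual; abel

/-- edges of degree `γ` are squares of the dual degree. -/
def rho1 : Idx1 L γ ≃ Idx2 L (dual γ) :=
  Equiv.sigmaCongrRight fun c => shiftEquiv L (γ + ev c) (dual γ + one3 - ev c) (by
    unfold dual; abel)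

/-- squares of degree `γ` are edges of the dual degree. -/
def rho2 : Idx2 L γ ≃ Idx1 L (dual γ) :=
  Equiv.sigmaCongrRight fun a => shiftEquiv L (γ + one3 - ev a) (dual γ + ev a) (by
    unfold dual; abel)

/-- the curl matrix of the dual degree is the transpose of the curl matrix. -/
theorem curlM_dual (i : Idx2 L γ) (j : Idx1 L γ) :
    curlM k L (dual γ) (rho1 L γ j) (rho2 L γ i) = curlM k L γ i j := by
  obtain ⟨a, b0'⟩ := i
  obtain ⟨c, b0⟩ := j
  change (if a = c + 2 then th k (c + 1) (b0.1 + (γ + ev c)) (b0'.1 + (γ + one3 - ev a)) else 0) -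
      (if a = c + 1 then th k (c + 2) (b0.1 + (γ + ev c)) (b0'.1 + (γ + one3 - ev a)) else 0) =
    (if c = a + 2 then th k (a + 1) b0'.1 b0.1 else 0) -
      (if c = a + 1 then th k (a + 2) b0'.1 b0.1 else 0)
  rcases cover3 a c with rfl | rfl | rfl
  · rw [if_neg (succ2_ne _).symm, if_neg (succ_ne _).symm, if_neg (succ2_ne _).symm,
      if_neg (succ_ne _).symm]
  · have hne : a ≠ a + 1 + 1 := by rw [add11]; exact (succ2_ne a).symm
    rw [if_pos (add3 a).symm, if_neg hne, if_neg (succ2_ne_succ _).symm, if_pos rfl,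
      zero_sub, sub_zero, add11]
    exact th_swap k _ _ _ _ _ (vec_id1 a b0.1 b0'.1 γ)
  · have hne : a ≠ a + 2 + 2 := by rw [add3'']; exact (succ_ne a).symm
    rw [if_neg hne, if_pos (add3' a).symm, if_pos rfl, if_neg (succ2_ne_succ _),
      zero_sub, sub_zero, add3'', neg_eq_iff_eq_neg]
    exact th_swap k _ _ _ _ _ (vec_id2 a b0.1 b0'.1 γ)

/-- the curl matrices of dual degrees have the same rank. -/
theorem rank_curlM_dual : (curlM k L (dual γ)).rank = (curlM k L γ).rank := by
  have h : curlM k L (dual γ) = Matrix.reindex (rho1 L γ) (rho2 L γ) (curlM k L γ).transpose := by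
    ext i' j'
    rw [Matrix.reindex_apply, Matrix.submatrix_apply, Matrix.transpose_apply]
    rw [← curlM_dual k L γ ((rho2 L γ).symm j') ((rho1 L γ).symm i'), Equiv.apply_symm_apply,
      Equiv.apply_symm_apply]
  rw [h, Matrix.rank_reindex, Matrix.rank_transpose]

/-- the dimensions of the cocycle spaces in dual degrees differ by `#edges - #squares`. -/
theorem finrank_Z1_dual :
    Module.finrank k ↥(Z1 k L γ) + Fintype.card (Idx2 L γ) =
      Module.finrank k ↥(Z1 k L (dual γ)) + Fintype.card (Idx1 L γ) := by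
  have h1 := finrank_Z1 k L γ
  have h2 := finrank_Z1 k L (dual γ)
  rw [rank_curlM_dual] at h2
  have h3 : Fintype.card (Idx1 L (dual γ)) = Fintype.card (Idx2 L γ) :=
    (Fintype.card_congr (rho2 L γ)).symm
  omega

end Groth.Agent.H79.MonoDual
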