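import Mathlib
import Groth.Agent.H79.MonoDual3

/-!
# Potentials on a staircase

For a staircase `L` and a degree `γ`, `PP` is the space of functions `F` on `ℤ³` supported on
`{β ≥ 0 | β + γ ∈ L}` that are constant along the edges `β → β + e` with `β ∉ L` and `β + γ + e ∈ L`;
`WW` is its subspace of functions vanishing on `L` (the combinatorial model of the graded piece of
degree `γ` of `Hom(I, S/I)`).  `PP` is the direct sum of `WW` and the functions supported on
`Nset L γ`; the difference map `theta` sends `PP` into the 1-cocycles and is injective when `γ`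
has a negative entry.
-/

set_option autoImplicit false

namespace Groth.Agent.H79.MonoDual

variable (k : Type*) [Field k] (L : Finset Z3) (γ : Z3)

/-- the potentials of degree `γ`. -/
def PP : Submodule k (Z3 → k) where
  carrier := {F | (∀ β, ¬ (NN β ∧ β + γ ∈ L) → F β = 0) ∧
    (∀ β e, NN β → β ∉ L → β + γ + ev e ∈ L → F β = F (β + ev e))}
  zero_mem' := ⟨fun _ _ => rfl, fun _ _ _ _ _ => rfl⟩
  add_mem' := by
    rintro F G ⟨h1, h2⟩ ⟨h1', h2'⟩
    refine ⟨fun β h => ?_, fun β e hβ hL h => ?_⟩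
    · rw [Pi.add_apply, h1 β h, h1' β h, add_zero]
    · rw [Pi.add_apply, Pi.add_apply, h2 β e hβ hL h, h2' β e hβ hL h]
  smul_mem' := by
    rintro a F ⟨h1, h2⟩
    refine ⟨fun β h => ?_, fun β e hβ hL h => ?_⟩
    · rw [Pi.smul_apply, h1 β h, smul_zero]
    · rw [Pi.smul_apply, Pi.smul_apply, h2 β e hβ hL h]

/-- the potentials vanishing on `L`: the combinatorial graded piece of degree `γ`. -/
def WW : Submodule k (Z3 → k) where
  carrier := {F | (∀ β, ¬ (NN β ∧ β ∉ L ∧ β + γ ∈ L) → F β = 0) ∧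
    (∀ β e, NN β → β ∉ L → β + γ + ev e ∈ L → F β = F (β + ev e))}
  zero_mem' := ⟨fun _ _ => rfl, fun _ _ _ _ _ => rfl⟩
  add_mem' := by
    rintro F G ⟨h1, h2⟩ ⟨h1', h2'⟩
    refine ⟨fun β h => ?_, fun β e hβ hL h => ?_⟩
    · rw [Pi.add_apply, h1 β h, h1' β h, add_zero]
    · rw [Pi.add_apply, Pi.add_apply, h2 β e hβ hL h, h2' β e hβ hL h]
  smul_mem' := by
    rintro a F ⟨h1, h2⟩
    refine ⟨fun β h => ?_, fun β e hβ hL h => ?_⟩
    · rw [Pi.smul_apply, h1 β h, smul_zero]
    · rw [Pi.smul_apply, Pi.smul_apply, h2 β e hβ hL h]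

variable {k L γ}

theorem mem_PP {F : Z3 → k} : F ∈ PP k L γ ↔ (∀ β, ¬ (NN β ∧ β + γ ∈ L) → F β = 0) ∧
    (∀ β e, NN β → β ∉ L → β + γ + ev e ∈ L → F β = F (β + ev e)) := Iff.rfl

theorem mem_WW {F : Z3 → k} : F ∈ WW k L γ ↔ (∀ β, ¬ (NN β ∧ β ∉ L ∧ β + γ ∈ L) → F β = 0) ∧
    (∀ β e, NN β → β ∉ L → β + γ + ev e ∈ L → F β = F (β + ev e)) := Iff.rfl

theorem WW_le_PP : WW k L γ ≤ PP k L γ := by
  rintro F ⟨h1, h2⟩
  exact ⟨fun β h => h1 β fun h' => h ⟨h'.1, h'.2.2⟩, h2⟩

/-- the potentials are supported on a translate of `L`. -/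
theorem PP_le_suppSub : PP k L γ ≤ suppSub k (L.image fun v => v - γ) := by
  rintro F ⟨h1, _⟩ β hβ
  apply h1
  rintro ⟨_, h⟩
  apply hβ
  rw [Finset.mem_image]
  exact ⟨β + γ, h, by abel⟩

instance : FiniteDimensional k ↥(PP k L γ) :=
  Submodule.finiteDimensional_of_le PP_le_suppSub

instance : FiniteDimensional k ↥(WW k L γ) :=
  Submodule.finiteDimensional_of_le (WW_le_PP.trans PP_le_suppSub)

variable (hL : IsStair L)

include hL

/-- functions supported on `Nset L γ` are potentials. -/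
theorem suppSub_le_PP : suppSub k (Nset L γ) ≤ PP k L γ := by
  intro F hF
  refine ⟨fun β h => hF β fun hβ => ?_, fun β e hβ hβL h => ?_⟩
  · have := mem_Nset.1 hβ
    exact h ⟨hL.nn β this.1, this.2⟩
  · rw [hF β fun h' => hβL (mem_Nset.1 h').1, hF (β + ev e) fun h' => ?_]
    exact hβL (hL.mem_of_add_ev hβ (mem_Nset.1 h').1)

/-- the potentials are the direct sum of `WW` and the functions supported on `Nset L γ`. -/
theorem PP_eq_sup : PP k L γ = WW k L γ ⊔ suppSub k (Nset L γ) := by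
  classical
  apply le_antisymm
  · rintro F ⟨h1, h2⟩
    rw [Submodule.mem_sup]
    refine ⟨fun β => if β ∈ L then 0 else F β, ⟨fun β h => ?_, fun β e hβ hβL h => ?_⟩,
      fun β => if β ∈ L then F β else 0, fun β hβ => ?_, ?_⟩
    · by_cases hβL : β ∈ L
      · exact if_pos hβL
      · change (if β ∈ L then 0 else F β) = 0
        rw [if_neg hβL]
        exact h1 β fun h' => h ⟨h'.1, hβL, h'.2⟩
    · have h3 : β + ev e ∉ L := fun h' => hβL (hL.mem_of_add_ev hβ h')
      change (if β ∈ L then 0 else F β) = (if β + ev e ∈ L then 0 else F (β + ev e))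
      rw [if_neg hβL, if_neg h3]
      exact h2 β e hβ hβL h
    · by_cases hβL : β ∈ L
      · change (if β ∈ L then F β else 0) = 0
        rw [if_pos hβL]
        apply h1
        rintro ⟨_, h'⟩
        exact hβ (mem_Nset.2 ⟨hβL, h'⟩)
      · exact if_neg hβL
    · funext β
      change (if β ∈ L then 0 else F β) + (if β ∈ L then F β else 0) = F β
      split_ifs <;> simp
  · exact sup_le WW_le_PP (suppSub_le_PP hL)

omit hL in
theorem WW_inf_suppSub : WW k L γ ⊓ suppSub k (Nset L γ) = ⊥ := by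
  rw [eq_bot_iff]
  rintro F ⟨⟨h1, _⟩, h2⟩
  rw [Submodule.mem_bot]
  funext β
  by_cases hβ : β ∈ Nset L γ
  · exact h1 β fun h => h.2.1 (mem_Nset.1 hβ).1
  · exact h2 β hβ

/-- the dimension of the space of potentials. -/
theorem finrank_PP :
    Module.finrank k ↥(PP k L γ) = Module.finrank k ↥(WW k L γ) + (Nset L γ).card := by
  have h := Submodule.finrank_sup_add_finrank_inf_eq (WW k L γ) (suppSub k (Nset L γ))
  rw [WW_inf_suppSub, finrank_bot, add_zero, ← PP_eq_sup hL, finrank_suppSub] at h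
  exact h

end Groth.Agent.H79.MonoDual
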