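import Mathlib
import Groth.Agent.H79.MonoDual1
import Groth.Agent.H79.MonoDual4

/-!
# The difference map from potentials to 1-cocycles

`theta F (c, b) = F b - F (b + e_c)`.  On the space `PP` of potentials it takes values in the
1-cocycles `Z1`; it is injective when `γ` has a negative entry.
-/

set_option autoImplicit false

namespace Groth.Agent.H79.MonoDual

variable (k : Type*) [Field k] (L : Finset Z3) (γ : Z3)

/-- the difference map. -/
def theta : (Z3 → k) →ₗ[k] (Idx1 L γ → k) where
  toFun F := fun j => F j.2.1 - F (j.2.1 + ev j.1)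
  map_add' F G := by
    funext j
    simp only [Pi.add_apply]
    ring
  map_smul' a F := by
    funext j
    simp only [Pi.smul_apply, RingHom.id_apply, smul_eq_mul]
    ring

variable {k L γ}

theorem theta_apply (F : Z3 → k) (j : Idx1 L γ) :
    theta k L γ F j = F j.2.1 - F (j.2.1 + ev j.1) := rfl

theorem hat_theta (F : Z3 → k) (c : Fin 3) (b : Z3) :
    hat k (theta k L γ F) c b = if b ∈ Nset L (γ + ev c) then F b - F (b + ev c) else 0 := by
  unfold hat
  split_ifs with h
  · rfl
  · rfl

variable (hL : IsStair L)

include hL

/-- for a potential `F`, the extended difference at a point `b ∈ L` below a point of `L`. -/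
theorem hat_theta_low {F : Z3 → k} (hF : F ∈ PP k L γ) {b : Z3} (hb : b ∈ L) (e e' : Fin 3)
    (htop : b + γ + ev e + ev e' ∈ L) :
    hat k (theta k L γ F) e b = F b - F (b + ev e) := by
  rw [hat_theta]
  by_cases h : b + γ + ev e ∈ L
  · rw [if_pos (mem_Nset.2 ⟨hb, by rw [← add_assoc]; exact h⟩)]
  · have h' : b ∉ Nset L (γ + ev e) := fun h' => h (by rw [add_assoc]; exact (mem_Nset.1 h').2)
    rw [if_neg h']
    have hnn : ¬ NN (b + γ + ev e) := fun hn => h (hL.mem_of_add_ev hn htop)
    have hnn' : ¬ NN (b + γ) := not_NN_of_add_ev hnn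
    rw [hF.1 b fun h2 => hnn' (hL.nn _ h2.2), hF.1 (b + ev e) fun h2 => h (by
      have := h2.2
      rwa [add_right_comm] at this), sub_zero]

/-- for a potential `F`, the extended difference at the far side of a square. -/
theorem hat_theta_high {F : Z3 → k} (hF : F ∈ PP k L γ) {b : Z3} (hb : b ∈ L) (e e' : Fin 3)
    (htop : b + γ + ev e + ev e' ∈ L) :
    hat k (theta k L γ F) e (b + ev e') = F (b + ev e') - F (b + ev e' + ev e) := by
  rw [hat_theta]
  have e1 : b + ev e' + γ + ev e = b + γ + ev e + ev e' := by abel
  by_cases h : b + ev e' ∈ L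
  · rw [if_pos (mem_Nset.2 ⟨h, by rw [← add_assoc, e1]; exact htop⟩)]
  · have h' : b + ev e' ∉ Nset L (γ + ev e) := fun h' => h (mem_Nset.1 h').1
    rw [if_neg h']
    have := hF.2 (b + ev e') e (NN_add_ev (hL.nn b hb) e') h (by rw [e1]; exact htop)
    rw [this, sub_self]

/-- the differences of a potential form a 1-cocycle. -/
theorem theta_mem_Z1 {F : Z3 → k} (hF : F ∈ PP k L γ) : theta k L γ F ∈ Z1 k L γ := by
  rw [mem_Z1]
  intro a b hb
  obtain ⟨hb1, hb2⟩ := mem_Nset.1 hb
  have htop : b + γ + ev (a + 2) + ev (a + 1) ∈ L := by
    have : b + (γ + one3 - ev a) = b + γ + ev (a + 2) + ev (a + 1) := by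
      rw [one3_eq a]; abel
    rw [← this]; exact hb2
  have htop' : b + γ + ev (a + 1) + ev (a + 2) ∈ L := by
    rw [add_right_comm]; exact htop
  rw [hat_theta_low hL hF hb1 (a + 2) (a + 1) htop, hat_theta_high hL hF hb1 (a + 2) (a + 1) htop,
    hat_theta_low hL hF hb1 (a + 1) (a + 2) htop', hat_theta_high hL hF hb1 (a + 1) (a + 2) htop']
  have : b + ev (a + 2) + ev (a + 1) = b + ev (a + 1) + ev (a + 2) := by abel
  rw [this]
  ring

/-- a potential with vanishing differences is zero, when `γ` has a negative entry. -/
theorem theta_injOn (hγ : ¬ NN γ) {F : Z3 → k} (hF : F ∈ PP k L γ) (h0 : theta k L γ F = 0) :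
    F = 0 := by
  have key : ∀ (m : ℕ) (β : Z3), NN β → (∑ i, β i).toNat = m → F β = 0 := by
    intro m
    induction m with
    | zero =>
      intro β hβ hm
      apply hF.1
      rintro ⟨_, h⟩
      have hz : β = 0 := by
        funext i
        have h1 : ∑ j, β j ≤ 0 := by
          have := Int.toNat_eq_zero.1 hm
          exact this
        have h2 : β i ≤ ∑ j, β j :=
          Finset.single_le_sum (fun j _ => hβ j) (Finset.mem_univ i)
        have := hβ i
        change β i = 0
        omega
      rw [hz, zero_add] at h
      exact hγ (hL.nn γ h)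
    | succ m ih =>
      intro β hβ hm
      by_cases h : β + γ ∈ L
      · have hex : ∃ e, 1 ≤ β e := by
          by_contra hne
          have hle : ∀ i, β i ≤ 0 := fun i => by
            by_contra hc
            exact hne ⟨i, by omega⟩
          have : ∑ i, β i ≤ 0 := Finset.sum_nonpos fun i _ => hle i
          have : (∑ i, β i).toNat = 0 := Int.toNat_eq_zero.2 this
          omega
        obtain ⟨e, he⟩ := hex
        have hβ' : NN (β - ev e) := by
          intro i
          rw [Pi.sub_apply, ev_apply]
          split_ifs with hi
          · subst hi; omega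
          · have := hβ i; omega
        have hsum : (∑ i, (β - ev e) i).toNat = m := by
          have : ∑ i, (β - ev e) i = ∑ i, β i - 1 := by
            simp only [Pi.sub_apply, Finset.sum_sub_distrib]
            congr 1
            rw [Finset.sum_eq_single e]
            · exact ev_self e
            · intro j _ hj; exact ev_ne hj
            · intro h; exact absurd (Finset.mem_univ _) h
          rw [this]
          omega
        have h1 := ih (β - ev e) hβ' hsum
        have e1 : β - ev e + ev e = β := by abel
        by_cases hm' : β - ev e ∈ L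
        · have hN : β - ev e ∈ Nset L (γ + ev e) := by
            rw [mem_Nset]
            refine ⟨hm', ?_⟩
            have : β - ev e + (γ + ev e) = β + γ := by abel
            rw [this]; exact h
          have h2 := congrFun h0 ⟨e, ⟨β - ev e, hN⟩⟩
          rw [theta_apply] at h2
          change F (β - ev e) - F (β - ev e + ev e) = 0 at h2
          rw [e1, h1, zero_sub, neg_eq_zero] at h2
          exact h2
        · have h2 := hF.2 (β - ev e) e hβ' hm' (by
            have : β - ev e + γ + ev e = β + γ := by abel
            rw [this]; exact h)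
          rw [e1, h1] at h2
          exact h2.symm
      · exact hF.1 β fun h' => h h'.2
  funext β
  by_cases hβ : NN β
  · exact key _ β hβ rfl
  · exact hF.1 β fun h => hβ h.1

end Groth.Agent.H79.MonoDual
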