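import Mathlib
import Groth.Agent.H79.MonoDual5

/-!
# Every 1-cocycle of a staircase has a potential

The discrete Poincaré lemma `pot` produces, for every 1-cocycle `μ ∈ Z1`, a potential `F ∈ PP` with
`theta F = μ`.  Consequently `dim WW + #Nset L γ = dim Z1` when `γ` has a negative entry, and the
dimensions of `WW` in dual degrees are related by counting points, edges and squares.
-/

set_option autoImplicit false

namespace Groth.Agent.H79.MonoDual

/-- the vector with natural entries `a, b, c`. -/
def vec (a b c : ℕ) : Z3 := ![(a : ℤ), (b : ℤ), (c : ℤ)]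

theorem NN_vec (a b c : ℕ) : NN (vec a b c) := by
  intro i
  fin_cases i <;> simp [vec]

theorem vec_add_ev0 (a b c : ℕ) : vec a b c + ev 0 = vec (a + 1) b c := by
  funext i
  fin_cases i <;> simp [vec, ev]

theorem vec_add_ev1 (a b c : ℕ) : vec a b c + ev 1 = vec a (b + 1) c := by
  funext i
  fin_cases i <;> simp [vec, ev]

theorem vec_add_ev2 (a b c : ℕ) : vec a b c + ev 2 = vec a b (c + 1) := by
  funext i
  fin_cases i <;> simp [vec, ev]

theorem eq_vec {β : Z3} (h : NN β) : β = vec (β 0).toNat (β 1).toNat (β 2).toNat := by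
  have h0 := h 0
  have h1 := h 1
  have h2 := h 2
  funext i
  fin_cases i
  · change β 0 = (((β 0).toNat : ℕ) : ℤ)
    omega
  · change β 1 = (((β 1).toNat : ℕ) : ℤ)
    omega
  · change β 2 = (((β 2).toNat : ℕ) : ℤ)
    omega

theorem vec_apply0 (a b c : ℕ) : (vec a b c 0).toNat = a := by simp [vec]
theorem vec_apply1 (a b c : ℕ) : (vec a b c 1).toNat = b := by simp [vec]
theorem vec_apply2 (a b c : ℕ) : (vec a b c 2).toNat = c := by simp [vec]

theorem pair_cases (e e' : Fin 3) (h : e ≠ e') :
    ∃ a : Fin 3, (e = a + 1 ∧ e' = a + 2) ∨ (e = a + 2 ∧ e' = a + 1) := by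
  revert e e'; decide

variable {k : Type*} [Field k] {L : Finset Z3} {γ : Z3}

section cocycle

variable (hL : IsStair L) {μ : Idx1 L γ → k} (hμ : μ ∈ Z1 k L γ)

include hL hμ

/-- the cocycle condition on a square, for the extension by zero. -/
theorem cocycle_pair {e e' : Fin 3} (he : e ≠ e') {β : Z3} (hβ : NN β)
    (htop : β + γ + ev e + ev e' ∈ L) :
    hat k μ e β + hat k μ e' (β + ev e) = hat k μ e' β + hat k μ e (β + ev e') := by
  by_cases hβL : β ∈ L
  · obtain ⟨a, ⟨rfl, rfl⟩ | ⟨rfl, rfl⟩⟩ := pair_cases e e' he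
    · have hN : β ∈ Nset L (γ + one3 - ev a) := by
        rw [mem_Nset]
        refine ⟨hβL, ?_⟩
        have : β + (γ + one3 - ev a) = β + γ + ev (a + 1) + ev (a + 2) := by
          rw [one3_eq a]; abel
        rw [this]; exact htop
      have hZ := (mem_Z1.1 hμ) a β hN
      linear_combination (-1 : k) * hZ
    · have hN : β ∈ Nset L (γ + one3 - ev a) := by
        rw [mem_Nset]
        refine ⟨hβL, ?_⟩
        have : β + (γ + one3 - ev a) = β + γ + ev (a + 2) + ev (a + 1) := by
          rw [one3_eq a]; abel
        rw [this]; exact htop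
      have hZ := (mem_Z1.1 hμ) a β hN
      linear_combination hZ
  · have h1 : ∀ c, hat k μ c β = 0 := fun c =>
      hat_of_not_mem L γ fun h => hβL (mem_Nset.1 h).1
    have h2 : ∀ c c', hat k μ c (β + ev c') = 0 := fun c c' =>
      hat_of_not_mem L γ fun h => hβL (hL.mem_of_add_ev hβ (mem_Nset.1 h).1)
    rw [h1, h1, h2, h2]

end cocycle

section potential

variable (L γ) (μ : Idx1 L γ → k)

open Classical in
/-- the indicator of `{β | β + γ ∈ L}`. -/
noncomputable def chi (β : Z3) : k := if β + γ ∈ L then 1 else 0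

/-- the transition weights. -/
noncomputable def wZ (e : Fin 3) (β : Z3) : k := chi (k := k) L γ β * chi L γ (β + ev e)

variable {L γ}

/-- the increments. -/
noncomputable def MZ (e : Fin 3) (β : Z3) : k := - hat k μ e β

theorem chi_of_mem {β : Z3} (h : β + γ ∈ L) : chi (k := k) L γ β = 1 := if_pos h

theorem chi_of_not_mem {β : Z3} (h : β + γ ∉ L) : chi (k := k) L γ β = 0 := if_neg h

theorem chi_sq (β : Z3) : chi (k := k) L γ β * chi L γ β = chi L γ β := by
  unfold chi; split_ifs <;> simp

/-- the increment along an edge vanishes unless the far end is in the support. -/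
theorem chi_mul_MZ (e : Fin 3) (β : Z3) : chi L γ (β + ev e) * MZ μ e β = MZ μ e β := by
  by_cases h : β + ev e + γ ∈ L
  · rw [chi_of_mem h, one_mul]
  · have : hat k μ e β = 0 := hat_of_not_mem L γ fun h' => h (by
      have := (mem_Nset.1 h').2
      have e1 : β + ev e + γ = β + (γ + ev e) := by abel
      rw [e1]; exact this)
    unfold MZ
    rw [this, neg_zero, mul_zero]

variable (hL : IsStair L)

include hL in
/-- below a point of the support, the support is up-closed along edges. -/
theorem chi_mul_chi {e e' : Fin 3} {β : Z3} (htop : β + γ + ev e + ev e' ∈ L) :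
    chi (k := k) L γ (β + ev e) * chi L γ β = chi L γ β := by
  by_cases h : β + γ ∈ L
  · have h1 : β + ev e + γ ∈ L := by
      have e1 : β + ev e + γ = β + γ + ev e := by abel
      rw [e1]
      exact hL.mem_of_add_ev (NN_add_ev (hL.nn _ h) e) htop
    rw [chi_of_mem h1, one_mul]
  · rw [chi_of_not_mem h, mul_zero]

variable {μ} (hμ : μ ∈ Z1 k L γ)

include hL hμ in
/-- the compatibility of weights and increments on an elementary square. -/
theorem square_id {e e' : Fin 3} (he : e ≠ e') {β : Z3} (hβ : NN β) (x : k) :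
    wZ L γ e' (β + ev e) * (wZ L γ e β * x + MZ μ e β) + MZ μ e' (β + ev e) =
      wZ L γ e (β + ev e') * (wZ L γ e' β * x + MZ μ e' β) + MZ μ e (β + ev e') := by
  have e1 : β + ev e + ev e' + γ = β + γ + ev e + ev e' := by abel
  have e2 : β + ev e' + ev e + γ = β + γ + ev e + ev e' := by abel
  by_cases htop : β + γ + ev e + ev e' ∈ L
  · have htop' : β + γ + ev e' + ev e ∈ L := by rw [add_right_comm]; exact htop
    have c1 : chi (k := k) L γ (β + ev e + ev e') = 1 := chi_of_mem (by rw [e1]; exact htop)
    have c2 : chi (k := k) L γ (β + ev e' + ev e) = 1 := chi_of_mem (by rw [e2]; exact htop)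
    have key := cocycle_pair hL hμ he hβ htop
    unfold wZ
    rw [c1, c2, mul_one, mul_one]
    have a1 : chi L γ (β + ev e) * (chi L γ β * chi L γ (β + ev e) * x + MZ μ e β) =
        chi L γ β * x + MZ μ e β := by
      rw [mul_add, chi_mul_MZ]
      congr 1
      calc chi L γ (β + ev e) * (chi L γ β * chi L γ (β + ev e) * x)
          = (chi L γ (β + ev e) * chi L γ (β + ev e)) * chi L γ β * x := by ring
        _ = chi L γ β * x := by rw [chi_sq, chi_mul_chi hL htop]
    have a2 : chi L γ (β + ev e') * (chi L γ β * chi L γ (β + ev e') * x + MZ μ e' β) =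
        chi L γ β * x + MZ μ e' β := by
      rw [mul_add, chi_mul_MZ]
      congr 1
      calc chi L γ (β + ev e') * (chi L γ β * chi L γ (β + ev e') * x)
          = (chi L γ (β + ev e') * chi L γ (β + ev e')) * chi L γ β * x := by ring
        _ = chi L γ β * x := by rw [chi_sq, chi_mul_chi hL htop']
    rw [a1, a2]
    unfold MZ
    linear_combination (-1 : k) * key
  · have c1 : chi (k := k) L γ (β + ev e + ev e') = 0 := chi_of_not_mem (by rw [e1]; exact htop)
    have c2 : chi (k := k) L γ (β + ev e' + ev e) = 0 := chi_of_not_mem (by rw [e2]; exact htop)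
    have m1 : MZ μ e' (β + ev e) = 0 := by
      have : hat k μ e' (β + ev e) = 0 := hat_of_not_mem L γ fun h' => htop (by
        have := (mem_Nset.1 h').2
        have e3 : β + ev e + (γ + ev e') = β + γ + ev e + ev e' := by abel
        rw [← e3]; exact this)
      unfold MZ; rw [this, neg_zero]
    have m2 : MZ μ e (β + ev e') = 0 := by
      have : hat k μ e (β + ev e') = 0 := hat_of_not_mem L γ fun h' => htop (by
        have := (mem_Nset.1 h').2
        have e3 : β + ev e' + (γ + ev e) = β + γ + ev e + ev e' := by abel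
        rw [← e3]; exact this)
      unfold MZ; rw [this, neg_zero]
    unfold wZ
    rw [c1, c2, m1, m2]
    ring

variable (L γ μ) in
/-- the potential on natural coordinates. -/
noncomputable def F0 : ℕ → ℕ → ℕ → k :=
  pot (fun a b c => wZ L γ 0 (vec a b c)) (fun a b c => wZ L γ 1 (vec a b c))
    (fun a b c => wZ L γ 2 (vec a b c)) (fun a b c => MZ μ 0 (vec a b c))
    (fun a b c => MZ μ 1 (vec a b c)) (fun a b c => MZ μ 2 (vec a b c))

variable (L γ μ) in
open Classical in
/-- the potential of the cocycle `μ`. -/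
noncomputable def Fp (β : Z3) : k :=
  if NN β then F0 L γ μ (β 0).toNat (β 1).toNat (β 2).toNat else 0

omit hL in
theorem Fp_vec (a b c : ℕ) : Fp L γ μ (vec a b c) = F0 L γ μ a b c := by
  unfold Fp
  rw [if_pos (NN_vec a b c), vec_apply0, vec_apply1, vec_apply2]

omit hL in
theorem Fp_zero : Fp L γ μ 0 = 0 := by
  have : (0 : Z3) = vec 0 0 0 := by
    funext i; fin_cases i <;> simp [vec]
  rw [this, Fp_vec]
  exact pot_zero _ _ _ _ _ _

include hL hμ in
/-- the recursion satisfied by the potential. -/
theorem Fp_step (e : Fin 3) {β : Z3} (hβ : NN β) :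
    Fp L γ μ (β + ev e) = wZ L γ e β * Fp L γ μ β + MZ μ e β := by
  rw [eq_vec hβ]
  generalize (β 0).toNat = a
  generalize (β 1).toNat = b
  generalize (β 2).toNat = c
  fin_cases e
  · change Fp L γ μ (vec a b c + ev 0) = wZ L γ 0 (vec a b c) * Fp L γ μ (vec a b c) + _
    rw [vec_add_ev0, Fp_vec, Fp_vec]
    rfl
  · change Fp L γ μ (vec a b c + ev 1) = wZ L γ 1 (vec a b c) * Fp L γ μ (vec a b c) + _
    rw [vec_add_ev1, Fp_vec, Fp_vec]
    refine pot_succ2 _ _ _ _ _ _ ?_ a b c
    intro a b c x
    have := square_id hL hμ (e := 0) (e' := 1) (by decide) (NN_vec a b c) x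
    rw [vec_add_ev0, vec_add_ev1] at this
    exact this
  · change Fp L γ μ (vec a b c + ev 2) = wZ L γ 2 (vec a b c) * Fp L γ μ (vec a b c) + _
    rw [vec_add_ev2, Fp_vec, Fp_vec]
    refine pot_succ3 _ _ _ _ _ _ ?_ ?_ a b c
    · intro a b c x
      have := square_id hL hμ (e := 0) (e' := 2) (by decide) (NN_vec a b c) x
      rw [vec_add_ev0, vec_add_ev2] at this
      exact this
    · intro a b c x
      have := square_id hL hμ (e := 1) (e' := 2) (by decide) (NN_vec a b c) x
      rw [vec_add_ev1, vec_add_ev2] at this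
      exact this

include hL hμ in
/-- the potential is supported on `{β ≥ 0 | β + γ ∈ L}`. -/
theorem Fp_supp {β : Z3} (h : ¬ (NN β ∧ β + γ ∈ L)) : Fp L γ μ β = 0 := by
  by_cases hβ : NN β
  · have hβL : β + γ ∉ L := fun h' => h ⟨hβ, h'⟩
    by_cases hz : β = 0
    · rw [hz]; exact Fp_zero
    · have hex : ∃ e, 1 ≤ β e := by
        by_contra hne
        apply hz
        funext i
        have h1 := hβ i
        have h2 : ¬ 1 ≤ β i := fun h' => hne ⟨i, h'⟩
        change β i = 0
        omega
      obtain ⟨e, he⟩ := hex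
      have hβ' : NN (β - ev e) := by
        intro i
        rw [Pi.sub_apply, ev_apply]
        split_ifs with hi
        · subst hi; omega
        · have := hβ i; omega
      have e1 : β - ev e + ev e = β := by abel
      have := Fp_step hL hμ e hβ'
      rw [e1] at this
      rw [this]
      have c0 : chi (k := k) L γ β = 0 := chi_of_not_mem hβL
      have m0 : MZ μ e (β - ev e) = 0 := by
        have : hat k μ e (β - ev e) = 0 := hat_of_not_mem L γ fun h' => hβL (by
          have := (mem_Nset.1 h').2
          have e3 : β - ev e + (γ + ev e) = β + γ := by abel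
          rw [← e3]; exact this)
        unfold MZ; rw [this, neg_zero]
      unfold wZ
      rw [e1, c0, m0]
      ring
  · unfold Fp
    rw [if_neg hβ]

include hL hμ in
/-- the differences of the potential recover the cocycle. -/
theorem Fp_diff (e : Fin 3) {β : Z3} (hβ : NN β) (h : β + γ + ev e ∈ L) :
    Fp L γ μ β - Fp L γ μ (β + ev e) = hat k μ e β := by
  rw [Fp_step hL hμ e hβ]
  have c1 : chi (k := k) L γ (β + ev e) = 1 := chi_of_mem (by
    have e1 : β + ev e + γ = β + γ + ev e := by abel
    rw [e1]; exact h)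
  have c2 : chi (k := k) L γ β * Fp L γ μ β = Fp L γ μ β := by
    by_cases h' : β + γ ∈ L
    · rw [chi_of_mem h', one_mul]
    · rw [Fp_supp hL hμ fun h2 => h' h2.2, mul_zero]
  unfold wZ MZ
  rw [c1, mul_one, c2]
  ring

include hL hμ in
/-- the potential is an element of `PP`. -/
theorem Fp_mem : Fp L γ μ ∈ PP k L γ := by
  refine ⟨fun β h => Fp_supp hL hμ h, fun β e hβ hβL h => ?_⟩
  have := Fp_diff hL hμ e hβ h
  rw [hat_of_not_mem L γ fun h' => hβL (mem_Nset.1 h').1] at this
  exact sub_eq_zero.1 this

include hL hμ in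
/-- the differences of the potential are the cocycle. -/
theorem theta_Fp : theta k L γ (Fp L γ μ) = μ := by
  funext j
  obtain ⟨c, b⟩ := j
  rw [theta_apply]
  have hb := mem_Nset.1 b.2
  have := Fp_diff hL hμ c (hL.nn _ hb.1) (by rw [add_assoc]; exact hb.2)
  change Fp L γ μ b.1 - Fp L γ μ (b.1 + ev c) = _
  rw [this, hat_of_mem L γ b.2]

end potential

section main

variable (hL : IsStair L)

include hL

/-- potentials are the same as 1-cocycles, when `γ` has a negative entry. -/
theorem finrank_PP_eq_Z1 (hγ : ¬ NN γ) :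
    Module.finrank k ↥(PP k L γ) = Module.finrank k ↥(Z1 k L γ) := by
  let Θ : ↥(PP k L γ) →ₗ[k] ↥(Z1 k L γ) :=
    LinearMap.codRestrict (Z1 k L γ) ((theta k L γ).domRestrict (PP k L γ))
      fun F => theta_mem_Z1 hL F.2
  have hinj : Function.Injective Θ := by
    rw [← LinearMap.ker_eq_bot, eq_bot_iff]
    intro F hF
    rw [LinearMap.mem_ker] at hF
    have h0 : theta k L γ F.1 = 0 := congrArg Subtype.val hF
    rw [Submodule.mem_bot]
    exact Subtype.ext (theta_injOn hL hγ F.2 h0)
  have hsurj : Function.Surjective Θ := by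
    intro μ
    exact ⟨⟨Fp L γ μ.1, Fp_mem hL μ.2⟩, Subtype.ext (theta_Fp hL μ.2)⟩
  exact LinearEquiv.finrank_eq (LinearEquiv.ofBijective Θ ⟨hinj, hsurj⟩)

/-- the dimension of the combinatorial graded piece, in terms of the 1-cocycles. -/
theorem finrank_WW_add (hγ : ¬ NN γ) :
    Module.finrank k ↥(WW k L γ) + (Nset L γ).card = Module.finrank k ↥(Z1 k L γ) := by
  rw [← finrank_PP_eq_Z1 hL hγ, finrank_PP hL]

/-- the duality formula: the dimensions of the combinatorial graded pieces in dual degrees differ
by an alternating count of points, edges, squares and cubes. -/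
theorem finrank_WW_dual (hγ : ¬ NN γ) (hγ' : ¬ NN (dual γ)) :
    Module.finrank k ↥(WW k L γ) + (Nset L γ).card +
        ∑ a : Fin 3, (Nset L (γ + one3 - ev a)).card =
      Module.finrank k ↥(WW k L (dual γ)) + (Nset L (γ + one3)).card +
        ∑ c : Fin 3, (Nset L (γ + ev c)).card := by
  have h1 := finrank_WW_add (k := k) hL hγ
  have h2 := finrank_WW_add (k := k) hL hγ'
  have h3 := finrank_Z1_dual k L γ
  rw [card_Idx1, card_Idx2] at h3
  have h4 : (Nset L (dual γ)).card = (Nset L (γ + one3)).card := by
    have : dual γ = -(γ + one3) := by unfold dual; abel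
    rw [this, card_Nset_neg]
  omega

end main

end Groth.Agent.H79.MonoDual
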