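import Mathlib
import Groth.Agent.H10.TP15
import Groth.Agent.H79.MonoDual6

/-!
# The staircase of a monomial ideal in three variables

For a monomial ideal `I ⊆ k[x,y,z]` of finite colength, `Lset hI` is the staircase of exponents of
standard monomials, and the graded piece `tPiece I γ` of `Hom(I, S/I)` has the dimension of the
combinatorial piece `WW k (Lset hI) γ`.
-/

set_option autoImplicit false

namespace Groth.Agent.H79.MonoDual

open MvPolynomial W4c1hilbpn Groth.Agent.H10.TP

variable {k : Type*} [Field k] {I : Ideal (MvPolynomial (Fin 3) k)}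

/-- an exponent vector as an integer vector. -/
def cst (β : Fin 3 →₀ ℕ) : Z3 := fun i => (β i : ℤ)

theorem cst_apply (β : Fin 3 →₀ ℕ) (i : Fin 3) : cst β i = (β i : ℤ) := rfl

theorem NN_cst (β : Fin 3 →₀ ℕ) : NN (cst β) := fun _ => Int.natCast_nonneg _

theorem tn_cst (β : Fin 3 →₀ ℕ) : tn (cst β) = β := by
  ext i
  rw [tn_apply, cst_apply, Int.toNat_natCast]

theorem cst_tn {v : Z3} (h : NN v) : cst (tn v) = v := by
  funext i
  rw [cst_apply]
  exact cast_tn h i

theorem pt_eq (γ : Z3) (β : Fin 3 →₀ ℕ) : pt γ β = cst β + γ := rfl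

theorem ev_eq (i : Fin 3) : Groth.Agent.H10.TP.ev i = ev i := rfl

variable (hI : IsMonomial I) [Module.Finite k (MvPolynomial (Fin 3) k ⧸ I)]

/-- the staircase of standard exponents, inside `ℤ³`. -/
noncomputable def Lset : Finset Z3 := (stdF hI).image cst

theorem mem_Lset {v : Z3} : v ∈ Lset hI ↔ NN v ∧ tn v ∉ exps I := by
  unfold Lset
  rw [Finset.mem_image]
  constructor
  · rintro ⟨δ, hδ, rfl⟩
    rw [tn_cst]
    exact ⟨NN_cst δ, (mem_stdF hI).1 hδ⟩
  · rintro ⟨h1, h2⟩
    exact ⟨tn v, (mem_stdF hI).2 h2, cst_tn h1⟩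

theorem cst_mem_Lset {β : Fin 3 →₀ ℕ} : cst β ∈ Lset hI ↔ β ∉ exps I := by
  rw [mem_Lset, tn_cst]
  exact ⟨fun h => h.2, fun h => ⟨NN_cst β, h⟩⟩

theorem isStair_Lset : IsStair (Lset hI) where
  nn v hv := ((mem_Lset hI).1 hv).1
  down v hv u hu hle := by
    rw [mem_Lset] at hv ⊢
    refine ⟨hu, fun h => hv.2 (exps_of_le I h ?_)⟩
    intro i
    rw [tn_apply, tn_apply]
    exact Int.toNat_le_toNat (hle i)

/-- the number of standard exponents is the colength. -/
theorem card_Lset : (Lset hI).card = (stdF hI).card := by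
  unfold Lset
  apply Finset.card_image_of_injective
  intro β β' h
  ext i
  have := congrFun h i
  rw [cst_apply, cst_apply] at this
  exact_mod_cast this

/-- membership in the region of degree `γ`, in terms of the staircase. -/
theorem mem_region {γ v : Z3} :
    v ∈ region I γ ↔ (NN (v - γ) ∧ v - γ ∉ Lset hI) ∧ (NN v → v ∈ Lset hI) := by
  rw [mem_region_iff]
  constructor
  · rintro ⟨⟨β, hβ, rfl⟩, h2⟩
    have e : pt γ β - γ = cst β := by rw [pt_eq]; abel
    rw [e]
    refine ⟨⟨NN_cst β, fun h => (cst_mem_Lset hI).1 h hβ⟩, fun hn => ?_⟩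
    rw [mem_Lset]
    exact ⟨hn, fun h => h2 ⟨hn, h⟩⟩
  · rintro ⟨⟨h1, h2⟩, h3⟩
    refine ⟨⟨tn (v - γ), ?_, ?_⟩, ?_⟩
    · by_contra h
      exact h2 ((mem_Lset hI).2 ⟨h1, h⟩)
    · rw [pt_eq, cst_tn h1]; abel
    · rintro ⟨hn, h⟩
      exact ((mem_Lset hI).1 (h3 hn)).2 h

/-- the comparison map from the combinatorial piece to the admissible coefficient functions. -/
noncomputable def toW (γ : Z3) : ↥(WW k (Lset hI) γ) →ₗ[k] ↥(W I γ) where
  toFun c := ⟨fun v => c.1 (v.1 - γ), by
    have hL := isStair_Lset hI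
    obtain ⟨c, h1, h2⟩ := c
    refine ⟨fun v w i hw => ?_, fun v hv => ?_⟩
    · have hv := (mem_region hI).1 v.2
      have hw' := (mem_region hI).1 w.2
      have e1 : w.1 - γ = v.1 - γ + ev i := by rw [hw, ev_eq]; abel
      change c (v.1 - γ) = c (w.1 - γ)
      rw [e1]
      by_cases hwL : w.1 ∈ Lset hI
      · apply h2 _ i hv.1.1 hv.1.2
        have : v.1 - γ + γ + ev i = w.1 := by rw [hw, ev_eq]; abel
        rw [this]; exact hwL
      · have hwn : ¬ NN w.1 := fun hn => hwL (hw'.2 hn)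
        have hvn : ¬ NN v.1 := by
          rw [hw, ev_eq] at hwn
          exact not_NN_of_add_ev hwn
        rw [h1 (v.1 - γ) fun h => hvn (hL.nn _ (by
          have := h.2.2
          rwa [sub_add_cancel] at this)),
          h1 (v.1 - γ + ev i) fun h => hwL (by
          have := h.2.2
          rw [← e1, sub_add_cancel] at this
          exact this)]
    · change c (v.1 - γ) = 0
      apply h1
      rintro ⟨_, _, h⟩
      rw [sub_add_cancel] at h
      exact hv (hL.nn _ h)⟩
  map_add' _ _ := rfl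
  map_smul' _ _ := rfl

theorem toW_apply (γ : Z3) (c : ↥(WW k (Lset hI) γ)) (v : ↥(region I γ)) :
    (toW hI γ c).1 v = c.1 (v.1 - γ) := rfl

theorem toW_injective (γ : Z3) : Function.Injective (toW hI γ) := by
  rw [← LinearMap.ker_eq_bot, eq_bot_iff]
  intro c hc
  rw [LinearMap.mem_ker] at hc
  rw [Submodule.mem_bot]
  apply Subtype.ext
  funext β
  by_cases h : NN β ∧ β ∉ Lset hI ∧ β + γ ∈ Lset hI
  · have hreg : β + γ ∈ region I γ := by
      rw [mem_region hI, add_sub_cancel_right]
      exact ⟨⟨h.1, h.2.1⟩, fun _ => h.2.2⟩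
    have := congrFun (congrArg Subtype.val hc) ⟨β + γ, hreg⟩
    rw [toW_apply] at this
    change c.1 (β + γ - γ) = 0 at this
    rw [add_sub_cancel_right] at this
    exact this
  · exact c.2.1 β h

open Classical in
theorem toW_surjective (γ : Z3) : Function.Surjective (toW hI γ) := by
  have hL := isStair_Lset hI
  rintro ⟨c, hc1, hc2⟩
  let c' : Z3 → k := fun β => if h : β + γ ∈ region I γ then c ⟨β + γ, h⟩ else 0
  have hc' : c' ∈ WW k (Lset hI) γ := by
    refine ⟨fun β h => ?_, fun β e hβ hβL htop => ?_⟩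
    · by_cases hreg : β + γ ∈ region I γ
      · change (if h : β + γ ∈ region I γ then c ⟨β + γ, h⟩ else 0) = 0
        rw [dif_pos hreg]
        apply hc2
        intro hn
        have h3 := (mem_region hI).1 hreg
        rw [add_sub_cancel_right] at h3
        exact h ⟨h3.1.1, h3.1.2, h3.2 hn⟩
      · exact dif_neg hreg
    · have hβ' : NN (β + ev e) := NN_add_ev hβ e
      have hβL' : β + ev e ∉ Lset hI := fun h => hβL (hL.mem_of_add_ev hβ h)
      have e1 : β + ev e + γ = β + γ + ev e := by abel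
      have r1 : β + γ ∈ region I γ := by
        rw [mem_region hI, add_sub_cancel_right]
        exact ⟨⟨hβ, hβL⟩, fun hn => hL.mem_of_add_ev hn htop⟩
      have r2 : β + ev e + γ ∈ region I γ := by
        rw [mem_region hI, add_sub_cancel_right]
        exact ⟨⟨hβ', hβL'⟩, fun _ => by rw [e1]; exact htop⟩
      change (if h : β + γ ∈ region I γ then c ⟨β + γ, h⟩ else 0) =
        (if h : β + ev e + γ ∈ region I γ then c ⟨β + ev e + γ, h⟩ else 0)
      rw [dif_pos r1, dif_pos r2]
      exact hc1 ⟨β + γ, r1⟩ ⟨β + ev e + γ, r2⟩ e e1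
  refine ⟨⟨c', hc'⟩, ?_⟩
  apply Subtype.ext
  funext v
  rw [toW_apply]
  have e : v.1 - γ + γ = v.1 := sub_add_cancel _ _
  have hreg : v.1 - γ + γ ∈ region I γ := by rw [e]; exact v.2
  change (if h : v.1 - γ + γ ∈ region I γ then c ⟨v.1 - γ + γ, h⟩ else 0) = c v
  rw [dif_pos hreg]
  congr 1
  exact Subtype.ext e

/-- the graded piece of degree `γ` has the dimension of the combinatorial piece. -/
theorem finrank_tPiece_eq (γ : Z3) :
    Module.finrank k ↥(tPiece I γ) = Module.finrank k ↥(WW k (Lset hI) γ) := by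
  rw [LinearEquiv.finrank_eq (pieceW γ hI)]
  exact (LinearEquiv.finrank_eq
    (LinearEquiv.ofBijective (toW hI γ) ⟨toW_injective hI γ, toW_surjective hI γ⟩)).symm

end Groth.Agent.H79.MonoDual
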