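import Mathlib
import Groth.Agent.H10.TP16
import Groth.Agent.H79.MonoDual7

/-!
# Telescoping sums of the alternating point count of a staircase

`nZ L δ` is the number of pairs `(b, b + δ)` of points of the staircase `L`, and `Dn n γ` is the
alternating sum of `n` over the eight vertices `γ + ε` of the unit cube based at `γ`.  Sums of
`Dn (nZ L)` over boxes of degrees telescope.
-/

set_option autoImplicit false

namespace Groth.Agent.H79.MonoDual

open Groth.Agent.H10.TP (V V_self V_succ V_succ2 eq_V)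

section tele

/-- telescoping over an integer interval. -/
theorem sum_Ico_tele {M : Type*} [AddCommGroup M] (f : ℤ → M) {a b : ℤ} (h : a ≤ b) :
    ∑ x ∈ Finset.Ico a b, (f x - f (x + 1)) = f a - f b := by
  induction b, h using Int.leInduction with
  | base => rw [Finset.Ico_self, Finset.sum_empty, sub_self]
  | succ b hb ih =>
    rw [← Finset.insert_Ico_right_eq_Ico_add_one hb, Finset.sum_insert (by simp), ih]
    abel

/-- the first difference. -/
def D1 (f : ℤ → ℤ) (x : ℤ) : ℤ := f x - f (x + 1)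

/-- the mixed second difference. -/
def D2 (H : ℤ → ℤ → ℤ) (x y : ℤ) : ℤ := H x y - H (x + 1) y - H x (y + 1) + H (x + 1) (y + 1)

/-- the mixed third difference. -/
def D3 (G : ℤ → ℤ → ℤ → ℤ) (x y z : ℤ) : ℤ :=
  G x y z - G (x + 1) y z - G x (y + 1) z - G x y (z + 1) + G x (y + 1) (z + 1) +
    G (x + 1) y (z + 1) + G (x + 1) (y + 1) z - G (x + 1) (y + 1) (z + 1)

theorem sum_D1 (f : ℤ → ℤ) {a a' : ℤ} (h : a ≤ a') :
    ∑ x ∈ Finset.Ico a a', D1 f x = f a - f a' := sum_Ico_tele f h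

theorem sum_D2 (H : ℤ → ℤ → ℤ) (x : ℤ) {b b' : ℤ} (h : b ≤ b') :
    ∑ y ∈ Finset.Ico b b', D2 H x y = D1 (fun x => H x b) x - D1 (fun x => H x b') x := by
  have := sum_Ico_tele (fun y => D1 (fun x => H x y) x) h
  rw [← this]
  refine Finset.sum_congr rfl fun y _ => ?_
  unfold D2 D1
  ring

theorem sum_D3 (G : ℤ → ℤ → ℤ → ℤ) (x y : ℤ) {c c' : ℤ} (h : c ≤ c') :
    ∑ z ∈ Finset.Ico c c', D3 G x y z =
      D2 (fun x y => G x y c) x y - D2 (fun x y => G x y c') x y := by
  have := sum_Ico_tele (fun z => D2 (fun x y => G x y z) x y) h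
  rw [← this]
  refine Finset.sum_congr rfl fun z _ => ?_
  unfold D3 D2
  ring

end tele

section count

variable (L : Finset Z3)

/-- the number of pairs `(b, b + δ)` of points of `L`, as an integer. -/
def nZ (δ : Z3) : ℤ := ((Nset L δ).card : ℤ)

theorem nZ_zero : nZ L 0 = (L.card : ℤ) := by
  unfold nZ Nset
  congr 2
  apply Finset.filter_true_of_mem
  intro b hb
  rw [add_zero]; exact hb

/-- a common bound for the entries of the points of `L`. -/
theorem exists_bound : ∃ R : ℕ, ∀ v ∈ L, ∀ j, v j ≤ (R : ℤ) := by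
  obtain ⟨M, hM⟩ := Finset.exists_le L
  refine ⟨(max (M 0) (max (M 1) (M 2))).toNat, fun v hv j => ?_⟩
  have h1 : v j ≤ M j := hM v hv j
  have h2 : M j ≤ max (M 0) (max (M 1) (M 2)) := by
    fin_cases j
    · exact le_max_left _ _
    · exact le_trans (le_max_left _ _) (le_max_right _ _)
    · exact le_trans (le_max_right _ _) (le_max_right _ _)
  have h3 := Int.self_le_toNat (max (M 0) (max (M 1) (M 2)))
  omega

variable {L}

/-- the point count vanishes on large differences. -/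
theorem nZ_eq_zero (hL : IsStair L) {R : ℕ} (hR : ∀ v ∈ L, ∀ j, v j ≤ (R : ℤ)) {δ : Z3} {j : Fin 3}
    (h : δ j < -(R : ℤ) ∨ (R : ℤ) < δ j) : nZ L δ = 0 := by
  unfold nZ
  rw [Nat.cast_eq_zero, Finset.card_eq_zero, Finset.eq_empty_iff_forall_notMem]
  intro b hb
  obtain ⟨hb1, hb2⟩ := mem_Nset.1 hb
  have h1 := hR b hb1 j
  have h2 := hL.nn b hb1 j
  have h3 := hR _ hb2 j
  have h4 := hL.nn _ hb2 j
  rw [Pi.add_apply] at h3 h4
  omega

/-- the alternating sum of `n` over the vertices of the unit cube based at `γ`. -/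
def Dn (n : Z3 → ℤ) (γ : Z3) : ℤ :=
  n γ - ∑ c : Fin 3, n (γ + ev c) + ∑ a : Fin 3, n (γ + one3 - ev a) - n (γ + one3)

theorem V_add_ev0 (i : Fin 3) (x y z : ℤ) : V i x y z + ev i = V i (x + 1) y z := by
  funext j
  rw [Pi.add_apply, ev_apply]
  rcases cover3 i j with rfl | rfl | rfl
  · rw [V_self, V_self, if_pos rfl]
  · rw [V_succ, V_succ, if_neg (succ_ne _), add_zero]
  · rw [V_succ2, V_succ2, if_neg (succ2_ne _), add_zero]

theorem V_add_ev1 (i : Fin 3) (x y z : ℤ) : V i x y z + ev (i + 1) = V i x (y + 1) z := by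
  funext j
  rw [Pi.add_apply, ev_apply]
  rcases cover3 i j with rfl | rfl | rfl
  · rw [V_self, V_self, if_neg (succ_ne _).symm, add_zero]
  · rw [V_succ, V_succ, if_pos rfl]
  · rw [V_succ2, V_succ2, if_neg (succ2_ne_succ _), add_zero]

theorem V_add_ev2 (i : Fin 3) (x y z : ℤ) : V i x y z + ev (i + 2) = V i x y (z + 1) := by
  funext j
  rw [Pi.add_apply, ev_apply]
  rcases cover3 i j with rfl | rfl | rfl
  · rw [V_self, V_self, if_neg (succ2_ne _).symm, add_zero]
  · rw [V_succ, V_succ, if_neg (succ2_ne_succ _).symm, add_zero]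
  · rw [V_succ2, V_succ2, if_pos rfl]

/-- the alternating sum in cyclic coordinates is the mixed third difference. -/
theorem Dn_V (n : Z3 → ℤ) (i : Fin 3) (x y z : ℤ) :
    Dn n (V i x y z) = D3 (fun x y z => n (V i x y z)) x y z := by
  unfold Dn D3
  rw [sum3 _ i, sum3 _ i]
  have e1 : V i x y z + one3 - ev i = V i x (y + 1) (z + 1) := by
    rw [one3_eq i, ← V_add_ev1, ← V_add_ev2]; abel
  have e2 : V i x y z + one3 - ev (i + 1) = V i (x + 1) y (z + 1) := by
    rw [one3_eq i, ← V_add_ev0, ← V_add_ev2]; abel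
  have e3 : V i x y z + one3 - ev (i + 2) = V i (x + 1) (y + 1) z := by
    rw [one3_eq i, ← V_add_ev0, ← V_add_ev1]
    abel
  have e4 : V i x y z + one3 = V i (x + 1) (y + 1) (z + 1) := by
    rw [one3_eq i, ← V_add_ev0, ← V_add_ev1, ← V_add_ev2]; abel
  rw [e1, e2, e3, e4, V_add_ev0, V_add_ev1, V_add_ev2]
  ring

variable (hL : IsStair L) {R : ℕ} (hR : ∀ v ∈ L, ∀ j, v j ≤ (R : ℤ))

include hL hR

/-- summing the alternating count over all degrees negative exactly at `i` gives `-#L`. -/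
theorem sum_Dn_pattern (i : Fin 3) :
    ∑ x ∈ Finset.Ico (-(R : ℤ) - 1) 0, ∑ y ∈ Finset.Ico (0 : ℤ) (R + 1),
      ∑ z ∈ Finset.Ico (0 : ℤ) (R + 1), Dn (nZ L) (V i x y z) = -(L.card : ℤ) := by
  have hz : ∀ x y : ℤ, ∑ z ∈ Finset.Ico (0 : ℤ) (R + 1), Dn (nZ L) (V i x y z) =
      D2 (fun x y => nZ L (V i x y 0)) x y := by
    intro x y
    rw [Finset.sum_congr rfl (fun z _ => Dn_V (nZ L) i x y z),
      sum_D3 (fun x y z => nZ L (V i x y z)) x y (by omega : (0 : ℤ) ≤ R + 1)]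
    have h0 : ∀ x y : ℤ, nZ L (V i x y ((R : ℤ) + 1)) = 0 := fun x y =>
      nZ_eq_zero hL hR (j := i + 2) (Or.inr (by rw [V_succ2]; omega))
    unfold D2
    simp only [h0]
    ring
  have hy : ∀ x : ℤ, ∑ y ∈ Finset.Ico (0 : ℤ) (R + 1), D2 (fun x y => nZ L (V i x y 0)) x y =
      D1 (fun x => nZ L (V i x 0 0)) x := by
    intro x
    rw [sum_D2 (fun x y => nZ L (V i x y 0)) x (by omega : (0 : ℤ) ≤ R + 1)]
    have h0 : ∀ x : ℤ, nZ L (V i x ((R : ℤ) + 1) 0) = 0 := fun x =>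
      nZ_eq_zero hL hR (j := i + 1) (Or.inr (by rw [V_succ]; omega))
    unfold D1
    simp only [h0]
    ring
  rw [Finset.sum_congr rfl fun x _ => by
    rw [Finset.sum_congr rfl fun y _ => hz x y, hy x]]
  rw [sum_D1 (fun x => nZ L (V i x 0 0)) (by omega : -(R : ℤ) - 1 ≤ 0)]
  have h1 : nZ L (V i (-(R : ℤ) - 1) 0 0) = 0 :=
    nZ_eq_zero hL hR (j := i) (Or.inl (by rw [V_self]; omega))
  have h2 : V i 0 0 0 = (0 : Z3) := by
    funext j
    rcases cover3 i j with rfl | rfl | rfl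
    · rw [V_self]; rfl
    · rw [V_succ]; rfl
    · rw [V_succ2]; rfl
  change nZ L (V i (-(R : ℤ) - 1) 0 0) - nZ L (V i 0 0 0) = _
  rw [h1, h2, nZ_zero, zero_sub]

/-- summing the alternating count over the negative values of the last entry. -/
theorem sum_Dn_last (i : Fin 3) (x y : ℤ) :
    ∑ z ∈ Finset.Ico (-(R : ℤ) - 1) 0, Dn (nZ L) (V i x y z) =
      - D2 (fun x y => nZ L (V i x y 0)) x y := by
  rw [Finset.sum_congr rfl (fun z _ => Dn_V (nZ L) i x y z),
    sum_D3 (fun x y z => nZ L (V i x y z)) x y (by omega : -(R : ℤ) - 1 ≤ 0)]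
  have h0 : ∀ x y : ℤ, nZ L (V i x y (-(R : ℤ) - 1)) = 0 := fun x y =>
    nZ_eq_zero hL hR (j := i + 2) (Or.inl (by rw [V_succ2]; omega))
  unfold D2
  simp only [h0]
  ring

end count

end Groth.Agent.H79.MonoDual
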