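import Mathlib
import Groth.Agent.H79.MonoDual8

/-!
# Duality for the graded pieces of `Hom(I, S/I)` in three variables

For a monomial ideal `I ⊆ k[x,y,z]` of finite colength and a degree `γ` of mixed sign,
`dim T(I)_γ - dim T(I)_{-γ-1}` is minus the alternating count `Dn` of the staircase; graded pieces of
large degree vanish; the colength is the number of points of the staircase.
-/

set_option autoImplicit false

namespace Groth.Agent.H79.MonoDual

open MvPolynomial W4c1hilbpn Groth.Agent.H10.TP

variable {k : Type*} [Field k] {I : Ideal (MvPolynomial (Fin 3) k)}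
variable (hI : IsMonomial I) [Module.Finite k (MvPolynomial (Fin 3) k ⧸ I)]

/-- the colength of a monomial ideal is the number of standard exponents. -/
theorem finrank_quot_eq_card_stdF :
    Module.finrank k (MvPolynomial (Fin 3) k ⧸ I) = (stdF hI).card := by
  classical
  let Φ : (MvPolynomial (Fin 3) k ⧸ I) →ₗ[k] (↥(stdF hI) → k) :=
    LinearMap.pi fun δ => ell hI δ.1
  have hinj : Function.Injective Φ := by
    rw [← LinearMap.ker_eq_bot, eq_bot_iff]
    intro f hf
    rw [LinearMap.mem_ker] at hf
    rw [Submodule.mem_bot, eq_sum_ell hI f]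
    refine Finset.sum_eq_zero fun δ hδ => ?_
    have : ell hI δ f = 0 := congrFun hf ⟨δ, hδ⟩
    rw [this, zero_smul]
  have hsurj : Function.Surjective Φ := by
    intro g
    refine ⟨∑ δ : ↥(stdF hI), g δ • Ideal.Quotient.mk I (monomial δ.1 (1 : k)), ?_⟩
    funext δ'
    change ell hI δ'.1 (∑ δ : ↥(stdF hI), g δ • Ideal.Quotient.mk I (monomial δ.1 (1 : k))) = g δ'
    rw [map_sum, Finset.sum_eq_single δ']
    · rw [map_smul, ell_mk_monomial hI ((mem_stdF hI).1 δ'.2), smul_eq_mul, mul_one]
    · intro δ _ hne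
      rw [map_smul, ell_mk hI ((mem_stdF hI).1 δ'.2), coeff_monomial, if_neg, smul_zero]
      intro h'
      exact hne (Subtype.ext h')
    · intro h; exact absurd (Finset.mem_univ _) h
  rw [LinearEquiv.finrank_eq (LinearEquiv.ofBijective Φ ⟨hinj, hsurj⟩),
    Module.finrank_fintype_fun_eq_card, Fintype.card_coe]

/-- the colength of a monomial ideal is the number of points of its staircase. -/
theorem finrank_quot_eq_card_Lset :
    Module.finrank k (MvPolynomial (Fin 3) k ⧸ I) = (Lset hI).card := by
  rw [card_Lset, finrank_quot_eq_card_stdF hI]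

/-- duality: the dimensions of the graded pieces in dual degrees of mixed sign. -/
theorem finrank_tPiece_dual (γ : Z3) (hγ : ¬ NN γ) (hγ' : ¬ NN (dual γ)) :
    (Module.finrank k ↥(tPiece I γ) : ℤ) - (Module.finrank k ↥(tPiece I (dual γ)) : ℤ) =
      - Dn (nZ (Lset hI)) γ := by
  have h := finrank_WW_dual (k := k) (isStair_Lset hI) hγ hγ'
  rw [← finrank_tPiece_eq hI γ, ← finrank_tPiece_eq hI (dual γ)] at h
  unfold Dn nZ
  have := congrArg (Nat.cast (R := ℤ)) h
  push_cast at this
  linarith

/-- a graded piece of mixed sign has dimension at most the number of edges of its degree. -/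
theorem finrank_tPiece_le (γ : Z3) (hγ : ¬ NN γ) :
    Module.finrank k ↥(tPiece I γ) ≤ ∑ c : Fin 3, (Nset (Lset hI) (γ + ev c)).card := by
  have h1 := finrank_WW_add (k := k) (isStair_Lset hI) hγ
  rw [← finrank_tPiece_eq hI γ] at h1
  have h2 : Module.finrank k ↥(Z1 k (Lset hI) γ) ≤ Fintype.card (Idx1 (Lset hI) γ) := by
    have := Submodule.finrank_le (Z1 k (Lset hI) γ)
    rwa [Module.finrank_fintype_fun_eq_card] at this
  rw [card_Idx1] at h2
  omega

/-- graded pieces of large degree vanish. -/
theorem tPiece_eq_bot_of_large {R : ℕ} (hR : ∀ v ∈ Lset hI, ∀ j, v j ≤ (R : ℤ)) (γ : Z3)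
    {j : Fin 3} (h : γ j < -(R : ℤ) - 1 ∨ (R : ℤ) < γ j) : tPiece I γ = ⊥ := by
  by_cases hγ : NN γ
  · exact tPiece_eq_bot_of_nonneg hI hγ
  · have hfin : Module.Finite k (Tgt I) := finite_Tgt hI
    have h1 := finrank_tPiece_le hI γ hγ
    have h2 : ∀ c : Fin 3, (Nset (Lset hI) (γ + ev c)).card = 0 := by
      intro c
      have := nZ_eq_zero (isStair_Lset hI) hR (δ := γ + ev c) (j := j) (by
        rw [Pi.add_apply, ev_apply]
        split_ifs <;> omega)
      unfold nZ at this
      exact_mod_cast this
    rw [Finset.sum_eq_zero fun c _ => h2 c] at h1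
    exact Submodule.finrank_eq_zero.1 (Nat.le_zero.1 h1)

end Groth.Agent.H79.MonoDual
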