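import Mathlib
import Groth.Agent.H79.MonoDual9

/-!
# Sign-pattern pieces of `Hom(I, S/I)` as finite sums of graded pieces

For a bound `R` on the staircase, the degrees negative exactly at `i` with nonzero graded piece lie in
the box `boxP i R`; the degrees negative exactly off `i` with nonzero piece are the duals of those.
Summing the duality formula over the box gives
`dim sigPiece I {i} = dim sigPiece I {i}ᶜ + colength`.
-/

set_option autoImplicit false

namespace Groth.Agent.H79.MonoDual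

open MvPolynomial W4c1hilbpn Groth.Agent.H10.TP

/-- the box of degrees negative exactly at `i`. -/
noncomputable def boxP (i : Fin 3) (R : ℕ) : Finset Z3 :=
  ((Finset.Ico (-(R : ℤ) - 1) 0) ×ˢ ((Finset.Ico (0 : ℤ) (R + 1)) ×ˢ
    (Finset.Ico (0 : ℤ) (R + 1)))).image fun p => V i p.1 p.2.1 p.2.2

theorem mem_boxP {i : Fin 3} {R : ℕ} {γ : Z3} : γ ∈ boxP i R ↔
    (-(R : ℤ) - 1 ≤ γ i ∧ γ i < 0) ∧ (0 ≤ γ (i + 1) ∧ γ (i + 1) ≤ R) ∧
      (0 ≤ γ (i + 2) ∧ γ (i + 2) ≤ R) := by
  unfold boxP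
  rw [Finset.mem_image]
  constructor
  · rintro ⟨⟨x, y, z⟩, hp, rfl⟩
    rw [Finset.mem_product, Finset.mem_product, Finset.mem_Ico, Finset.mem_Ico,
      Finset.mem_Ico] at hp
    rw [V_self, V_succ, V_succ2]
    dsimp only at hp ⊢
    omega
  · rintro ⟨h1, h2, h3⟩
    refine ⟨(γ i, γ (i + 1), γ (i + 2)), ?_, (eq_V γ i).symm⟩
    rw [Finset.mem_product, Finset.mem_product, Finset.mem_Ico, Finset.mem_Ico, Finset.mem_Ico]
    dsimp only
    omega

/-- sums over the box, in coordinates. -/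
theorem sum_boxP {M : Type*} [AddCommMonoid M] (i : Fin 3) (R : ℕ) (f : Z3 → M) :
    ∑ γ ∈ boxP i R, f γ = ∑ x ∈ Finset.Ico (-(R : ℤ) - 1) 0, ∑ y ∈ Finset.Ico (0 : ℤ) (R + 1),
      ∑ z ∈ Finset.Ico (0 : ℤ) (R + 1), f (V i x y z) := by
  unfold boxP
  rw [Finset.sum_image]
  · rw [Finset.sum_product]
    refine Finset.sum_congr rfl fun x _ => ?_
    rw [Finset.sum_product]
  · rintro ⟨x, y, z⟩ _ ⟨x', y', z'⟩ _ h
    have h1 := congrFun h i
    have h2 := congrFun h (i + 1)
    have h3 := congrFun h (i + 2)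
    dsimp only at h1 h2 h3
    rw [V_self, V_self] at h1
    rw [V_succ, V_succ] at h2
    rw [V_succ2, V_succ2] at h3
    rw [h1, h2, h3]

theorem dual_apply (γ : Z3) (j : Fin 3) : dual γ j = -γ j - 1 := rfl

theorem dual_injective : Function.Injective dual := fun a b h => by
  rw [← dual_dual a, h, dual_dual]

theorem not_NN_of_mem_boxP {i : Fin 3} {R : ℕ} {γ : Z3} (h : γ ∈ boxP i R) : ¬ NN γ := by
  intro hn
  have := (mem_boxP.1 h).1.2
  have := hn i
  omega

theorem not_NN_dual_of_mem_boxP {i : Fin 3} {R : ℕ} {γ : Z3} (h : γ ∈ boxP i R) :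
    ¬ NN (dual γ) := by
  intro hn
  have := (mem_boxP.1 h).2.1.1
  have := hn (i + 1)
  rw [dual_apply] at this
  omega

variable {k : Type*} [Field k] {I : Ideal (MvPolynomial (Fin 3) k)}
variable (hI : IsMonomial I) [Module.Finite k (MvPolynomial (Fin 3) k ⧸ I)]

section

variable {R : ℕ} (hR : ∀ v ∈ Lset hI, ∀ j, v j ≤ (R : ℤ))

include hR

/-- the piece negative exactly at `i` is the sum of the graded pieces in the box. -/
theorem finrank_sigPiece_single (i : Fin 3) :
    Module.finrank k ↥(sigPiece I {i}) =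
      ∑ γ ∈ boxP i R, Module.finrank k ↥(tPiece I γ) := by
  have hfin : Module.Finite k (Tgt I) := finite_Tgt hI
  have h := finrank_iSup_tPiece hI {α : Fin 3 → ℤ | ∀ j, α j < 0 ↔ j ∈ ({i} : Set (Fin 3))}
    (boxP i R) ?_ ?_
  · rw [← h]; rfl
  · intro α hα j
    have hm := mem_boxP.1 hα
    rw [Set.mem_singleton_iff]
    rcases cover3 i j with rfl | rfl | rfl
    · exact ⟨fun _ => rfl, fun _ => hm.1.2⟩
    · exact ⟨fun h' => by omega, fun h' => absurd h' (succ_ne _)⟩
    · exact ⟨fun h' => by omega, fun h' => absurd h' (succ2_ne _)⟩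
  · intro α hα hnot
    have h0 : α i < 0 := (hα i).2 rfl
    have h1 : ¬ α (i + 1) < 0 := fun h' => succ_ne i ((hα _).1 h')
    have h2 : ¬ α (i + 2) < 0 := fun h' => succ2_ne i ((hα _).1 h')
    rw [mem_boxP] at hnot
    by_cases c0 : α i < -(R : ℤ) - 1
    · exact tPiece_eq_bot_of_large hI hR α (Or.inl c0)
    by_cases c1 : (R : ℤ) < α (i + 1)
    · exact tPiece_eq_bot_of_large hI hR α (Or.inr c1)
    by_cases c2 : (R : ℤ) < α (i + 2)
    · exact tPiece_eq_bot_of_large hI hR α (Or.inr c2)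
    exfalso
    apply hnot
    omega

/-- the piece negative exactly off `i` is the sum of the graded pieces dual to the box. -/
theorem finrank_sigPiece_compl (i : Fin 3) :
    Module.finrank k ↥(sigPiece I ({i}ᶜ : Set (Fin 3))) =
      ∑ γ ∈ boxP i R, Module.finrank k ↥(tPiece I (dual γ)) := by
  classical
  have hfin : Module.Finite k (Tgt I) := finite_Tgt hI
  have h := finrank_iSup_tPiece hI {α : Fin 3 → ℤ | ∀ j, α j < 0 ↔ j ∈ ({i}ᶜ : Set (Fin 3))}
    ((boxP i R).image dual) ?_ ?_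
  · rw [Finset.sum_image (fun a _ b _ hab => dual_injective hab)] at h
    rw [← h]; rfl
  · intro α hα j
    rw [Finset.mem_image] at hα
    obtain ⟨γ, hγ, rfl⟩ := hα
    have hm := mem_boxP.1 hγ
    rw [Set.mem_compl_singleton_iff, dual_apply]
    rcases cover3 i j with rfl | rfl | rfl
    · exact ⟨fun h' => by omega, fun h' => absurd rfl h'⟩
    · exact ⟨fun _ => succ_ne _, fun _ => by omega⟩
    · exact ⟨fun _ => succ2_ne _, fun _ => by omega⟩
  · intro α hα hnot
    have h0 : ¬ α i < 0 := fun h' => (hα i).1 h' rfl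
    have h1 : α (i + 1) < 0 := (hα _).2 (succ_ne i)
    have h2 : α (i + 2) < 0 := (hα _).2 (succ2_ne i)
    by_cases c0 : (R : ℤ) < α i
    · exact tPiece_eq_bot_of_large hI hR α (Or.inr c0)
    by_cases c1 : α (i + 1) < -(R : ℤ) - 1
    · exact tPiece_eq_bot_of_large hI hR α (Or.inl c1)
    by_cases c2 : α (i + 2) < -(R : ℤ) - 1
    · exact tPiece_eq_bot_of_large hI hR α (Or.inl c2)
    exfalso
    apply hnot
    rw [Finset.mem_image]
    refine ⟨dual α, ?_, dual_dual α⟩
    rw [mem_boxP, dual_apply, dual_apply, dual_apply]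
    omega

/-- the sign-pattern piece negative exactly at `i` exceeds the one negative exactly off `i` by the
colength. -/
theorem finrank_sigPiece_single_eq (i : Fin 3) :
    Module.finrank k ↥(sigPiece I {i}) =
      Module.finrank k ↥(sigPiece I ({i}ᶜ : Set (Fin 3))) +
        Module.finrank k (MvPolynomial (Fin 3) k ⧸ I) := by
  have hL := isStair_Lset hI
  have h1 := finrank_sigPiece_single hI hR i
  have h2 := finrank_sigPiece_compl hI hR i
  have h3 : ∑ γ ∈ boxP i R, ((Module.finrank k ↥(tPiece I γ) : ℤ) -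
      (Module.finrank k ↥(tPiece I (dual γ)) : ℤ)) = ((Lset hI).card : ℤ) := by
    rw [Finset.sum_congr rfl fun γ hγ => finrank_tPiece_dual hI γ (not_NN_of_mem_boxP hγ)
      (not_NN_dual_of_mem_boxP hγ), Finset.sum_neg_distrib, sum_boxP,
      sum_Dn_pattern hL hR i, neg_neg]
  rw [Finset.sum_sub_distrib] at h3
  rw [finrank_quot_eq_card_Lset hI]
  have e1 := congrArg (Nat.cast (R := ℤ)) h1
  have e2 := congrArg (Nat.cast (R := ℤ)) h2
  push_cast at e1 e2
  omega

end

end Groth.Agent.H79.MonoDual
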