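import Mathlib
import Groth.Agent.H10.TP17
import Groth.Agent.H79.MonoDual10

/-!
# The refined duality with two fixed entries of the degree

For a monomial ideal `I ⊆ k[x,y,z]` of finite colength and `i, j ≥ 0`, the graded pieces of degrees
`(i, j, c)` have total dimension `stairZ I i j` plus that of the pieces of degrees `(-i-1, -j-1, c)`.
-/

set_option autoImplicit false

namespace Groth.Agent.H79.MonoDual

open MvPolynomial W4c1hilbpn Groth.Agent.H10.TP

section count

variable {L : Finset Z3} (hL : IsStair L)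

include hL in
/-- pairs of points of the staircase differing by a nonnegative vector in the first two entries. -/
theorem nZ_V0 {x y : ℤ} (hx : 0 ≤ x) (hy : 0 ≤ y) :
    nZ L (V 0 x y 0) = ((L.filter fun v => x ≤ v 0 ∧ y ≤ v 1).card : ℤ) := by
  unfold nZ
  congr 1
  apply Finset.card_bij (fun b _ => b + V 0 x y 0)
  · intro b hb
    obtain ⟨hb1, hb2⟩ := mem_Nset.1 hb
    rw [Finset.mem_filter]
    refine ⟨hb2, ?_, ?_⟩
    · have := hL.nn b hb1 0
      change x ≤ b 0 + V 0 x y 0 0
      rw [V_self]; omega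
    · have := hL.nn b hb1 1
      change y ≤ b 1 + V 0 x y 0 (0 + 1)
      rw [V_succ]; omega
  · intro b _ b' _ h
    exact add_right_cancel h
  · intro v hv
    rw [Finset.mem_filter] at hv
    obtain ⟨hv1, hv2, hv3⟩ := hv
    have hvn := hL.nn v hv1
    have hNN : NN (v - V 0 x y 0) := by
      intro j
      rw [Pi.sub_apply]
      rcases cover3 0 j with rfl | rfl | rfl
      · rw [V_self]; omega
      · rw [V_succ]; change 0 ≤ v 1 - y; omega
      · rw [V_succ2]; have := hvn (0 + 2); omega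
    have hmem : v - V 0 x y 0 ∈ L := by
      refine hL.down v hv1 _ hNN fun j => ?_
      rw [Pi.sub_apply]
      rcases cover3 0 j with rfl | rfl | rfl
      · rw [V_self]; omega
      · rw [V_succ]; omega
      · rw [V_succ2]; omega
    refine ⟨v - V 0 x y 0, mem_Nset.2 ⟨hmem, ?_⟩, sub_add_cancel _ _⟩
    rw [sub_add_cancel]; exact hv1

include hL in
/-- the mixed second difference of the point count is the number of points in a column. -/
theorem D2_nZ_V0 (i j : ℕ) :
    D2 (fun x y => nZ L (V 0 x y 0)) (i : ℤ) (j : ℤ) =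
      ((L.filter fun v => v 0 = (i : ℤ) ∧ v 1 = (j : ℤ)).card : ℤ) := by
  unfold D2
  beta_reduce
  rw [nZ_V0 hL (by omega) (by omega), nZ_V0 hL (by omega) (by omega),
    nZ_V0 hL (by omega) (by omega), nZ_V0 hL (by omega) (by omega)]
  simp only [Finset.card_filter, Nat.cast_sum, Nat.cast_ite, Nat.cast_one, Nat.cast_zero]
  rw [← Finset.sum_sub_distrib, ← Finset.sum_sub_distrib, ← Finset.sum_add_distrib]
  refine Finset.sum_congr rfl fun v _ => ?_
  by_cases h0 : (i : ℤ) ≤ v 0 <;> by_cases h0' : (i : ℤ) + 1 ≤ v 0 <;>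
    by_cases h1 : (j : ℤ) ≤ v 1 <;> by_cases h1' : (j : ℤ) + 1 ≤ v 1 <;>
    by_cases e0 : v 0 = (i : ℤ) <;> by_cases e1 : v 1 = (j : ℤ) <;>
    simp only [h0, h0', h1, h1', e0, e1, and_self, and_true, and_false, true_and, false_and,
      if_true, if_false] <;> omega

end count

variable {k : Type*} [Field k] {I : Ideal (MvPolynomial (Fin 3) k)}
variable (hI : IsMonomial I) [Module.Finite k (MvPolynomial (Fin 3) k ⧸ I)]

/-- the column of the staircase over `(i, j)` has `stairZ I i j` points. -/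
theorem card_column (i j : ℕ) :
    ((Lset hI).filter fun v => v 0 = (i : ℤ) ∧ v 1 = (j : ℤ)).card = stairZ I i j := by
  unfold stairZ
  rw [← Fintype.card_coe, ← Nat.card_eq_fintype_card]
  apply Nat.card_congr
  refine
    { toFun := fun v => ⟨(v.1 2).toNat, ?_⟩
      invFun := fun c => ⟨cst (e3 i j c.1), ?_⟩
      left_inv := ?_
      right_inv := ?_ }
  · have hv := Finset.mem_filter.1 v.2
    have hm := (mem_Lset hI).1 hv.1
    have : e3 i j (v.1 2).toNat = tn v.1 := by
      apply ext3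
      · rw [e3_zero, tn_apply, hv.2.1, Int.toNat_natCast]
      · rw [e3_one, tn_apply, hv.2.2, Int.toNat_natCast]
      · rw [e3_two, tn_apply]
    rw [this]; exact hm.2
  · rw [Finset.mem_filter]
    exact ⟨(cst_mem_Lset hI).2 c.2, rfl, rfl⟩
  · intro v
    have hv := Finset.mem_filter.1 v.2
    have hm := (mem_Lset hI).1 hv.1
    apply Subtype.ext
    funext l
    have h2 := hm.1 2
    fin_cases l
    · exact hv.2.1.symm
    · exact hv.2.2.symm
    · change (((v.1 2).toNat : ℕ) : ℤ) = v.1 2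
      omega
  · intro c
    apply Subtype.ext
    change (cst (e3 i j c.1) 2).toNat = c.1
    rw [cst_apply, e3_two, Int.toNat_natCast]

section

variable {R : ℕ} (hR : ∀ v ∈ Lset hI, ∀ j, v j ≤ (R : ℤ))

include hR

/-- the pieces with the first two entries of the degree fixed at `x, y ≥ 0`. -/
theorem finrank_fix_pos (i j : ℕ) :
    Module.finrank k ↥(⨆ α : {α : Fin 3 → ℤ // α 0 = (i : ℤ) ∧ α 1 = (j : ℤ)}, tPiece I α.1) =
      ∑ z ∈ Finset.Ico (-(R : ℤ) - 1) 0, Module.finrank k ↥(tPiece I (V 0 (i : ℤ) (j : ℤ) z)) := by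
  classical
  have hfin : Module.Finite k (Tgt I) := finite_Tgt hI
  have hinj : ∀ x y : ℤ, Function.Injective fun z : ℤ => V 0 x y z := by
    intro x y z z' h
    have := congrFun h (0 + 2)
    dsimp only at this
    rwa [V_succ2, V_succ2] at this
  have h := finrank_iSup_tPiece hI {α : Fin 3 → ℤ | α 0 = (i : ℤ) ∧ α 1 = (j : ℤ)}
    ((Finset.Ico (-(R : ℤ) - 1) 0).image fun z => V 0 (i : ℤ) (j : ℤ) z) ?_ ?_
  · rw [Finset.sum_image (fun a _ b _ hab => hinj _ _ hab)] at h
    rw [← h]; rfl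
  · intro α hα
    rw [Finset.mem_image] at hα
    obtain ⟨z, _, rfl⟩ := hα
    exact ⟨V_self 0 _ _ _, V_succ 0 _ _ _⟩
  · intro α hα hnot
    obtain ⟨h0, h1⟩ := hα
    by_cases c2 : 0 ≤ α 2
    · apply tPiece_eq_bot_of_nonneg hI
      intro l
      fin_cases l
      · change 0 ≤ α 0; omega
      · change 0 ≤ α 1; omega
      · exact c2
    by_cases c3 : α 2 < -(R : ℤ) - 1
    · exact tPiece_eq_bot_of_large hI hR α (Or.inl c3)
    exfalso
    apply hnot
    rw [Finset.mem_image]
    refine ⟨α 2, Finset.mem_Ico.2 ⟨by omega, by omega⟩, ?_⟩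
    rw [← h0, ← h1]
    exact (eq_V α 0).symm

/-- the pieces with the first two entries of the degree fixed at `-x-1, -y-1 < 0`. -/
theorem finrank_fix_neg (i j : ℕ) :
    Module.finrank k ↥(⨆ α : {α : Fin 3 → ℤ // α 0 = -(i : ℤ) - 1 ∧ α 1 = -(j : ℤ) - 1},
      tPiece I α.1) =
      ∑ z ∈ Finset.Ico (-(R : ℤ) - 1) 0,
        Module.finrank k ↥(tPiece I (dual (V 0 (i : ℤ) (j : ℤ) z))) := by
  classical
  have hfin : Module.Finite k (Tgt I) := finite_Tgt hI
  have hinj : Function.Injective fun z : ℤ => dual (V 0 (i : ℤ) (j : ℤ) z) := by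
    intro z z' h
    have := congrFun (dual_injective h) (0 + 2)
    rwa [V_succ2, V_succ2] at this
  have h := finrank_iSup_tPiece hI {α : Fin 3 → ℤ | α 0 = -(i : ℤ) - 1 ∧ α 1 = -(j : ℤ) - 1}
    ((Finset.Ico (-(R : ℤ) - 1) 0).image fun z => dual (V 0 (i : ℤ) (j : ℤ) z)) ?_ ?_
  · rw [Finset.sum_image (fun a _ b _ hab => hinj hab)] at h
    rw [← h]; rfl
  · intro α hα
    rw [Finset.mem_image] at hα
    obtain ⟨z, _, rfl⟩ := hα
    refine ⟨?_, ?_⟩
    · rw [dual_apply, V_self]
    · change dual (V 0 (i : ℤ) (j : ℤ) z) (0 + 1) = _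
      rw [dual_apply, V_succ]
  · intro α hα hnot
    obtain ⟨h0, h1⟩ := hα
    by_cases c2 : α 2 < 0
    · apply tPiece_eq_bot_of_two_neg hI (i := 0) (l := 1) (by decide)
      · intro l
        fin_cases l
        · change α 0 ≤ 0; omega
        · change α 1 ≤ 0; omega
        · change α 2 ≤ 0; omega
      · omega
      · omega
    by_cases c3 : (R : ℤ) < α 2
    · exact tPiece_eq_bot_of_large hI hR α (Or.inr c3)
    exfalso
    apply hnot
    rw [Finset.mem_image]
    refine ⟨-α 2 - 1, Finset.mem_Ico.2 ⟨by omega, by omega⟩, ?_⟩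
    funext l
    rw [dual_apply]
    fin_cases l
    · change -(V 0 (i : ℤ) (j : ℤ) (-α 2 - 1) 0) - 1 = α 0
      rw [V_self]; omega
    · change -(V 0 (i : ℤ) (j : ℤ) (-α 2 - 1) (0 + 1)) - 1 = α 1
      rw [V_succ]; omega
    · change -(V 0 (i : ℤ) (j : ℤ) (-α 2 - 1) (0 + 2)) - 1 = α 2
      rw [V_succ2]; omega

/-- the refined duality with the first two entries of the degree fixed. -/
theorem finrank_fix_eq (i j : ℕ) :
    Module.finrank k ↥(⨆ α : {α : Fin 3 → ℤ // α 0 = (i : ℤ) ∧ α 1 = (j : ℤ)}, tPiece I α.1) =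
      stairZ I i j +
        Module.finrank k ↥(⨆ α : {α : Fin 3 → ℤ // α 0 = -(i : ℤ) - 1 ∧ α 1 = -(j : ℤ) - 1},
          tPiece I α.1) := by
  have hL := isStair_Lset hI
  have h1 := finrank_fix_pos hI hR i j
  have h2 := finrank_fix_neg hI hR i j
  have hmix : ∀ z ∈ Finset.Ico (-(R : ℤ) - 1) 0,
      ¬ NN (V 0 (i : ℤ) (j : ℤ) z) ∧ ¬ NN (dual (V 0 (i : ℤ) (j : ℤ) z)) := by
    intro z hz
    rw [Finset.mem_Ico] at hz
    refine ⟨fun hn => ?_, fun hn => ?_⟩
    · have := hn (0 + 2)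
      rw [V_succ2] at this
      omega
    · have := hn 0
      rw [dual_apply, V_self] at this
      omega
  have h3 : ∑ z ∈ Finset.Ico (-(R : ℤ) - 1) 0,
      ((Module.finrank k ↥(tPiece I (V 0 (i : ℤ) (j : ℤ) z)) : ℤ) -
        (Module.finrank k ↥(tPiece I (dual (V 0 (i : ℤ) (j : ℤ) z))) : ℤ)) =
      (stairZ I i j : ℤ) := by
    rw [Finset.sum_congr rfl fun z hz => finrank_tPiece_dual hI _ (hmix z hz).1 (hmix z hz).2,
      Finset.sum_neg_distrib, sum_Dn_last hL hR 0, neg_neg, D2_nZ_V0 hL, card_column hI]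
  rw [Finset.sum_sub_distrib] at h3
  have e1 := congrArg (Nat.cast (R := ℤ)) h1
  have e2 := congrArg (Nat.cast (R := ℤ)) h2
  push_cast at e1 e2
  omega

end

end Groth.Agent.H79.MonoDual
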