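import Mathlib
import Groth.Agent.H79.MonoDual10

/-!
# `Hom(I, S/I)` as the sum of its six sign-pattern pieces, and its parity

For a monomial ideal `I ⊆ k[x,y,z]` of finite colength `d`,
`dim Hom(I, S/I) = ∑ i, (dim sigPiece I {i} + dim sigPiece I {i}ᶜ)`, which is congruent to `d`
modulo `2`.
-/

set_option autoImplicit false

namespace Groth.Agent.H79.MonoDual

open MvPolynomial W4c1hilbpn Groth.Agent.H10.TP

/-- the degrees of sign pattern `x` within the box. -/
noncomputable def BBx (R : ℕ) (x : Fin 3 × Bool) : Finset Z3 :=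
  if x.2 then (boxP x.1 R).image dual else boxP x.1 R

theorem pat_of_mem_BBx {R : ℕ} {x : Fin 3 × Bool} {α : Z3} (h : α ∈ BBx R x) :
    ∀ j, α j < 0 ↔ Pat x j := by
  classical
  obtain ⟨i, b⟩ := x
  cases b
  · simp only [BBx, Bool.false_eq_true, if_false] at h
    have hm := mem_boxP.1 h
    intro j
    simp only [Pat, Bool.false_eq_true, if_false]
    rcases cover3 i j with rfl | rfl | rfl
    · exact ⟨fun _ => rfl, fun _ => hm.1.2⟩
    · exact ⟨fun h' => by omega, fun h' => absurd h' (succ_ne _)⟩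
    · exact ⟨fun h' => by omega, fun h' => absurd h' (succ2_ne _)⟩
  · simp only [BBx, if_true] at h
    rw [Finset.mem_image] at h
    obtain ⟨γ, hγ, rfl⟩ := h
    have hm := mem_boxP.1 hγ
    intro j
    simp only [Pat, if_true]
    rw [dual_apply]
    rcases cover3 i j with rfl | rfl | rfl
    · exact ⟨fun h' => by omega, fun h' => absurd rfl h'⟩
    · exact ⟨fun _ => succ_ne _, fun _ => by omega⟩
    · exact ⟨fun _ => succ2_ne _, fun _ => by omega⟩

variable {k : Type*} [Field k] {I : Ideal (MvPolynomial (Fin 3) k)}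
variable (hI : IsMonomial I) [Module.Finite k (MvPolynomial (Fin 3) k ⧸ I)]

section

variable {R : ℕ} (hR : ∀ v ∈ Lset hI, ∀ j, v j ≤ (R : ℤ))

include hR

/-- a degree outside all six boxes carries no tangent vectors. -/
theorem tPiece_eq_bot_of_notMem {α : Z3}
    (h : α ∉ (Finset.univ : Finset (Fin 3 × Bool)).biUnion (BBx R)) : tPiece I α = ⊥ := by
  classical
  have hmem : ∀ x : Fin 3 × Bool, α ∉ BBx R x := fun x hx =>
    h (Finset.mem_biUnion.2 ⟨x, Finset.mem_univ _, hx⟩)
  -- a degree negative exactly at `i`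
  have one : ∀ i : Fin 3, α i < 0 → 0 ≤ α (i + 1) → 0 ≤ α (i + 2) → tPiece I α = ⊥ := by
    intro i h0 h1 h2
    have hnot := hmem (i, false)
    simp only [BBx, Bool.false_eq_true, if_false] at hnot
    rw [mem_boxP] at hnot
    by_cases c0 : α i < -(R : ℤ) - 1
    · exact tPiece_eq_bot_of_large hI hR α (Or.inl c0)
    by_cases c1 : (R : ℤ) < α (i + 1)
    · exact tPiece_eq_bot_of_large hI hR α (Or.inr c1)
    by_cases c2 : (R : ℤ) < α (i + 2)
    · exact tPiece_eq_bot_of_large hI hR α (Or.inr c2)
    exfalso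
    apply hnot
    omega
  -- a degree nonnegative exactly at `i`
  have two : ∀ i : Fin 3, 0 ≤ α i → α (i + 1) < 0 → α (i + 2) < 0 → tPiece I α = ⊥ := by
    intro i h0 h1 h2
    have hnot := hmem (i, true)
    simp only [BBx, if_true] at hnot
    by_cases c0 : (R : ℤ) < α i
    · exact tPiece_eq_bot_of_large hI hR α (Or.inr c0)
    by_cases c1 : α (i + 1) < -(R : ℤ) - 1
    · exact tPiece_eq_bot_of_large hI hR α (Or.inl c1)
    by_cases c2 : α (i + 2) < -(R : ℤ) - 1
    · exact tPiece_eq_bot_of_large hI hR α (Or.inl c2)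
    exfalso
    apply hnot
    rw [Finset.mem_image]
    refine ⟨dual α, ?_, dual_dual α⟩
    rw [mem_boxP, dual_apply, dual_apply, dual_apply]
    omega
  by_cases h0 : α 0 < 0 <;> by_cases h1 : α 1 < 0 <;> by_cases h2 : α 2 < 0
  · apply tPiece_eq_bot_of_two_neg hI (i := 0) (l := 1) (by decide) _ h0 h1
    intro l
    fin_cases l
    · exact le_of_lt h0
    · exact le_of_lt h1
    · exact le_of_lt h2
  · exact two 2 (by omega) (by change α 0 < 0; omega) (by change α 1 < 0; omega)
  · exact two 1 (by omega) (by change α 2 < 0; omega) (by change α 0 < 0; omega)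
  · exact one 0 h0 (by change 0 ≤ α 1; omega) (by change 0 ≤ α 2; omega)
  · exact two 0 (by omega) (by change α 1 < 0; omega) (by change α 2 < 0; omega)
  · exact one 1 h1 (by change 0 ≤ α 2; omega) (by change 0 ≤ α 0; omega)
  · exact one 2 h2 (by change 0 ≤ α 0; omega) (by change 0 ≤ α 1; omega)
  · apply tPiece_eq_bot_of_nonneg hI
    intro l
    fin_cases l
    · change 0 ≤ α 0; omega
    · change 0 ≤ α 1; omega
    · change 0 ≤ α 2; omega

/-- `Hom(I, S/I)` is the direct sum of its six sign-pattern pieces. -/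
theorem finrank_Tgt_eq_sum :
    Module.finrank k (Tgt I) = ∑ i : Fin 3, (Module.finrank k ↥(sigPiece I {i}) +
      Module.finrank k ↥(sigPiece I ({i}ᶜ : Set (Fin 3)))) := by
  classical
  rw [finrank_Tgt hI ((Finset.univ : Finset (Fin 3 × Bool)).biUnion (BBx R))
    (fun α hα => tPiece_eq_bot_of_notMem hI hR hα)]
  rw [Finset.sum_biUnion]
  · rw [Fintype.sum_prod_type]
    refine Finset.sum_congr rfl fun i _ => ?_
    have hA : ∑ α ∈ BBx R (i, false), Module.finrank k ↥(tPiece I α) =
        ∑ γ ∈ boxP i R, Module.finrank k ↥(tPiece I γ) := by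
      simp only [BBx, Bool.false_eq_true, if_false]
    have hB : ∑ α ∈ BBx R (i, true), Module.finrank k ↥(tPiece I α) =
        ∑ γ ∈ boxP i R, Module.finrank k ↥(tPiece I (dual γ)) := by
      simp only [BBx, if_true]
      rw [Finset.sum_image (fun a _ b _ hab => dual_injective hab)]
    rw [Fintype.sum_bool, hA, hB, finrank_sigPiece_single hI hR i,
      finrank_sigPiece_compl hI hR i, add_comm]
  · intro x _ y _ hxy
    rw [Function.onFun, Finset.disjoint_left]
    intro α hx hy
    apply hxy
    apply Pat_injective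
    intro j
    rw [← pat_of_mem_BBx hx j, ← pat_of_mem_BBx hy j]

/-- the dimension of `Hom(I, S/I)` has the parity of the colength. -/
theorem finrank_Tgt_mod_two :
    Module.finrank k (Tgt I) % 2 = Module.finrank k (MvPolynomial (Fin 3) k ⧸ I) % 2 := by
  rw [finrank_Tgt_eq_sum hI hR, Fin.sum_univ_three, finrank_sigPiece_single_eq hI hR 0,
    finrank_sigPiece_single_eq hI hR 1, finrank_sigPiece_single_eq hI hR 2]
  omega

end

end Groth.Agent.H79.MonoDual
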