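import Mathlib
import Groth.Agent.H79.MonoDual6

/-!
# Strongly stable staircases: columns and their sizes

A staircase `L ⊆ ℤ³` is strongly stable when it is closed under moving one unit of weight from an
earlier coordinate to a later one.  For such a staircase, the slice `col L i` at first coordinate
`i` lies in a triangle of side `mm L i` (the number of its points on the last axis), and
`cc L (i + 1) + mm L i ≤ cc L i` for the slice sizes `cc L i`.
-/

set_option autoImplicit false

namespace Groth.Agent.H79.MonoDual

/-- a staircase closed under moving weight to later coordinates. -/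
structure IsSStair (L : Finset Z3) : Prop extends IsStair L where
  move : ∀ u ∈ L, ∀ i j : Fin 3, i < j → 0 < u i → u - ev i + ev j ∈ L

/-- a finite down-closed set of naturals is an initial segment. -/
theorem mem_iff_lt_card_of_down {S : Finset ℕ} (h : ∀ c ∈ S, ∀ c' ≤ c, c' ∈ S) (c : ℕ) :
    c ∈ S ↔ c < S.card := by
  constructor
  · intro hc
    have : Finset.range (c + 1) ⊆ S := by
      intro x hx
      exact h c hc x (Nat.lt_succ_iff.1 (Finset.mem_range.1 hx))
    have := Finset.card_le_card this
    rw [Finset.card_range] at this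
    omega
  · intro hc
    by_contra hn
    have : S ⊆ Finset.range c := by
      intro x hx
      rw [Finset.mem_range]
      by_contra hge
      exact hn (h x hx c (not_lt.1 hge))
    have := Finset.card_le_card this
    rw [Finset.card_range] at this
    omega

theorem sum_range_sub (m : ℕ) : ∑ k ∈ Finset.range m, (m - k) = Nat.choose (m + 1) 2 := by
  induction m with
  | zero => simp
  | succ m ih =>
    rw [Finset.sum_range_succ']
    have : ∑ k ∈ Finset.range m, (m + 1 - (k + 1)) = ∑ k ∈ Finset.range m, (m - k) :=
      Finset.sum_congr rfl fun k _ => by omega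
    have e : Nat.choose (m + 1 + 1) 2 = (m + 1) + Nat.choose (m + 1) 2 := by
      rw [show (2 : ℕ) = 1 + 1 from rfl, Nat.choose_succ_succ', Nat.choose_one_right]
    rw [this, ih, e]
    omega

/-- the number of pairs of naturals with sum less than `m`. -/
theorem card_tri (m : ℕ) :
    ((Finset.range m ×ˢ Finset.range m).filter fun p : ℕ × ℕ => p.1 + p.2 < m).card =
      Nat.choose (m + 1) 2 := by
  have h1 : ((Finset.range m ×ˢ Finset.range m).filter fun p : ℕ × ℕ => p.1 + p.2 < m) =
      ((Finset.range m).sigma (fun b => Finset.range (m - b))).image fun x => (x.1, x.2) := by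
    ext ⟨b, c⟩
    simp only [Finset.mem_filter, Finset.mem_product, Finset.mem_range, Finset.mem_image,
      Finset.mem_sigma, Sigma.exists, Prod.mk.injEq]
    constructor
    · rintro ⟨⟨hb, _⟩, hbc⟩
      exact ⟨b, c, ⟨hb, by omega⟩, rfl, rfl⟩
    · rintro ⟨b', c', ⟨hb, hc⟩, rfl, rfl⟩
      exact ⟨⟨hb, by omega⟩, by omega⟩
  rw [h1, Finset.card_image_of_injective _ (by
    rintro ⟨a, b⟩ ⟨a', b'⟩ h
    simp only [Prod.mk.injEq] at h
    obtain ⟨rfl, rfl⟩ := h
    rfl), Finset.card_sigma]
  simp only [Finset.card_range]
  exact sum_range_sub m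

variable (L : Finset Z3)

/-- the slice of the staircase at first coordinate `i`. -/
def col (i : ℕ) : Finset Z3 := L.filter fun v => v 0 = (i : ℤ)

/-- the size of the slice. -/
def cc (i : ℕ) : ℕ := (col L i).card

/-- the points of the slice on the last axis. -/
def base (i : ℕ) : Finset Z3 := L.filter fun v => v 0 = (i : ℤ) ∧ v 1 = 0

/-- the number of points of the slice on the last axis. -/
def mm (i : ℕ) : ℕ := (base L i).card

variable {L}

theorem mem_col {i : ℕ} {v : Z3} : v ∈ col L i ↔ v ∈ L ∧ v 0 = (i : ℤ) := by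
  unfold col; rw [Finset.mem_filter]

theorem mem_base {i : ℕ} {v : Z3} : v ∈ base L i ↔ v ∈ L ∧ v 0 = (i : ℤ) ∧ v 1 = 0 := by
  unfold base; rw [Finset.mem_filter]

theorem vec_ext {v : Z3} {a b c : ℕ} (h0 : v 0 = (a : ℤ)) (h1 : v 1 = (b : ℤ)) (h2 : v 2 = (c : ℤ)) :
    v = vec a b c := by
  funext l
  fin_cases l
  · exact h0
  · exact h1
  · exact h2

theorem vec_zero (a b c : ℕ) : vec a b c 0 = (a : ℤ) := rfl
theorem vec_one (a b c : ℕ) : vec a b c 1 = (b : ℤ) := rfl
theorem vec_two (a b c : ℕ) : vec a b c 2 = (c : ℤ) := rfl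

theorem vec_le_vec {a b c a' b' c' : ℕ} (ha : a ≤ a') (hb : b ≤ b') (hc : c ≤ c') :
    ∀ l, vec a b c l ≤ vec a' b' c' l := by
  intro l
  fin_cases l
  · change (a : ℤ) ≤ a'; omega
  · change (b : ℤ) ≤ b'; omega
  · change (c : ℤ) ≤ c'; omega

theorem vec_injective {a b c a' b' c' : ℕ} (h : vec a b c = vec a' b' c') :
    a = a' ∧ b = b' ∧ c = c' := by
  have h0 := congrFun h 0
  have h1 := congrFun h 1
  have h2 := congrFun h 2
  rw [vec_zero, vec_zero] at h0
  rw [vec_one, vec_one] at h1
  rw [vec_two, vec_two] at h2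
  omega

section stair

variable (hL : IsStair L)

include hL

/-- the points of the staircase on the line `(i, 0, *)` form an initial segment. -/
theorem vec_mem_iff_lt_mm (i c : ℕ) : vec i 0 c ∈ L ↔ c < mm L i := by
  classical
  let S : Finset ℕ := (base L i).image fun v => (v 2).toNat
  have hS : ∀ c, c ∈ S ↔ vec i 0 c ∈ L := by
    intro c
    constructor
    · intro hc
      obtain ⟨v, hv, rfl⟩ := Finset.mem_image.1 hc
      obtain ⟨hvL, h0, h1⟩ := mem_base.1 hv
      have h2 := hL.nn v hvL 2
      have : v = vec i 0 (v 2).toNat := vec_ext h0 (by rw [h1]; rfl) (by omega)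
      rw [← this]; exact hvL
    · intro hc
      exact Finset.mem_image.2 ⟨vec i 0 c, mem_base.2 ⟨hc, rfl, rfl⟩, by rw [vec_two]; simp⟩
  have hcard : S.card = mm L i := by
    apply Finset.card_image_of_injOn
    intro v hv v' hv' h
    obtain ⟨hvL, h0, h1⟩ := mem_base.1 hv
    obtain ⟨hvL', h0', h1'⟩ := mem_base.1 hv'
    have h2 := hL.nn v hvL 2
    have h2' := hL.nn v' hvL' 2
    funext l
    fin_cases l
    · change v 0 = v' 0; omega
    · change v 1 = v' 1; omega
    · change v 2 = v' 2
      have : (v 2).toNat = (v' 2).toNat := h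
      omega
  rw [← hS, ← hcard]
  apply mem_iff_lt_card_of_down
  intro c hc c' hle
  rw [hS] at hc ⊢
  exact hL.down _ hc _ (NN_vec _ _ _) (vec_le_vec le_rfl le_rfl hle)

/-- `mm` is non-increasing. -/
theorem mm_succ_le (i : ℕ) : mm L (i + 1) ≤ mm L i := by
  by_contra h
  have h1 : mm L i < mm L (i + 1) := not_le.1 h
  have h2 := (vec_mem_iff_lt_mm hL (i + 1) (mm L i)).2 h1
  have h3 : vec i 0 (mm L i) ∈ L :=
    hL.down _ h2 _ (NN_vec _ _ _) (vec_le_vec (Nat.le_succ i) le_rfl le_rfl)
  exact absurd ((vec_mem_iff_lt_mm hL i (mm L i)).1 h3) (lt_irrefl _)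

/-- the total number of points is the sum of the slice sizes. -/
theorem card_eq_sum_cc {N : ℕ} (hN : ∀ v ∈ L, v 0 < (N : ℤ)) :
    L.card = ∑ i ∈ Finset.range N, cc L i := by
  classical
  rw [Finset.card_eq_sum_card_fiberwise (f := fun v : Z3 => (v 0).toNat) (t := Finset.range N)]
  · refine Finset.sum_congr rfl fun i _ => ?_
    unfold cc col
    congr 1
    apply Finset.filter_congr
    intro v hv
    have := hL.nn v hv 0
    constructor
    · intro h; omega
    · intro h; omega
  · intro v hv
    have := hL.nn v hv 0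
    have := hN v hv
    change (v 0).toNat ∈ (↑(Finset.range N) : Set ℕ)
    rw [Finset.mem_coe, Finset.mem_range]
    omega

end stair

section sstair

variable (hL : IsSStair L)

include hL

/-- moving all weight from the second to the third coordinate stays in the staircase. -/
theorem vec_move_z (i : ℕ) : ∀ b c : ℕ, vec i b c ∈ L → vec i 0 (b + c) ∈ L := by
  intro b
  induction b with
  | zero => intro c h; rwa [Nat.zero_add]
  | succ b ih =>
    intro c h
    have h1 := hL.move _ h 1 2 (by decide) (by rw [vec_one]; omega)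
    have e : vec i (b + 1) c - ev 1 + ev 2 = vec i b (c + 1) := by
      rw [← vec_add_ev1, ← vec_add_ev2]; abel
    rw [e] at h1
    have := ih (c + 1) h1
    have e2 : b + 1 + c = b + (c + 1) := by omega
    rw [e2]; exact this

/-- the slice lies in a triangle of side `mm L i`. -/
theorem col_sub_tri {i : ℕ} {v : Z3} (hv : v ∈ col L i) :
    (v 1).toNat + (v 2).toNat < mm L i := by
  obtain ⟨hvL, h0⟩ := mem_col.1 hv
  have hn := hL.nn v hvL
  have e : v = vec i (v 1).toNat (v 2).toNat :=
    vec_ext h0 (by have := hn 1; omega) (by have := hn 2; omega)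
  rw [e] at hvL
  exact (vec_mem_iff_lt_mm hL.toIsStair i _).1 (vec_move_z hL i _ _ hvL)

/-- the slice as a subset of the triangle. -/
theorem col_image_subset (i : ℕ) :
    ((col L i).image fun v => ((v 1).toNat, (v 2).toNat)) ⊆
      (Finset.range (mm L i) ×ˢ Finset.range (mm L i)).filter fun p : ℕ × ℕ =>
        p.1 + p.2 < mm L i := by
  classical
  intro p hp
  obtain ⟨v, hv, rfl⟩ := Finset.mem_image.1 hp
  have := col_sub_tri hL hv
  rw [Finset.mem_filter, Finset.mem_product, Finset.mem_range, Finset.mem_range]
  dsimp only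
  omega

theorem col_image_card (i : ℕ) :
    ((col L i).image fun v => ((v 1).toNat, (v 2).toNat)).card = cc L i := by
  classical
  apply Finset.card_image_of_injOn
  intro v hv v' hv' h
  obtain ⟨hvL, h0⟩ := mem_col.1 hv
  obtain ⟨hvL', h0'⟩ := mem_col.1 hv'
  have hn := hL.nn v hvL
  have hn' := hL.nn v' hvL'
  simp only [Prod.mk.injEq] at h
  funext l
  fin_cases l
  · change v 0 = v' 0; omega
  · change v 1 = v' 1
    have := hn 1; have := hn' 1; omega
  · change v 2 = v' 2
    have := hn 2; have := hn' 2; omega

/-- a slice has at most as many points as the triangle of side `mm L i`. -/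
theorem cc_le (i : ℕ) : cc L i ≤ Nat.choose (mm L i + 1) 2 := by
  rw [← col_image_card hL i, ← card_tri]
  exact Finset.card_le_card (col_image_subset hL i)

/-- a slice with as many points as the triangle is the triangle. -/
theorem vec_mem_of_cc_eq {i : ℕ} (h : cc L i = Nat.choose (mm L i + 1) 2) {b c : ℕ}
    (hbc : b + c < mm L i) : vec i b c ∈ L := by
  classical
  have heq := Finset.eq_of_subset_of_card_le (col_image_subset hL i) (by
    rw [col_image_card hL i, card_tri, h])
  have hmem : (b, c) ∈ (Finset.range (mm L i) ×ˢ Finset.range (mm L i)).filter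
      fun p : ℕ × ℕ => p.1 + p.2 < mm L i := by
    rw [Finset.mem_filter, Finset.mem_product, Finset.mem_range, Finset.mem_range]
    dsimp only
    omega
  rw [← heq] at hmem
  obtain ⟨v, hv, hvp⟩ := Finset.mem_image.1 hmem
  obtain ⟨hvL, h0⟩ := mem_col.1 hv
  have hn := hL.nn v hvL
  simp only [Prod.mk.injEq] at hvp
  have : v = vec i b c :=
    vec_ext h0 (by have := hn 1; omega) (by have := hn 2; omega)
  rw [← this]; exact hvL

/-- the slice sizes drop by at least `mm`. -/
theorem cc_succ_add_le (i : ℕ) : cc L (i + 1) + mm L i ≤ cc L i := by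
  classical
  have h1 : cc L (i + 1) ≤ ((col L i).filter fun v => v 1 ≠ 0).card := by
    unfold cc
    apply Finset.card_le_card_of_injOn (fun v => v - ev 0 + ev 1)
    · intro v hv
      obtain ⟨hvL, h0⟩ := mem_col.1 hv
      have hm := hL.move v hvL 0 1 (by decide) (by rw [h0]; push_cast; omega)
      rw [Finset.mem_coe, Finset.mem_filter, mem_col]
      refine ⟨⟨hm, ?_⟩, ?_⟩
      · simp only [Pi.add_apply, Pi.sub_apply, ev_apply]
        simp only [if_true, Fin.isValue, zero_ne_one, if_false]
        rw [h0]; push_cast; ring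
      · have := hL.nn v hvL 1
        simp only [Pi.add_apply, Pi.sub_apply, ev_apply]
        simp only [if_true, Fin.isValue, one_ne_zero, if_false]
        omega
    · intro v _ v' _ h
      have : v - ev 0 + ev 1 = v' - ev 0 + ev 1 := h
      have := add_right_cancel this
      exact sub_left_injective this
  have h2 : ((col L i).filter fun v => v 1 ≠ 0).card + mm L i = cc L i := by
    unfold cc mm
    have : base L i = (col L i).filter fun v => ¬ v 1 ≠ 0 := by
      ext v
      rw [mem_base, Finset.mem_filter, mem_col, not_not]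
      tauto
    rw [this]
    exact Finset.card_filter_add_card_filter_not _
  omega

/-- the slice sizes are non-increasing. -/
theorem cc_succ_le (i : ℕ) : cc L (i + 1) ≤ cc L i :=
  le_trans (Nat.le_add_right _ _) (cc_succ_add_le hL i)

theorem cc_anti {i j : ℕ} (h : i ≤ j) : cc L j ≤ cc L i := by
  induction j, h using Nat.le_induction with
  | base => exact le_rfl
  | succ j _ ih => exact le_trans (cc_succ_le hL j) ih

end sstair

end Groth.Agent.H79.MonoDual
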