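import Mathlib

/-!
# A convexity lemma for slice sizes of strongly stable staircases

Sequences `c, m : ℕ → ℕ` with `c (i+1) + m i ≤ c i`, `m (i+1) ≤ m i` and `c i ≤ C(m i + 1, 2)` whose
total is at most `C(r+2, 3)` have all tail sums bounded by those of `TT r i = C(r - i + 1, 2)`.
-/

set_option autoImplicit false

namespace Groth.Agent.H79.MonoDual

/-- the slice sizes of the `r`-th power of the irrelevant ideal. -/
def TT (r i : ℕ) : ℕ := Nat.choose (r - i + 1) 2

theorem choose_succ_two (a : ℕ) : Nat.choose (a + 1 + 1) 2 = Nat.choose (a + 1) 2 + (a + 1) := by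
  rw [show (2 : ℕ) = 1 + 1 from rfl, Nat.choose_succ_succ', Nat.choose_one_right]
  omega

theorem choose_two_lt {a b : ℕ} (h : a < b) : Nat.choose (a + 1) 2 < Nat.choose (b + 1) 2 := by
  have h1 : Nat.choose (a + 1 + 1) 2 ≤ Nat.choose (b + 1) 2 := Nat.choose_le_choose 2 (by omega)
  rw [choose_succ_two] at h1
  omega

theorem TT_of_le {r i : ℕ} (h : r ≤ i) : TT r i = 0 := by
  unfold TT
  rw [Nat.sub_eq_zero_of_le h]
  rfl

theorem TT_succ {r i : ℕ} (h : i < r) : TT r i = TT r (i + 1) + (r - i) := by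
  unfold TT
  have e : r - i + 1 = (r - (i + 1)) + 1 + 1 := by omega
  rw [e, choose_succ_two]
  omega

theorem sum_TT (r : ℕ) : ∑ i ∈ Finset.range r, TT r i = Nat.choose (r + 2) 3 := by
  have key : ∀ r, ∑ i ∈ Finset.range r, TT r i = ∑ s ∈ Finset.range r, Nat.choose (s + 2) 2 := by
    intro r
    rw [← Finset.sum_range_reflect]
    refine Finset.sum_congr rfl fun i hi => ?_
    rw [Finset.mem_range] at hi
    unfold TT
    congr 1
    omega
  rw [key]
  induction r with
  | zero => rfl
  | succ r ih =>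
    rw [Finset.sum_range_succ, ih]
    rw [show r + 1 + 2 = (r + 2) + 1 from rfl, show (3 : ℕ) = 2 + 1 from rfl,
      Nat.choose_succ_succ' (r + 2) 2]
    omega

theorem sum_TT_of_le {r N : ℕ} (h : r ≤ N) :
    ∑ i ∈ Finset.range N, TT r i = Nat.choose (r + 2) 3 := by
  rw [← sum_TT r]
  symm
  apply Finset.sum_subset
  · intro i hi
    rw [Finset.mem_range] at hi ⊢
    omega
  · intro i _ hi
    rw [Finset.mem_range, not_lt] at hi
    exact TT_of_le hi

/-- the hypotheses on the slice sizes `c` and the base sizes `m`. -/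
structure SeqHyp (c m : ℕ → ℕ) : Prop where
  h1 : ∀ i, c (i + 1) + m i ≤ c i
  h2 : ∀ i, m (i + 1) ≤ m i
  h3 : ∀ i, c i ≤ Nat.choose (m i + 1) 2

variable {c m : ℕ → ℕ} (H : SeqHyp c m)

include H

/-- a slice exceeding the model forces all earlier slices to exceed the model. -/
theorem gt_down (r : ℕ) {i0 : ℕ} (h : TT r i0 < c i0) : ∀ i, i ≤ i0 → TT r i < c i := by
  have step : ∀ i, TT r (i + 1) < c (i + 1) → TT r i < c i := by
    intro i hi
    have h3 := H.h3 (i + 1)
    have hm : r - (i + 1) < m (i + 1) := by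
      by_contra hle
      have hle' : m (i + 1) ≤ r - (i + 1) := not_lt.1 hle
      have : Nat.choose (m (i + 1) + 1) 2 ≤ TT r (i + 1) :=
        Nat.choose_le_choose 2 (by omega)
      omega
    have h2 := H.h2 i
    have h1 := H.h1 i
    by_cases hr : i < r
    · rw [TT_succ hr]
      omega
    · rw [TT_of_le (not_lt.1 hr)]
      omega
  intro i hi
  induction i0, hi using Nat.le_induction with
  | base => exact h
  | succ i0 _ ih =>
    exact ih (step i0 h)

/-- tail sums of the slice sizes are bounded by the model. -/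
theorem sum_Ico_le {r : ℕ} (hd : ∀ N, ∑ i ∈ Finset.range N, c i ≤ Nat.choose (r + 2) 3)
    {j N : ℕ} (hjN : j ≤ N) (hN : r ≤ N) :
    ∑ i ∈ Finset.Ico j N, c i ≤ ∑ i ∈ Finset.Ico j N, TT r i := by
  by_contra hcon
  have hlt : ∑ i ∈ Finset.Ico j N, TT r i < ∑ i ∈ Finset.Ico j N, c i := not_le.1 hcon
  obtain ⟨i0, hi0, hgt⟩ := Finset.exists_lt_of_sum_lt hlt
  rw [Finset.mem_Ico] at hi0
  have hdown := gt_down H r hgt
  have hlow : ∑ i ∈ Finset.range j, TT r i ≤ ∑ i ∈ Finset.range j, c i := by
    refine Finset.sum_le_sum fun i hi => ?_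
    rw [Finset.mem_range] at hi
    exact le_of_lt (hdown i (by omega))
  have e1 : ∑ i ∈ Finset.range N, c i =
      ∑ i ∈ Finset.range j, c i + ∑ i ∈ Finset.Ico j N, c i := by
    simp only [Finset.range_eq_Ico]
    exact (Finset.sum_Ico_consecutive _ (Nat.zero_le j) hjN).symm
  have e2 : ∑ i ∈ Finset.range N, TT r i =
      ∑ i ∈ Finset.range j, TT r i + ∑ i ∈ Finset.Ico j N, TT r i := by
    simp only [Finset.range_eq_Ico]
    exact (Finset.sum_Ico_consecutive _ (Nat.zero_le j) hjN).symm
  have h3 := hd N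
  rw [sum_TT_of_le hN] at e2
  omega

/-- if the first `r` slices have the model sizes, then the bases have the model sizes and the
`r`-th slice is empty. -/
theorem base_eq_of_eq {r : ℕ} (hr : 0 < r) (heq : ∀ i, i < r → c i = TT r i) :
    (∀ i, i < r → m i = r - i) ∧ c r = 0 := by
  have hlast : c (r - 1) = 1 := by
    rw [heq (r - 1) (by omega)]
    unfold TT
    have : r - (r - 1) + 1 = 2 := by omega
    rw [this]
    rfl
  have hm1 : 1 ≤ m (r - 1) := by
    by_contra h0
    have h0' : m (r - 1) = 0 := by omega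
    have := H.h3 (r - 1)
    rw [h0'] at this
    have e : Nat.choose (0 + 1) 2 = 0 := rfl
    omega
  have hcr : c r = 0 := by
    have := H.h1 (r - 1)
    have e : r - 1 + 1 = r := by omega
    rw [e] at this
    omega
  refine ⟨fun i hi => ?_, hcr⟩
  have hlow : r - i ≤ m i := by
    by_contra hlt
    have hlt' : m i < r - i := not_le.1 hlt
    have := choose_two_lt hlt'
    have h3 := H.h3 i
    rw [heq i hi] at h3
    unfold TT at h3
    omega
  have hup : m i ≤ r - i := by
    have h1 := H.h1 i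
    rw [heq i hi] at h1
    by_cases hi' : i + 1 < r
    · rw [heq (i + 1) hi', TT_succ hi] at h1
      omega
    · have e : i + 1 = r := by omega
      rw [e, hcr, TT_succ hi, TT_of_le (by omega : r ≤ i + 1)] at h1
      omega
  omega

end Groth.Agent.H79.MonoDual
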