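import Mathlib
import Groth.Agent.H67.MonoIdeal2
import Groth.Agent.H79.MonoDual9
import Groth.Agent.H79.MonoStable1
import Groth.Agent.H79.MonoStable2

/-!
# Strongly stable ideals in three variables: slices and their colengths

For a strongly stable ideal `I ⊆ k[x,y,z]` of finite colength, the staircase `Lset` is strongly
stable, the colength of the slice `sliceX I i` is the size `cc` of the `i`-th column of the staircase,
and the column sizes satisfy the hypotheses `SeqHyp` of the convexity lemma.
-/

set_option autoImplicit false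

namespace Groth.Agent.H79.MonoDual

open MvPolynomial W4c1hilbpn Groth.Agent.H10.TP

section general

variable {n : ℕ} {k : Type*} [Field k] {J : Ideal (MvPolynomial (Fin n) k)}

/-- the colength of a monomial ideal in `n` variables is the number of standard exponents. -/
theorem finrank_quot_eq_card_stdF' (hJ : IsMonomial J)
    [Module.Finite k (MvPolynomial (Fin n) k ⧸ J)] :
    Module.finrank k (MvPolynomial (Fin n) k ⧸ J) = (stdF hJ).card := by
  classical
  let Φ : (MvPolynomial (Fin n) k ⧸ J) →ₗ[k] (↥(stdF hJ) → k) :=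
    LinearMap.pi fun δ => ell hJ δ.1
  have hinj : Function.Injective Φ := by
    rw [← LinearMap.ker_eq_bot, eq_bot_iff]
    intro f hf
    rw [LinearMap.mem_ker] at hf
    rw [Submodule.mem_bot, eq_sum_ell hJ f]
    refine Finset.sum_eq_zero fun δ hδ => ?_
    have : ell hJ δ f = 0 := congrFun hf ⟨δ, hδ⟩
    rw [this, zero_smul]
  have hsurj : Function.Surjective Φ := by
    intro g
    refine ⟨∑ δ : ↥(stdF hJ), g δ • Ideal.Quotient.mk J (monomial δ.1 (1 : k)), ?_⟩
    funext δ'
    change ell hJ δ'.1 (∑ δ : ↥(stdF hJ), g δ • Ideal.Quotient.mk J (monomial δ.1 (1 : k))) = g δ'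
    rw [map_sum, Finset.sum_eq_single δ']
    · rw [map_smul, ell_mk_monomial hJ ((mem_stdF hJ).1 δ'.2), smul_eq_mul, mul_one]
    · intro δ _ hne
      rw [map_smul, ell_mk hJ ((mem_stdF hJ).1 δ'.2), coeff_monomial, if_neg, smul_zero]
      intro h'
      exact hne (Subtype.ext h')
    · intro h; exact absurd (Finset.mem_univ _) h
  rw [LinearEquiv.finrank_eq (LinearEquiv.ofBijective Φ ⟨hinj, hsurj⟩),
    Module.finrank_fintype_fun_eq_card, Fintype.card_coe]

/-- monomial ideals with the same exponent sets are equal. -/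
theorem eq_of_exps_eq {J' : Ideal (MvPolynomial (Fin n) k)} (hJ : IsMonomial J)
    (hJ' : IsMonomial J') (h : exps J = exps J') : J = J' := by
  have key : ∀ {A B : Ideal (MvPolynomial (Fin n) k)}, IsMonomial A → exps A ⊆ exps B →
      A ≤ B := by
    intro A B hA hAB p hp
    rw [p.as_sum]
    refine B.sum_mem fun β hβ => ?_
    have h1 : β ∈ exps B := hAB (hA p hp β hβ)
    have : monomial β (coeff β p) = C (coeff β p) * monomial β (1 : k) := by
      rw [C_mul_monomial, mul_one]
    rw [this]
    exact B.mul_mem_left _ h1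
  exact le_antisymm (key hJ h.subset) (key hJ' h.symm.subset)

end general

variable {k : Type*} [Field k] {I : Ideal (MvPolynomial (Fin 3) k)}

theorem cst_e3 (a b c : ℕ) : cst (e3 a b c) = vec a b c := by
  funext l
  fin_cases l <;> rfl

variable (hI : IsStronglyStable I) [Module.Finite k (MvPolynomial (Fin 3) k ⧸ I)]

theorem vec_mem_Lset {a b c : ℕ} : vec a b c ∈ Lset hI.1 ↔ e3 a b c ∉ exps I := by
  rw [← cst_e3, cst_mem_Lset]

/-- the staircase of a strongly stable ideal is strongly stable. -/
theorem isSStair_Lset : IsSStair (Lset hI.1) where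
  toIsStair := isStair_Lset hI.1
  move := by
    intro u hu i j hij hpos
    have hn := ((mem_Lset hI.1).1 hu).1
    have hw : NN (u - ev i + ev j) := by
      intro l
      simp only [Pi.add_apply, Pi.sub_apply, ev_apply]
      have := hn l
      split_ifs with h1 h2 h2
      · omega
      · subst h1; omega
      · omega
      · omega
    rw [mem_Lset]
    refine ⟨hw, fun hmem => ?_⟩
    have hne : i ≠ j := ne_of_lt hij
    have h1 := hI.2 _ hmem i j hij (by
      rw [tn_apply]
      simp only [Pi.add_apply, Pi.sub_apply, ev_apply, if_neg hne.symm, if_true]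
      have := hn j
      omega)
    have e : tn (u - ev i + ev j) - Finsupp.single j 1 + Finsupp.single i 1 = tn u := by
      ext l
      simp only [Finsupp.coe_add, Finsupp.coe_tsub, Pi.add_apply, Pi.sub_apply, tn_apply,
        ev_apply, Finsupp.single_apply]
      have := hn l
      by_cases c1 : l = i
      · subst c1
        rw [if_pos rfl, if_neg hne, if_neg hne.symm, if_pos rfl]
        omega
      · by_cases c2 : l = j
        · subst c2
          rw [if_neg c1, if_pos rfl, if_pos rfl, if_neg (Ne.symm c1)]
          omega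
        · rw [if_neg c1, if_neg c2, if_neg (Ne.symm c2), if_neg (Ne.symm c1)]
          omega
    rw [e] at h1
    exact ((mem_Lset hI.1).1 hu).2 h1

omit [Module.Finite k (MvPolynomial (Fin 3) k ⧸ I)] in
include hI in
/-- the slices of a monomial ideal are monomial ideals. -/
theorem isMonomial_sliceX (i : ℕ) : IsMonomial (sliceX I i) := by
  intro p hp β hβ
  change β ∈ exps (sliceX I i)
  rw [Groth.Agent.H67.monomial_mem_sliceX_iff I hI.1]
  exact (Groth.Agent.H67.mem_sliceX_iff I hI.1 i p).1 hp β hβ

/-- the standard exponents of a slice, inside the staircase. -/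
def toCol (i : ℕ) (δ : Fin 2 →₀ ℕ) : Z3 := vec i (δ 0) (δ 1)

theorem toCol_injective (i : ℕ) : Function.Injective (toCol i) := by
  intro δ δ' h
  obtain ⟨_, h1, h2⟩ := vec_injective h
  ext l
  fin_cases l
  · exact h1
  · exact h2

theorem toCol_mem (i : ℕ) (δ : Fin 2 →₀ ℕ) :
    toCol i δ ∈ col (Lset hI.1) i ↔ δ ∉ exps (sliceX I i) := by
  rw [mem_col, Groth.Agent.H67.monomial_mem_sliceX_iff I hI.1]
  unfold toCol
  rw [vec_mem_Lset hI]
  exact ⟨fun h => h.1, fun h => ⟨h, rfl⟩⟩

include hI in
/-- the slices have finite colength. -/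
theorem finite_quot_sliceX (i : ℕ) :
    Module.Finite k (MvPolynomial (Fin 2) k ⧸ sliceX I i) := by
  apply finite_quot_of_finite_compl
  refine Set.Finite.of_injOn (f := toCol i) (t := (↑(col (Lset hI.1) i) : Set Z3)) ?_
    (fun δ _ δ' _ h => toCol_injective i h) (Finset.finite_toSet _)
  intro δ hδ
  exact (toCol_mem hI i δ).2 hδ

/-- the colength of the `i`-th slice is the size of the `i`-th column of the staircase. -/
theorem finrank_quot_sliceX (i : ℕ) :
    Module.finrank k (MvPolynomial (Fin 2) k ⧸ sliceX I i) = cc (Lset hI.1) i := by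
  classical
  have hfin := finite_quot_sliceX hI i
  rw [finrank_quot_eq_card_stdF' (isMonomial_sliceX hI i)]
  unfold cc
  apply Finset.card_bij (fun δ _ => toCol i δ)
  · intro δ hδ
    exact (toCol_mem hI i δ).2 ((mem_stdF _).1 hδ)
  · intro δ _ δ' _ h
    exact toCol_injective i h
  · intro v hv
    obtain ⟨hvL, h0⟩ := mem_col.1 hv
    have hn := ((mem_Lset hI.1).1 hvL).1
    let δ : Fin 2 →₀ ℕ := Finsupp.equivFunOnFinite.symm ![(v 1).toNat, (v 2).toNat]
    have hδ : toCol i δ = v := by
      symm
      apply vec_ext h0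
      · change v 1 = (((v 1).toNat : ℕ) : ℤ)
        have := hn 1; omega
      · change v 2 = (((v 2).toNat : ℕ) : ℤ)
        have := hn 2; omega
    refine ⟨δ, ?_, hδ⟩
    rw [mem_stdF, ← toCol_mem hI i δ, hδ]
    exact hv

/-- the column sizes of the staircase of a strongly stable ideal satisfy the convexity hypotheses. -/
theorem seqHyp_Lset : SeqHyp (cc (Lset hI.1)) (mm (Lset hI.1)) where
  h1 := cc_succ_add_le (isSStair_Lset hI)
  h2 := mm_succ_le (isStair_Lset hI.1)
  h3 := cc_le (isSStair_Lset hI)

/-- partial sums of the column sizes are bounded by the colength. -/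
theorem sum_cc_le (N : ℕ) :
    ∑ i ∈ Finset.range N, cc (Lset hI.1) i ≤ Module.finrank k (MvPolynomial (Fin 3) k ⧸ I) := by
  obtain ⟨R, hR⟩ := exists_bound (Lset hI.1)
  have hL := isStair_Lset hI.1
  have h1 := card_eq_sum_cc hL (N := max N (R + 1)) (fun v hv => by
    have := hR v hv 0
    have : ((R + 1 : ℕ) : ℤ) ≤ ((max N (R + 1) : ℕ) : ℤ) := by
      exact_mod_cast le_max_right _ _
    push_cast at this
    omega)
  rw [finrank_quot_eq_card_Lset hI.1, h1]
  apply Finset.sum_le_sum_of_subset
  intro i hi
  rw [Finset.mem_range] at hi ⊢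
  exact lt_of_lt_of_le hi (le_max_left _ _)

end Groth.Agent.H79.MonoDual
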