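import Mathlib
import Groth.Agent.H79.MonoStable3

/-!
# Slice colengths of strongly stable ideals of bounded colength

For a strongly stable ideal `I ⊆ k[x,y,z]` of colength at most `C(r+2, 3)`, the tail sums of the
slice colengths are bounded by those of `m^r`, and if the first `r` slices have the colengths of the
slices of `m^r` then `I = m^r`.
-/

set_option autoImplicit false

namespace Groth.Agent.H79.MonoDual

open MvPolynomial W4c1hilbpn Groth.Agent.H10.TP

variable {k : Type*} [Field k] {I : Ideal (MvPolynomial (Fin 3) k)}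
variable (hI : IsStronglyStable I) [Module.Finite k (MvPolynomial (Fin 3) k ⧸ I)]

/-- tail sums of the column sizes are bounded by the model. -/
theorem sum_Ico_cc_le {r : ℕ}
    (hd : Module.finrank k (MvPolynomial (Fin 3) k ⧸ I) ≤ Nat.choose (r + 2) 3)
    {j N : ℕ} (hjN : j ≤ N) (hN : r ≤ N) :
    ∑ i ∈ Finset.Ico j N, cc (Lset hI.1) i ≤ ∑ i ∈ Finset.Ico j N, TT r i :=
  sum_Ico_le (seqHyp_Lset hI) (fun N => le_trans (sum_cc_le hI N) hd) hjN hN

/-- if the first `r` columns have the model sizes, the staircase is the simplex. -/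
theorem mem_Lset_iff_of_cc_eq {r : ℕ}
    (hd : Module.finrank k (MvPolynomial (Fin 3) k ⧸ I) ≤ Nat.choose (r + 2) 3)
    (heq : ∀ i, i < r → cc (Lset hI.1) i = TT r i) (v : Z3) :
    v ∈ Lset hI.1 ↔ NN v ∧ v 0 + v 1 + v 2 < (r : ℤ) := by
  have hS := isSStair_Lset hI
  have hL := isStair_Lset hI.1
  rcases Nat.eq_zero_or_pos r with hr | hr
  · subst hr
    have hcard : (Lset hI.1).card = 0 := by
      rw [← finrank_quot_eq_card_Lset hI.1]
      have : Nat.choose (0 + 2) 3 = 0 := rfl
      omega
    rw [Finset.card_eq_zero] at hcard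
    rw [hcard]
    constructor
    · intro h; exact absurd h (Finset.notMem_empty _)
    · rintro ⟨hn, hlt⟩
      have := hn 0; have := hn 1; have := hn 2
      push_cast at hlt
      omega
  obtain ⟨hm, hcr⟩ := base_eq_of_eq (seqHyp_Lset hI) hr heq
  constructor
  · intro hv
    have hn := hL.nn v hv
    refine ⟨hn, ?_⟩
    have h0 := hn 0
    have hcol : v ∈ col (Lset hI.1) (v 0).toNat := mem_col.2 ⟨hv, by omega⟩
    by_cases hlt : (v 0).toNat < r
    · have := col_sub_tri hS hcol
      rw [hm _ hlt] at this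
      have := hn 1; have := hn 2
      omega
    · exfalso
      have h1 := cc_anti hS (not_lt.1 hlt)
      rw [hcr] at h1
      have : 0 < cc (Lset hI.1) (v 0).toNat := Finset.card_pos.2 ⟨v, hcol⟩
      omega
  · rintro ⟨hn, hlt⟩
    have h0 := hn 0; have h1 := hn 1; have h2 := hn 2
    have hi : (v 0).toNat < r := by omega
    have hcc : cc (Lset hI.1) (v 0).toNat = Nat.choose (mm (Lset hI.1) (v 0).toNat + 1) 2 := by
      rw [heq _ hi, hm _ hi]; rfl
    have := vec_mem_of_cc_eq hS hcc (b := (v 1).toNat) (c := (v 2).toNat) (by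
      rw [hm _ hi]; omega)
    have e : v = vec (v 0).toNat (v 1).toNat (v 2).toNat := eq_vec hn
    rw [e]; exact this

/-- if the first `r` columns have the model sizes, the ideal is the `r`-th power of the irrelevant
ideal. -/
theorem eq_mpow_of_cc_eq {r : ℕ}
    (hd : Module.finrank k (MvPolynomial (Fin 3) k ⧸ I) ≤ Nat.choose (r + 2) 3)
    (heq : ∀ i, i < r → cc (Lset hI.1) i = TT r i) : I = mpow 3 k r := by
  apply eq_of_exps_eq hI.1 (isMonomial_mpow r)
  ext β
  rw [mem_exps_mpow, ← not_iff_not, ← cst_mem_Lset hI.1, mem_Lset_iff_of_cc_eq hI hd heq]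
  have hdg : ((dg β : ℕ) : ℤ) = cst β 0 + cst β 1 + cst β 2 := by
    unfold dg
    rw [Fin.sum_univ_three]
    push_cast
    rfl
  constructor
  · rintro ⟨_, h⟩ hle
    rw [← hdg] at h
    omega
  · intro h
    refine ⟨NN_cst β, ?_⟩
    rw [← hdg]
    omega

include hI in
/-- the two assertions about the slice colengths of a strongly stable ideal. -/
theorem sliceX_main {r : ℕ}
    (hd : Module.finrank k (MvPolynomial (Fin 3) k ⧸ I) ≤ Nat.choose (r + 2) 3) :
    (∀ j, j ≤ r → ∑ i ∈ Finset.Ico j r, Module.finrank k (MvPolynomial (Fin 2) k ⧸ sliceX I i) ≤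
        ∑ i ∈ Finset.Ico j r, Nat.choose (r - i + 1) 2) ∧
    ((∀ j, j < r → ∑ i ∈ Finset.Ico j r, Module.finrank k (MvPolynomial (Fin 2) k ⧸ sliceX I i) =
        ∑ i ∈ Finset.Ico j r, Nat.choose (r - i + 1) 2) → I = mpow 3 k r) := by
  simp only [finrank_quot_sliceX hI]
  refine ⟨fun j hj => sum_Ico_cc_le hI hd hj le_rfl, fun h => ?_⟩
  apply eq_mpow_of_cc_eq hI hd
  intro i hi
  have h1 := h i hi
  rw [Finset.sum_eq_sum_Ico_succ_bot hi, Finset.sum_eq_sum_Ico_succ_bot hi] at h1
  by_cases hi' : i + 1 < r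
  · have h2 := h (i + 1) hi'
    unfold TT
    omega
  · have e : i + 1 = r := by omega
    rw [e, Finset.Ico_self, Finset.sum_empty, Finset.sum_empty] at h1
    unfold TT
    omega

end Groth.Agent.H79.MonoDual
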