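import Mathlib
import Groth.Agent.H79.MonoStable2

/-!
# Sums of tail sums against the simplex model

If all tail sums of a sequence `c` on `[0, N)` are bounded by those of `TT r` (with `r ≤ N`), then the
sum of the tail sums is at most `C(r+3, 4)`, with equality only if `c = TT r` on `[0, N)`.
-/

set_option autoImplicit false

namespace Groth.Agent.H79.MonoDual

/-- the tail sums of the model. -/
theorem sum_Ico_TT {r j N : ℕ} (hj : j ≤ N) (hN : r ≤ N) :
    ∑ i ∈ Finset.Ico j N, TT r i = Nat.choose (r - j + 2) 3 := by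
  rw [Finset.sum_Ico_eq_sum_range]
  have h1 : ∀ i, TT r (j + i) = TT (r - j) i := by
    intro i
    unfold TT
    congr 1
    omega
  rw [Finset.sum_congr rfl fun i _ => h1 i]
  exact sum_TT_of_le (by omega)

/-- the hockey stick identity in degree four. -/
theorem sum_choose_three (r : ℕ) :
    ∑ s ∈ Finset.range r, Nat.choose (s + 3) 3 = Nat.choose (r + 3) 4 := by
  induction r with
  | zero => rfl
  | succ r ih =>
    rw [Finset.sum_range_succ, ih]
    rw [show r + 1 + 3 = (r + 3) + 1 from rfl, show (4 : ℕ) = 3 + 1 from rfl,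
      Nat.choose_succ_succ' (r + 3) 3]
    omega

/-- the sum of the tail sums of the model. -/
theorem sum_tails_TT {r N : ℕ} (hN : r ≤ N) :
    ∑ a ∈ Finset.range N, ∑ i ∈ Finset.Ico a N, TT r i = Nat.choose (r + 3) 4 := by
  have h1 : ∀ a ∈ Finset.range N, ∑ i ∈ Finset.Ico a N, TT r i = Nat.choose (r - a + 2) 3 := by
    intro a ha
    rw [Finset.mem_range] at ha
    exact sum_Ico_TT (le_of_lt ha) hN
  rw [Finset.sum_congr rfl h1]
  have h2 : ∑ a ∈ Finset.range N, Nat.choose (r - a + 2) 3 =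
      ∑ a ∈ Finset.range r, Nat.choose (r - a + 2) 3 := by
    symm
    apply Finset.sum_subset
    · intro i hi
      rw [Finset.mem_range] at hi ⊢
      omega
    · intro i _ hi
      rw [Finset.mem_range, not_lt] at hi
      rw [Nat.sub_eq_zero_of_le hi]
      rfl
  rw [h2, ← sum_choose_three r, ← Finset.sum_range_reflect]
  refine Finset.sum_congr rfl fun i hi => ?_
  rw [Finset.mem_range] at hi
  congr 1
  omega

variable {c : ℕ → ℕ} {r N : ℕ}

/-- the sum of the tail sums is bounded by the model. -/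
theorem sum_tails_le (hN : r ≤ N)
    (htail : ∀ j, j ≤ N → ∑ i ∈ Finset.Ico j N, c i ≤ ∑ i ∈ Finset.Ico j N, TT r i) :
    ∑ a ∈ Finset.range N, ∑ i ∈ Finset.Ico a N, c i ≤ Nat.choose (r + 3) 4 := by
  rw [← sum_tails_TT hN]
  refine Finset.sum_le_sum fun a ha => ?_
  rw [Finset.mem_range] at ha
  exact htail a (le_of_lt ha)

/-- equality of the sums of tail sums forces the model. -/
theorem eq_TT_of_sum_tails_eq (hN : r ≤ N)
    (htail : ∀ j, j ≤ N → ∑ i ∈ Finset.Ico j N, c i ≤ ∑ i ∈ Finset.Ico j N, TT r i)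
    (heq : Nat.choose (r + 3) 4 ≤ ∑ a ∈ Finset.range N, ∑ i ∈ Finset.Ico a N, c i) :
    ∀ i, i < N → c i = TT r i := by
  rw [← sum_tails_TT hN] at heq
  have hle : ∀ a ∈ Finset.range N,
      ∑ i ∈ Finset.Ico a N, c i ≤ ∑ i ∈ Finset.Ico a N, TT r i := by
    intro a ha
    rw [Finset.mem_range] at ha
    exact htail a (le_of_lt ha)
  have hsum : ∑ a ∈ Finset.range N, ∑ i ∈ Finset.Ico a N, c i =
      ∑ a ∈ Finset.range N, ∑ i ∈ Finset.Ico a N, TT r i :=
    le_antisymm (Finset.sum_le_sum hle) heq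
  have hall := (Finset.sum_eq_sum_iff_of_le hle).1 hsum
  have hall' : ∀ a, a ≤ N → ∑ i ∈ Finset.Ico a N, c i = ∑ i ∈ Finset.Ico a N, TT r i := by
    intro a ha
    rcases Nat.lt_or_ge a N with h | h
    · exact hall a (Finset.mem_range.2 h)
    · have : a = N := le_antisymm ha h
      rw [this, Finset.Ico_self, Finset.sum_empty, Finset.sum_empty]
  intro i hi
  have h1 := hall' i (le_of_lt hi)
  have h2 := hall' (i + 1) hi
  rw [Finset.sum_eq_sum_Ico_succ_bot hi, Finset.sum_eq_sum_Ico_succ_bot hi] at h1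
  omega

/-- Pascal's rule for the two target values. -/
theorem choose_four_pascal (r : ℕ) :
    Nat.choose (r + 3) 4 = Nat.choose (r + 2) 4 + Nat.choose (r + 2) 3 := by
  rw [show r + 3 = (r + 2) + 1 from rfl, show (4 : ℕ) = 3 + 1 from rfl,
    Nat.choose_succ_succ' (r + 2) 3]
  omega

end Groth.Agent.H79.MonoDual
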