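import Mathlib
import Groth.Agent.H10.TP19
import Groth.Agent.H79.MonoDual10
import Groth.Agent.H79.MonoStable3

/-!
# The piece negative exactly at `z`, bounded by sums of tails of column sizes

For a monomial ideal `J ⊆ k[x,y,z]` of finite colength whose staircase numbers satisfy
`b (i+1) j ≤ b i (j+1)`, the piece of `Hom(J, S/J)` negative exactly at the last variable has dimension
at most the sum over `a` of the tail sums `∑_{i ≥ a} cc i` of the column sizes of the staircase.
-/

set_option autoImplicit false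

namespace Groth.Agent.H79.MonoDual

open MvPolynomial W4c1hilbpn Groth.Agent.H10.TP

variable {k : Type*} [Field k] {J : Ideal (MvPolynomial (Fin 3) k)}
variable (hJ : IsMonomial J) [Module.Finite k (MvPolynomial (Fin 3) k ⧸ J)]

/-- membership of a lattice point in the staircase, via the staircase numbers. -/
theorem vec_mem_Lset_iff {a b c : ℕ} : vec a b c ∈ Lset hJ ↔ c < stairZ J a b := by
  rw [← cst_e3, cst_mem_Lset, mem_exps_e3_iff hJ, not_le]

section bound

variable {R : ℕ} (hR : ∀ v ∈ Lset hJ, ∀ j, v j ≤ (R : ℤ))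

include hR

/-- the staircase numbers vanish beyond a bound of the staircase. -/
theorem stairZ_eq_zero_of_bound {a b : ℕ} (h : R < a ∨ R < b) : stairZ J a b = 0 := by
  by_contra hne
  have hpos : 0 < stairZ J a b := Nat.pos_of_ne_zero hne
  have hmem : vec a b 0 ∈ Lset hJ := (vec_mem_Lset_iff hJ).2 hpos
  have h0 := hR _ hmem 0
  have h1 := hR _ hmem 1
  rw [vec_zero] at h0
  rw [vec_one] at h1
  omega

/-- the column sizes are the sums of the staircase numbers. -/
theorem cc_eq_sum_stairZ (i : ℕ) :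
    cc (Lset hJ) i = ∑ j ∈ Finset.range (R + 1), stairZ J i j := by
  have hcol : col (Lset hJ) i = ((Finset.range (R + 1)).sigma
      (fun j => Finset.range (stairZ J i j))).image (fun x => vec i x.1 x.2) := by
    ext v
    rw [mem_col, Finset.mem_image]
    constructor
    · rintro ⟨hv, h0⟩
      have hn := (isStair_Lset hJ).nn v hv
      have e := eq_vec hn
      have hi : (v 0).toNat = i := by omega
      rw [hi] at e
      refine ⟨⟨(v 1).toNat, (v 2).toNat⟩, ?_, e.symm⟩
      rw [Finset.mem_sigma, Finset.mem_range, Finset.mem_range]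
      dsimp only
      constructor
      · have := hR v hv 1
        have := hn 1
        omega
      · rw [← vec_mem_Lset_iff hJ, ← e]
        exact hv
    · rintro ⟨⟨j, c⟩, hx, rfl⟩
      rw [Finset.mem_sigma, Finset.mem_range, Finset.mem_range] at hx
      exact ⟨(vec_mem_Lset_iff hJ).2 hx.2, rfl⟩
  unfold cc
  rw [hcol, Finset.card_image_of_injective, Finset.card_sigma]
  · simp only [Finset.card_range]
  · rintro ⟨j, c⟩ ⟨j', c'⟩ h
    obtain ⟨_, rfl, rfl⟩ := vec_injective h
    rfl

/-- the bound of the `(+,+,-)` pieces, evaluated for staircase numbers with `b (i+1) j ≤ b i (j+1)`. -/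
theorem finsum_fSum_eq (hmono : ∀ i j, stairZ J (i + 1) j ≤ stairZ J i (j + 1)) (a1 a2 : ℕ)
    (ha2 : a2 ≤ R + 1) :
    ∑ᶠ p : ℕ × ℕ, fSum J a1 a2 p = ∑ i ∈ Finset.Ico a1 (R + 1), stairZ J i a2 := by
  classical
  have hsupp : Function.support (fSum J a1 a2) ⊆
      ((Finset.range (R + 1) ×ˢ Finset.range (R + 1) : Finset (ℕ × ℕ)) : Set (ℕ × ℕ)) := by
    intro p hp
    rw [Function.mem_support] at hp
    rw [Finset.mem_coe, Finset.mem_product, Finset.mem_range, Finset.mem_range]
    by_contra hcon
    apply hp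
    have h0 : stairZ J p.1 p.2 = 0 := stairZ_eq_zero_of_bound hJ hR (by omega)
    unfold fSum
    rw [h0]
    split_ifs <;> simp
  rw [finsum_eq_finsetSum_of_support_subset _ hsupp, Finset.sum_product]
  have hrow : ∀ i, ∑ j ∈ Finset.range (R + 1), fSum J a1 a2 (i, j) =
      if a1 ≤ i then stairZ J i a2 else 0 := by
    intro i
    by_cases hi : a1 ≤ i
    · rw [if_pos hi]
      have h1 : ∀ j, fSum J a1 a2 (i, j) =
          if a2 ≤ j then stairZ J i j - stairZ J i (j + 1) else 0 := by
        intro j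
        unfold fSum
        by_cases hj : a2 ≤ j
        · rw [if_pos ⟨hi, hj⟩, if_pos hj, max_eq_right (hmono i j)]
        · rw [if_neg (fun h => hj h.2), if_neg hj]
      rw [Finset.sum_congr rfl fun j _ => h1 j, ← Finset.sum_filter]
      have hfilt : (Finset.range (R + 1)).filter (fun j => a2 ≤ j) = Finset.Ico a2 (R + 1) := by
        ext j
        rw [Finset.mem_filter, Finset.mem_range, Finset.mem_Ico]
        tauto
      rw [hfilt]
      have hz : stairZ J i (R + 1) = 0 := stairZ_eq_zero_of_bound hJ hR (Or.inr (by omega))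
      have htel : ∀ n, a2 ≤ n → ∑ j ∈ Finset.Ico a2 n, (stairZ J i j - stairZ J i (j + 1)) =
          stairZ J i a2 - stairZ J i n := by
        intro n hn
        induction n, hn using Nat.le_induction with
        | base => rw [Finset.Ico_self, Finset.sum_empty, Nat.sub_self]
        | succ n hn ih =>
          rw [Finset.sum_Ico_succ_top hn, ih]
          have h2 : stairZ J i (n + 1) ≤ stairZ J i n := stairZ_anti hJ le_rfl (Nat.le_succ n)
          have h3 : stairZ J i n ≤ stairZ J i a2 := stairZ_anti hJ le_rfl hn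
          omega
      rw [htel (R + 1) ha2, hz, Nat.sub_zero]
    · rw [if_neg hi]
      refine Finset.sum_eq_zero fun j _ => ?_
      unfold fSum
      rw [if_neg (fun h => hi h.1)]
  rw [Finset.sum_congr rfl fun i _ => hrow i, ← Finset.sum_filter]
  have hfilt : (Finset.range (R + 1)).filter (fun i => a1 ≤ i) = Finset.Ico a1 (R + 1) := by
    ext j
    rw [Finset.mem_filter, Finset.mem_range, Finset.mem_Ico]
    tauto
  rw [hfilt]

/-- degrees `(a1, a2, -m)` outside the box have vanishing graded piece. -/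
theorem tPiece_am_eq_bot_of_large {a1 a2 m : ℕ} (h : R + 1 < m) : tPiece J (am a1 a2 m) = ⊥ := by
  apply tPiece_eq_bot_of_large hJ hR (am a1 a2 m) (j := 2)
  left
  rw [am_two]
  omega

/-- the span of the pieces of degrees `(a1, a2, c)` with `c < 0` as a finite sum. -/
theorem finrank_ppn_eq (a1 a2 : ℕ) :
    Module.finrank k ↥(⨆ α : {α : Fin 3 → ℤ // α 0 = (a1 : ℤ) ∧ α 1 = (a2 : ℤ) ∧ α 2 < 0},
      tPiece J α.1) = ∑ m ∈ Finset.Icc 1 (R + 1), Module.finrank k ↥(tPiece J (am a1 a2 m)) := by
  classical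
  have hfT : Module.Finite k (Tgt J) := finite_Tgt hJ
  have h1 := finrank_iSup_tPiece hJ
    {α : Fin 3 → ℤ | α 0 = (a1 : ℤ) ∧ α 1 = (a2 : ℤ) ∧ α 2 < 0}
    ((Finset.Icc 1 (R + 1)).image (am a1 a2)) ?_ ?_
  rotate_left
  · intro α hα
    rw [Finset.mem_image] at hα
    obtain ⟨m, hm, rfl⟩ := hα
    rw [Finset.mem_Icc] at hm
    exact ⟨rfl, rfl, by rw [am_two]; omega⟩
  · rintro α ⟨h0, h1, h2⟩ hnot
    have hα : α = am a1 a2 (-α 2).toNat := by
      funext j
      fin_cases j
      · exact h0
      · exact h1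
      · change α 2 = -(((-α 2).toNat : ℕ) : ℤ)
        omega
    rw [hα]
    apply tPiece_am_eq_bot_of_large hJ hR
    by_contra hle
    apply hnot
    rw [Finset.mem_image]
    refine ⟨(-α 2).toNat, ?_, hα.symm⟩
    rw [Finset.mem_Icc]
    omega
  rw [Finset.sum_image (fun m _ m' _ h => am_injective a1 a2 h)] at h1
  exact h1

/-- the piece negative exactly at the last variable as a finite sum. -/
theorem finrank_sig_two_eq :
    Module.finrank k ↥(sigPiece J ({2} : Set (Fin 3))) =
      ∑ a1 ∈ Finset.range (R + 1), ∑ a2 ∈ Finset.range (R + 1), ∑ m ∈ Finset.Icc 1 (R + 1),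
        Module.finrank k ↥(tPiece J (am a1 a2 m)) := by
  classical
  have hfT : Module.Finite k (Tgt J) := finite_Tgt hJ
  have h1 := finrank_iSup_tPiece hJ
    {α : Fin 3 → ℤ | ∀ j, α j < 0 ↔ j ∈ ({2} : Set (Fin 3))}
    ((Finset.range (R + 1) ×ˢ (Finset.range (R + 1) ×ˢ Finset.Icc 1 (R + 1))).image
      (fun p => am p.1 p.2.1 p.2.2)) ?_ ?_
  rotate_left
  · intro α hα j
    rw [Finset.mem_image] at hα
    obtain ⟨⟨a1, a2, m⟩, hm, rfl⟩ := hα
    rw [Finset.mem_product, Finset.mem_product, Finset.mem_Icc] at hm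
    rw [Set.mem_singleton_iff]
    fin_cases j
    · change ((a1 : ℤ) < 0) ↔ (0 : Fin 3) = 2
      constructor
      · intro h; omega
      · intro h; exact absurd h (by decide)
    · change ((a2 : ℤ) < 0) ↔ (1 : Fin 3) = 2
      constructor
      · intro h; omega
      · intro h; exact absurd h (by decide)
    · change (-(m : ℤ) < 0) ↔ (2 : Fin 3) = 2
      constructor
      · intro _; rfl
      · intro _
        have := hm.2.2.1
        dsimp only at this
        omega
  · intro α hα hnot
    have h0 : ¬ α 0 < 0 := fun h' => absurd ((hα 0).1 h') (by decide)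
    have h1 : ¬ α 1 < 0 := fun h' => absurd ((hα 1).1 h') (by decide)
    have h2 : α 2 < 0 := (hα 2).2 rfl
    by_cases c0 : (R : ℤ) < α 0
    · exact tPiece_eq_bot_of_large hJ hR α (Or.inr c0)
    by_cases c1 : (R : ℤ) < α 1
    · exact tPiece_eq_bot_of_large hJ hR α (Or.inr c1)
    by_cases c2 : α 2 < -(R : ℤ) - 1
    · exact tPiece_eq_bot_of_large hJ hR α (Or.inl c2)
    exfalso
    apply hnot
    rw [Finset.mem_image]
    refine ⟨((α 0).toNat, (α 1).toNat, (-α 2).toNat), ?_, ?_⟩
    · rw [Finset.mem_product, Finset.mem_product, Finset.mem_range, Finset.mem_range,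
        Finset.mem_Icc]
      dsimp only
      omega
    · funext j
      fin_cases j
      · change (((α 0).toNat : ℕ) : ℤ) = α 0
        omega
      · change (((α 1).toNat : ℕ) : ℤ) = α 1
        omega
      · change -(((-α 2).toNat : ℕ) : ℤ) = α 2
        omega
  rw [Finset.sum_image] at h1
  · rw [Finset.sum_product] at h1
    rw [show sigPiece J ({2} : Set (Fin 3)) =
      ⨆ α : {α : Fin 3 → ℤ // α ∈ {α : Fin 3 → ℤ | ∀ j, α j < 0 ↔ j ∈ ({2} : Set (Fin 3))}},
        tPiece J α.1 from rfl, h1]
    refine Finset.sum_congr rfl fun a1 _ => ?_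
    rw [Finset.sum_product]
  · rintro ⟨a1, a2, m⟩ _ ⟨a1', a2', m'⟩ _ h
    have e0 := congrFun h 0
    have e1 := congrFun h 1
    have e2 := congrFun h 2
    dsimp only at e0 e1 e2
    rw [am_zero, am_zero] at e0
    rw [am_one, am_one] at e1
    rw [am_two, am_two] at e2
    have e0' : a1 = a1' := by omega
    have e1' : a2 = a2' := by omega
    have e2' : m = m' := by omega
    rw [e0', e1', e2']

/-- the piece negative exactly at the last variable is bounded by the sum of the tail sums of the
column sizes. -/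
theorem finrank_sig_two_le (hmono : ∀ i j, stairZ J (i + 1) j ≤ stairZ J i (j + 1)) :
    Module.finrank k ↥(sigPiece J ({2} : Set (Fin 3))) ≤
      ∑ a ∈ Finset.range (R + 1), ∑ i ∈ Finset.Ico a (R + 1), cc (Lset hJ) i := by
  rw [finrank_sig_two_eq hJ hR]
  refine Finset.sum_le_sum fun a1 _ => ?_
  have h1 : ∀ a2 ∈ Finset.range (R + 1), ∑ m ∈ Finset.Icc 1 (R + 1),
      Module.finrank k ↥(tPiece J (am a1 a2 m)) ≤ ∑ i ∈ Finset.Ico a1 (R + 1), stairZ J i a2 := by
    intro a2 ha2
    rw [Finset.mem_range] at ha2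
    rw [← finrank_ppn_eq hJ hR a1 a2, ← finsum_fSum_eq hJ hR hmono a1 a2 (by omega)]
    exact main_ppn hJ a1 a2
  refine le_trans (Finset.sum_le_sum h1) ?_
  rw [Finset.sum_comm]
  refine le_of_eq (Finset.sum_congr rfl fun i _ => ?_)
  rw [cc_eq_sum_stairZ hJ hR]

end bound

end Groth.Agent.H79.MonoDual
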