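import Mathlib
import Groth.Agent.H79.MonoStable6

/-!
# Swapping the last two variables

For a monomial ideal `I ⊆ k[x,y,z]` of finite colength, `swI I` is the monomial ideal obtained by
swapping `y` and `z`.  Its staircase is the swapped staircase, its staircase numbers in the `z`
direction are those of `I` in the `y` direction, its column sizes agree with those of `I`, and the
piece of `Hom(swI I, S/swI I)` negative exactly at `z` has the dimension of the piece of
`Hom(I, S/I)` negative exactly at `y`.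
-/

set_option autoImplicit false

namespace Groth.Agent.H79.MonoDual

open MvPolynomial W4c1hilbpn Groth.Agent.H10.TP

/-- swap the last two entries of an exponent vector. -/
noncomputable def swE (β : Fin 3 →₀ ℕ) : Fin 3 →₀ ℕ := e3 (β 0) (β 2) (β 1)

theorem swE_zero (β : Fin 3 →₀ ℕ) : swE β 0 = β 0 := rfl
theorem swE_one (β : Fin 3 →₀ ℕ) : swE β 1 = β 2 := rfl
theorem swE_two (β : Fin 3 →₀ ℕ) : swE β 2 = β 1 := rfl

theorem swE_swE (β : Fin 3 →₀ ℕ) : swE (swE β) = β := by
  apply ext3 <;> rfl

theorem swE_e3 (a b c : ℕ) : swE (e3 a b c) = e3 a c b := rfl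

theorem swE_le {β β' : Fin 3 →₀ ℕ} (h : β ≤ β') : swE β ≤ swE β' := by
  rw [le_iff3] at h ⊢
  exact ⟨h.1, h.2.2, h.2.1⟩

theorem swE_injective : Function.Injective swE := fun a b h => by
  rw [← swE_swE a, h, swE_swE]

/-- swap the last two entries of an integer vector. -/
def swZ (v : Z3) : Z3 := ![v 0, v 2, v 1]

theorem swZ_zero (v : Z3) : swZ v 0 = v 0 := rfl
theorem swZ_one (v : Z3) : swZ v 1 = v 2 := rfl
theorem swZ_two (v : Z3) : swZ v 2 = v 1 := rfl

theorem swZ_swZ (v : Z3) : swZ (swZ v) = v := by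
  funext l
  fin_cases l <;> rfl

theorem swZ_injective : Function.Injective swZ := fun a b h => by
  rw [← swZ_swZ a, h, swZ_swZ]

theorem swZ_add (u v : Z3) : swZ (u + v) = swZ u + swZ v := by
  funext l
  fin_cases l <;> rfl

/-- swap the last two indices. -/
def swF (e : Fin 3) : Fin 3 := ![0, 2, 1] e

theorem swF_swF (e : Fin 3) : swF (swF e) = e := by
  revert e; decide

theorem swZ_ev (e : Fin 3) : swZ (ev e) = ev (swF e) := by
  funext l
  fin_cases e <;> fin_cases l <;> rfl

theorem NN_swZ {v : Z3} : NN (swZ v) ↔ NN v := by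
  constructor
  · intro h l
    fin_cases l
    · exact h 0
    · exact h 2
    · exact h 1
  · intro h l
    fin_cases l
    · exact h 0
    · exact h 2
    · exact h 1

theorem tn_swZ (v : Z3) : tn (swZ v) = swE (tn v) := by
  apply ext3 <;> rfl

theorem swZ_vec (a b c : ℕ) : swZ (vec a b c) = vec a c b := by
  funext l
  fin_cases l <;> rfl

/-- the swapped staircase. -/
noncomputable def swL (L : Finset Z3) : Finset Z3 := L.image swZ

theorem mem_swL {L : Finset Z3} {v : Z3} : v ∈ swL L ↔ swZ v ∈ L := by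
  unfold swL
  rw [Finset.mem_image]
  constructor
  · rintro ⟨u, hu, rfl⟩
    rw [swZ_swZ]; exact hu
  · intro h
    exact ⟨swZ v, h, swZ_swZ v⟩

/-- the columns of the swapped staircase have the same sizes. -/
theorem cc_swL (L : Finset Z3) (i : ℕ) : cc (swL L) i = cc L i := by
  have h : col (swL L) i = (col L i).image swZ := by
    ext v
    rw [mem_col, mem_swL, Finset.mem_image]
    constructor
    · rintro ⟨hv, h0⟩
      exact ⟨swZ v, mem_col.2 ⟨hv, h0⟩, swZ_swZ v⟩
    · rintro ⟨u, hu, rfl⟩
      rw [swZ_swZ]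
      exact mem_col.1 hu
  unfold cc
  rw [h, Finset.card_image_of_injective _ swZ_injective]

section WWswap

variable {k : Type*} [Field k] {L : Finset Z3} {γ : Z3}

/-- membership in the combinatorial graded piece is invariant under the swap. -/
theorem mem_WW_swL {F : Z3 → k} :
    F ∈ WW k (swL L) (swZ γ) ↔ (fun v => F (swZ v)) ∈ WW k L γ := by
  rw [mem_WW, mem_WW]
  constructor
  · rintro ⟨h1, h2⟩
    refine ⟨fun β hβ => h1 (swZ β) ?_, fun β e hn hL hmem => ?_⟩
    · rw [NN_swZ, mem_swL, ← swZ_add, mem_swL, swZ_swZ, swZ_swZ]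
      exact hβ
    · have := h2 (swZ β) (swF e) (NN_swZ.2 hn) (by rw [mem_swL, swZ_swZ]; exact hL)
        (by rw [← swZ_ev, ← swZ_add, ← swZ_add, mem_swL, swZ_swZ]; exact hmem)
      rw [← swZ_ev, ← swZ_add] at this
      exact this
  · rintro ⟨h1, h2⟩
    refine ⟨fun β hβ => ?_, fun β e hn hL hmem => ?_⟩
    · have := h1 (swZ β) (by
        rw [NN_swZ]
        rw [mem_swL, mem_swL] at hβ
        rw [swZ_add, swZ_swZ] at hβ
        exact hβ)
      rw [swZ_swZ] at this
      exact this
    · rw [mem_swL] at hL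
      have := h2 (swZ β) (swF e) (NN_swZ.2 hn) hL (by
        rw [mem_swL, swZ_add, swZ_add, swZ_swZ, swZ_ev] at hmem
        exact hmem)
      rw [← swZ_ev, ← swZ_add, swZ_swZ, swZ_swZ] at this
      exact this

/-- the swap as a linear automorphism of the functions on `ℤ³`. -/
noncomputable def swEquiv : Z3 ≃ Z3 where
  toFun := swZ
  invFun := swZ
  left_inv := swZ_swZ
  right_inv := swZ_swZ

variable (k L γ) in
/-- the combinatorial graded pieces of the swapped staircase have the same dimensions. -/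
theorem finrank_WW_swL :
    Module.finrank k ↥(WW k (swL L) (swZ γ)) = Module.finrank k ↥(WW k L γ) := by
  have h : WW k (swL L) (swZ γ) =
      (WW k L γ).comap ((LinearEquiv.funCongrLeft k k swEquiv : (Z3 → k) ≃ₗ[k] (Z3 → k)) :
        (Z3 → k) →ₗ[k] (Z3 → k)) := by
    ext F
    rw [Submodule.mem_comap, mem_WW_swL]
    rfl
  rw [h]
  exact LinearEquiv.finrank_eq (LinearEquiv.ofSubmodule' _ _)

end WWswap

variable {k : Type*} [Field k] (I : Ideal (MvPolynomial (Fin 3) k))

/-- the ideal with the last two variables swapped. -/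
noncomputable def swI : Ideal (MvPolynomial (Fin 3) k) :=
  Ideal.span ((fun s => monomial s (1 : k)) '' {β | swE β ∈ exps I})

variable {I}

theorem mem_exps_swI {β : Fin 3 →₀ ℕ} : β ∈ exps (swI I) ↔ swE β ∈ exps I := by
  classical
  rw [mem_exps_iff]
  unfold swI
  rw [mem_ideal_span_monomial_image]
  constructor
  · intro h
    obtain ⟨s, hs, hle⟩ := h β (by rw [support_monomial, if_neg one_ne_zero]; exact Finset.mem_singleton_self β)
    exact exps_of_le I hs (swE_le hle)
  · intro h xi hxi
    rw [support_monomial, if_neg one_ne_zero, Finset.mem_singleton] at hxi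
    exact ⟨β, h, by rw [hxi]⟩

theorem isMonomial_swI : IsMonomial (swI I) := by
  classical
  intro p hp β hβ
  unfold swI at hp ⊢
  rw [mem_ideal_span_monomial_image] at hp ⊢
  intro xi hxi
  rw [support_monomial, if_neg one_ne_zero, Finset.mem_singleton] at hxi
  rw [hxi]
  exact hp β hβ

variable (hI : IsMonomial I) [Module.Finite k (MvPolynomial (Fin 3) k ⧸ I)]

include hI in
theorem finite_quot_swI : Module.Finite k (MvPolynomial (Fin 3) k ⧸ swI I) := by
  apply finite_quot_of_finite_compl
  have h : {δ : Fin 3 →₀ ℕ | δ ∉ exps (swI I)} = swE ⁻¹' {δ | δ ∉ exps I} := by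
    ext δ
    rw [Set.mem_preimage, Set.mem_ofPred_eq, Set.mem_ofPred_eq, mem_exps_swI]
  rw [h]
  exact (finite_compl_exps hI).preimage swE_injective.injOn

omit [Module.Finite k (MvPolynomial (Fin 3) k ⧸ I)] in
/-- the staircase numbers of the swapped ideal. -/
theorem stairZ_swI (a b : ℕ) : stairZ (swI I) a b = stairY I a b := by
  unfold stairZ stairY
  apply Nat.card_congr
  apply Equiv.subtypeEquivRight
  intro c
  rw [mem_exps_swI, swE_e3]

variable [Module.Finite k (MvPolynomial (Fin 3) k ⧸ swI I)]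

/-- the staircase of the swapped ideal. -/
theorem Lset_swI : Lset (isMonomial_swI (I := I)) = swL (Lset hI) := by
  ext v
  rw [mem_swL, mem_Lset, mem_Lset, NN_swZ, mem_exps_swI, tn_swZ]

include hI in
/-- the graded pieces of the swapped ideal. -/
theorem finrank_tPiece_swI (γ : Z3) :
    Module.finrank k ↥(tPiece (swI I) (swZ γ)) = Module.finrank k ↥(tPiece I γ) := by
  rw [finrank_tPiece_eq isMonomial_swI, finrank_tPiece_eq hI, Lset_swI hI, finrank_WW_swL]

include hI in
/-- the piece negative exactly at `y` has the dimension of the piece of the swapped ideal negative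
exactly at `z`. -/
theorem finrank_sig_one_eq :
    Module.finrank k ↥(sigPiece I ({1} : Set (Fin 3))) =
      Module.finrank k ↥(sigPiece (swI I) ({2} : Set (Fin 3))) := by
  obtain ⟨R, hR⟩ := exists_bound (Lset hI)
  have hR' : ∀ v ∈ Lset (isMonomial_swI (I := I)), ∀ j, v j ≤ (R : ℤ) := by
    intro v hv j
    rw [Lset_swI hI, mem_swL] at hv
    fin_cases j
    · exact hR _ hv 0
    · exact hR _ hv 2
    · exact hR _ hv 1
  rw [finrank_sigPiece_single hI hR 1, finrank_sigPiece_single isMonomial_swI hR' 2]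
  rw [← Finset.sum_congr rfl fun γ _ => finrank_tPiece_swI hI γ]
  have e12 : (1 : Fin 3) + 1 = 2 := rfl
  have e10 : (1 : Fin 3) + 2 = 0 := rfl
  have e20 : (2 : Fin 3) + 1 = 0 := rfl
  have e21 : (2 : Fin 3) + 2 = 1 := rfl
  refine Finset.sum_nbij' swZ swZ ?_ ?_ (fun γ _ => swZ_swZ γ) (fun γ _ => swZ_swZ γ)
    (fun γ _ => rfl)
  · intro γ hγ
    rw [mem_boxP] at hγ ⊢
    rw [e12, e10] at hγ
    rw [e20, e21, swZ_zero, swZ_one, swZ_two]
    tauto
  · intro γ hγ
    rw [mem_boxP] at hγ ⊢
    rw [e20, e21] at hγ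
    rw [e12, e10, swZ_zero, swZ_one, swZ_two]
    tauto

end Groth.Agent.H79.MonoDual
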