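import Mathlib
import Groth.Agent.H79.MonoStable4
import Groth.Agent.H79.MonoStable5
import Groth.Agent.H79.MonoStable7

/-!
# Sign-pattern pieces of `Hom(I, S/I)` for strongly stable ideals of the colength of `m^r`

For a strongly stable ideal `I ⊆ k[x,y,z]` of colength `C(r+2, 3)`, the pieces negative exactly at
`z`, resp. `y`, have dimension at most `C(r+3, 4)`, those negative exactly at `x, y`, resp. `x, z`, at
most `C(r+2, 4)`, with equality only for `I = m^r`.
-/

set_option autoImplicit false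

namespace Groth.Agent.H79.MonoDual

open MvPolynomial W4c1hilbpn Groth.Agent.H10.TP

variable {k : Type*} [Field k] {I : Ideal (MvPolynomial (Fin 3) k)}

/-- a bound of the staircase also bounds the swapped staircase. -/
theorem bound_swI (hI : IsMonomial I) [Module.Finite k (MvPolynomial (Fin 3) k ⧸ I)]
    [Module.Finite k (MvPolynomial (Fin 3) k ⧸ swI I)] {R : ℕ}
    (hR : ∀ v ∈ Lset hI, ∀ j, v j ≤ (R : ℤ)) :
    ∀ v ∈ Lset (isMonomial_swI (I := I)), ∀ j, v j ≤ (R : ℤ) := by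
  intro v hv j
  rw [Lset_swI hI, mem_swL] at hv
  fin_cases j
  · exact hR _ hv 0
  · exact hR _ hv 2
  · exact hR _ hv 1

variable (hI : IsStronglyStable I) [Module.Finite k (MvPolynomial (Fin 3) k ⧸ I)]

/-- a quantity bounded by the sum of the tail sums of the column sizes, and equal to `C(r+3, 4)` for
`m^r`, is at most `C(r+3, 4)` with equality exactly for `m^r`. -/
theorem sig_case {r R : ℕ}
    (hd : Module.finrank k (MvPolynomial (Fin 3) k ⧸ I) = Nat.choose (r + 2) 3)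
    (hrR : r ≤ R + 1) {s : ℕ}
    (hs : s ≤ ∑ a ∈ Finset.range (R + 1), ∑ i ∈ Finset.Ico a (R + 1), cc (Lset hI.1) i)
    (hm : I = mpow 3 k r → s = Nat.choose (r + 3) 4) :
    s ≤ Nat.choose (r + 3) 4 ∧ (s = Nat.choose (r + 3) 4 ↔ I = mpow 3 k r) := by
  have htail : ∀ j, j ≤ R + 1 → ∑ i ∈ Finset.Ico j (R + 1), cc (Lset hI.1) i ≤
      ∑ i ∈ Finset.Ico j (R + 1), TT r i :=
    fun j hj => sum_Ico_cc_le hI (le_of_eq hd) hj hrR
  have h1 := sum_tails_le hrR htail
  refine ⟨le_trans hs h1, fun h => ?_, hm⟩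
  apply eq_mpow_of_cc_eq hI (le_of_eq hd)
  intro i hi
  exact eq_TT_of_sum_tails_eq hrR htail (by rw [← h]; exact hs) i (by omega)

theorem set_zero_one : ({0, 1} : Set (Fin 3)) = ({2}ᶜ : Set (Fin 3)) := by
  ext j
  fin_cases j <;> simp

theorem set_zero_two : ({0, 2} : Set (Fin 3)) = ({1}ᶜ : Set (Fin 3)) := by
  ext j
  fin_cases j <;> simp

include hI in
/-- the four bounds with their equality cases. -/
theorem sig_main {r : ℕ}
    (hd : Module.finrank k (MvPolynomial (Fin 3) k ⧸ I) = Nat.choose (r + 2) 3)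
    (hZ : ∀ i j, stairZ I (i + 1) j ≤ stairZ I i (j + 1))
    (hY : ∀ i j, stairY I (i + 1) j ≤ stairY I i (j + 1))
    (hm : ∀ i : Fin 3,
      Module.finrank k ↥(sigPiece (mpow 3 k r) ({i} : Set (Fin 3))) = Nat.choose (r + 3) 4) :
    (Module.finrank k ↥(sigPiece I ({2} : Set (Fin 3))) ≤ Nat.choose (r + 3) 4 ∧
      (Module.finrank k ↥(sigPiece I ({2} : Set (Fin 3))) = Nat.choose (r + 3) 4 ↔
        I = mpow 3 k r)) ∧
    (Module.finrank k ↥(sigPiece I ({1} : Set (Fin 3))) ≤ Nat.choose (r + 3) 4 ∧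
      (Module.finrank k ↥(sigPiece I ({1} : Set (Fin 3))) = Nat.choose (r + 3) 4 ↔
        I = mpow 3 k r)) ∧
    (Module.finrank k ↥(sigPiece I ({0, 1} : Set (Fin 3))) ≤ Nat.choose (r + 2) 4 ∧
      (Module.finrank k ↥(sigPiece I ({0, 1} : Set (Fin 3))) = Nat.choose (r + 2) 4 ↔
        I = mpow 3 k r)) ∧
    (Module.finrank k ↥(sigPiece I ({0, 2} : Set (Fin 3))) ≤ Nat.choose (r + 2) 4 ∧
      (Module.finrank k ↥(sigPiece I ({0, 2} : Set (Fin 3))) = Nat.choose (r + 2) 4 ↔
        I = mpow 3 k r)) := by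
  obtain ⟨R0, hR0⟩ := exists_bound (Lset hI.1)
  have hR : ∀ v ∈ Lset hI.1, ∀ j, v j ≤ ((max R0 r : ℕ) : ℤ) := by
    intro v hv j
    have := hR0 v hv j
    have h2 : (R0 : ℤ) ≤ ((max R0 r : ℕ) : ℤ) := by
      exact_mod_cast le_max_left R0 r
    omega
  have hrR : r ≤ max R0 r + 1 := le_trans (le_max_right R0 r) (Nat.le_succ _)
  generalize max R0 r = R at hR hrR
  -- the `z` case
  have hz := finrank_sig_two_le hI.1 hR hZ
  -- the `y` case
  have := finite_quot_swI hI.1
  have hR' := bound_swI hI.1 hR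
  have hy := finrank_sig_two_le (isMonomial_swI (I := I)) hR'
    (fun i j => by rw [stairZ_swI, stairZ_swI]; exact hY i j)
  rw [← finrank_sig_one_eq hI.1] at hy
  simp only [Lset_swI hI.1, cc_swL] at hy
  have c2 := sig_case hI hd hrR hz (fun h => by rw [h]; exact hm 2)
  have c1 := sig_case hI hd hrR hy (fun h => by rw [h]; exact hm 1)
  have e2 := finrank_sigPiece_single_eq hI.1 hR 2
  have e1 := finrank_sigPiece_single_eq hI.1 hR 1
  rw [set_zero_one, set_zero_two]
  have hp := choose_four_pascal r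
  rw [hd] at e1 e2
  refine ⟨c2, c1, ⟨by omega, ?_⟩, ⟨by omega, ?_⟩⟩
  · rw [← c2.2]; omega
  · rw [← c1.2]; omega

end Groth.Agent.H79.MonoDual
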