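import Mathlib

universe u

namespace Groth.Agent.H79

section
variable (T : Type u) [Group T] (𝒮 : Set (Subgroup T))

/-- The family of two-sided translates. -/
def translates : Set (Set T) :=
  {S : Set T | ∃ Γ ∈ 𝒮, ∃ x y : T, S = (fun g : T => x * g * y) '' (Γ : Set T)}

theorem nonarch_of_translates :
    @NonarchimedeanGroup T _ (TopologicalSpace.generateFrom (translates T 𝒮)) := by
  let τ : TopologicalSpace T := TopologicalSpace.generateFrom (translates T 𝒮)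
  have hopen : ∀ s ∈ translates T 𝒮, IsOpen s := fun s hs =>
    TopologicalSpace.isOpen_generateFrom_of_mem hs
  have hinv : Continuous (fun a : T => a⁻¹) := by
    rw [continuous_generateFrom_iff]
    rintro s ⟨Γ, hΓ, x, y, rfl⟩
    apply hopen
    refine ⟨Γ, hΓ, y⁻¹, x⁻¹, ?_⟩
    ext g
    simp only [Set.mem_preimage, Set.mem_image, SetLike.mem_coe]
    constructor
    · rintro ⟨γ, hγ, h⟩
      refine ⟨γ⁻¹, Γ.inv_mem hγ, ?_⟩
      have : g = (x * γ * y)⁻¹ := by rw [h, inv_inv]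
      rw [this]; group
    · rintro ⟨γ, hγ, rfl⟩
      refine ⟨γ⁻¹, Γ.inv_mem hγ, ?_⟩
      group
  have hmul : Continuous (fun p : T × T => p.1 * p.2) := by
    rw [continuous_generateFrom_iff]
    rintro s ⟨Γ, hΓ, x, y, rfl⟩
    rw [isOpen_prod_iff]
    rintro a b ⟨γ, hγ, hab⟩
    have hab' : x * γ * y = a * b := hab
    -- U = x Γ (x⁻¹ a), V = (a⁻¹ x) Γ (x⁻¹ a b)
    refine ⟨(fun g : T => x * g * (x⁻¹ * a)) '' (Γ : Set T),
      (fun g : T => (a⁻¹ * x) * g * (x⁻¹ * a * b)) '' (Γ : Set T),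
      hopen _ ⟨Γ, hΓ, x, x⁻¹ * a, rfl⟩, hopen _ ⟨Γ, hΓ, a⁻¹ * x, x⁻¹ * a * b, rfl⟩,
      ⟨1, Γ.one_mem, by group⟩, ⟨1, Γ.one_mem, by group⟩, ?_⟩
    rintro ⟨u, v⟩ ⟨⟨γ₁, hγ₁, hu⟩, ⟨γ₂, hγ₂, hv⟩⟩
    simp only at hu hv
    refine ⟨γ₁ * γ₂ * γ, Γ.mul_mem (Γ.mul_mem hγ₁ hγ₂) hγ, ?_⟩
    change x * (γ₁ * γ₂ * γ) * y = u * v
    rw [← hu, ← hv]
    have : x * (γ₁ * γ₂ * γ) * y = x * γ₁ * γ₂ * x⁻¹ * (x * γ * y) := by group
    rw [this, hab']
    group
  have htg : IsTopologicalGroup T := { continuous_mul := hmul, continuous_inv := hinv }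
  refine { htg with is_nonarchimedean := ?_ }
  intro U hU
  have hbasis := TopologicalSpace.isTopologicalBasis_of_subbasis (s := translates T 𝒮) rfl
  rw [hbasis.mem_nhds_iff] at hU
  obtain ⟨t, ⟨F, ⟨hFfin, hFsub⟩, rfl⟩, h1, htU⟩ := hU
  replace h1 : (1 : T) ∈ ⋂₀ F := h1
  replace htU : ⋂₀ F ⊆ U := htU
  suffices h : ∃ V : OpenSubgroup T, (V : Set T) ⊆ ⋂₀ F by
    obtain ⟨V, hV⟩ := h
    exact ⟨V, hV.trans htU⟩
  clear htU
  induction F, hFfin using Set.Finite.induction_on with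
  | empty => exact ⟨⊤, by simp⟩
  | @insert s F' hs hfin ih =>
    have h1' : (1 : T) ∈ ⋂₀ F' := by
      rw [Set.sInter_insert] at h1
      exact h1.2
    obtain ⟨V', hV'⟩ := ih (fun s hs => hFsub (Set.mem_insert_of_mem _ hs)) h1'
    have hsB : s ∈ translates T 𝒮 := hFsub (Set.mem_insert _ _)
    have h1s : (1 : T) ∈ s := by
      rw [Set.sInter_insert] at h1
      exact h1.1
    obtain ⟨Γ, hΓ, x, y, rfl⟩ := hsB
    obtain ⟨γ₀, hγ₀, h0⟩ := h1s
    have h0' : x * γ₀ * y = 1 := h0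
    have hy : y = γ₀⁻¹ * x⁻¹ := by
      have : y = (x * γ₀)⁻¹ := eq_inv_of_mul_eq_one_right h0'
      rw [this, mul_inv_rev]
    let H : Subgroup T := Γ.map (MulAut.conj x).toMonoidHom
    have hH : (H : Set T) = (fun g : T => x * g * y) '' (Γ : Set T) := by
      ext g
      simp only [H, Subgroup.coe_map, Set.mem_image, SetLike.mem_coe, MulEquiv.coe_toMonoidHom,
        MulAut.conj_apply]
      constructor
      · rintro ⟨γ, hγ, rfl⟩
        refine ⟨γ * γ₀, Γ.mul_mem hγ hγ₀, ?_⟩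
        rw [hy]; group
      · rintro ⟨γ, hγ, rfl⟩
        refine ⟨γ * γ₀⁻¹, Γ.mul_mem hγ (Γ.inv_mem hγ₀), ?_⟩
        rw [hy]; group
    have hHopen : IsOpen (H : Set T) := by
      rw [hH]
      exact hopen _ ⟨Γ, hΓ, x, y, rfl⟩
    refine ⟨V' ⊓ ⟨H, hHopen⟩, ?_⟩
    rw [Set.sInter_insert]
    intro g hg
    refine ⟨?_, hV' hg.1⟩
    rw [← hH]
    exact hg.2

end

end Groth.Agent.H79
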