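import Mathlib

/-!
# Partition-of-unity gluing of isogenies, and exterior powers modulo an ideal

Helper lemmas for the multiplicativity of the norm functor on invertible modules (S13118).
-/

set_option autoImplicit false
open scoped TensorProduct
universe u v w

namespace Groth.Agent.H79.NormGlue

section Glue

variable {A : Type u} [CommRing A] {X : Type v} {Y : Type w} [AddCommMonoid X] [Module A X]
  [AddCommMonoid Y] [Module A Y]

/-- Partition-of-unity gluing: a family of "isogenies" `h i : X → Y` with multipliers `f i`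
generating the unit ideal, compatible up to the indicated torsion, yields a surjection `X → Y`. -/
theorem exists_surjective_of_family {ι : Type*} (f : ι → A) (h : ι → (X →ₗ[A] Y))
    (hspan : Ideal.span (Set.range f) = ⊤)
    (hcompat : ∀ i j, f j • f j • h i = f j • f i • h j)
    (hisog : ∀ i (y : Y), ∃ x : X, h i x = (f i) ^ 2 • y) :
    ∃ θ : X →ₗ[A] Y, Function.Surjective θ := by
  classical
  -- partition of unity for the squares
  have h2 : Ideal.span ((fun a : A => a ^ 2) '' Set.range f) = ⊤ := Ideal.span_pow_eq_top _ hspan 2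
  have h1 : (1 : A) ∈ Ideal.span (Set.range fun i => f i ^ 2) := by
    have : (fun a : A => a ^ 2) '' Set.range f = Set.range fun i => f i ^ 2 := by
      ext a; constructor
      · rintro ⟨_, ⟨i, rfl⟩, rfl⟩; exact ⟨i, rfl⟩
      · rintro ⟨i, rfl⟩; exact ⟨_, ⟨i, rfl⟩, rfl⟩
    rw [← this, h2]; trivial
  obtain ⟨c, hc⟩ := (Finsupp.mem_span_range_iff_exists_finsupp).1 h1
  -- the glued map
  let θ : X →ₗ[A] Y := c.sum fun i a => a • f i • h i
  have key : ∀ j, f j ^ 2 • θ = f j • h j := by
    intro j
    have e1 : ∀ i, f j ^ 2 • (f i • h i) = f i ^ 2 • (f j • h j) := by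
      intro i
      have h' : f j • f j • h i = f j • f i • h j := hcompat i j
      calc f j ^ 2 • (f i • h i) = f i • (f j • f j • h i) := by
            simp only [smul_smul]; congr 1; ring
        _ = f i • (f j • f i • h j) := by rw [h']
        _ = f i ^ 2 • (f j • h j) := by simp only [smul_smul]; congr 1; ring
    calc f j ^ 2 • θ = c.sum fun i a => a • (f j ^ 2 • (f i • h i)) := by
          simp only [θ, Finsupp.sum, Finset.smul_sum]
          refine Finset.sum_congr rfl fun i _ => ?_
          rw [smul_comm]
      _ = c.sum fun i a => (a * f i ^ 2) • (f j • h j) := by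
          simp only [Finsupp.sum]
          refine Finset.sum_congr rfl fun i _ => ?_
          rw [e1 i, smul_smul]
      _ = (c.sum fun i a => a * f i ^ 2) • (f j • h j) := by
          simp only [Finsupp.sum, Finset.sum_smul]
      _ = f j • h j := by
          have : (c.sum fun i a => a * f i ^ 2) = 1 := by simpa [smul_eq_mul] using hc
          rw [this, one_smul]
  refine ⟨θ, fun y => ?_⟩
  -- cubes generate the unit ideal
  have h3 : (1 : A) ∈ Ideal.span ((fun a : A => a ^ 3) '' Set.range f) := by
    rw [Ideal.span_pow_eq_top _ hspan 3]; trivial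
  have hmem : ∀ a ∈ Ideal.span ((fun a : A => a ^ 3) '' Set.range f), a • y ∈ LinearMap.range θ := by
    intro a ha
    refine Submodule.span_induction (p := fun a _ => a • y ∈ LinearMap.range θ) ?_ ?_ ?_ ?_ ha
    · rintro _ ⟨_, ⟨j, rfl⟩, rfl⟩
      obtain ⟨x, hx⟩ := hisog j y
      refine ⟨f j ^ 2 • x, ?_⟩
      have := congrArg (fun g : X →ₗ[A] Y => g x) (key j)
      simp only [LinearMap.smul_apply] at this
      rw [map_smul, this, hx, smul_smul]; congr 1; ring
    · simp
    · intro a b _ _ ha hb; rw [add_smul]; exact Submodule.add_mem _ ha hb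
    · intro r a _ ha; rw [smul_eq_mul, mul_smul]; exact Submodule.smul_mem _ r ha
  simpa using hmem 1 h3

end Glue

section ExtPow

variable {A : Type u} [CommRing A] {L : Type v} {L' : Type w} [AddCommGroup L] [Module A L]
  [AddCommGroup L'] [Module A L']

/-- `⋀ⁿ (a • g) = aⁿ • ⋀ⁿ g`. -/
theorem map_smul_map (n : ℕ) (a : A) (g : L →ₗ[A] L') :
    exteriorPower.map n (a • g) = a ^ n • exteriorPower.map n g := by
  apply exteriorPower.linearMap_ext
  refine AlternatingMap.ext fun m => ?_
  simp only [LinearMap.compAlternatingMap_apply, exteriorPower.map_apply_ιMulti,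
    LinearMap.smul_apply]
  have := (exteriorPower.ιMulti A n (M := L')).map_smul_univ (fun _ => a) (g ∘ m)
  simp only [Finset.prod_const, Finset.card_univ, Fintype.card_fin] at this
  exact this

/-- If one of the vectors lies in `I • ⊤`, so does the wedge. -/
theorem ιMulti_mem_smul_top (n : ℕ) (I : Ideal A) (m : Fin n → L) (i : Fin n)
    (hi : m i ∈ (I • ⊤ : Submodule A L)) :
    exteriorPower.ιMulti A n m ∈ (I • ⊤ : Submodule A (⋀[A]^n L)) := by
  classical
  have key : ∀ x ∈ (I • ⊤ : Submodule A L),
      exteriorPower.ιMulti A n (Function.update m i x) ∈ (I • ⊤ : Submodule A (⋀[A]^n L)) := by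
    intro x hx
    refine Submodule.smul_induction_on hx ?_ ?_
    · intro r hr y _
      rw [(exteriorPower.ιMulti A n (M := L)).map_update_smul]
      exact Submodule.smul_mem_smul hr Submodule.mem_top
    · intro x y hx hy
      rw [(exteriorPower.ιMulti A n (M := L)).map_update_add]
      exact Submodule.add_mem _ hx hy
  have := key (m i) hi
  rwa [Function.update_eq_self] at this

/-- If `g ≡ id` modulo `I`, then `⋀ⁿ g ≡ id` modulo `I`. -/
theorem map_sub_id_mem_smul_top (n : ℕ) (I : Ideal A) (X : L →ₗ[A] L)
    (hX : ∀ x, X x ∈ (I • ⊤ : Submodule A L)) (z : ⋀[A]^n L) :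
    exteriorPower.map n (LinearMap.id + X) z - z ∈ (I • ⊤ : Submodule A (⋀[A]^n L)) := by
  classical
  have hz : z ∈ Submodule.span A (Set.range (exteriorPower.ιMulti A n (M := L))) := by
    rw [exteriorPower.ιMulti_span]; trivial
  refine Submodule.span_induction (p := fun z _ =>
    exteriorPower.map n (LinearMap.id + X) z - z ∈ (I • ⊤ : Submodule A (⋀[A]^n L))) ?_ ?_ ?_ ?_ hz
  · rintro _ ⟨m, rfl⟩
    rw [exteriorPower.map_apply_ιMulti]
    have e1 : ((LinearMap.id + X : L →ₗ[A] L) ∘ m) = m + (X ∘ m) := by
      funext i; simp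
    have e0 := (exteriorPower.ιMulti A n (M := L)).toMultilinearMap.map_add_univ m (X ∘ m)
    simp only [AlternatingMap.coe_multilinearMap] at e0
    rw [e1, e0]
    rw [← Finset.add_sum_erase _ _ (Finset.mem_univ (Finset.univ : Finset (Fin n)))]
    have e2 : (Finset.univ : Finset (Fin n)).piecewise m (X ∘ m) = m := by
      funext i; simp
    rw [e2]
    simp only [AlternatingMap.coe_multilinearMap, add_sub_cancel_left]
    refine Submodule.sum_mem _ fun s hs => ?_
    have hs' : s ≠ Finset.univ := (Finset.mem_erase.1 hs).1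
    obtain ⟨i, hi⟩ : ∃ i, i ∉ s := by
      by_contra hcon
      apply hs'
      ext i
      simp only [Finset.mem_univ, iff_true]
      by_contra hi
      exact hcon ⟨i, hi⟩
    refine ιMulti_mem_smul_top n I _ i ?_
    rw [Finset.piecewise_eq_of_notMem _ _ _ hi]
    exact hX _
  · simp
  · intro x y _ _ hx hy
    have : exteriorPower.map n (LinearMap.id + X) (x + y) - (x + y) =
        (exteriorPower.map n (LinearMap.id + X) x - x) +
          (exteriorPower.map n (LinearMap.id + X) y - y) := by
      rw [map_add]; abel
    rw [this]; exact Submodule.add_mem _ hx hy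
  · intro a x _ hx
    have : exteriorPower.map n (LinearMap.id + X) (a • x) - a • x =
        a • (exteriorPower.map n (LinearMap.id + X) x - x) := by
      rw [map_smul, smul_sub]
    rw [this]; exact Submodule.smul_mem _ a hx

end ExtPow

end Groth.Agent.H79.NormGlue
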