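import Mathlib
import Groth.Agent.H79.NormGlue

/-!
# The norm of an element measured on an invertible top exterior power
-/

set_option autoImplicit false
open scoped TensorProduct
universe u v w

namespace Groth.Agent.H79.NormGlue

section WDef

variable (A : Type u) {B : Type u} [CommRing A] [CommRing B] [Algebra A B]
variable {L : Type v} [AddCommGroup L] [Module B L] [Module A L] [IsScalarTower A B L]
variable {L' : Type v} [AddCommGroup L'] [Module B L'] [Module A L'] [IsScalarTower A B L']
variable {L'' : Type v} [AddCommGroup L''] [Module B L''] [Module A L''] [IsScalarTower A B L'']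

/-- The `A`-linear map on `n`-th exterior powers over `A` induced by a `B`-linear map. -/
noncomputable def W (n : ℕ) (g : L →ₗ[B] L') : ⋀[A]^n L →ₗ[A] ⋀[A]^n L' :=
  exteriorPower.map n (g.restrictScalars A)

theorem W_comp (n : ℕ) (g' : L' →ₗ[B] L'') (g : L →ₗ[B] L') :
    W A n (g' ∘ₗ g) = W A n g' ∘ₗ W A n g := by
  unfold W
  rw [← exteriorPower.map_comp]
  rfl

theorem W_id (n : ℕ) : W A n (LinearMap.id : L →ₗ[B] L) = LinearMap.id := by
  unfold W
  exact exteriorPower.map_id

end WDef

section Faithful

variable {A : Type u} [CommRing A] {D : Type v} [AddCommGroup D] [Module A D]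
  [Module.Invertible A D]

/-- An invertible module is faithful modulo every ideal. -/
theorem mem_of_smul_mem_smul_top (p : Ideal A) (a : A)
    (h : ∀ z : D, a • z ∈ (p • ⊤ : Submodule A D)) : a ∈ p := by
  have h1 : ∀ (ψ : Module.Dual A D) (y : D), y ∈ (p • ⊤ : Submodule A D) → ψ y ∈ p := by
    intro ψ y hy
    refine Submodule.smul_induction_on hy ?_ ?_
    · intro r hr y _
      rw [map_smul, smul_eq_mul]
      exact Ideal.mul_mem_right _ _ hr
    · intro x y hx hy
      rw [map_add]; exact Ideal.add_mem _ hx hy
  have h2 : ∀ t : Module.Dual A D ⊗[A] D, contractLeft A D (a • t) ∈ p := by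
    intro t
    induction t using TensorProduct.induction_on with
    | zero => simp
    | tmul ψ d =>
      rw [TensorProduct.smul_tmul', TensorProduct.smul_tmul, contractLeft_apply]
      exact h1 ψ _ (h d)
    | add x y hx hy =>
      rw [smul_add, map_add]; exact Ideal.add_mem _ hx hy
  obtain ⟨t, ht⟩ := (Module.Invertible.bijective (R := A) (M := D)).2 1
  have := h2 t
  rwa [map_smul, ht, smul_eq_mul, mul_one] at this

theorem eq_of_forall_smul_eq (a a' : A) (h : ∀ z : D, a • z = a' • z) : a = a' :=
  (Module.Invertible.toModuleEnd_bijective A D).1 (LinearMap.ext h)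

end Faithful

section Norm

variable (A : Type u) {B : Type u} [CommRing A] [CommRing B] [Algebra A B]
variable (n : ℕ) (L : Type v) [AddCommGroup L] [Module B L] [Module A L] [IsScalarTower A B L]
  [Module.Invertible A (⋀[A]^n L)]

theorem exists_nrm (b : B) :
    ∃ a : A, W A n (b • (LinearMap.id : L →ₗ[B] L)) = a • LinearMap.id := by
  obtain ⟨a, ha⟩ := (Module.Invertible.toModuleEnd_bijective A (⋀[A]^n L)).2
    (W A n (b • (LinearMap.id : L →ₗ[B] L)))
  refine ⟨a, ?_⟩
  rw [← ha]
  ext z
  simp

/-- The norm of `b : B` measured on the invertible `A`-module `⋀ⁿ_A L`. -/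
noncomputable def nrm (b : B) : A := (exists_nrm A n L b).choose

theorem W_smul_id (b : B) :
    W A n (b • (LinearMap.id : L →ₗ[B] L)) = nrm A n L b • LinearMap.id :=
  (exists_nrm A n L b).choose_spec

variable {L}
variable {L' : Type v} [AddCommGroup L'] [Module B L'] [Module A L'] [IsScalarTower A B L']

theorem W_smul_left (b : B) (g : L' →ₗ[B] L) : W A n (b • g) = nrm A n L b • W A n g := by
  have : b • g = (b • (LinearMap.id : L →ₗ[B] L)) ∘ₗ g := by ext; simp
  rw [this, W_comp, W_smul_id]
  ext z; simp

theorem W_smul_right (b : B) (g : L →ₗ[B] L') : W A n (b • g) = nrm A n L b • W A n g := by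
  have : b • g = g ∘ₗ (b • (LinearMap.id : L →ₗ[B] L)) := by ext; simp
  rw [this, W_comp, W_smul_id]
  ext z; simp

end Norm

section Congr

variable (A : Type u) {B : Type u} [CommRing A] [CommRing B] [Algebra A B]
variable (n : ℕ) [Module.Invertible A (⋀[A]^n B)]

/-- The norm of an element congruent to `1` modulo `p B` is congruent to `1` modulo `p`. -/
theorem nrm_sub_one_mem (p : Ideal A) (b : B) (hb : b - 1 ∈ (p • ⊤ : Submodule A B)) :
    nrm A n B b - 1 ∈ p := by
  refine mem_of_smul_mem_smul_top (D := ⋀[A]^n B) p _ fun z => ?_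
  set X : B →ₗ[A] B := ((b - 1) • (LinearMap.id : B →ₗ[B] B)).restrictScalars A with hXdef
  have hX : ∀ x, X x ∈ (p • ⊤ : Submodule A B) := by
    intro x
    have : X x = x * (b - 1) := by simp [hXdef, mul_comm]
    rw [this]
    refine Submodule.smul_induction_on hb ?_ ?_
    · intro r hr y _
      rw [mul_smul_comm]
      exact Submodule.smul_mem_smul hr Submodule.mem_top
    · intro y y' hy hy'
      rw [mul_add]; exact Submodule.add_mem _ hy hy'
  have h1 := map_sub_id_mem_smul_top n p X hX z
  have h2 : (LinearMap.id + X : B →ₗ[A] B) = (b • (LinearMap.id : B →ₗ[B] B)).restrictScalars A := by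
    ext x; simp [hXdef, sub_mul]
  have h3 : exteriorPower.map n (LinearMap.id + X) = nrm A n B b • LinearMap.id := by
    rw [h2]; exact W_smul_id A n B b
  rw [h3] at h1
  simpa [sub_smul] using h1

end Congr

end Groth.Agent.H79.NormGlue
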