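import Mathlib
import Groth.Agent.H79.NormGlue2

/-!
# Invertible modules over a finite algebra: local generators and the norm
-/

set_option autoImplicit false
open scoped TensorProduct
universe u v w

namespace Groth.Agent.H79.NormGlue

section Symm

variable {B : Type u} [CommRing B] {L : Type v} [AddCommGroup L] [Module B L]
  [Module.Invertible B L]

/-- Rank-one symmetry: `φ x • y = φ y • x` on an invertible module. -/
theorem dual_smul_comm (φ : L →ₗ[B] B) (x y : L) : φ x • y = φ y • x := by
  let μ : L ⊗[B] L →ₗ[B] L := TensorProduct.lift ((LinearMap.lsmul B L).comp φ)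
  have h : μ (x ⊗ₜ y) = μ (y ⊗ₜ x) := by rw [Module.Invertible.tmul_comm]
  simpa [μ] using h

/-- `φ e * φ' x = φ' e * φ x` on an invertible module. -/
theorem dual_mul_comm (φ φ' : L →ₗ[B] B) (e x : L) : φ e * φ' x = φ' e * φ x := by
  have h := congrArg φ' (dual_smul_comm φ e x)
  rw [map_smul, map_smul, smul_eq_mul, smul_eq_mul] at h
  rw [h, mul_comm]

end Symm

section Semilocal

variable {B : Type u} [CommRing B] (L : Type u) [AddCommGroup L] [Module B L]
  [Module.Invertible B L]

/-- Over a surjection onto a semilocal ring, an invertible module has an element and a functional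
pairing to `1` modulo the kernel. -/
theorem exists_pairing_eq_one (S : Type u) [CommRing S] [Algebra B S]
    (hsurj : Function.Surjective (algebraMap B S)) [Finite (MaximalSpectrum S)] :
    ∃ (e : L) (φ : L →ₗ[B] B), algebraMap B S (φ e) = 1 := by
  haveI : Module.Free S (S ⊗[B] L) := inferInstance
  obtain ⟨ψ⟩ := Module.Invertible.free_iff_linearEquiv.mp (inferInstance : Module.Free S (S ⊗[B] L))
  have hι : Function.Surjective (TensorProduct.mk B S L 1) := by
    intro t
    induction t using TensorProduct.induction_on with
    | zero => exact ⟨0, by simp⟩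
    | tmul s x =>
      obtain ⟨b, rfl⟩ := hsurj s
      refine ⟨b • x, ?_⟩
      rw [TensorProduct.mk_apply, TensorProduct.tmul_smul, TensorProduct.smul_tmul',
        Algebra.smul_def, mul_one]
    | add x y hx hy =>
      obtain ⟨x', rfl⟩ := hx
      obtain ⟨y', rfl⟩ := hy
      exact ⟨x' + y', map_add _ _ _⟩
  obtain ⟨e, he⟩ := hι (ψ.symm 1)
  let g : L →ₗ[B] S := (ψ.toLinearMap.restrictScalars B) ∘ₗ (TensorProduct.mk B S L 1)
  obtain ⟨φ, hφ⟩ := Module.projective_lifting_property (Algebra.linearMap B S) g hsurj
  refine ⟨e, φ, ?_⟩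
  have := congrArg (fun f : L →ₗ[B] S => f e) hφ
  simp only [LinearMap.comp_apply, Algebra.linearMap_apply, g, LinearMap.restrictScalars_apply,
    LinearEquiv.coe_coe] at this
  rw [this, he, LinearEquiv.apply_symm_apply]

end Semilocal

end Groth.Agent.H79.NormGlue
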