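import Mathlib
import Groth.Agent.H79.NormGlue3

/-!
# Norms of local pairings generate the unit ideal; independence of the norm of the module
-/

set_option autoImplicit false
open scoped TensorProduct
universe u v w

namespace Groth.Agent.H79.NormGlue

section UnitIdeal

variable (A : Type u) {B : Type u} [CommRing A] [CommRing B] [Algebra A B] [Module.Finite A B]
variable (L : Type u) [AddCommGroup L] [Module B L] [Module.Invertible B L]

attribute [local instance] Algebra.TensorProduct.rightAlgebra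

/-- For a maximal ideal `p` of `A` there are `e`, `φ` with `φ e ≡ 1` modulo `p B`. -/
theorem exists_pairing_sub_one_mem (p : Ideal A) [p.IsMaximal] :
    ∃ (e : L) (φ : L →ₗ[B] B), φ e - 1 ∈ (p • ⊤ : Submodule A B) := by
  let _ : Field (A ⧸ p) := Ideal.Quotient.field p
  have : IsArtinianRing ((A ⧸ p) ⊗[A] B) := IsArtinianRing.of_finite (A ⧸ p) ((A ⧸ p) ⊗[A] B)
  have hsurj : Function.Surjective (algebraMap B ((A ⧸ p) ⊗[A] B)) := by
    intro t
    induction t using TensorProduct.induction_on with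
    | zero => exact ⟨0, map_zero _⟩
    | tmul s b =>
      obtain ⟨a, rfl⟩ := Ideal.Quotient.mk_surjective s
      refine ⟨a • b, ?_⟩
      rw [Algebra.TensorProduct.right_algebraMap_apply, TensorProduct.tmul_smul,
        TensorProduct.smul_tmul', ← Ideal.Quotient.algebraMap_eq, Algebra.smul_def, mul_one]
    | add x y hx hy =>
      obtain ⟨x', rfl⟩ := hx
      obtain ⟨y', rfl⟩ := hy
      exact ⟨x' + y', map_add _ _ _⟩
  obtain ⟨e, φ, h⟩ := exists_pairing_eq_one L ((A ⧸ p) ⊗[A] B) hsurj
  refine ⟨e, φ, ?_⟩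
  have h' : (1 : A ⧸ p) ⊗ₜ[A] (φ e) = (1 : A ⧸ p) ⊗ₜ[A] (1 : B) := by
    rw [Algebra.TensorProduct.right_algebraMap_apply] at h
    exact h
  have h2 := congrArg (TensorProduct.quotTensorEquivQuotSMul B p) h'
  rw [TensorProduct.quotTensorEquivQuotSMul_mk_one_tmul,
    TensorProduct.quotTensorEquivQuotSMul_mk_one_tmul] at h2
  exact (Submodule.Quotient.eq _).1 h2

variable (n : ℕ) [Module.Invertible A (⋀[A]^n B)]

/-- The norms of the pairings `φ e` generate the unit ideal of `A`. -/
theorem span_nrm_pairing_eq_top :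
    Ideal.span (Set.range fun i : L × (L →ₗ[B] B) => nrm A n B (i.2 i.1)) = ⊤ := by
  by_contra hne
  obtain ⟨p, hp, hle⟩ := Ideal.exists_le_maximal _ hne
  obtain ⟨e, φ, h⟩ := exists_pairing_sub_one_mem (B := B) A L p
  have h1 : nrm A n B (φ e) - 1 ∈ p := nrm_sub_one_mem A n p (φ e) h
  have h2 : nrm A n B (φ e) ∈ p := hle (Ideal.subset_span ⟨(e, φ), rfl⟩)
  apply hp.ne_top
  rw [Ideal.eq_top_iff_one]
  have := p.sub_mem h2 h1
  simpa using this

end UnitIdeal

section Indep

variable (A : Type u) {B : Type u} [CommRing A] [CommRing B] [Algebra A B] [Module.Finite A B]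
variable (n : ℕ) [Module.Invertible A (⋀[A]^n B)]
variable (L : Type u) [AddCommGroup L] [Module B L] [Module A L] [IsScalarTower A B L]
  [Module.Invertible B L] [Module.Invertible A (⋀[A]^n L)]

/-- The map `b ↦ b • e` as a `B`-linear map `B → L`. -/
noncomputable abbrev uMap (e : L) : B →ₗ[B] L := LinearMap.toSpanSingleton B L e

omit [Module.Finite A B] [Module.Invertible A (⋀[A]^n B)] [Module A L] [IsScalarTower A B L]
  [Module.Invertible B L] [Module.Invertible A (⋀[A]^n L)] in
theorem dual_comp_uMap (e : L) (φ : L →ₗ[B] B) :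
    φ ∘ₗ uMap (B := B) L e = φ e • (LinearMap.id : B →ₗ[B] B) := by
  ext
  simp

omit [Module.Finite A B] [Module.Invertible A (⋀[A]^n B)] [Module A L] [IsScalarTower A B L]
  [Module.Invertible A (⋀[A]^n L)] in
theorem uMap_comp_dual (e : L) (φ : L →ₗ[B] B) :
    uMap (B := B) L e ∘ₗ φ = φ e • (LinearMap.id : L →ₗ[B] L) := by
  ext x
  simp only [LinearMap.comp_apply, LinearMap.toSpanSingleton_apply, LinearMap.smul_apply,
    LinearMap.id_apply]
  exact dual_smul_comm φ x e

/-- The norm measured on `⋀ⁿ_A L`, `L` invertible over `B`, agrees with the norm measured on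
`⋀ⁿ_A B`. -/
theorem nrm_eq (b : B) : nrm A n L b = nrm A n B b := by
  have key : ∀ i : L × (L →ₗ[B] B),
      (nrm A n L b - nrm A n B b) * nrm A n B (i.2 i.1) = 0 := by
    rintro ⟨e, φ⟩
    have h1 : nrm A n L b • W A n φ = nrm A n B b • W A n φ := by
      rw [← W_smul_right, ← W_smul_left]
    have h2 : W A n φ ∘ₗ W A n (uMap (B := B) L e) = nrm A n B (φ e) • LinearMap.id := by
      rw [← W_comp, dual_comp_uMap, W_smul_id]
    have h3 := congrArg (fun g => g ∘ₗ W A n (uMap (B := B) L e)) h1
    simp only [LinearMap.smul_comp, h2] at h3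
    have h4 : ∀ z : ⋀[A]^n B, (nrm A n L b * nrm A n B (φ e)) • z =
        (nrm A n B b * nrm A n B (φ e)) • z := by
      intro z
      have := congrArg (fun g : ⋀[A]^n B →ₗ[A] ⋀[A]^n B => g z) h3
      simpa [smul_smul] using this
    have h5 := eq_of_forall_smul_eq (D := ⋀[A]^n B) _ _ h4
    simp only [sub_mul, h5, sub_self]
  have hall : ∀ a ∈ Ideal.span (Set.range fun i : L × (L →ₗ[B] B) => nrm A n B (i.2 i.1)),
      (nrm A n L b - nrm A n B b) * a = 0 := by
    intro a ha
    refine Submodule.span_induction (p := fun a _ => (nrm A n L b - nrm A n B b) * a = 0)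
      ?_ ?_ ?_ ?_ ha
    · rintro _ ⟨i, rfl⟩; exact key i
    · simp
    · intro x y _ _ hx hy; rw [mul_add, hx, hy, add_zero]
    · intro r x _ hx; rw [smul_eq_mul, mul_left_comm, hx, mul_zero]
  have h1 := hall 1 (by rw [span_nrm_pairing_eq_top (B := B) A L n]; trivial)
  rw [mul_one] at h1
  exact sub_eq_zero.1 h1

end Indep

end Groth.Agent.H79.NormGlue
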