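import Mathlib
import Groth.Agent.H79.NormGlue4
import Groth.Agent.H66.ExtPowRank

/-!
# The top exterior power over `A` of an invertible module over a finite locally free `A`-algebra
-/

set_option autoImplicit false
open scoped TensorProduct
universe u v w

namespace Groth.Agent.H79.NormGlue

section Rank

variable (A : Type u) {B : Type u} [CommRing A] [CommRing B] [Algebra A B]
  [Module.Finite A B] [Module.Projective A B]
variable (L : Type u) [AddCommGroup L] [Module B L] [Module A L] [IsScalarTower A B L]
  [Module.Invertible B L]

include B in
omit [Module.Projective A B] in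
/-- An invertible module over a finite algebra is a finite module over the base. -/
theorem finite_of_invertible : Module.Finite A L := Module.Finite.trans B L

include B in
omit [Module.Finite A B] in
/-- An invertible module over a projective algebra is projective over the base. -/
theorem projective_of_invertible : Module.Projective A L := by
  obtain ⟨m, π, hπ⟩ := Module.Finite.exists_fin' B L
  obtain ⟨i, hi⟩ := Module.projective_lifting_property π LinearMap.id hπ
  have : Module.Projective A (Fin m → B) :=
    Module.Projective.of_equiv (DFinsupp.linearEquivFunOnFintype (R := A) (M := fun _ : Fin m => B))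
  refine Module.Projective.of_split (i.restrictScalars A) (π.restrictScalars A) ?_
  ext x
  exact congrArg (fun f : L →ₗ[B] L => f x) hi

attribute [local instance] Algebra.TensorProduct.rightAlgebra

omit [Module.Projective A B] in
/-- The fibre of an invertible `B`-module over a point of `Spec A` is isomorphic to the fibre
of `B`. -/
theorem nonempty_fibre_equiv (κ : Type u) [Field κ] [Algebra A κ] :
    Nonempty ((κ ⊗[A] L) ≃ₗ[κ] (κ ⊗[A] B)) := by
  have : IsArtinianRing (κ ⊗[A] B) := IsArtinianRing.of_finite κ (κ ⊗[A] B)
  obtain ⟨ψ⟩ := Module.Invertible.free_iff_linearEquiv.mp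
    (inferInstance : Module.Free (κ ⊗[A] B) ((κ ⊗[A] B) ⊗[B] L))
  exact ⟨(Algebra.IsPushout.cancelBaseChange A κ B (κ ⊗[A] B) L).symm ≪≫ₗ ψ.restrictScalars κ⟩

theorem rankAtStalk_eq_of_invertible (p : PrimeSpectrum A) :
    Module.rankAtStalk L p = Module.rankAtStalk B p := by
  have := finite_of_invertible (B := B) A L
  have := projective_of_invertible (B := B) A L
  rw [Module.rankAtStalk_eq, Module.rankAtStalk_eq]
  obtain ⟨e⟩ := nonempty_fibre_equiv (B := B) A L p.asIdeal.ResidueField
  exact e.finrank_eq

/-- `⋀ⁿ_A L` is invertible for `L` invertible over `B`, `B` locally free of rank `n` over `A`. -/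
theorem invertible_extPow_of_invertible (n : ℕ)
    (hn : ∀ p : PrimeSpectrum A, Module.rankAtStalk B p = n) :
    Module.Invertible A (⋀[A]^n L) := by
  have := finite_of_invertible (B := B) A L
  have := projective_of_invertible (B := B) A L
  exact Groth.Agent.H66.ExtPowRank.invertible_extPow n fun p => by
    rw [rankAtStalk_eq_of_invertible (B := B) A L p, hn p]

end Rank

end Groth.Agent.H79.NormGlue
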