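import Mathlib
import Groth.Agent.H79.NormGlue5

/-!
# Multiplicativity of `L ↦ ⋀ⁿ_A L` on invertible modules over a finite locally free algebra
-/

set_option autoImplicit false
open scoped TensorProduct
universe u v w

namespace Groth.Agent.H79.NormGlue

section TensorMaps

variable {B : Type u} [CommRing B] (M₁ M₂ : Type u) [AddCommGroup M₁] [Module B M₁]
  [AddCommGroup M₂] [Module B M₂]

/-- `x ⊗ y ↦ φ x • y`. -/
noncomputable def phiM (φ : M₁ →ₗ[B] B) : M₁ ⊗[B] M₂ →ₗ[B] M₂ :=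
  TensorProduct.lift ((LinearMap.lsmul B M₂).comp φ)

/-- `y ↦ e ⊗ y`. -/
noncomputable def eM (e : M₁) : M₂ →ₗ[B] M₁ ⊗[B] M₂ := TensorProduct.mk B M₁ M₂ e

variable {M₁ M₂}

@[simp] theorem phiM_tmul (φ : M₁ →ₗ[B] B) (x : M₁) (y : M₂) :
    phiM M₁ M₂ φ (x ⊗ₜ y) = φ x • y := by
  simp [phiM]

@[simp] theorem eM_apply (e : M₁) (y : M₂) : eM M₁ M₂ e y = e ⊗ₜ[B] y := rfl

theorem phiM_comp_eM (e : M₁) (φ : M₁ →ₗ[B] B) :
    phiM M₁ M₂ φ ∘ₗ eM M₁ M₂ e = φ e • (LinearMap.id : M₂ →ₗ[B] M₂) := by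
  ext y; simp

theorem eM_comp_phiM [Module.Invertible B M₁] (e : M₁) (φ : M₁ →ₗ[B] B) :
    eM M₁ M₂ e ∘ₗ phiM M₁ M₂ φ = φ e • (LinearMap.id : M₁ ⊗[B] M₂ →ₗ[B] M₁ ⊗[B] M₂) := by
  refine TensorProduct.ext' fun x y => ?_
  simp only [LinearMap.comp_apply, phiM_tmul, eM_apply, LinearMap.smul_apply, LinearMap.id_apply]
  rw [TensorProduct.tmul_smul, TensorProduct.smul_tmul', TensorProduct.smul_tmul',
    dual_smul_comm φ x e]

theorem smul_phiM_comm [Module.Invertible B M₁] (e : M₁) (φ φ' : M₁ →ₗ[B] B) :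
    φ e • phiM M₁ M₂ φ' = φ' e • phiM M₁ M₂ φ := by
  refine TensorProduct.ext' fun x y => ?_
  simp only [LinearMap.smul_apply, phiM_tmul, smul_smul]
  rw [dual_mul_comm φ φ' e x]

theorem smul_uMap_comm [Module.Invertible B M₁] (e e' : M₁) (φ' : M₁ →ₗ[B] B) :
    φ' e' • uMap (B := B) M₁ e = φ' e • uMap (B := B) M₁ e' := by
  ext
  simp only [LinearMap.smul_apply, LinearMap.toSpanSingleton_apply, one_smul]
  exact dual_smul_comm φ' e' e

end TensorMaps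

section Main

variable (A B : Type u) [CommRing A] [CommRing B] [Algebra A B]
  [Module.Finite A B] [Module.Projective A B] (n : ℕ)
  (M₁ M₂ : Type u) [AddCommGroup M₁] [Module B M₁] [Module A M₁] [IsScalarTower A B M₁]
  [AddCommGroup M₂] [Module B M₂] [Module A M₂] [IsScalarTower A B M₂]
  [Module.Invertible B M₁] [Module.Invertible B M₂]

/-- The local comparison map attached to `e : M₁` and `φ : M₁ → B`. -/
noncomputable def hmap (e : M₁) (φ : M₁ →ₗ[B] B) :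
    (⋀[A]^n B) ⊗[A] (⋀[A]^n (M₁ ⊗[B] M₂)) →ₗ[A] (⋀[A]^n M₁) ⊗[A] (⋀[A]^n M₂) :=
  TensorProduct.map (W A n (uMap (B := B) M₁ e)) (W A n (phiM M₁ M₂ φ))

/-- The reverse local comparison map attached to `e : M₁` and `φ : M₁ → B`. -/
noncomputable def kmap (e : M₁) (φ : M₁ →ₗ[B] B) :
    (⋀[A]^n M₁) ⊗[A] (⋀[A]^n M₂) →ₗ[A] (⋀[A]^n B) ⊗[A] (⋀[A]^n (M₁ ⊗[B] M₂)) :=
  TensorProduct.map (W A n φ) (W A n (eM M₁ M₂ e))

/-- `⋀ⁿ_A B ⊗_A ⋀ⁿ_A (M₁ ⊗_B M₂) ≃ ⋀ⁿ_A M₁ ⊗_A ⋀ⁿ_A M₂` for invertible `B`-modules `M₁`, `M₂`, where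
`B` is finite locally free of rank `n` over `A`. -/
theorem main (hn : ∀ p : PrimeSpectrum A, Module.rankAtStalk B p = n) :
    Nonempty ((⋀[A]^n B) ⊗[A] (⋀[A]^n (M₁ ⊗[B] M₂)) ≃ₗ[A] (⋀[A]^n M₁) ⊗[A] (⋀[A]^n M₂)) := by
  have iB : Module.Invertible A (⋀[A]^n B) := invertible_extPow_of_invertible (B := B) A B n hn
  have i1 : Module.Invertible A (⋀[A]^n M₁) := invertible_extPow_of_invertible (B := B) A M₁ n hn
  have i2 : Module.Invertible A (⋀[A]^n M₂) := invertible_extPow_of_invertible (B := B) A M₂ n hn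
  have i12 : Module.Invertible A (⋀[A]^n (M₁ ⊗[B] M₂)) :=
    invertible_extPow_of_invertible (B := B) A (M₁ ⊗[B] M₂) n hn
  -- the family
  have hcompat : ∀ i j : M₁ × (M₁ →ₗ[B] B),
      nrm A n B (j.2 j.1) • nrm A n B (j.2 j.1) • hmap A B n M₁ M₂ i.1 i.2 =
        nrm A n B (j.2 j.1) • nrm A n B (i.2 i.1) • hmap A B n M₁ M₂ j.1 j.2 := by
    rintro ⟨e, φ⟩ ⟨e', φ'⟩
    have hI : nrm A n B (φ' e') • W A n (uMap (B := B) M₁ e) =
        nrm A n B (φ' e) • W A n (uMap (B := B) M₁ e') := by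
      rw [← nrm_eq A n M₁ (φ' e'), ← W_smul_left, smul_uMap_comm e e' φ', W_smul_right]
    have hII : nrm A n B (φ e) • W A n (phiM M₁ M₂ φ') =
        nrm A n B (φ' e) • W A n (phiM M₁ M₂ φ) := by
      rw [← nrm_eq A n M₂ (φ e), ← W_smul_left, smul_phiM_comm e φ φ', W_smul_left,
        nrm_eq A n M₂]
    show nrm A n B (φ' e') • nrm A n B (φ' e') • hmap A B n M₁ M₂ e φ =
        nrm A n B (φ' e') • nrm A n B (φ e) • hmap A B n M₁ M₂ e' φ'
    congr 1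
    unfold hmap
    rw [← TensorProduct.map_smul_left, hI, TensorProduct.map_smul_left,
      ← TensorProduct.map_smul_right, ← hII, TensorProduct.map_smul_right]
  have hisog : ∀ (i : M₁ × (M₁ →ₗ[B] B)) (y : (⋀[A]^n M₁) ⊗[A] (⋀[A]^n M₂)),
      ∃ x, hmap A B n M₁ M₂ i.1 i.2 x = (nrm A n B (i.2 i.1)) ^ 2 • y := by
    rintro ⟨e, φ⟩ y
    refine ⟨kmap A B n M₁ M₂ e φ y, ?_⟩
    have h1 : hmap A B n M₁ M₂ e φ ∘ₗ kmap A B n M₁ M₂ e φ =
        (nrm A n B (φ e)) ^ 2 • LinearMap.id := by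
      unfold hmap kmap
      rw [← TensorProduct.map_comp, ← W_comp, ← W_comp, uMap_comp_dual, phiM_comp_eM,
        W_smul_id, W_smul_id, nrm_eq A n M₁, nrm_eq A n M₂, TensorProduct.map_smul_left,
        TensorProduct.map_smul_right, TensorProduct.map_id, smul_smul, pow_two]
    have := congrArg (fun g => g y) h1
    simpa using this
  obtain ⟨θ, hθ⟩ := exists_surjective_of_family
    (fun i : M₁ × (M₁ →ₗ[B] B) => nrm A n B (i.2 i.1))
    (fun i : M₁ × (M₁ →ₗ[B] B) => hmap A B n M₁ M₂ i.1 i.2)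
    (span_nrm_pairing_eq_top (B := B) A M₁ n) hcompat hisog
  exact ⟨LinearEquiv.ofBijective θ (Module.Invertible.bijective_of_surjective hθ)⟩

end Main

end Groth.Agent.H79.NormGlue
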