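import Mathlib
import Groth.Prelude.Def_SgaExt
import Groth.Prelude.Def_W4c1zetahwZeta
import Groth.Agent.H65.PtCount8

/-!
# Counting points over a finite extension (helper79)

For `X` of finite type over a finite field `k` and a finite extension `k'` of degree `r`,
`#X(k') = ∑_{e ∣ r} e · #{closed points of degree e}`.

* `ιx f x : k ⟶ κ(x)`: the structure map of the residue field, `residueDegree_eq`;
* `Pt f k'`, `Hx f k' x`, `ptEquiv : Pt f k' ≃ Σ x, Hx f k' x`, `card_Hx`;
* `finite_Pt`, `isClosed_of_finrank_pos`;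
* `pointCount_eq_nPts`.
-/

set_option autoImplicit false
set_option linter.style.haveILetI false
set_option linter.unusedSectionVars false
set_option linter.unusedVariables false
universe u
open CategoryTheory AlgebraicGeometry

namespace Groth.Agent.H79.PtCountEq

theorem finite_ringHom {k A F : Type*} [Field k] [CommRing A] [Field F] [Finite F] (α : k →+* A)
    (hα : α.FiniteType) (β : k →+* F) : Finite {φ : A →+* F // φ.comp α = β} := by
  classical
  algebraize [α, β]
  obtain ⟨s, hs⟩ := (inferInstance : Algebra.FiniteType k A).out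
  let Φ : {φ : A →+* F // φ.comp α = β} → (s → F) := fun φ a => φ.1 a
  refine Finite.of_injective Φ ?_
  intro φ ψ h
  apply Subtype.ext
  let φ' : A →ₐ[k] F := { toRingHom := φ.1, commutes' := fun c => RingHom.congr_fun φ.2 c }
  let ψ' : A →ₐ[k] F := { toRingHom := ψ.1, commutes' := fun c => RingHom.congr_fun ψ.2 c }
  have : φ' = ψ' := by
    apply AlgHom.ext_of_adjoin_eq_top hs
    intro a ha
    exact congrFun h ⟨a, ha⟩
  ext a
  exact congrArg (fun θ : A →ₐ[k] F => θ a) this

variable {k : Type u} [Field k] {X : Scheme.{u}} (f : X ⟶ Spec (CommRingCat.of k))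

/-- The structure map `k → κ(x)`. -/
noncomputable def ιx (x : X) : CommRingCat.of k ⟶ X.residueField x :=
  Spec.preimage (X.fromSpecResidueField x ≫ f)

theorem SpecMap_ιx (x : X) : Spec.map (ιx f x) = X.fromSpecResidueField x ≫ f :=
  Spec.map_preimage _

theorem ιx_eq {Y : Scheme.{u}} (g : Y ⟶ X) (y : Y) :
    ιx (g ≫ f) y = ιx f (g y) ≫ g.residueFieldMap y := by
  apply Spec.map_injective
  rw [Spec.map_comp, SpecMap_ιx, SpecMap_ιx,
    Scheme.Hom.SpecMap_residueFieldMap_fromSpecResidueField_assoc]

theorem bijective_of_eq (R : CommRingCat.{u}) (hR : IsField R) (y : Spec R)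
    (φ : R ⟶ (Spec R).residueField y)
    (h : Spec.map φ = (Spec R).fromSpecResidueField y) : Function.Bijective φ.hom := by
  letI := hR.toField
  rw [← Scheme.Spec.map_residueFieldIso_inv_eq_fromSpecResidueField, ← Spec.map_comp] at h
  have h2 := Spec.map_injective h
  rw [h2]
  rw [CommRingCat.hom_comp, RingHom.coe_comp]
  refine Function.Bijective.comp
    (ConcreteCategory.bijective_of_isIso (Scheme.Spec.residueFieldIso _ y).inv) ?_
  have hp : (PrimeSpectrum.asIdeal y).IsPrime := PrimeSpectrum.isPrime y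
  exact (@Ideal.algEquivResidueFieldOfField R _ (PrimeSpectrum.asIdeal y) hp).bijective

theorem bijective_ιx_id (y : Spec (CommRingCat.of k)) :
    Function.Bijective (ιx (𝟙 (Spec (CommRingCat.of k))) y).hom := by
  refine bijective_of_eq (CommRingCat.of k) (Field.toIsField k) y _ ?_
  rw [SpecMap_ιx, Category.comp_id]

/-- The residue degree over a field, computed with the structure map `k → κ(x)`. -/
theorem residueDegree_eq (x : X) :
    EGA4loc.residueDegree f x =
      @Module.finrank k (X.residueField x) _ _ (ιx f x).hom.toAlgebra.toModule := by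
  unfold EGA4loc.residueDegree
  have h1 : ιx f x = ιx (𝟙 _) (f x) ≫ f.residueFieldMap x := by
    have := ιx_eq (𝟙 (Spec (CommRingCat.of k))) f x
    rwa [Category.comp_id] at this
  letI a1 := (f.residueFieldMap x).hom.toAlgebra
  letI a2 := (ιx f x).hom.toAlgebra
  symm
  refine Algebra.finrank_eq_of_equiv_equiv
    (RingEquiv.ofBijective (ιx (𝟙 (Spec (CommRingCat.of k))) (f x)).hom (bijective_ιx_id (f x)))
    (RingEquiv.refl _) ?_
  ext c
  change (f.residueFieldMap x).hom ((ιx (𝟙 _) (f x)).hom c) = (ιx f x).hom c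
  rw [h1]
  rfl

theorem isClosed_of_finrank_pos [LocallyOfFiniteType f] (x : X)
    (h : 0 < @Module.finrank k (X.residueField x) _ _ (ιx f x).hom.toAlgebra.toModule) :
    IsClosed ({x} : Set X) := by
  letI := (ιx f x).hom.toAlgebra
  have : JacobsonSpace X := LocallyOfFiniteType.jacobsonSpace f
  rw [isClosed_singleton_iff_locallyOfFiniteType]
  have hfin : Module.Finite k (X.residueField x) := Module.finite_of_finrank_pos h
  have h1 : LocallyOfFiniteType (X.fromSpecResidueField x ≫ f) := by
    rw [← SpecMap_ιx, HasRingHomProperty.Spec_iff (P := @LocallyOfFiniteType)]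
    change Algebra.FiniteType k (X.residueField x)
    infer_instance
  exact locallyOfFiniteType_of_comp (X.fromSpecResidueField x) f

theorem isClosed_of_residueDegree_pos [LocallyOfFiniteType f] (x : X)
    (h : 0 < EGA4loc.residueDegree f x) : IsClosed ({x} : Set X) := by
  rw [residueDegree_eq] at h
  exact isClosed_of_finrank_pos f x h

variable (k' : Type u) [Field k'] [Algebra k k']

/-- `k'`-points of `X` over `k`. -/
abbrev Pt : Type u := { g : Spec (CommRingCat.of k') ⟶ X //
    g ≫ f = Spec.map (CommRingCat.ofHom (algebraMap k k')) }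

/-- `k`-embeddings of `κ(x)` into `k'`. -/
abbrev Hx (x : X) : Type u := { φ : X.residueField x ⟶ CommRingCat.of k' //
    ιx f x ≫ φ = CommRingCat.ofHom (algebraMap k k') }

theorem compat_iff (x : X) (φ : X.residueField x ⟶ CommRingCat.of k') :
    (Spec.map φ ≫ X.fromSpecResidueField x) ≫ f =
        Spec.map (CommRingCat.ofHom (algebraMap k k')) ↔
      ιx f x ≫ φ = CommRingCat.ofHom (algebraMap k k') := by
  rw [Category.assoc, ← SpecMap_ιx, ← Spec.map_comp]
  exact ⟨fun h => Spec.map_injective h, fun h => by rw [h]⟩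

/-- Subtype of a sigma type as a sigma of subtypes. -/
def sigmaSub {α : Type*} {β : α → Type*} (Q : (Σ a, β a) → Prop) :
    {σ : Σ a, β a // Q σ} ≃ Σ a, {b : β a // Q ⟨a, b⟩} where
  toFun σ := ⟨σ.1.1, ⟨σ.1.2, σ.2⟩⟩
  invFun τ := ⟨⟨τ.1, τ.2.1⟩, τ.2.2⟩
  left_inv σ := by rfl
  right_inv τ := by rfl

/-- Points correspond to pairs (point, embedding of the residue field). -/
noncomputable def ptEquiv : Pt f k' ≃ Σ x : X, Hx f k' x :=
  (Equiv.subtypeEquiv (Scheme.SpecToEquivOfField k' X) (fun g => by
    have h1 : (Scheme.SpecToEquivOfField k' X).symm (Scheme.SpecToEquivOfField k' X g) = g :=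
      Equiv.symm_apply_apply _ _
    rw [Scheme.SpecToEquivOfField_symm_apply] at h1
    conv_lhs => rw [← h1]
    exact compat_iff f k' _ _)).trans
  (sigmaSub (fun σ : (Σ x : X, X.residueField x ⟶ CommRingCat.of k') =>
    ιx f σ.1 ≫ σ.2 = CommRingCat.ofHom (algebraMap k k')))

theorem ptEquiv_fst (g : Pt f k') :
    (ptEquiv f k' g).1 = g.1 (IsLocalRing.closedPoint k') := rfl

theorem ptEquiv_symm_coe (σ : Σ x : X, Hx f k' x) :
    ((ptEquiv f k').symm σ).1 = Spec.map σ.2.1 ≫ X.fromSpecResidueField σ.1 := rfl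

/-- `Hx` as algebra homomorphisms. -/
noncomputable def hxEquiv (x : X) :
    letI := (ιx f x).hom.toAlgebra
    Hx f k' x ≃ (X.residueField x →ₐ[k] k') :=
  letI := (ιx f x).hom.toAlgebra
  { toFun := fun φ =>
      { toRingHom := φ.1.hom
        commutes' := fun c => by
          have := congrArg (fun ψ : CommRingCat.of k ⟶ CommRingCat.of k' => ψ.hom c) φ.2
          exact this }
    invFun := fun ψ => ⟨CommRingCat.ofHom ψ.toRingHom, by
      ext c
      exact ψ.commutes c⟩
    left_inv := fun φ => by rfl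
    right_inv := fun ψ => by rfl }

theorem card_Hx [Finite k'] (x : X) :
    Nat.card (Hx f k' x) = if EGA4loc.residueDegree f x ∣ Module.finrank k k' then
      EGA4loc.residueDegree f x else 0 := by
  letI := (ιx f x).hom.toAlgebra
  rw [Nat.card_congr (hxEquiv f k' x), residueDegree_eq]
  split_ifs with h
  · exact FiniteField.natCard_algHom_of_finrank_dvd h
  · have : IsEmpty (X.residueField x →ₐ[k] k') := by
      rw [← not_nonempty_iff, FiniteField.nonempty_algHom_iff_finrank_dvd]
      exact h
    exact Nat.card_of_isEmpty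

open Groth.Agent.H65.PtCount in
theorem finite_Pt [LocallyOfFiniteType f] [QuasiCompact f] [Finite k'] : Finite (Pt f k') := by
  classical
  have hcpt : CompactSpace X := QuasiCompact.compactSpace_of_compactSpace f
  obtain ⟨s0, hs0, hcov0⟩ := isCompact_and_isOpen_iff_finite_and_eq_biUnion_affineOpens.mp
    ⟨(isCompact_univ : IsCompact (Set.univ : Set X)), isOpen_univ⟩
  let s : Finset X.affineOpens := hs0.toFinset
  have hcov : ∀ x : X, ∃ U ∈ s, x ∈ U.1 := by
    intro x
    have hx : x ∈ ⋃ i ∈ s0, (i : Set X) := by rw [← hcov0]; trivial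
    simp only [Set.mem_iUnion] at hx
    obtain ⟨U, hU, hxU⟩ := hx
    exact ⟨U, hs0.mem_toFinset.mpr hU, hxU⟩
  have hfin : ∀ U : X.affineOpens,
      Finite {φ : Γ(X, U.1) →+* k' // φ.comp (strMap f U.1).hom = algebraMap k k'} := by
    intro U
    have hft : (strMap f U.1).hom.FiniteType := by
      have h1 := HasRingHomProperty.appLE (P := @LocallyOfFiniteType) f inferInstance
        ⟨⊤, isAffineOpen_top _⟩ U le_top
      rw [strMap, CommRingCat.hom_comp]
      refine h1.comp (RingHom.FiniteType.of_surjective _ ?_)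
      exact (ConcreteCategory.bijective_of_isIso
        (Scheme.ΓSpecIso (CommRingCat.of k)).inv).surjective
    exact finite_ringHom _ hft _
  have hcomm : ∀ (U : X.affineOpens) (φ : Γ(X, U.1) →+* k'),
      (Spec.map (CommRingCat.ofHom φ) ≫ U.2.fromSpec) ≫ f =
          Spec.map (CommRingCat.ofHom (algebraMap k k')) ↔
        φ.comp (strMap f U.1).hom = algebraMap k k' := by
    intro U φ
    rw [Category.assoc, fromSpec_comp f U.1 U.2, ← Spec.map_comp]
    constructor
    · intro h
      have := Spec.map_injective h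
      exact congrArg CommRingCat.Hom.hom this
    · intro h
      congr 1
      ext x
      exact RingHom.congr_fun h x
  let Ψ : (Σ U : {U // U ∈ s},
      {φ : Γ(X, U.1.1) →+* k' // φ.comp (strMap f U.1.1).hom = algebraMap k k'}) → Pt f k' :=
    fun x => ⟨Spec.map (CommRingCat.ofHom x.2.1) ≫ x.1.1.2.fromSpec, (hcomm _ _).mpr x.2.2⟩
  have hΨ : Function.Surjective Ψ := by
    rintro ⟨g, hg⟩
    let pt : Spec (CommRingCat.of k') := default
    obtain ⟨U, hU, hxU⟩ := hcov (g.base pt)
    have hrange : Set.range g.base ⊆ Set.range U.2.fromSpec.base := by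
      rw [U.2.range_fromSpec]
      rintro _ ⟨y, rfl⟩
      rw [Subsingleton.elim y pt]
      exact hxU
    haveI : IsOpenImmersion U.2.fromSpec := IsAffineOpen.isOpenImmersion_fromSpec U.2
    let l := IsOpenImmersion.lift U.2.fromSpec g hrange
    have hl : l ≫ U.2.fromSpec = g := IsOpenImmersion.lift_fac _ _ _
    have hl' : Spec.map (CommRingCat.ofHom (Spec.preimage l).hom) ≫ U.2.fromSpec = g := by
      rw [CommRingCat.ofHom_hom, Spec.map_preimage, hl]
    refine ⟨⟨⟨U, hU⟩, ⟨(Spec.preimage l).hom, ?_⟩⟩, ?_⟩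
    · rw [← hcomm, hl']
      exact hg
    · apply Subtype.ext
      exact hl'
  have : ∀ U : {U // U ∈ s},
      Finite {φ : Γ(X, U.1.1) →+* k' // φ.comp (strMap f U.1.1).hom = algebraMap k k'} :=
    fun U => hfin U.1
  exact Finite.of_surjective Ψ hΨ

/-- The number of `k'`-points is `∑_{e ∣ [k':k]} e · #{closed points of degree e}`. -/
theorem pointCount_eq_nPts [LocallyOfFiniteType f] [QuasiCompact f] [Finite k'] :
    SgaExt.pointCount f k' = Zeta.nPts f (Module.finrank k k') := by
  classical
  have hk'fin : Module.Finite k k' := Module.Finite.of_finite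
  have hr : 0 < Module.finrank k k' := Module.finrank_pos
  set r := Module.finrank k k' with hrdef
  have hfinPt : Finite (Pt f k') := finite_Pt f k'
  have hfinS : Finite (Σ x : X, Hx f k' x) := Finite.of_equiv _ (ptEquiv f k')
  have hfinH : ∀ x : X, Finite (Hx f k' x) := fun x =>
    Finite.of_injective (fun φ : Hx f k' x => (⟨x, φ⟩ : Σ x : X, Hx f k' x))
      sigma_mk_injective
  -- the finite set of points with degree dividing r
  let C : Set X := {x | EGA4loc.residueDegree f x ∣ r}
  have hCne : ∀ x ∈ C, Nonempty (Hx f k' x) := by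
    intro x hx
    have h1 := card_Hx f k' x
    have hx' : EGA4loc.residueDegree f x ∣ Module.finrank k k' := hx
    rw [if_pos hx'] at h1
    have h2 : EGA4loc.residueDegree f x ≠ 0 := by
      intro h0
      rw [h0] at hx'
      exact hr.ne' (Nat.eq_zero_of_zero_dvd hx')
    by_contra hne
    rw [not_nonempty_iff] at hne
    rw [Nat.card_of_isEmpty] at h1
    exact h2 h1.symm
  have hCfin : C.Finite := by
    refine (Set.finite_range (fun σ : (Σ x : X, Hx f k' x) => σ.1)).subset ?_
    intro x hx
    obtain ⟨φ⟩ := hCne x hx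
    exact ⟨⟨x, φ⟩, rfl⟩
  have hmemC : ∀ x : X, Nonempty (Hx f k' x) → x ∈ C := by
    intro x hx
    by_contra hxC
    have h1 := card_Hx f k' x
    have hxC' : ¬ EGA4loc.residueDegree f x ∣ Module.finrank k k' := hxC
    rw [if_neg hxC'] at h1
    obtain ⟨φ⟩ := hx
    have := (Nat.card_eq_zero.mp h1).resolve_right (not_infinite_iff_finite.mpr (hfinH x))
    exact this.false φ
  let E : (Σ x : X, Hx f k' x) ≃ Σ x : C, Hx f k' x.1 :=
    { toFun := fun σ => ⟨⟨σ.1, hmemC σ.1 ⟨σ.2⟩⟩, σ.2⟩
      invFun := fun τ => ⟨τ.1.1, τ.2⟩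
      left_inv := fun σ => rfl
      right_inv := fun τ => rfl }
  haveI : Fintype C := hCfin.fintype
  unfold SgaExt.pointCount
  change Nat.card (Pt f k') = _
  rw [Nat.card_congr (ptEquiv f k'), Nat.card_congr E, Nat.card_sigma]
  have h3 : ∀ x : C, Nat.card (Hx f k' x.1) = EGA4loc.residueDegree f x.1 := by
    intro x
    have hx' : EGA4loc.residueDegree f x.1 ∣ Module.finrank k k' := x.2
    rw [card_Hx, if_pos hx']
  rw [Finset.sum_congr rfl (fun x _ => h3 x)]
  unfold Zeta.nPts
  have h4 : ∑ x : C, EGA4loc.residueDegree f x.1 =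
      ∑ x ∈ hCfin.toFinset, EGA4loc.residueDegree f x := by
    rw [← Finset.sum_coe_sort hCfin.toFinset]
    refine Fintype.sum_equiv (Equiv.subtypeEquivRight (fun x => by simp)) _ _ (fun x => rfl)
  rw [h4]
  have hmaps : ∀ x ∈ hCfin.toFinset, EGA4loc.residueDegree f x ∈ r.divisors := by
    intro x hx
    rw [Set.Finite.mem_toFinset] at hx
    exact Nat.mem_divisors.mpr ⟨hx, hr.ne'⟩
  rw [← Finset.sum_fiberwise_of_maps_to hmaps]
  refine Finset.sum_congr rfl fun e he => ?_
  have he' := Nat.mem_divisors.mp he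
  have hepos : 0 < e := Nat.pos_of_dvd_of_pos he'.1 hr
  rw [Finset.sum_congr rfl (fun x hx => (Finset.mem_filter.mp hx).2), Finset.sum_const,
    smul_eq_mul, mul_comm]
  congr 1
  unfold Zeta.degCount
  have hfin2 : Finite { x : X // IsClosed ({x} : Set X) ∧ EGA4loc.residueDegree f x = e } := by
    refine Finite.of_injective (fun x => (⟨x.1, ?_⟩ : C)) ?_
    · change EGA4loc.residueDegree f x.1 ∣ r
      rw [x.2.2]
      exact he'.1
    · intro x y h
      exact Subtype.ext (congrArg (fun z : C => z.1) h)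
  haveI : Fintype { x : X // IsClosed ({x} : Set X) ∧ EGA4loc.residueDegree f x = e } :=
    Fintype.ofFinite _
  rw [Nat.card_eq_fintype_card]
  symm
  refine Fintype.card_of_subtype _ ?_
  intro x
  rw [Finset.mem_filter, Set.Finite.mem_toFinset]
  constructor
  · rintro ⟨-, h2⟩
    refine ⟨isClosed_of_residueDegree_pos f x (by rw [h2]; exact hepos), h2⟩
  · rintro ⟨-, h2⟩
    refine ⟨?_, h2⟩
    change EGA4loc.residueDegree f x ∣ r
    rw [h2]
    exact he'.1

end Groth.Agent.H79.PtCountEq
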