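import Mathlib
import Groth.Agent.H5.Stalk.PushClosed

/-!
# Stalks of pushforwards along closed maps (helper79)

If `f` is a closed map and all stalks `G_x`, `x ∈ f⁻¹(y)`, vanish, then `(f_* G)_y = 0`.
-/

set_option autoImplicit false
universe u
open CategoryTheory CategoryTheory.Limits AlgebraicGeometry TopologicalSpace Opposite

namespace Groth.Agent.H79.PushStalkClosed

variable {X Y : Scheme.{u}} (f : X ⟶ Y)

theorem subsingleton_stalk_pushforward_of_forall (hf : IsClosedMap f) (y : Y) (G : X.Modules)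
    (h : ∀ x : X, f x = y → Subsingleton (G.presheaf.stalk x)) :
    Subsingleton (((Scheme.Modules.pushforward f).obj G).presheaf.stalk y) := by
  refine ⟨fun a b => ?_⟩
  suffices h' : ∀ m : ((Scheme.Modules.pushforward f).obj G).presheaf.stalk y, m = 0 by
    rw [h' a, h' b]
  intro m
  obtain ⟨V, hyV, s, rfl⟩ := ((Scheme.Modules.pushforward f).obj G).presheaf.exists_germ_eq m
  -- the open set where the germ of `s` vanishes
  let Z : Set X := {x | ∃ hx : x ∈ f ⁻¹ᵁ V, G.presheaf.germ (f ⁻¹ᵁ V) x hx s = 0}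
  have hZopen : IsOpen Z := by
    rw [isOpen_iff_forall_mem_open]
    rintro x ⟨hx, hs⟩
    have hs' : G.presheaf.germ (f ⁻¹ᵁ V) x hx s = G.presheaf.germ (f ⁻¹ᵁ V) x hx 0 := by
      rw [hs, map_zero]
    obtain ⟨U, hxU, i₁, i₂, hU⟩ := TopCat.Presheaf.germ_eq G.presheaf x hx hx s 0 hs'
    rw [map_zero] at hU
    refine ⟨U, ?_, U.2, hxU⟩
    intro z hz
    refine ⟨i₁.le hz, ?_⟩
    have := TopCat.Presheaf.germ_res_apply G.presheaf i₁ z hz s
    rw [← this]
    erw [hU]
    rw [map_zero]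
  have hclosed : IsClosed (f '' Zᶜ) := hf _ hZopen.isClosed_compl
  have hy : y ∉ f '' Zᶜ := by
    rintro ⟨x, hxZ, hxy⟩
    apply hxZ
    have hx : x ∈ f ⁻¹ᵁ V := by
      change f x ∈ V
      rw [hxy]; exact hyV
    have := h x hxy
    exact ⟨hx, Subsingleton.elim _ _⟩
  let W : Y.Opens := ⟨(f '' Zᶜ)ᶜ, hclosed.isOpen_compl⟩
  have e1 : ((Scheme.Modules.pushforward f).obj G).presheaf.germ V y hyV s =
      ((Scheme.Modules.pushforward f).obj G).presheaf.germ (V ⊓ W) y ⟨hyV, hy⟩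
        (((Scheme.Modules.pushforward f).obj G).presheaf.map (homOfLE inf_le_left).op s) :=
    (TopCat.Presheaf.germ_res_apply _ (homOfLE inf_le_left) y ⟨hyV, hy⟩ s).symm
  have hle : f ⁻¹ᵁ (V ⊓ W) ≤ f ⁻¹ᵁ V := fun z hz => hz.1
  have e2 : ((Scheme.Modules.pushforward f).obj G).presheaf.map
      (homOfLE (inf_le_left : V ⊓ W ≤ V)).op s = 0 := by
    change G.presheaf.map (homOfLE hle).op s = 0
    apply TopCat.Presheaf.section_ext ⟨G.presheaf, G.isSheaf⟩
    intro x hx
    have hxZ : x ∈ Z := by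
      by_contra hcon
      exact hx.2 ⟨x, hcon, rfl⟩
    obtain ⟨hxV, hs⟩ := hxZ
    rw [map_zero]
    have := TopCat.Presheaf.germ_res_apply G.presheaf (homOfLE hle) x hx s
    erw [this]
    exact hs
  rw [e1, e2, map_zero]

end Groth.Agent.H79.PushStalkClosed
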