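import Groth.Agent.H79.ModPullback

namespace Groth.Agent.H79

open CategoryTheory CategoryTheory.Limits

universe u

section
variable {A : Type u} [CommRing A] {Z : Type u} [AddCommGroup Z] [Module A Z]

/-- A square of quotient projections is cartesian when `P₂ ⊓ P₃ ≤ P₁` and `P₄ ≤ P₂ ⊔ P₃`. -/
theorem isPullback_factor {P₁ P₂ P₃ P₄ : Submodule A Z}
    (h12 : P₁ ≤ P₂) (h13 : P₁ ≤ P₃) (h24 : P₂ ≤ P₄) (h34 : P₃ ≤ P₄)
    (hinf : P₂ ⊓ P₃ ≤ P₁) (hsup : P₄ ≤ P₂ ⊔ P₃) :
    IsPullback (ModuleCat.ofHom (Submodule.factor h12)) (ModuleCat.ofHom (Submodule.factor h13))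
      (ModuleCat.ofHom (Submodule.factor h24)) (ModuleCat.ofHom (Submodule.factor h34)) := by
  apply modulecat_isPullback_of_elementwise
  · apply ModuleCat.hom_ext
    apply LinearMap.ext
    intro a
    obtain ⟨z, rfl⟩ := Submodule.mkQ_surjective _ a
    rfl
  · intro a b hab hab'
    obtain ⟨za, rfl⟩ := Submodule.mkQ_surjective _ a
    obtain ⟨zb, rfl⟩ := Submodule.mkQ_surjective _ b
    have h2 : za - zb ∈ P₂ := by
      have : P₂.mkQ za = P₂.mkQ zb := hab
      rw [← sub_eq_zero, ← map_sub] at this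
      exact (Submodule.Quotient.mk_eq_zero P₂).1 this
    have h3 : za - zb ∈ P₃ := by
      have : P₃.mkQ za = P₃.mkQ zb := hab'
      rw [← sub_eq_zero, ← map_sub] at this
      exact (Submodule.Quotient.mk_eq_zero P₃).1 this
    have h1 : za - zb ∈ P₁ := hinf ⟨h2, h3⟩
    rw [← sub_eq_zero, ← map_sub]
    exact (Submodule.Quotient.mk_eq_zero P₁).2 h1
  · intro a b hab
    obtain ⟨z₂, rfl⟩ := Submodule.mkQ_surjective _ a
    obtain ⟨z₃, rfl⟩ := Submodule.mkQ_surjective _ b
    have h4 : z₂ - z₃ ∈ P₄ := by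
      have : P₄.mkQ z₂ = P₄.mkQ z₃ := hab
      rw [← sub_eq_zero, ← map_sub] at this
      exact (Submodule.Quotient.mk_eq_zero P₄).1 this
    obtain ⟨p₂, hp₂, p₃, hp₃, hsum⟩ := Submodule.mem_sup.1 (hsup h4)
    refine ⟨P₁.mkQ (z₂ - p₂), ?_, ?_⟩
    · change P₂.mkQ (z₂ - p₂) = P₂.mkQ z₂
      rw [map_sub, sub_eq_self]
      exact (Submodule.Quotient.mk_eq_zero P₂).2 hp₂
    · change P₃.mkQ (z₂ - p₂) = P₃.mkQ z₃
      have : z₂ - p₂ = z₃ + p₃ := by
        have h5 : z₂ = p₂ + p₃ + z₃ := by rw [hsum]; abel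
        rw [h5]; abel
      rw [this, map_add, add_eq_left]
      exact (Submodule.Quotient.mk_eq_zero P₃).2 hp₃

end

section
variable {A : Type u} [CommRing A] {M : Type u} [AddCommGroup M] [Module A M]

theorem isPullback_koszul_quot (Z B : Submodule A M) (hBZ : B ≤ Z) (x : A)
    (hxH : IsSMulRegular (↥Z ⧸ Submodule.comap Z.subtype B) x)
    (h12 : Submodule.comap Z.subtype (Ideal.span {x} • B) ≤
      Submodule.comap Z.subtype (Ideal.span {x} • Z))
    (h13 : Submodule.comap Z.subtype (Ideal.span {x} • B) ≤ Submodule.comap Z.subtype B)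
    (h24 : Submodule.comap Z.subtype (Ideal.span {x} • Z) ≤
      Submodule.comap Z.subtype (B ⊔ Ideal.span {x} • Z))
    (h34 : Submodule.comap Z.subtype B ≤ Submodule.comap Z.subtype (B ⊔ Ideal.span {x} • Z)) :
    IsPullback (ModuleCat.ofHom (Submodule.factor h12)) (ModuleCat.ofHom (Submodule.factor h13))
      (ModuleCat.ofHom (Submodule.factor h24)) (ModuleCat.ofHom (Submodule.factor h34)) := by
  apply isPullback_factor
  · rintro z ⟨h2, h3⟩
    replace h2 : z ∈ Submodule.comap Z.subtype (Ideal.span {x} • Z) := h2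
    replace h3 : z ∈ Submodule.comap Z.subtype B := h3
    rw [Submodule.mem_comap] at h2 h3 ⊢
    rw [Submodule.ideal_span_singleton_smul] at h2 ⊢
    obtain ⟨z', hz', hzz'⟩ := (Submodule.mem_smul_pointwise_iff_exists _ _ _).1 h2
    have hreg : (Submodule.comap Z.subtype B).mkQ ⟨z', hz'⟩ = 0 := by
      apply hxH
      change x • (Submodule.comap Z.subtype B).mkQ ⟨z', hz'⟩ = x • 0
      rw [smul_zero, ← map_smul]
      apply (Submodule.Quotient.mk_eq_zero _).2
      rw [Submodule.mem_comap]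
      change Z.subtype (x • ⟨z', hz'⟩) ∈ B
      rw [map_smul]
      change x • z' ∈ B
      rw [hzz']
      exact h3
    have hz'B : z' ∈ B := by
      have := (Submodule.Quotient.mk_eq_zero _).1 hreg
      exact this
    exact (Submodule.mem_smul_pointwise_iff_exists _ _ _).2 ⟨z', hz'B, hzz'⟩
  · intro z hz
    rw [Submodule.mem_comap] at hz
    obtain ⟨b, hb, y, hy, hsum⟩ := Submodule.mem_sup.1 hz
    have hyZ : y ∈ Z := by
      have : Ideal.span {x} • Z ≤ Z := Submodule.smul_le_right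
      exact this hy
    rw [Submodule.mem_sup]
    refine ⟨⟨y, hyZ⟩, ?_, ⟨b, hBZ hb⟩, ?_, ?_⟩
    · rw [Submodule.mem_comap]; exact hy
    · rw [Submodule.mem_comap]; exact hb
    · apply Subtype.ext
      change y + b = z.1
      rw [add_comm]; exact hsum

end

end Groth.Agent.H79
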