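import Mathlib
import Groth.Agent.H79.FlatAss

/-!
# Schematic density of opens containing the associated points (helper79)

* `section_eq_zero_of_res_eq_zero`: on a scheme, a function on an open `W` which vanishes on
  `W ⊓ W'`, where `W'` contains all associated points, is zero.
* `maximalIdeal_mem_associatedPrimes_of_flat_hom`: a flat morphism of locally Noetherian schemes
  maps associated points to associated points.
* `hom_ext_of_ass_subset`: two morphisms `G₁ ⟶ G₂` over `S` with `G₂` separated over `S`, which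
  agree on an open of `G₁` containing all associated points of `G₁`, are equal.
-/

set_option autoImplicit false
universe u
open CategoryTheory CategoryTheory.Limits AlgebraicGeometry TopologicalSpace Opposite

namespace Groth.Agent.H79.SchemDense

theorem section_eq_zero_of_res_eq_zero {G : Scheme.{u}} (W' : G.Opens)
    (hW' : ∀ z : G, IsLocalRing.maximalIdeal (G.presheaf.stalk z) ∈
      associatedPrimes (G.presheaf.stalk z) (G.presheaf.stalk z) → z ∈ W')
    (W : G.Opens) (c : Γ(G, W))
    (hc : G.presheaf.map (homOfLE (inf_le_left : W ⊓ W' ≤ W)).op c = 0) : c = 0 := by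
  by_contra hne
  obtain ⟨y, hyW, hy, hgerm⟩ := Groth.Agent.H8.exists_isWeakAssPoint_germ_ne_zero_structure c hne
  have hy' : y ∈ W' := hW' y ((Groth.Agent.H8.isWeakAssPoint_structure_iff y).mp hy)
  apply hgerm
  rw [← TopCat.Presheaf.germ_res_apply G.presheaf (homOfLE (inf_le_left : W ⊓ W' ≤ W)) y
    ⟨hyW, hy'⟩ c, hc, map_zero]

theorem maximalIdeal_mem_associatedPrimes_of_flat_hom {G S : Scheme.{u}} (f : G ⟶ S) [Flat f]
    [IsLocallyNoetherian G] [IsLocallyNoetherian S] (z : G)
    (hz : IsLocalRing.maximalIdeal (G.presheaf.stalk z) ∈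
      associatedPrimes (G.presheaf.stalk z) (G.presheaf.stalk z)) :
    IsLocalRing.maximalIdeal (S.presheaf.stalk (f z)) ∈
      associatedPrimes (S.presheaf.stalk (f z)) (S.presheaf.stalk (f z)) := by
  obtain ⟨-, b, hb⟩ := (isAssociatedPrime_iff (R := G.presheaf.stalk z)).mp hz
  let _ := (f.stalkMap z).hom.toAlgebra
  have hflat : Module.Flat (S.presheaf.stalk (f z)) (G.presheaf.stalk z) := Flat.stalkMap f z
  refine Groth.Agent.H79.FlatAss.maximalIdeal_mem_associatedPrimes_of_flat _
    (G.presheaf.stalk z) b ?_ ?_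
  · rintro rfl
    have h1 : (1 : G.presheaf.stalk z) ∈ IsLocalRing.maximalIdeal (G.presheaf.stalk z) := by
      rw [hb, Submodule.mem_colon_singleton]
      simp
    exact (IsLocalRing.maximalIdeal.isMaximal _).ne_top ((Ideal.eq_top_iff_one _).mpr h1)
  · intro a ha
    have h1 : (f.stalkMap z).hom a ∈ IsLocalRing.maximalIdeal (G.presheaf.stalk z) := by
      have hloc : IsLocalHom (f.stalkMap z).hom := inferInstance
      have h4 := ((IsLocalRing.local_hom_TFAE (f.stalkMap z).hom).out 0 4).mp hloc
      rw [← h4] at ha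
      exact ha
    rw [hb, Submodule.mem_colon_singleton] at h1
    exact h1

set_option backward.isDefEq.respectTransparency false in
/-- Two morphisms over `S` into a scheme separated over `S` which agree on an open containing all
associated points of the source are equal. -/
theorem hom_ext_of_ass_subset {G₁ G₂ S : Scheme.{u}} (s : G₂ ⟶ S) [IsSeparated s]
    (φ ψ : G₁ ⟶ G₂) (hφψ : φ ≫ s = ψ ≫ s) (W' : G₁.Opens)
    (hW' : ∀ z : G₁, IsLocalRing.maximalIdeal (G₁.presheaf.stalk z) ∈
      associatedPrimes (G₁.presheaf.stalk z) (G₁.presheaf.stalk z) → z ∈ W')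
    (h : W'.ι ≫ φ = W'.ι ≫ ψ) : φ = ψ := by
  let X' : Over S := Over.mk (φ ≫ s)
  let Y' : Over S := Over.mk s
  let U' : Over S := Over.mk (W'.ι ≫ φ ≫ s)
  let f' : X' ⟶ Y' := Over.homMk φ
  let g' : X' ⟶ Y' := Over.homMk ψ hφψ.symm
  let ι' : U' ⟶ X' := Over.homMk W'.ι
  have : IsSeparated Y'.hom := ‹_›
  have hlift : ι' ≫ f' = ι' ≫ g' := by
    ext1
    exact h
  have hfac : (equalizer.lift ι' hlift).left ≫ (equalizer.ι f' g').left = W'.ι := by
    rw [← Over.comp_left, equalizer.lift_ι]
    rfl
  have hker : (equalizer.ι f' g').left.ker = ⊥ := by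
    ext W : 2
    rw [Scheme.Hom.ker_apply]
    apply le_antisymm _ bot_le
    intro c hc
    rw [RingHom.mem_ker] at hc
    have h1 : (W'.ι.app W.1).hom c = 0 := by
      rw [← hfac, Scheme.Hom.comp_app]
      change ((equalizer.lift ι' hlift).left.app _).hom
        (((equalizer.ι f' g').left.app W.1).hom c) = 0
      rw [hc, map_zero]
    have h2 : G₁.presheaf.map (homOfLE (inf_le_left : W.1 ⊓ W' ≤ W.1)).op c = 0 := by
      rw [Scheme.Opens.ι_app] at h1
      have hle : W.1 ⊓ W' ≤ W'.ι ''ᵁ W'.ι ⁻¹ᵁ W.1 := by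
        rintro x ⟨hxW, hxW'⟩
        exact ⟨⟨x, hxW'⟩, hxW, rfl⟩
      have h3 : (homOfLE (inf_le_left : W.1 ⊓ W' ≤ W.1)) = homOfLE hle ≫
          homOfLE (x := W'.ι ''ᵁ W'.ι ⁻¹ᵁ W.1) (Set.image_preimage_subset _ _) := rfl
      rw [h3, op_comp, G₁.presheaf.map_comp]
      change (G₁.presheaf.map (homOfLE hle).op).hom ((G₁.presheaf.map _).hom c) = 0
      exact (congrArg (G₁.presheaf.map (homOfLE hle).op).hom h1).trans (map_zero _)
    have := section_eq_zero_of_res_eq_zero W' hW' W.1 c h2
    rw [this]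
    exact Submodule.zero_mem _
  have hiso : IsIso (equalizer.ι f' g').left := IsClosedImmersion.isIso_iff_ker_eq_bot.mpr hker
  rw [← cancel_epi (equalizer.ι f' g').left]
  exact congr($(equalizer.condition f' g').left)

end Groth.Agent.H79.SchemDense
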