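import Mathlib

/-!
# Global sections supported at a closed point

On a locally Noetherian scheme, an element `r` of the local ring at a closed point `x` which is
killed by the maximal ideal spreads out (up to a unit) to a global section whose germs at all other
points vanish.
-/

set_option autoImplicit false
universe u

namespace Groth.Agent.H79.SectSuppPt

open AlgebraicGeometry TopologicalSpace CategoryTheory Opposite

/-- germs of a section of an affine open `U` at a point `z ∈ U`: vanishing criterion. -/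
theorem germ_eq_zero_of_mul_eq_zero {X : Scheme.{u}} {U : X.Opens} (z : X) (hz : z ∈ U)
    (a b : Γ(X, U)) (hb : IsUnit (X.presheaf.germ U z hz b)) (hab : b * a = 0) :
    X.presheaf.germ U z hz a = 0 := by
  have h := congrArg (X.presheaf.germ U z hz) hab
  rw [map_mul, map_zero] at h
  exact (hb.mul_right_eq_zero).mp h

theorem exists_section_supported_at {X : Scheme.{u}} [IsLocallyNoetherian X] (x : X)
    (hxc : IsClosed ({x} : Set X)) (r : X.presheaf.stalk x)
    (hr : ∀ t ∈ IsLocalRing.maximalIdeal (X.presheaf.stalk x), t * r = 0) :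
    ∃ (σ : Γ(X, ⊤)) (c : X.presheaf.stalk x), IsUnit c ∧
      X.presheaf.germ ⊤ x trivial σ = c * r ∧
      ∀ z (_ : z ≠ x), X.presheaf.germ ⊤ z trivial σ = 0 := by
  classical
  obtain ⟨U, hU, hxU, -⟩ := exists_isAffineOpen_mem_and_subset (x := x) (U := ⊤) trivial
  have hNoeth : IsNoetherianRing Γ(X, U) := IsLocallyNoetherian.component_noetherian ⟨U, hU⟩
  let 𝔭 : Ideal Γ(X, U) := (hU.primeIdealOf ⟨x, hxU⟩).asIdeal
  have hmax : 𝔭.IsMaximal := hU.primeIdealOf_isMaximal_of_isClosed ⟨x, hxU⟩ hxc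
  let algx : Algebra Γ(X, U) (X.presheaf.stalk x) :=
    TopCat.Presheaf.algebra_section_stalk X.presheaf (⟨x, hxU⟩ : U)
  have hloc : IsLocalization.AtPrime (X.presheaf.stalk x) 𝔭 := hU.isLocalization_stalk ⟨x, hxU⟩
  -- write `r` as a fraction
  obtain ⟨⟨a, u⟩, hau⟩ := IsLocalization.surj 𝔭.primeCompl r
  have hau' : r * X.presheaf.germ U x hxU u.1 = X.presheaf.germ U x hxU a := hau
  have hunit : IsUnit (X.presheaf.germ U x hxU u.1) :=
    IsLocalization.map_units (X.presheaf.stalk x) u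
  -- generators of `𝔭`
  obtain ⟨T, hT⟩ := (isNoetherianRing_iff_ideal_fg Γ(X, U)).mp hNoeth 𝔭
  have hkill : ∀ t ∈ T, ∃ v : Γ(X, U), v ∈ 𝔭.primeCompl ∧ v * (t * a) = 0 := by
    intro t ht
    have ht𝔭 : t ∈ 𝔭 := hT ▸ Ideal.subset_span ht
    have h1 : X.presheaf.germ U x hxU t ∈ IsLocalRing.maximalIdeal (X.presheaf.stalk x) :=
      (IsLocalization.AtPrime.to_map_mem_maximal_iff (X.presheaf.stalk x) 𝔭 t).mpr ht𝔭
    have h2 : X.presheaf.germ U x hxU (t * a) = 0 := by
      rw [map_mul, ← hau', ← mul_assoc, hr _ h1, zero_mul]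
    obtain ⟨m, hm⟩ := (IsLocalization.map_eq_zero_iff 𝔭.primeCompl (X.presheaf.stalk x) (t * a)).mp h2
    exact ⟨m.1, m.2, hm⟩
  choose! v hv using hkill
  let w : Γ(X, U) := ∏ t ∈ T, v t
  have hw : w ∈ 𝔭.primeCompl := Submonoid.prod_mem _ (fun t ht => (hv t ht).1)
  let W : X.Opens := X.basicOpen w
  have hWU : W ≤ U := X.basicOpen_le w
  have hxW : x ∈ W := by
    rw [Scheme.mem_basicOpen _ _ _ hxU]
    exact IsLocalization.map_units (X.presheaf.stalk x) (⟨w, hw⟩ : 𝔭.primeCompl)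
  let s : Γ(X, W) := X.presheaf.map (homOfLE hWU).op a
  -- `s` vanishes at all points of `W` other than `x`
  have hs : ∀ z (hz : z ∈ W), z ≠ x → X.presheaf.germ W z hz s = 0 := by
    intro z hz hzx
    have hzU : z ∈ U := hWU hz
    rw [TopCat.Presheaf.germ_res_apply X.presheaf (homOfLE hWU) z hz a]
    let algz : Algebra Γ(X, U) (X.presheaf.stalk z) :=
      TopCat.Presheaf.algebra_section_stalk X.presheaf (⟨z, hzU⟩ : U)
    have hlocz : IsLocalization.AtPrime (X.presheaf.stalk z) (hU.primeIdealOf ⟨z, hzU⟩).asIdeal :=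
      hU.isLocalization_stalk ⟨z, hzU⟩
    -- some generator does not vanish at `z`
    have hex : ∃ t ∈ T, t ∉ (hU.primeIdealOf ⟨z, hzU⟩).asIdeal := by
      by_contra hcon
      push Not at hcon
      have hle : 𝔭 ≤ (hU.primeIdealOf ⟨z, hzU⟩).asIdeal := by
        rw [← hT, Ideal.span_le]
        exact hcon
      have heq : 𝔭 = (hU.primeIdealOf ⟨z, hzU⟩).asIdeal :=
        hmax.eq_of_le (hU.primeIdealOf ⟨z, hzU⟩).isPrime.ne_top hle
      have heq' : hU.primeIdealOf ⟨x, hxU⟩ = hU.primeIdealOf ⟨z, hzU⟩ := PrimeSpectrum.ext heq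
      have h1 := hU.fromSpec_primeIdealOf ⟨x, hxU⟩
      have h2 := hU.fromSpec_primeIdealOf ⟨z, hzU⟩
      rw [heq'] at h1
      exact hzx (h2.symm.trans h1)
    obtain ⟨t, htT, htz⟩ := hex
    have hut : IsUnit (X.presheaf.germ U z hzU t) :=
      (IsLocalization.AtPrime.isUnit_to_map_iff (X.presheaf.stalk z)
        (hU.primeIdealOf ⟨z, hzU⟩).asIdeal t).mpr htz
    have huw : IsUnit (X.presheaf.germ U z hzU w) := by
      rw [← Scheme.mem_basicOpen _ _ _ hzU]
      exact hz
    have huv : IsUnit (X.presheaf.germ U z hzU (v t)) := by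
      have hw' : w = v t * ∏ t' ∈ T.erase t, v t' := (Finset.mul_prod_erase T v htT).symm
      rw [hw', map_mul] at huw
      exact isUnit_of_mul_isUnit_left huw
    have h3 : (v t * t) * a = 0 := by rw [mul_assoc]; exact (hv t htT).2
    exact germ_eq_zero_of_mul_eq_zero z hzU a (v t * t) (by rw [map_mul]; exact huv.mul hut) h3
  -- the open complement of `x`
  let V : X.Opens := ⟨{x}ᶜ, hxc.isOpen_compl⟩
  have hcov : W ⊔ V = ⊤ := by
    ext z
    simp only [Opens.coe_sup, Opens.coe_top, Set.mem_univ, iff_true, Set.mem_union]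
    by_cases hz : z = x
    · left; rw [hz]; exact hxW
    · right; exact hz
  -- gluing `s` with `0`
  have hcompat : (X.sheaf.obj.map (homOfLE (inf_le_left : W ⊓ V ≤ W)).op).hom s =
      (X.sheaf.obj.map (homOfLE (inf_le_right : W ⊓ V ≤ V)).op).hom 0 := by
    rw [map_zero]
    apply TopCat.Presheaf.section_ext X.sheaf
    intro z hz
    rw [map_zero]
    have := TopCat.Presheaf.germ_res_apply X.presheaf (homOfLE (inf_le_left : W ⊓ V ≤ W)) z hz s
    erw [this]
    exact hs z hz.1 hz.2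
  let pr : (RingHom.eqLocus
      (RingHom.comp (X.sheaf.obj.map (homOfLE inf_le_left : W ⊓ V ⟶ W).op).hom
        (RingHom.fst (X.sheaf.obj.obj <| op W) (X.sheaf.obj.obj <| op V)))
      (RingHom.comp (X.sheaf.obj.map (homOfLE inf_le_right : W ⊓ V ⟶ V).op).hom
        (RingHom.snd (X.sheaf.obj.obj <| op W) (X.sheaf.obj.obj <| op V)))) :=
    ⟨(s, 0), hcompat⟩
  let σ₀ : Γ(X, W ⊔ V) := (X.sheaf.objSupIsoProdEqLocus W V).inv pr
  have hσW : X.presheaf.map (homOfLE (le_sup_left : W ≤ W ⊔ V)).op σ₀ = s :=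
    TopCat.Sheaf.objSupIsoProdEqLocus_inv_fst X.sheaf W V pr
  have hσV : X.presheaf.map (homOfLE (le_sup_right : V ≤ W ⊔ V)).op σ₀ = 0 :=
    TopCat.Sheaf.objSupIsoProdEqLocus_inv_snd X.sheaf W V pr
  have htop : (⊤ : X.Opens) ≤ W ⊔ V := le_of_eq hcov.symm
  let σ : Γ(X, ⊤) := X.presheaf.map (homOfLE htop).op σ₀
  refine ⟨σ, X.presheaf.germ U x hxU u.1, hunit, ?_, ?_⟩
  · rw [mul_comm, hau']
    have h1 : X.presheaf.germ ⊤ x trivial σ = X.presheaf.germ (W ⊔ V) x (Or.inl hxW) σ₀ :=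
      TopCat.Presheaf.germ_res_apply X.presheaf (homOfLE htop) x trivial σ₀
    have h2 : X.presheaf.germ W x hxW s = X.presheaf.germ (W ⊔ V) x (Or.inl hxW) σ₀ := by
      rw [← hσW]
      exact TopCat.Presheaf.germ_res_apply X.presheaf (homOfLE le_sup_left) x hxW σ₀
    rw [h1, ← h2]
    exact TopCat.Presheaf.germ_res_apply X.presheaf (homOfLE hWU) x hxW a
  · intro z hz
    have hzV : z ∈ V := hz
    have h1 : X.presheaf.germ ⊤ z trivial σ = X.presheaf.germ (W ⊔ V) z (Or.inr hzV) σ₀ :=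
      TopCat.Presheaf.germ_res_apply X.presheaf (homOfLE htop) z trivial σ₀
    have h2 : X.presheaf.germ V z hzV (0 : Γ(X, V)) =
        X.presheaf.germ (W ⊔ V) z (Or.inr hzV) σ₀ := by
      rw [← hσV]
      exact TopCat.Presheaf.germ_res_apply X.presheaf (homOfLE le_sup_right) z hzV σ₀
    rw [h1, ← h2, map_zero]

end Groth.Agent.H79.SectSuppPt
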