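import Groth.Agent.H79.KoszulBound2
import Groth.Agent.H79.KoszulRel

set_option autoImplicit false
universe u
open CategoryTheory CochainComplex HomComplex Limits
open Groth.Agent.H79.ConeLength
open scoped Pointwise

namespace Groth.Agent.H79.SerreEP

variable {A : Type u} [CommRing A]

section EP

variable (K : CochainComplex (ModuleCat.{u} A) ℤ) (F : ∀ q : ℤ, Submodule A (K.X q))
  (hF : ∀ (i j : ℤ) (k : K.X i), k ∈ F i → (K.d i j).hom k ∈ F j)

/-- the terms of the quotient complex -/
abbrev Cq (q : ℤ) : Type u := K.X q ⧸ F q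

/-- the differential of the quotient complex -/
def dC (i j : ℤ) : Cq K F i →ₗ[A] Cq K F j :=
  (F i).mapQ (F j) (K.d i j).hom (fun k hk => hF i j k hk)

theorem dC_mk (i j : ℤ) (k : K.X i) :
    dC K F hF i j (Submodule.Quotient.mk k) = Submodule.Quotient.mk ((K.d i j).hom k) := rfl

theorem dC_dC (i j l : ℤ) (x : Cq K F i) : dC K F hF j l (dC K F hF i j x) = 0 := by
  obtain ⟨k, rfl⟩ := Submodule.Quotient.mk_surjective _ x
  rw [dC_mk, dC_mk, d_d_apply]
  rfl

variable (hacyc : ∀ (i j l : ℤ), i + 1 = j → j + 1 = l → ∀ z : K.X j, z ∈ F j →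
  (K.d j l).hom z = 0 → ∃ w ∈ F i, (K.d i j).hom w = z)

include hacyc in
theorem length_Cq (a b c : ℤ) (hab : a + 1 = b) (hbc : b + 1 = c) :
    Module.length A (Cq K F b) =
      Module.length A (LinearMap.range (dC K F hF a b)) + Module.length A (Hc K a b c) +
        Module.length A (LinearMap.range (dC K F hF b c)) := by
  rw [Groth.Agent.H15.Len.length_eq_ker_add_range (dC K F hF b c)]
  congr 1
  -- the boundaries inside the cycles of the quotient complex
  set ZC := LinearMap.ker (dC K F hF b c) with hZC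
  set B' : Submodule A ZC := Submodule.comap ZC.subtype (LinearMap.range (dC K F hF a b)) with hB'
  have hle : LinearMap.range (dC K F hF a b) ≤ ZC := by
    rintro _ ⟨x, rfl⟩
    exact LinearMap.mem_ker.mpr (dC_dC K F hF a b c x)
  have h1 : Module.length A ZC = Module.length A B' + Module.length A (ZC ⧸ B') :=
    Module.length_eq_add_of_exact B'.subtype B'.mkQ B'.subtype_injective B'.mkQ_surjective
      (LinearMap.exact_subtype_mkQ B')
  have h2 : Module.length A B' = Module.length A (LinearMap.range (dC K F hF a b)) :=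
    (Submodule.comapSubtypeEquivOfLe hle).length_eq
  rw [h1, h2]
  congr 1
  -- the comparison map
  let θ : ↥(LinearMap.ker (K.d b c).hom) →ₗ[A] ZC :=
    ((F b).mkQ ∘ₗ (LinearMap.ker (K.d b c).hom).subtype).codRestrict ZC (by
      intro z
      rw [hZC, LinearMap.mem_ker]
      change dC K F hF b c (Submodule.Quotient.mk z.1) = 0
      rw [dC_mk, LinearMap.mem_ker.mp z.2]
      rfl)
  let θ' : ↥(LinearMap.ker (K.d b c).hom) →ₗ[A] (ZC ⧸ B') := B'.mkQ ∘ₗ θ
  have hθ : ∀ z, (θ z : Cq K F b) = Submodule.Quotient.mk z.1 := fun z => rfl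
  have hsurj : Function.Surjective θ' := by
    intro y
    obtain ⟨⟨x, hx⟩, rfl⟩ := B'.mkQ_surjective y
    obtain ⟨k, rfl⟩ := Submodule.Quotient.mk_surjective _ x
    rw [hZC, LinearMap.mem_ker, dC_mk, Submodule.Quotient.mk_eq_zero] at hx
    obtain ⟨f, hf, hfd⟩ := hacyc b c (c + 1) hbc rfl _ hx (d_d_apply K b c (c + 1) k)
    have hz : (K.d b c).hom (k - f) = 0 := by rw [map_sub, hfd, sub_self]
    refine ⟨⟨k - f, LinearMap.mem_ker.mpr hz⟩, ?_⟩
    change B'.mkQ (θ ⟨k - f, _⟩) = _
    congr 1
    apply Subtype.ext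
    rw [hθ]
    change Submodule.Quotient.mk (k - f) = Submodule.Quotient.mk k
    rw [Submodule.Quotient.eq]
    simpa using (F b).neg_mem hf
  have hker : LinearMap.ker θ' =
      Submodule.comap (LinearMap.ker (K.d b c).hom).subtype (LinearMap.range (K.d a b).hom) := by
    ext z
    rw [LinearMap.mem_ker, Submodule.mem_comap]
    change B'.mkQ (θ z) = 0 ↔ _
    rw [Submodule.mkQ_apply, Submodule.Quotient.mk_eq_zero, hB', Submodule.mem_comap]
    change (θ z : Cq K F b) ∈ LinearMap.range (dC K F hF a b) ↔ _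
    rw [hθ]
    constructor
    · rintro ⟨x, hx⟩
      obtain ⟨k', rfl⟩ := Submodule.Quotient.mk_surjective _ x
      rw [dC_mk, Submodule.Quotient.eq] at hx
      -- `d k' - z ∈ F b` and it is a cycle
      have hcyc : (K.d b c).hom ((K.d a b).hom k' - z.1) = 0 := by
        rw [map_sub, d_d_apply, LinearMap.mem_ker.mp z.2, sub_zero]
      obtain ⟨f', hf', hfd'⟩ := hacyc a b c hab hbc _ hx hcyc
      refine ⟨k' - f', ?_⟩
      rw [map_sub, hfd']
      simp
    · rintro ⟨k', hk'⟩
      exact ⟨Submodule.Quotient.mk k', by rw [dC_mk, hk']; rfl⟩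
  have e1 := LinearMap.quotKerEquivOfSurjective θ' hsurj
  have e2 := Submodule.quotEquivOfEq _ _ hker
  exact (e2.symm.trans e1).length_eq.symm

end EP

end Groth.Agent.H79.SerreEP
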