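import Groth.Agent.H79.SerreTerms

set_option autoImplicit false
universe u
open CategoryTheory CochainComplex HomComplex Limits
open Groth.Agent.H79.ConeLength Groth.Agent.H79.KoszulCone Groth.Agent.H79.KoszulRel
open Groth.Agent.H79.KoszulEuler Groth.Agent.H79.KoszulEulerAdd Groth.Agent.H79.SerreTerms
open Groth.Agent.H79.SerreEP Groth.Agent.H79.SerreFilt
open scoped Pointwise

namespace Groth.Agent.H79.SerreMain

theorem alt_sum_telescope (n : ℕ) (t h s : ℤ → ℕ∞) (ht : ∀ q, t q = s q + h q + s (q + 1))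
    (hfin : ∀ q, t q ≠ ⊤) (hv : ∀ q : ℤ, (0 < q ∨ q + n < 0) → t q = 0) :
    (∑ᶠ q : ℤ, ((q.negOnePow : ℤˣ) : ℤ) * ((t q).toNat : ℤ)) =
      ∑ᶠ q : ℤ, ((q.negOnePow : ℤˣ) : ℤ) * ((h q).toNat : ℤ) := by
  have hst : ∀ q, s q ≠ ⊤ := fun q => by
    have := hfin q; rw [ht] at this
    exact (WithTop.add_ne_top.mp (WithTop.add_ne_top.mp this).1).1
  have hht : ∀ q, h q ≠ ⊤ := fun q => by
    have := hfin q; rw [ht] at this
    exact (WithTop.add_ne_top.mp (WithTop.add_ne_top.mp this).1).2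
  have hs0 : ∀ q : ℤ, (0 < q ∨ q + n < 0) → s q = 0 := fun q hq => by
    have := hv q hq; rw [ht] at this
    exact (add_eq_zero.mp (add_eq_zero.mp this).1).1
  have hh0 : ∀ q : ℤ, (0 < q ∨ q + n < 0) → h q = 0 := fun q hq => by
    have := hv q hq; rw [ht] at this
    exact (add_eq_zero.mp (add_eq_zero.mp this).1).2
  have e1 : ∀ q : ℤ, ((q.negOnePow : ℤˣ) : ℤ) * ((t q).toNat : ℤ) =
      ((q.negOnePow : ℤˣ) : ℤ) * ((s q).toNat : ℤ) + ((q.negOnePow : ℤˣ) : ℤ) * ((h q).toNat : ℤ) +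
        -((((q + 1).negOnePow : ℤˣ) : ℤ) * ((s (q + 1)).toNat : ℤ)) := by
    intro q
    have hsh : s q + h q ≠ ⊤ := WithTop.add_ne_top.mpr ⟨hst q, hht q⟩
    rw [ht, ENat.toNat_add hsh (hst (q + 1)),
      ENat.toNat_add (hst q) (hht q), Int.negOnePow_succ]
    push_cast
    ring
  have ss : (Function.support fun q : ℤ => ((q.negOnePow : ℤˣ) : ℤ) * ((s q).toNat : ℤ)).Finite :=
    fin_supp n _ (fun q hq => by rw [hs0 q hq]; simp)
  have sh : (Function.support fun q : ℤ => ((q.negOnePow : ℤˣ) : ℤ) * ((h q).toNat : ℤ)).Finite :=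
    fin_supp n _ (fun q hq => by rw [hh0 q hq]; simp)
  have ss' : (Function.support fun q : ℤ =>
      -((((q + 1).negOnePow : ℤˣ) : ℤ) * ((s (q + 1)).toNat : ℤ))).Finite := by
    have : (fun q : ℤ => -((((q + 1).negOnePow : ℤˣ) : ℤ) * ((s (q + 1)).toNat : ℤ))) =
        (fun j : ℤ => -(((j.negOnePow : ℤˣ) : ℤ) * ((s j).toNat : ℤ))) ∘
          (Equiv.addRight (1 : ℤ)) := rfl
    rw [this]
    apply Set.Finite.subset (ss.preimage (Equiv.injective _).injOn)
    intro i hi
    simp only [Function.mem_support, Function.comp_apply, ne_eq, neg_eq_zero,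
      Set.mem_preimage] at hi ⊢
    exact hi
  have h2 : (∑ᶠ q : ℤ, -((((q + 1).negOnePow : ℤˣ) : ℤ) * ((s (q + 1)).toNat : ℤ))) =
      -∑ᶠ j : ℤ, ((j.negOnePow : ℤˣ) : ℤ) * ((s j).toNat : ℤ) := by
    rw [finsum_neg_distrib]
    congr 1
    exact finsum_comp_equiv (Equiv.addRight (1 : ℤ))
      (f := fun j : ℤ => ((j.negOnePow : ℤˣ) : ℤ) * ((s j).toNat : ℤ))
  have ssh : (Function.support fun q : ℤ => ((q.negOnePow : ℤˣ) : ℤ) * ((s q).toNat : ℤ) +
      ((q.negOnePow : ℤˣ) : ℤ) * ((h q).toNat : ℤ)).Finite :=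
    (ss.union sh).subset (Function.support_add _ _)
  rw [finsum_congr e1, finsum_add_distrib ssh ss', finsum_add_distrib ss sh, h2]
  ring

section main

variable {A : Type u} [CommRing A]

theorem range_dC_congr (K : CochainComplex (ModuleCat.{u} A) ℤ) (F : ∀ q : ℤ, Submodule A (K.X q))
    (hF : ∀ (i j : ℤ) (k : K.X i), k ∈ F i → (K.d i j).hom k ∈ F j) (a a' b : ℤ) (h : a = a') :
    Module.length A (LinearMap.range (dC K F hF a b)) =
      Module.length A (LinearMap.range (dC K F hF a' b)) := by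
  subst h
  rfl

variable [IsNoetherianRing A] (M : Type u) [AddCommGroup M] [Module A M] [Module.Finite A M]

/-- the Samuel function `n ↦ length (M / I^n M)` -/
noncomputable def Lsam (I : Ideal A) (n : ℕ) : ℕ∞ := Lq (I ^ n) M

theorem Lsam_ne_top (l : List A) (hs : SuppCond M l) (n : ℕ) :
    Lsam M (Ideal.ofList l) n ≠ ⊤ := by
  unfold Lsam Lq
  rw [Module.length_ne_top_iff]
  apply Groth.Agent.H64.isFiniteLength_of_support_subset_maximal
  intro p hp
  rw [Module.support_quotient] at hp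
  apply hs p hp.1
  have h2 : Ideal.ofList l ^ n ≤ p.asIdeal := hp.2
  by_cases hn : n = 0
  · subst hn
    rw [pow_zero, Ideal.one_eq_top] at h2
    exact absurd (top_le_iff.mp h2) p.2.ne_top
  · exact p.2.le_of_pow_le h2

omit [IsNoetherianRing A] [Module.Finite A M] in
theorem d_mem_pow_succ (l : List A) (a b : ℤ) (m : ℕ)
    (k : (CohIII.koszulCx (ModuleCat.of A M) l).X a)
    (hk : k ∈ (Ideal.ofList l ^ m • ⊤ : Submodule A ((CohIII.koszulCx (ModuleCat.of A M) l).X a))) :
    ((CohIII.koszulCx (ModuleCat.of A M) l).d a b).hom k ∈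
      (Ideal.ofList l ^ (m + 1) • ⊤ :
        Submodule A ((CohIII.koszulCx (ModuleCat.of A M) l).X b)) := by
  have h1 : ((CohIII.koszulCx (ModuleCat.of A M) l).d a b).hom k ∈
      (Ideal.ofList l ^ m • ⊤ : Submodule A _).map
        ((CohIII.koszulCx (ModuleCat.of A M) l).d a b).hom := Submodule.mem_map_of_mem hk
  rw [Submodule.map_smul''] at h1
  have h2 : Submodule.map ((CohIII.koszulCx (ModuleCat.of A M) l).d a b).hom ⊤ ≤
      (Ideal.ofList l • ⊤ : Submodule A ((CohIII.koszulCx (ModuleCat.of A M) l).X b)) := by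
    rintro _ ⟨x, -, rfl⟩
    exact d_mem_smul' (ModuleCat.of A M) l a b x
  have h3 := Submodule.smul_mono (le_refl (Ideal.ofList l ^ m)) h2 h1
  rw [← mul_smul, ← pow_succ] at h3
  exact h3

theorem cb_eq_zero (d : ℕ) (q : ℤ) (hq : 0 < q ∨ q + d < 0) : cb d q = 0 := by
  unfold cb
  rcases hq with hq | hq
  · rw [if_neg (by omega)]
  · rw [if_pos (by omega)]
    apply Nat.choose_eq_zero_of_lt
    omega

/-- Serre's identity: the alternating sum of the Samuel function is eventually the Koszul Euler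
characteristic. -/
theorem serre_identity (l : List A) (hs : SuppCond M l) :
    ∃ i₀ : ℕ, ∀ i : ℕ, i₀ ≤ i →
      (∑ᶠ q : ℤ, ((q.negOnePow : ℤˣ) : ℤ) *
        ((((cb l.length q : ℕ) : ℕ∞) * Lsam M (Ideal.ofList l) ((i : ℤ) + q).toNat).toNat : ℤ)) =
          chi M l := by
  set K := CohIII.koszulCx (ModuleCat.of A M) l with hK
  set I := Ideal.ofList l with hI
  have hfinX : ∀ q, Module.Finite A (K.X q) := fun q => Groth.Agent.H79.KoszulFinLen.finite_X M l q
  have hhom : ∀ a ∈ I, Nonempty (Homotopy (a • 𝟙 K) 0) := fun a ha =>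
    Groth.Agent.H72.KoszulHomotopy.nonempty_homotopy (ModuleCat.of A M) l a ha
  choose c hc using fun q => exists_acyclic_bound K I hfinX hhom q
  refine ⟨l.length + 1 + ∑ p ∈ Finset.range (l.length + 1), c (-(p : ℤ)), fun i hi => ?_⟩
  let F : ∀ q : ℤ, Submodule A (K.X q) := fun q => I ^ ((i : ℤ) + q).toNat • ⊤
  have hF : ∀ (a b : ℤ) (k : K.X a), k ∈ F a → (K.d a b).hom k ∈ F b := by
    intro a b k hk
    by_cases hab : a + 1 = b
    · subst hab
      by_cases hneg : (i : ℤ) + a < 0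
      · have h0 : ((i : ℤ) + (a + 1)).toNat = 0 := by omega
        change _ ∈ (I ^ ((i : ℤ) + (a + 1)).toNat • ⊤ : Submodule A (K.X (a + 1)))
        rw [h0, pow_zero, Ideal.one_eq_top, Submodule.top_smul]
        exact Submodule.mem_top
      · have h1 : ((i : ℤ) + (a + 1)).toNat = ((i : ℤ) + a).toNat + 1 := by omega
        change _ ∈ (I ^ ((i : ℤ) + (a + 1)).toNat • ⊤ : Submodule A (K.X (a + 1)))
        rw [h1]
        exact d_mem_pow_succ M l a (a + 1) _ k hk
    · have hd : K.d a b = 0 := HomologicalComplex.shape _ _ _ hab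
      rw [hd]
      exact Submodule.zero_mem _
  have hacyc : ∀ (a b c' : ℤ), a + 1 = b → b + 1 = c' → ∀ z : K.X b, z ∈ F b →
      (K.d b c').hom z = 0 → ∃ w ∈ F a, (K.d a b).hom w = z := by
    intro a b c' hab hbc z hz hdz
    obtain rfl : a = b - 1 := by omega
    subst hbc
    by_cases hb : -(l.length : ℤ) ≤ b ∧ b ≤ 0
    · obtain ⟨p, hp⟩ : ∃ p : ℕ, b = -(p : ℤ) := ⟨(-b).toNat, by omega⟩
      have hpl : p ∈ Finset.range (l.length + 1) := by
        rw [Finset.mem_range]; omega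
      have hcb : c b ≤ ∑ p ∈ Finset.range (l.length + 1), c (-(p : ℤ)) := by
        rw [hp]
        exact Finset.single_le_sum (f := fun p : ℕ => c (-(p : ℤ))) (fun _ _ => Nat.zero_le _) hpl
      have hn1 : ((i : ℤ) + b).toNat = ((i : ℤ) + (b - 1)).toNat + 1 := by omega
      have hn2 : c b ≤ ((i : ℤ) + (b - 1)).toNat := by omega
      have hz' : z ∈ (I ^ (((i : ℤ) + (b - 1)).toNat + 1) • ⊤ : Submodule A (K.X b)) := by
        rw [← hn1]
        exact hz
      exact hc b _ hn2 z hz' hdz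
    · have hzero : IsZero (K.X b) := by
        by_cases hpos : 0 < b
        · exact Groth.Agent.H79.KoszulTop.isZero_X_of_pos _ l b hpos
        · exact isZero_X_of_lt _ l b (by omega)
      have := ModuleCat.subsingleton_of_isZero hzero
      refine ⟨0, Submodule.zero_mem _, ?_⟩
      rw [map_zero]
      exact Subsingleton.elim _ _
  have key : ∀ q : ℤ, Module.length A (Cq K F q) =
      Module.length A (LinearMap.range (dC K F hF (q - 1) q)) + hlen M l q +
        Module.length A (LinearMap.range (dC K F hF (q + 1 - 1) (q + 1))) := by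
    intro q
    rw [length_Cq K F hF hacyc (q - 1) q (q + 1) (by omega) rfl, hlen_eq,
      range_dC_congr K F hF q (q + 1 - 1) (q + 1) (by omega)]
  have hterm : ∀ q : ℤ, Module.length A (Cq K F q) =
      ((cb l.length q : ℕ) : ℕ∞) * Lsam M I ((i : ℤ) + q).toNat := by
    intro q
    exact Lq_koszul_X (I ^ ((i : ℤ) + q).toNat) M l q
  have htel := alt_sum_telescope l.length (fun q => Module.length A (Cq K F q))
    (fun q => hlen M l q) (fun q => Module.length A (LinearMap.range (dC K F hF (q - 1) q)))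
    key (fun q => by
      rw [hterm]
      exact WithTop.mul_ne_top (ENat.natCast_ne_top _) (Lsam_ne_top M l hs _))
    (fun q hq => by
      rw [hterm, cb_eq_zero l.length q hq]
      simp)
  unfold chi
  rw [← htel]
  apply finsum_congr
  intro q
  rw [hterm]

end main

end Groth.Agent.H79.SerreMain
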