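import Groth.Agent.H79.SerreFilt
import Groth.Agent.H79.SerreEP

set_option autoImplicit false
universe u
open CategoryTheory CochainComplex HomComplex Limits
open Groth.Agent.H79.ConeLength Groth.Agent.H79.KoszulCone Groth.Agent.H79.KoszulRel
open Groth.Agent.H79.KoszulEuler Groth.Agent.H79.KoszulEulerAdd
open scoped Pointwise

namespace Groth.Agent.H79.SerreTerms

variable {A : Type u} [CommRing A]

/-- The differentials of the Koszul complex of a module have "entries" in the ideal of the
sequence. -/
theorem d_mem_smul' (N : ModuleCat.{u} A) : ∀ (l : List A) (i j : ℤ)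
    (k : (CohIII.koszulCx N l).X i),
    ((CohIII.koszulCx N l).d i j).hom k ∈
      Ideal.ofList l • (⊤ : Submodule A ((CohIII.koszulCx N l).X j)) := by
  intro l
  induction l with
  | nil =>
    intro i j k
    have hd : (CohIII.koszulCx N []).d i j = 0 := by
      by_cases hi : i = 0
      · by_cases hj : j = 0
        · subst hi hj
          exact HomologicalComplex.shape _ _ _ (by simp)
        · apply (HomologicalComplex.isZero_single_obj_X (ComplexShape.up ℤ) 0 N
            j hj).eq_of_tgt
      · apply (HomologicalComplex.isZero_single_obj_X (ComplexShape.up ℤ) 0 N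
          i hi).eq_of_src
    rw [hd]
    exact Submodule.zero_mem _
  | cons f fs ih =>
    intro i j
    let K := CohIII.koszulCx N fs
    let φ : K ⟶ K := f • 𝟙 K
    have key : ∀ (k : (mappingCone φ).X i), ((mappingCone φ).d i j).hom k ∈
        Ideal.ofList (f :: fs) • (⊤ : Submodule A ((mappingCone φ).X j)) := by
      intro k
      by_cases hij : i + 1 = j
      · have hle : Ideal.ofList fs ≤ Ideal.ofList (f :: fs) := by
          rw [Ideal.ofList_cons]; exact le_sup_right
        have hf : f ∈ Ideal.ofList (f :: fs) := Ideal.subset_span (by simp)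
        rw [decomp φ j (j + 1) rfl (((mappingCone φ).d i j).hom k)]
        apply Submodule.add_mem
        · apply map_mem_smul_top
          rw [fstL_d φ i j (j + 1) hij rfl]
          apply Submodule.neg_mem
          exact Submodule.smul_mono_left hle (ih j (j + 1) _)
        · apply map_mem_smul_top
          rw [sndL_d φ i j hij]
          apply Submodule.add_mem
          · rw [smul_id_f_apply]
            exact Submodule.smul_mem_smul hf Submodule.mem_top
          · exact Submodule.smul_mono_left hle (ih i j _)
      · have hd : (mappingCone φ).d i j = 0 := HomologicalComplex.shape _ _ _ hij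
        rw [hd]
        exact Submodule.zero_mem _
    exact key

section Lq

variable (I : Ideal A)

/-- the length of `X / I X` -/
noncomputable def Lq (X : Type u) [AddCommGroup X] [Module A X] : ℕ∞ :=
  Module.length A (X ⧸ (I • ⊤ : Submodule A X))

variable {X Y : Type u} [AddCommGroup X] [Module A X] [AddCommGroup Y] [Module A Y]

theorem Lq_congr (e : X ≃ₗ[A] Y) : Lq I X = Lq I Y := by
  unfold Lq
  refine (Submodule.Quotient.equiv _ _ e ?_).length_eq
  rw [Submodule.map_smul'']
  congr 1
  exact Submodule.map_top e.toLinearMap |>.trans (LinearMap.range_eq_top.mpr e.surjective)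

theorem Lq_of_subsingleton [Subsingleton X] : Lq I X = 0 := by
  unfold Lq
  rw [Module.length_eq_zero_iff]
  infer_instance

theorem mem_smul_top_prod (z : X × Y) :
    z ∈ (I • ⊤ : Submodule A (X × Y)) ↔
      z.1 ∈ (I • ⊤ : Submodule A X) ∧ z.2 ∈ (I • ⊤ : Submodule A Y) := by
  constructor
  · intro hz
    exact ⟨map_mem_smul_top I (LinearMap.fst A X Y) z hz,
      map_mem_smul_top I (LinearMap.snd A X Y) z hz⟩
  · rintro ⟨h1, h2⟩
    have : z = LinearMap.inl A X Y z.1 + LinearMap.inr A X Y z.2 := by
      ext <;> simp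
    rw [this]
    exact Submodule.add_mem _ (map_mem_smul_top I (LinearMap.inl A X Y) _ h1)
      (map_mem_smul_top I (LinearMap.inr A X Y) _ h2)

theorem Lq_prod : Lq I (X × Y) = Lq I X + Lq I Y := by
  unfold Lq
  let f : (X ⧸ (I • ⊤ : Submodule A X)) →ₗ[A] ((X × Y) ⧸ (I • ⊤ : Submodule A (X × Y))) :=
    Submodule.mapQ _ _ (LinearMap.inl A X Y) (fun x hx => by
      rw [Submodule.mem_comap]
      exact map_mem_smul_top I _ _ hx)
  let g : ((X × Y) ⧸ (I • ⊤ : Submodule A (X × Y))) →ₗ[A] (Y ⧸ (I • ⊤ : Submodule A Y)) :=
    Submodule.mapQ _ _ (LinearMap.snd A X Y) (fun x hx => by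
      rw [Submodule.mem_comap]
      exact map_mem_smul_top I _ _ hx)
  refine Module.length_eq_add_of_exact f g ?_ ?_ ?_
  · rw [← LinearMap.ker_eq_bot, eq_bot_iff]
    intro z hz
    obtain ⟨x, rfl⟩ := Submodule.Quotient.mk_surjective _ z
    rw [LinearMap.mem_ker] at hz
    change Submodule.Quotient.mk (LinearMap.inl A X Y x) = 0 at hz
    rw [Submodule.Quotient.mk_eq_zero, mem_smul_top_prod] at hz
    rw [Submodule.mem_bot, Submodule.Quotient.mk_eq_zero]
    exact hz.1
  · intro z
    obtain ⟨y, rfl⟩ := Submodule.Quotient.mk_surjective _ z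
    exact ⟨Submodule.Quotient.mk (0, y), rfl⟩
  · intro z
    obtain ⟨⟨x, y⟩, rfl⟩ := Submodule.Quotient.mk_surjective _ z
    constructor
    · intro hz
      change Submodule.Quotient.mk y = 0 at hz
      rw [Submodule.Quotient.mk_eq_zero] at hz
      refine ⟨Submodule.Quotient.mk x, ?_⟩
      change Submodule.Quotient.mk (LinearMap.inl A X Y x) = Submodule.Quotient.mk (x, y)
      rw [Submodule.Quotient.eq, mem_smul_top_prod]
      constructor
      · simp
      · simpa using (Submodule.neg_mem _ hz)
    · rintro ⟨w, hw⟩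
      obtain ⟨x', rfl⟩ := Submodule.Quotient.mk_surjective _ w
      rw [← hw]
      change Submodule.Quotient.mk (0 : Y) = 0
      simp

end Lq

/-- binomial coefficients in cohomological indexing -/
def cb (d : ℕ) (q : ℤ) : ℕ := if q ≤ 0 then d.choose (-q).toNat else 0

theorem cb_succ (d : ℕ) (q : ℤ) : cb (d + 1) q = cb d (q + 1) + cb d q := by
  unfold cb
  by_cases h1 : q ≤ -1
  · have h2 : q ≤ 0 := by omega
    have h3 : q + 1 ≤ 0 := by omega
    simp only [if_pos h2, if_pos h3]
    obtain ⟨p, hp⟩ : ∃ p : ℕ, -q = (p : ℤ) + 1 := ⟨(-q - 1).toNat, by omega⟩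
    have e1 : (-q).toNat = p + 1 := by omega
    have e2 : (-(q + 1)).toNat = p := by omega
    rw [e1, e2, Nat.choose_succ_succ]
  · by_cases h2 : q = 0
    · subst h2
      simp
    · have h3 : ¬ q ≤ 0 := by omega
      have h4 : ¬ q + 1 ≤ 0 := by omega
      simp only [if_neg h3, if_neg h4]

/-- (I.c) the terms of the Koszul complex modulo `I` -/
theorem Lq_koszul_X (I : Ideal A) (M : Type u) [AddCommGroup M] [Module A M] : ∀ (l : List A)
    (q : ℤ), Lq I ((CohIII.koszulCx (ModuleCat.of A M) l).X q) = (cb l.length q : ℕ∞) * Lq I M := by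
  intro l
  induction l with
  | nil =>
    intro q
    by_cases hq : q = 0
    · subst hq
      have e : (CohIII.koszulCx (ModuleCat.of A M) []).X 0 ≅ ModuleCat.of A M :=
        HomologicalComplex.singleObjXSelf (ComplexShape.up ℤ) 0 (ModuleCat.of A M)
      rw [Lq_congr I e.toLinearEquiv]
      simp [cb]
    · have hz : IsZero ((CohIII.koszulCx (ModuleCat.of A M) []).X q) :=
        HomologicalComplex.isZero_single_obj_X (ComplexShape.up ℤ) 0 _ q hq
      have := ModuleCat.subsingleton_of_isZero hz
      rw [Lq_of_subsingleton]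
      have : cb ([] : List A).length q = 0 := by
        unfold cb
        split_ifs with h
        · have : (-q).toNat ≠ 0 := by omega
          simp [Nat.choose_eq_zero_iff, Nat.pos_of_ne_zero this]
        · rfl
      rw [this]
      simp
  | cons f fs ih =>
    intro q
    let K := CohIII.koszulCx (ModuleCat.of A M) fs
    have e := coneEquiv (f • 𝟙 K) q (q + 1) rfl
    change Lq I ((mappingCone (f • 𝟙 K)).X q) = _
    rw [Lq_congr I e, Lq_prod, ih (q + 1), ih q, List.length_cons, cb_succ]
    push_cast
    rw [add_mul]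

end Groth.Agent.H79.SerreTerms
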