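import Mathlib
import Groth.Prelude.Def_CAlg
import Groth.Agent.H79.SuppGenericAss
import Groth.Agent.H34.Sk
import Groth.Agent.H9.Depth
import Groth.Agent.H17.DimParam

/-!
# No embedded points iff (S₁) (helper79)
-/

set_option autoImplicit false
universe u
open CategoryTheory AlgebraicGeometry TopologicalSpace Opposite

namespace Groth.Agent.H79.SuppGeneric

open Groth.Agent.H8

variable {X : Scheme.{u}}

/-- If `x` is an associated point of the coherent module `F` (locally Noetherian scheme), the
stalk has depth zero. -/
theorem not_one_le_depth_of_isAssPoint [IsLocallyNoetherian X] (F : X.Modules) (hF : Coh.IsCoh F)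
    (x : X) (hx : Curv2.IsAssPoint F x) :
    ¬ 1 ≤ LocCoh.depth (X.presheaf.stalk x) (F.presheaf.stalk x) := by
  have : Module.Finite (X.presheaf.stalk x) (F.presheaf.stalk x) :=
    Groth.Agent.H13.finite_stalk_of_isCoh F hF x
  have hx' : IsAssociatedPrime (IsLocalRing.maximalIdeal (X.presheaf.stalk x))
      (F.presheaf.stalk x) := hx
  rw [isAssociatedPrime_iff] at hx'
  obtain ⟨-, z, hz⟩ := hx'
  refine Groth.Agent.H34.not_one_le_depth_of_killed z ?_ ?_
  · rintro rfl
    have : (1 : X.presheaf.stalk x) ∈ IsLocalRing.maximalIdeal (X.presheaf.stalk x) := by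
      rw [hz]
      simp [Submodule.mem_colon_singleton]
    exact (Ideal.ne_top_iff_one _).mp (IsLocalRing.maximalIdeal.isMaximal _).ne_top this
  · intro a ha
    rw [hz] at ha
    simpa [Submodule.mem_colon_singleton] using ha

/-- **No embedded associated points iff (S₁)** for coherent modules on locally Noetherian
schemes. -/
theorem noEmbedded_iff_S1 [IsLocallyNoetherian X] (F : X.Modules) (hF : Coh.IsCoh F) :
    (∀ x : X, Curv2.IsAssPoint F x → ∀ y : X, Curv2.IsAssPoint F y → y ⤳ x → y = x) ↔
      ∀ x : X, min (1 : WithBot ℕ∞)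
          (Module.supportDim (X.presheaf.stalk x) (F.presheaf.stalk x)) ≤
        ((LocCoh.depth (X.presheaf.stalk x) (F.presheaf.stalk x) : ℕ∞) : WithBot ℕ∞) := by
  have hqc : F.IsQuasicoherent := hF.1
  constructor
  · intro hne x
    have hfin : Module.Finite (X.presheaf.stalk x) (F.presheaf.stalk x) :=
      Groth.Agent.H13.finite_stalk_of_isCoh F hF x
    by_cases hmem : IsLocalRing.maximalIdeal (X.presheaf.stalk x) ∈
        associatedPrimes (X.presheaf.stalk x) (F.presheaf.stalk x)
    · -- `x` is associated, hence generic in the support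
      have hx : Curv2.IsAssPoint F x := hmem
      have hgen : ∀ y : X, Nontrivial (F.presheaf.stalk y) → y ⤳ x → y = x := by
        intro y hy hyx
        obtain ⟨y', hy'1, hy'2, hy'3⟩ := exists_generic_specializes F hF y hy
        have hass : Curv2.IsAssPoint F y' := isAssPoint_of_generic F y' hy'1 hy'3
        have h1 : y' = x := hne x hx y' hass (hy'2.trans hyx)
        rw [h1] at hy'2
        exact (hyx.antisymm hy'2).eq
      have hfl := isFiniteLength_stalk_of_generic F hF x hgen
      have hdim := (Groth.Agent.H17.isFiniteLength_iff_supportDim_le_zero _).mp hfl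
      refine (min_le_right _ _).trans (hdim.trans ?_)
      exact_mod_cast bot_le (a := (LocCoh.depth (X.presheaf.stalk x) (F.presheaf.stalk x) : ℕ∞))
    · have h1 := Groth.Agent.H9.one_le_depth_of_maximalIdeal_notMem_associatedPrimes hmem
      refine (min_le_left _ _).trans ?_
      exact_mod_cast h1
  · intro hS1 x hx y hy hyx
    have hfin : Module.Finite (X.presheaf.stalk x) (F.presheaf.stalk x) :=
      Groth.Agent.H13.finite_stalk_of_isCoh F hF x
    have hd := not_one_le_depth_of_isAssPoint F hF x hx
    have h0 : LocCoh.depth (X.presheaf.stalk x) (F.presheaf.stalk x) = 0 := by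
      rw [not_le] at hd
      exact Order.lt_one_iff.mp hd
    have hS := hS1 x
    rw [h0] at hS
    have hdim : Module.supportDim (X.presheaf.stalk x) (F.presheaf.stalk x) ≤ 0 := by
      rcases min_le_iff.mp hS with h | h
      · exfalso
        have : ((1 : ℕ∞) : WithBot ℕ∞) ≤ ((0 : ℕ∞) : WithBot ℕ∞) := h
        rw [WithBot.coe_le_coe] at this
        simp at this
      · exact h
    have hfl := (Groth.Agent.H17.isFiniteLength_iff_supportDim_le_zero _).mpr hdim
    exact eq_of_isFiniteLength_stalk F hF x hfl y (nontrivial_stalk_of_isAssPoint F y hy) hyx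

end Groth.Agent.H79.SuppGeneric
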