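import Groth.Agent.H79.KoszulPerm
import Groth.Agent.H79.KoszulKill
import Groth.Agent.H79.KoszulTor
import Groth.Agent.H39.KoszulQuot

set_option autoImplicit false
universe u
open CategoryTheory CochainComplex HomComplex Limits Groth.Agent.H12.KoszulReg
open Groth.Agent.H79.KoszulCone Groth.Agent.H79.KoszulTor Groth.Agent.H79.KoszulNat
open Groth.Agent.H39.KoszulAppend

attribute [local instance] HasDerivedCategory.standard

namespace Groth.Agent.H79.TorKoszulExt

variable (A : Type u) [CommRing A]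

/-- if `xs` and `ys ++ xs` are Koszul-regular, then the Koszul complex of `ys` on `A/(xs)` is
acyclic off degree zero -/
theorem isZero_homology_quot (xs ys : List A) (hxs : LCI.IsKoszulRegularSeq A xs)
    (hys : LCI.IsKoszulRegularSeq A (ys ++ xs)) (i : ℤ) (hi : i ≠ 0) :
    IsZero ((CohIII.koszulCx (ModuleCat.of A (A ⧸ Ideal.ofList xs)) ys).homology i) := by
  have h0 : IsZero ((Koszul.koszul A (ys ++ xs)).homology i) := hys i hi
  rw [koszul_eq] at h0
  have hreg : ∀ j : ℤ, j ≠ 0 →
      IsZero ((CohIII.koszulCx (ModuleCat.of A A) xs).homology j) := by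
    intro j hj
    have h1 : IsZero ((Koszul.koszul A xs).homology j) := hxs j hj
    rwa [koszul_eq] at h1
  have := quasiIso_aug xs (Ideal.ofList xs) rfl hreg
  have := quasiIso_appendMap xs (ModuleCat.of A (A ⧸ Ideal.ofList xs))
    (aug xs (Ideal.ofList xs) rfl) ys
  have e := isoOfQuasiIsoAt (appendMap xs _ (aug xs (Ideal.ofList xs) rfl) ys) i
  rwa [e.isZero_iff] at h0

/-- `Tor_i(A/(f,g), A/(f,h))` is a sum of `C(|f|, i)` copies of a fixed cyclic module -/
theorem exists_tor_equiv (f g h : List A)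
    (hfg : LCI.IsKoszulRegularSeq A (f ++ g)) (hfh : LCI.IsKoszulRegularSeq A (f ++ h))
    (hfgh : LCI.IsKoszulRegularSeq A (f ++ g ++ h)) :
    ∃ (Q : Type u) (_ : AddCommGroup Q) (_ : Module A Q), (∃ q : Q, Submodule.span A {q} = ⊤) ∧
      ∀ i : ℕ, Nonempty (↑(((Tor (ModuleCat.{u} A) i).obj
        (ModuleCat.of A (A ⧸ Ideal.span {x | x ∈ f ++ g}))).obj
          (ModuleCat.of A (A ⧸ Ideal.span {x | x ∈ f ++ h}))) ≃ₗ[A]
        (Fin (f.length.choose i) → Q)) := by
  set J : Ideal A := Ideal.ofList (f ++ h) with hJ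
  set N : ModuleCat.{u} A := ModuleCat.of A (A ⧸ J) with hN
  have hperm : (f ++ g ++ h).Perm (g ++ (f ++ h)) := by
    rw [← List.append_assoc]
    exact List.Perm.append_right h List.perm_append_comm
  have hgfh := Groth.Agent.H79.KoszulPerm.isKoszulRegularSeq_of_perm hperm hfgh
  have hacyc : ∀ n : ℤ, n ≠ 0 → IsZero ((CohIII.koszulCx N g).homology n) :=
    fun n hn => isZero_homology_quot A (f ++ h) g hfh hgfh n hn
  have hkill : ∀ y ∈ f, ∀ m : N, y • m = 0 := by
    intro y hy m
    obtain ⟨a, rfl⟩ := Ideal.Quotient.mk_surjective (I := J) m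
    rw [← Ideal.Quotient.mk_eq_mk, ← Submodule.Quotient.mk_smul, smul_eq_mul,
      Ideal.Quotient.mk_eq_mk, Ideal.Quotient.eq_zero_iff_mem]
    exact J.mul_mem_right a (Ideal.subset_span (List.mem_append_left h hy))
  refine ⟨↑((CohIII.koszulCx N g).homology 0), inferInstance, inferInstance, ?_, ?_⟩
  · obtain ⟨ε⟩ := Groth.Agent.H79.KoszulTop.homology_zero_equiv N g
    refine ⟨ε.symm (Submodule.Quotient.mk (Ideal.Quotient.mk J 1)), ?_⟩
    rw [eq_top_iff]
    rintro x -
    obtain ⟨n, hn⟩ := Submodule.Quotient.mk_surjective _ (ε x)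
    obtain ⟨a, rfl⟩ := Ideal.Quotient.mk_surjective (I := J) n
    have hx : x = a • ε.symm (Submodule.Quotient.mk (Ideal.Quotient.mk J 1)) := by
      apply ε.injective
      rw [map_smul, LinearEquiv.apply_symm_apply, ← hn, ← Submodule.Quotient.mk_smul]
      congr 1
      change Ideal.Quotient.mk J a = a • Ideal.Quotient.mk J 1
      rw [Algebra.smul_def, map_one, mul_one]
      rfl
    rw [hx]
    exact Submodule.smul_mem _ _ (Submodule.subset_span rfl)
  · intro i
    have hreg : ∀ j : ℤ, j ≠ 0 →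
        IsZero ((CohIII.koszulCx (ModuleCat.of A A) (f ++ g)).homology j) := by
      intro j hj
      have h1 : IsZero ((Koszul.koszul A (f ++ g)).homology j) := hfg j hj
      rwa [koszul_eq] at h1
    obtain ⟨e1⟩ := nonempty_tor_equiv (f ++ g) (Ideal.ofList (f ++ g)) rfl hreg N i
    obtain ⟨e2⟩ := Groth.Agent.H79.KoszulEuler.nonempty_tensorCx_iso N (f ++ g)
    rw [koszul_eq] at e2
    obtain ⟨e3⟩ := Groth.Agent.H79.KoszulPerm.nonempty_iso_of_perm N
      (List.perm_append_comm (l₁ := f) (l₂ := g))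
    obtain ⟨e4⟩ := Groth.Agent.H79.KoszulKill.nonempty_equiv_of_acyclic N g f hkill hacyc i
    have e23 := ((HomologicalComplex.homologyFunctor (ModuleCat.{u} A) (ComplexShape.up ℤ)
      (-(i : ℤ))).mapIso (e2 ≪≫ e3)).toLinearEquiv
    exact ⟨e1.trans (e23.trans e4)⟩

end Groth.Agent.H79.TorKoszulExt
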