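import Mathlib
import Groth.Agent.H9.TorNat.Main
import Groth.Agent.H77.TorAR

/-!
# Vanishing of transition maps on `Tor` for `I^m`-torsion modules

* `tor_map_comp_eq_zero` : a two-step vanishing principle along a short exact sequence in the
  first variable of `Tor`.
* `exists_tor_map_eq_zero_of_torsion` : for `R` Noetherian, `I` an ideal, `m`, `i > 0` there is `c`
  with `Tor_i(M, R/I^a) ⟶ Tor_i(M, R/I^b)` zero for every `M` killed by `I^m` and all `b + c ≤ a`.
-/

set_option autoImplicit false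
universe u

namespace Groth.Agent.H79.TorTorsion

open CategoryTheory CategoryTheory.Limits MonoidalCategory TensorProduct
open Groth.Agent.H9 Groth.Agent.H9.TorNat

variable {R : Type u} [CommRing R]

/-- exactness of `Tor_{n+1}(S.X₂, X) ⟶ Tor_{n+1}(S.X₃, X) ⟶ Tor_n(S.X₁, X)`, elementwise. -/
theorem exists_preimage_of_sB_eq_zero {S : ShortComplex (ModuleCat.{u} R)} (hS : S.ShortExact)
    {X : ModuleCat.{u} R} (Q : ProjectiveResolution X) (n : ℕ)
    (t : ((Tor (ModuleCat.{u} R) (n + 1)).obj S.X₃).obj X) (ht : (sB hS Q n) t = 0) :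
    ∃ u : ((Tor (ModuleCat.{u} R) (n + 1)).obj S.X₂).obj X,
      (((Tor (ModuleCat.{u} R) (n + 1)).map S.g).app X) u = t := by
  have hK := tKsc_shortExact Q.complex (flat_of_projectiveResolution Q) hS
  have hex := hK.homology_exact₃ (n + 1) n (by simp)
  rw [ShortComplex.moduleCat_exact_iff] at hex
  have h1 : (dB hS Q n) ((torIsoHomology S.X₃ Q (n + 1)).hom t) = 0 := by
    have h2 : (torIsoHomology S.X₁ Q n).inv ((dB hS Q n) ((torIsoHomology S.X₃ Q (n + 1)).hom t))
        = 0 := ht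
    have h3 := congrArg (fun y => (torIsoHomology S.X₁ Q n).hom y) h2
    simpa using h3
  obtain ⟨v, hv⟩ := hex ((torIsoHomology S.X₃ Q (n + 1)).hom t) h1
  refine ⟨(torIsoHomology S.X₂ Q (n + 1)).inv v, ?_⟩
  have hn := torIsoHomology_naturality₁ S.g Q (n + 1)
  have h4 : (torIsoHomology S.X₃ Q (n + 1)).hom
      ((((Tor (ModuleCat.{u} R) (n + 1)).map S.g).app X)
        ((torIsoHomology S.X₂ Q (n + 1)).inv v)) = (torIsoHomology S.X₃ Q (n + 1)).hom t := by
    rw [← hv]
    have h5 := congrArg (fun φ => (ModuleCat.Hom.hom φ) ((torIsoHomology S.X₂ Q (n + 1)).inv v)) hn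
    simp only [ModuleCat.hom_comp, LinearMap.comp_apply] at h5
    rw [h5]
    congr 1
    exact congrArg (fun φ => (ModuleCat.Hom.hom φ) v) (torIsoHomology S.X₂ Q (n + 1)).inv_hom_id
  have h6 := congrArg (fun y => (torIsoHomology S.X₃ Q (n + 1)).inv y) h4
  simpa using h6

/-- a two-step vanishing principle along a short exact sequence in the first variable. -/
theorem tor_map_comp_eq_zero {S : ShortComplex (ModuleCat.{u} R)} (hS : S.ShortExact)
    {X X' X'' : ModuleCat.{u} R} (q1 : X ⟶ X') (q2 : X' ⟶ X'') (i : ℕ)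
    (h1 : ((Tor (ModuleCat.{u} R) i).obj S.X₁).map q1 = 0)
    (h2 : ((Tor (ModuleCat.{u} R) (i + 1)).obj S.X₂).map q2 = 0) :
    ((Tor (ModuleCat.{u} R) (i + 1)).obj S.X₃).map (q1 ≫ q2) = 0 := by
  let Q := ProjectiveResolution.of X
  let Q' := ProjectiveResolution.of X'
  let ψ : Q.complex ⟶ Q'.complex := ProjectiveResolution.lift q1 Q Q'
  have comm : ψ.f 0 ≫ Q'.π.f 0 = Q.π.f 0 ≫ q1 := by
    have h := ProjectiveResolution.lift_commutes q1 Q Q'
    have h0 := congrArg (fun φ => HomologicalComplex.Hom.f φ 0) h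
    simp only [HomologicalComplex.comp_f, ChainComplex.single₀_map_f_zero] at h0
    exact h0
  have hnat := sB_naturality_X hS q1 Q Q' ψ comm i
  rw [h1, comp_zero] at hnat
  rw [Functor.map_comp]
  apply ModuleCat.hom_ext
  apply LinearMap.ext
  intro t
  have ht : (sB hS Q' i) ((((Tor (ModuleCat.{u} R) (i + 1)).obj S.X₃).map q1) t) = 0 := by
    have h := congrArg (fun φ => (ModuleCat.Hom.hom φ) t) hnat
    simpa using h
  obtain ⟨u, hu⟩ := exists_preimage_of_sB_eq_zero hS Q' i _ ht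
  have hnat2 := ((Tor (ModuleCat.{u} R) (i + 1)).map S.g).naturality q2
  have h3 := congrArg (fun φ => (ModuleCat.Hom.hom φ) u) hnat2
  simp only [ModuleCat.hom_comp, LinearMap.comp_apply] at h3
  simp only [ModuleCat.hom_comp, LinearMap.comp_apply, ModuleCat.hom_zero, LinearMap.zero_apply]
  rw [← hu, ← h3, h2]
  simp

section Quot

variable (I : Ideal R)

/-- the transition map `R/I^a ⟶ R/I^b` for `b ≤ a`. -/
noncomputable def qmap (a b : ℕ) (h : b ≤ a) :
    ModuleCat.of R (R ⧸ I ^ a) ⟶ ModuleCat.of R (R ⧸ I ^ b) :=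
  ModuleCat.ofHom (Submodule.factor (Ideal.pow_le_pow_right h))

lemma qmap_comp (a b d : ℕ) (h : b ≤ a) (h' : d ≤ b) :
    qmap I a b h ≫ qmap I b d h' = qmap I a d (h'.trans h) := by
  unfold qmap
  rw [← ModuleCat.ofHom_comp, Submodule.factor_comp]

open Groth.Agent.H77.TorAR in
/-- the `Tor₁` base case: if `I^m` kills `M` then `Tor₁(M, R/I^a) ⟶ Tor₁(M, R/I^b)` is zero as soon
as `b + m ≤ a`. -/
theorem tor_one_map_eq_zero_of_torsion (m : ℕ) (M : Type u) [AddCommGroup M] [Module R M]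
    (hM : ∀ a ∈ I ^ m, ∀ x : M, a • x = 0) (a b : ℕ) (h : b + m ≤ a) :
    ((Tor (ModuleCat.{u} R) 1).obj (ModuleCat.of R M)).map
      (qmap I a b (le_trans (Nat.le_add_right b m) h)) = 0 := by
  have hle : I ^ a ≤ I ^ b := Ideal.pow_le_pow_right (le_trans (Nat.le_add_right b m) h)
  have hle' : I ^ a ≤ I ^ m * I ^ b := by
    rw [← pow_add, add_comm]
    exact Ideal.pow_le_pow_right h
  have key : ∀ x : M ⊗[R] ↥(I ^ a), LinearMap.lTensor M (Submodule.inclusion hle) x = 0 := by
    intro x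
    induction x using TensorProduct.induction_on with
    | zero => simp
    | add x y hx hy => rw [map_add, hx, hy, add_zero]
    | tmul y z =>
      obtain ⟨z, hz⟩ := z
      rw [LinearMap.lTensor_tmul]
      have hz' : z ∈ I ^ m * I ^ b := hle' hz
      have : ∃ hzb : z ∈ I ^ b, ∀ y : M, y ⊗ₜ[R] (⟨z, hzb⟩ : ↥(I ^ b)) = 0 := by
        refine Submodule.mul_induction_on hz' ?_ ?_
        · intro u hu v hv
          refine ⟨Ideal.mul_mem_left _ _ hv, fun y => ?_⟩
          have e : (⟨u * v, Ideal.mul_mem_left _ _ hv⟩ : ↥(I ^ b)) = u • (⟨v, hv⟩ : ↥(I ^ b)) :=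
            Subtype.ext (by simp)
          rw [e, TensorProduct.tmul_smul, TensorProduct.smul_tmul', hM u hu y,
            TensorProduct.zero_tmul]
        · intro z1 z2 ⟨h1, h1'⟩ ⟨h2, h2'⟩
          refine ⟨add_mem h1 h2, fun y => ?_⟩
          have e : (⟨z1 + z2, add_mem h1 h2⟩ : ↥(I ^ b)) = ⟨z1, h1⟩ + ⟨z2, h2⟩ := rfl
          rw [e, TensorProduct.tmul_add, h1' y, h2' y, add_zero]
      obtain ⟨hzb, hz0⟩ := this
      exact hz0 y
  let F : ModuleCat.{u} R ⥤ ModuleCat.{u} R :=
    (MonoidalCategory.tensoringLeft (ModuleCat.{u} R)).obj (ModuleCat.of R M)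
  have hF : PreservesFiniteColimits F :=
    inferInstanceAs (PreservesFiniteColimits (MonoidalCategory.tensorLeft (ModuleCat.of R M)))
  exact leftDerived_one_map_eq_zero F (idealSC_shortExact R (I ^ a))
    (idealSC_shortExact R (I ^ b)) (idealSCMap R hle) (fun x _ => key x)

section Finite

variable [IsNoetherianRing R]

/-- Artin–Rees in the uniform form `b + c ≤ a`. -/
theorem exists_lTensor_inclusion_eq_zero' (X : Type u) [AddCommGroup X] [Module R X]
    [Module.Finite R X] :
    ∃ c : ℕ, ∀ (a b : ℕ) (_ : b + c ≤ a) (hle : I ^ a ≤ I ^ b) (x : X ⊗[R] ↥(I ^ a)),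
      LinearMap.lTensor X (Submodule.subtype (I ^ a)) x = 0 →
      LinearMap.lTensor X (Submodule.inclusion hle) x = 0 := by
  obtain ⟨c, hc⟩ := Groth.Agent.H77.TorAR.exists_lTensor_inclusion_eq_zero R I X
  refine ⟨c, fun a b h hle x hx => ?_⟩
  have h1 : I ^ a ≤ I ^ (b + c) := Ideal.pow_le_pow_right h
  have h2 : I ^ (b + c) ≤ I ^ b := Ideal.pow_le_pow_right (Nat.le_add_right b c)
  have e1 : (Submodule.subtype (I ^ (b + c))).comp (Submodule.inclusion h1) =
      Submodule.subtype (I ^ a) := by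
    ext y
    rfl
  have e2 : (Submodule.inclusion h2).comp (Submodule.inclusion h1) = Submodule.inclusion hle := by
    ext y
    rfl
  have hx' : LinearMap.lTensor X (Submodule.subtype (I ^ (b + c)))
      (LinearMap.lTensor X (Submodule.inclusion h1) x) = 0 := by
    rw [← LinearMap.comp_apply, ← LinearMap.lTensor_comp, e1, hx]
  have := hc b h2 _ hx'
  rw [← LinearMap.comp_apply, ← LinearMap.lTensor_comp, e2] at this
  exact this

/-- the rearrangement `(X ⊗ P) ⊗ J ≃ P ⊗ (X ⊗ J)`. -/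
noncomputable def rearr (X P J : Type u) [AddCommGroup X] [Module R X] [AddCommGroup P] [Module R P]
    [AddCommGroup J] [Module R J] : (X ⊗[R] P) ⊗[R] J ≃ₗ[R] P ⊗[R] (X ⊗[R] J) :=
  (LinearEquiv.rTensor J (TensorProduct.comm R X P)) ≪≫ₗ TensorProduct.assoc R P X J

omit [IsNoetherianRing R] in
lemma rearr_naturality (X P : Type u) {J J' : Type u} [AddCommGroup X] [Module R X]
    [AddCommGroup P] [Module R P] [AddCommGroup J] [Module R J] [AddCommGroup J'] [Module R J']
    (f : J →ₗ[R] J') (x : (X ⊗[R] P) ⊗[R] J) :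
    rearr X P J' (LinearMap.lTensor (X ⊗[R] P) f x) =
      LinearMap.lTensor P (LinearMap.lTensor X f) (rearr X P J x) := by
  have : (rearr X P J').toLinearMap ∘ₗ LinearMap.lTensor (X ⊗[R] P) f =
      LinearMap.lTensor P (LinearMap.lTensor X f) ∘ₗ (rearr X P J).toLinearMap := by
    apply TensorProduct.ext_threefold
    intro y p j
    simp [rearr]
  exact congrArg (fun φ => φ x) this

/-- Artin–Rees for `X ⊗ P` with `P` flat, uniformly in `P`. -/
theorem exists_flat_lTensor_inclusion_eq_zero (X : Type u) [AddCommGroup X] [Module R X]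
    [Module.Finite R X] :
    ∃ c : ℕ, ∀ (P : Type u) [AddCommGroup P] [Module R P] [Module.Flat R P] (a b : ℕ)
      (_ : b + c ≤ a) (hle : I ^ a ≤ I ^ b) (x : (X ⊗[R] P) ⊗[R] ↥(I ^ a)),
      LinearMap.lTensor (X ⊗[R] P) (Submodule.subtype (I ^ a)) x = 0 →
      LinearMap.lTensor (X ⊗[R] P) (Submodule.inclusion hle) x = 0 := by
  obtain ⟨c, hc⟩ := exists_lTensor_inclusion_eq_zero' I X
  refine ⟨c, fun P _ _ _ a b h hle x hx => ?_⟩
  let φ : X ⊗[R] ↥(I ^ a) →ₗ[R] X ⊗[R] R := LinearMap.lTensor X (Submodule.subtype (I ^ a))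
  let γ : X ⊗[R] ↥(I ^ a) →ₗ[R] X ⊗[R] ↥(I ^ b) := LinearMap.lTensor X (Submodule.inclusion hle)
  have hγ : γ ∘ₗ (LinearMap.ker φ).subtype = 0 := by
    ext w
    exact hc a b h hle w.1 w.2
  have hex := Module.Flat.lTensor_exact P (LinearMap.exact_subtype_ker_map φ)
  have h1 : LinearMap.lTensor P φ (rearr X P _ x) = 0 := by
    rw [← rearr_naturality, hx, map_zero]
  obtain ⟨w, hw⟩ := (hex _).mp h1
  have h2 : rearr X P _ (LinearMap.lTensor (X ⊗[R] P) (Submodule.inclusion hle) x) = 0 := by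
    rw [rearr_naturality, ← hw, ← LinearMap.comp_apply, ← LinearMap.lTensor_comp, hγ,
      LinearMap.lTensor_zero, LinearMap.zero_apply]
  exact (rearr X P _).injective (by rw [h2, map_zero])

/-- vanishing of the `Tor_i` transition maps on `X ⊗ P`, uniformly in the flat module `P`. -/
def FinVanish (i : ℕ) (X : Type u) [AddCommGroup X] [Module R X] : Prop :=
  ∃ c : ℕ, ∀ (P : Type u) [AddCommGroup P] [Module R P] [Module.Flat R P] (a b : ℕ)
    (_ : b + c ≤ a) (hba : b ≤ a),
    ((Tor (ModuleCat.{u} R) i).obj (ModuleCat.of R (X ⊗[R] P))).map (qmap I a b hba) = 0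

open Groth.Agent.H77.TorAR in
theorem finVanish_one (X : Type u) [AddCommGroup X] [Module R X] [Module.Finite R X] :
    FinVanish I 1 X := by
  obtain ⟨c, hc⟩ := exists_flat_lTensor_inclusion_eq_zero I X
  refine ⟨c, fun P _ _ _ a b h hba => ?_⟩
  have hle : I ^ a ≤ I ^ b := Ideal.pow_le_pow_right hba
  let F : ModuleCat.{u} R ⥤ ModuleCat.{u} R :=
    (MonoidalCategory.tensoringLeft (ModuleCat.{u} R)).obj (ModuleCat.of R (X ⊗[R] P))
  have hF : PreservesFiniteColimits F :=
    inferInstanceAs (PreservesFiniteColimits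
      (MonoidalCategory.tensorLeft (ModuleCat.of R (X ⊗[R] P))))
  exact leftDerived_one_map_eq_zero F (idealSC_shortExact R (I ^ a))
    (idealSC_shortExact R (I ^ b)) (idealSCMap R hle) (fun x hx => hc P a b h hle x hx)

theorem finVanish_succ (i : ℕ)
    (ih : ∀ (K : Type u) [AddCommGroup K] [Module R K] [Module.Finite R K], FinVanish I i K)
    (X : Type u) [AddCommGroup X] [Module R X] [Module.Finite R X] : FinVanish I (i + 1) X := by
  obtain ⟨r, π, hπ⟩ := Module.Finite.exists_fin' R X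
  obtain ⟨c, hc⟩ := ih ↥(LinearMap.ker π)
  refine ⟨c, fun P _ _ _ a b h hba => ?_⟩
  let S : ShortComplex (ModuleCat.{u} R) :=
    ModuleCat.shortComplexOfCompEqZero (M := ↥(LinearMap.ker π) ⊗[R] P)
      (N := (Fin r → R) ⊗[R] P) (L := X ⊗[R] P)
      ((LinearMap.ker π).subtype.rTensor P) (π.rTensor P) (by
      rw [← LinearMap.rTensor_comp]
      have : π ∘ₗ (LinearMap.ker π).subtype = 0 := by
        ext w
        exact w.2
      rw [this, LinearMap.rTensor_zero])
  have hS : S.ShortExact := by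
    apply ModuleCat.shortComplex_shortExact
    · exact rTensor_exact P (LinearMap.exact_subtype_ker_map π) hπ
    · exact Module.Flat.rTensor_preserves_injective_linearMap _ (Submodule.injective_subtype _)
    · exact LinearMap.rTensor_surjective P hπ
  have hflat : Module.Flat R S.X₂ := inferInstanceAs (Module.Flat R ((Fin r → R) ⊗[R] P))
  have h1 : ((Tor (ModuleCat.{u} R) i).obj S.X₁).map (qmap I a b hba) = 0 := hc P a b h hba
  have h2 : ((Tor (ModuleCat.{u} R) (i + 1)).obj S.X₂).map (𝟙 (ModuleCat.of R (R ⧸ I ^ b))) = 0 :=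
    (isZero_tor_succ_of_flat_left S.X₂ _ i).eq_of_src _ _
  have := tor_map_comp_eq_zero hS (qmap I a b hba) (𝟙 _) i h1 h2
  rwa [Category.comp_id] at this

theorem finVanish (i : ℕ) (hi : 0 < i) :
    ∀ (X : Type u) [AddCommGroup X] [Module R X] [Module.Finite R X], FinVanish I i X := by
  induction i, hi using Nat.le_induction with
  | base => intro X _ _ _; exact finVanish_one I X
  | succ i _ ih => intro X _ _ _; exact finVanish_succ I i ih X

/-- the torsion statement for a fixed constant `c`. -/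
def TorsVanish (m i c : ℕ) : Prop :=
  ∀ (M : Type u) [AddCommGroup M] [Module R M], (∀ a ∈ I ^ m, ∀ x : M, a • x = 0) →
    ∀ (a b : ℕ) (_ : b + c ≤ a) (hba : b ≤ a),
      ((Tor (ModuleCat.{u} R) i).obj (ModuleCat.of R M)).map (qmap I a b hba) = 0

omit [IsNoetherianRing R] in
theorem torsVanish_one (m : ℕ) : TorsVanish I m 1 m := by
  intro M _ _ hM a b h hba
  exact tor_one_map_eq_zero_of_torsion I m M hM a b h

theorem torsVanish_succ (m i c₁ : ℕ) (ih : TorsVanish I m i c₁) :
    ∃ c, TorsVanish I m (i + 1) c := by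
  obtain ⟨c₂, hc₂⟩ := finVanish I (i + 1) (Nat.succ_pos i) (R ⧸ I ^ m)
  refine ⟨c₁ + c₂, ?_⟩
  intro M _ _ hM a b h hba
  -- a free cover of `M`
  let P : Type u := M →₀ R
  let π : P →ₗ[R] M := Finsupp.linearCombination R (id : M → M)
  have hπ : Function.Surjective π := Finsupp.linearCombination_id_surjective R M
  have hker : I ^ m ≤ LinearMap.ker (LinearMap.toSpanSingleton R (P →ₗ[R] M) π) := by
    intro r hr
    rw [LinearMap.mem_ker, LinearMap.toSpanSingleton_apply]
    apply LinearMap.ext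
    intro p
    rw [LinearMap.smul_apply, hM r hr, LinearMap.zero_apply]
  let ρ : (R ⧸ I ^ m) ⊗[R] P →ₗ[R] M :=
    TensorProduct.lift ((I ^ m).liftQ (LinearMap.toSpanSingleton R (P →ₗ[R] M) π) hker)
  have hρ : ∀ p : P, ρ ((1 : R ⧸ I ^ m) ⊗ₜ[R] p) = π p := by
    intro p
    change ρ ((Submodule.Quotient.mk (1 : R) : R ⧸ I ^ m) ⊗ₜ[R] p) = π p
    rw [TensorProduct.lift.tmul, Submodule.liftQ_apply, LinearMap.toSpanSingleton_apply, one_smul]
  have hρs : Function.Surjective ρ := by
    intro y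
    obtain ⟨p, rfl⟩ := hπ y
    exact ⟨_, hρ p⟩
  have hkill : ∀ r ∈ I ^ m, ∀ x : (R ⧸ I ^ m) ⊗[R] P, r • x = 0 := by
    intro r hr x
    induction x using TensorProduct.induction_on with
    | zero => simp
    | add x y hx hy => rw [smul_add, hx, hy, add_zero]
    | tmul q p =>
      obtain ⟨q, rfl⟩ := Submodule.Quotient.mk_surjective _ q
      rw [TensorProduct.smul_tmul', ← Submodule.Quotient.mk_smul,
        (Submodule.Quotient.mk_eq_zero _).mpr, TensorProduct.zero_tmul]
      rw [smul_eq_mul]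
      exact Ideal.mul_mem_right _ _ hr
  let S : ShortComplex (ModuleCat.{u} R) :=
    ModuleCat.shortComplexOfCompEqZero (M := ↥(LinearMap.ker ρ))
      (N := (R ⧸ I ^ m) ⊗[R] P) (L := M) (LinearMap.ker ρ).subtype ρ (by
        ext w
        exact w.2)
  have hS : S.ShortExact := by
    apply ModuleCat.shortComplex_shortExact
    · exact LinearMap.exact_subtype_ker_map ρ
    · exact Submodule.injective_subtype _
    · exact hρs
  have hk1 : ∀ r ∈ I ^ m, ∀ x : ↥(LinearMap.ker ρ), r • x = 0 := by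
    intro r hr x
    apply Subtype.ext
    rw [Submodule.coe_smul, hkill r hr]
    rfl
  have hb' : b ≤ b + c₂ := Nat.le_add_right b c₂
  have ha' : b + c₂ ≤ a := by omega
  have h1 : ((Tor (ModuleCat.{u} R) i).obj S.X₁).map (qmap I a (b + c₂) ha') = 0 :=
    ih ↥(LinearMap.ker ρ) hk1 a (b + c₂) (by omega) ha'
  have h2 : ((Tor (ModuleCat.{u} R) (i + 1)).obj S.X₂).map (qmap I (b + c₂) b hb') = 0 :=
    hc₂ P (b + c₂) b le_rfl hb'
  have := tor_map_comp_eq_zero hS (qmap I a (b + c₂) ha') (qmap I (b + c₂) b hb') i h1 h2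
  rwa [qmap_comp] at this

/-- **Main theorem.** For an ideal `I` of a Noetherian ring and `m`, `i > 0` there is `c` such that
for every module `M` killed by `I^m` the map `Tor_i(M, R/I^a) ⟶ Tor_i(M, R/I^b)` vanishes as soon
as `b + c ≤ a`. -/
theorem exists_torsVanish (m i : ℕ) (hi : 0 < i) : ∃ c, TorsVanish I m i c := by
  induction i, hi using Nat.le_induction with
  | base => exact ⟨m, torsVanish_one I m⟩
  | succ i _ ih =>
    obtain ⟨c₁, h₁⟩ := ih
    exact torsVanish_succ I m i c₁ h₁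

end Finite

end Quot

end Groth.Agent.H79.TorTorsion
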