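import Groth.Prelude.Def_Versch
import Groth.Agent.H79.CartBij

namespace Groth.Agent.H79
open scoped TensorProduct
universe u

section
variable (p : ℕ) [Fact p.Prime] (R : Type u) [CommRing R] [CharP R p]

theorem zmodAlg_pow_p (a : MonoidAlgebra R (Multiplicative (ZMod p))) :
    a ^ p = algebraMap R _ ((Coalgebra.counit (R := R) a) ^ p) := by
  have hinj : Function.Injective (algebraMap R (MonoidAlgebra R (Multiplicative (ZMod p)))) := by
    intro r s h
    have := congrArg (fun a : MonoidAlgebra R (Multiplicative (ZMod p)) =>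
      Coalgebra.counit (R := R) a) h
    simpa [MonoidAlgebra.coe_algebraMap] using this
  have : CharP (MonoidAlgebra R (Multiplicative (ZMod p))) p :=
    charP_of_injective_algebraMap hinj p
  let F₁ : MonoidAlgebra R (Multiplicative (ZMod p)) →+* MonoidAlgebra R (Multiplicative (ZMod p)) :=
    frobenius _ p
  let F₂ : MonoidAlgebra R (Multiplicative (ZMod p)) →+* MonoidAlgebra R (Multiplicative (ZMod p)) :=
    ((algebraMap R (MonoidAlgebra R (Multiplicative (ZMod p)))).comp (frobenius R p)).comp
      (Bialgebra.counitAlgHom R (MonoidAlgebra R (Multiplicative (ZMod p)))).toRingHom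
  have : F₁ = F₂ := by
    apply MonoidAlgebra.ringHom_ext
    · intro c
      simp [F₁, F₂, frobenius_def, MonoidAlgebra.single_pow]
    · intro g
      simp [F₁, F₂, frobenius_def, MonoidAlgebra.single_pow]
      have hg : g ^ p = 1 := by
        apply Multiplicative.toAdd.injective
        rw [toAdd_pow, toAdd_one, nsmul_eq_mul, CharP.cast_eq_zero, zero_mul]
      rw [hg]
  exact RingHom.congr_fun this a


theorem versch_dual_zmod (b : CartDual.D R (MonoidAlgebra R (Multiplicative (ZMod p))))
    (x : CartDual.D R (CartDual.D R (MonoidAlgebra R (Multiplicative (ZMod p))))) :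
    (x ^ p) b = (x 1) ^ p * b 1 := by
  obtain ⟨a, rfl⟩ := (cartEval_bijective R (MonoidAlgebra R (Multiplicative (ZMod p)))).2 x
  rw [← map_pow, CartDual.eval_apply, CartDual.eval_apply, zmodAlg_pow_p,
    Algebra.algebraMap_eq_smul_one, CartDual.coe_apply, map_smul, smul_eq_mul]
  simp [LinearMap.convOne_apply, CartDual.coe_apply]

end
end Groth.Agent.H79
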