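import Mathlib
import Groth.Prelude.Def_WeilCoh
import Groth.Agent.H96.WeilLefschetz

/-!
# Correspondence actions in a Weil cohomology theory (helper79)

For a product `(p, q) : Q → X, Y` and `φ ∈ H^D(Q)`, the action `x ↦ q_*(p^* x · φ)`.

* `corr`, `corr_spec` (characterisation by traces), `corr_pull_mul_pull`;
* `exists_right_dual_family`;
* `corr_injective`, `corr_surjective`.
-/

set_option autoImplicit false
set_option linter.style.haveILetI false
set_option linter.unusedSectionVars false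
set_option linter.unusedVariables false

universe u v w

open CategoryTheory AlgebraicGeometry WeilCoh

namespace Groth.Agent.H79.WeilCorr

open Groth.Agent.H96.WeilDim Groth.Agent.H96.WeilKunneth Groth.Agent.H96.WeilLefschetz

variable {k : Type u} [Field k] {P : ObjectProperty (Over (Spec (CommRingCat.of k)))}
variable {K : Type v} [Field K] (T : TheoryOn.{u, v, w} k P K)

section Corr

variable {X Y Q : P.FullSubcategory} (p : Q ⟶ X) (q : Q ⟶ Y)

/-- The action of a class on a product as a correspondence. -/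
noncomputable def corr (D : ℤ) (φ : T.gr Q D) (i : ℤ) :
    T.gr X i →ₗ[K] T.gr Y (i + D + 2 * (dim Y.obj.left : ℤ) - 2 * (dim Q.obj.left : ℤ)) :=
  (T.push q (i + D)) ∘ₗ
    ((LinearMap.mulRight K (φ : T.H Q)).restrict (p := T.gr Q i) (q := T.gr Q (i + D))
      (fun x hx => SetLike.mul_mem_graded hx φ.2)) ∘ₗ (T.pullDeg p i)

theorem corr_spec (D : ℤ) (φ : T.gr Q D) (i : ℤ) (x : T.gr X i) (y : T.H Y)
    (hy : y ∈ T.gr Y (2 * (dim Q.obj.left : ℤ) - (i + D))) :
    T.tr Y ((corr T p q D φ i x : T.H Y) * y) =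
      T.tr Q (T.pull p (x : T.H X) * (φ : T.H Q) * T.pull q y) := by
  unfold corr
  rw [LinearMap.comp_apply, LinearMap.comp_apply, Groth.Agent.H77.push_spec T q (i + D) _ y hy]
  rfl

/-- A Poincaré-dual family on the right. -/
theorem exists_right_dual_family (X : P.FullSubcategory) (r : ℤ) {ι : Type} [Fintype ι]
    [DecidableEq ι] (e : Module.Basis ι K ↥(T.gr X r)) :
    ∃ f : ι → ↥(T.gr X (2 * (dim X.obj.left : ℤ) - r)), ∀ (z : ↥(T.gr X r)) (l : ι),
      T.tr X ((z : T.H X) * (f l : T.H X)) = e.repr z l := by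
  haveI := T.duality X r (2 * (dim X.obj.left : ℤ) - r) (by omega)
  have hb := LinearMap.IsPerfPair.bijective_right
    (pairing K (T.gr X r) (T.gr X (2 * (dim X.obj.left : ℤ) - r)) (T.tr X))
  choose f hf using fun l => hb.2 (e.coord l)
  refine ⟨f, fun z l => ?_⟩
  have := congrArg (fun ψ => ψ z) (hf l)
  simp only [LinearMap.flip_apply, Module.Basis.coord_apply] at this
  rw [Groth.Agent.H77.pairing_apply] at this
  exact this

variable (hP : IsProd p q)

include hP in
/-- A class on a product is determined by its correspondence action. -/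
theorem corr_injective (D : ℤ) (φ φ' : T.gr Q D)
    (h : ∀ i : ℤ, corr T p q D φ i = corr T p q D φ' i) : φ = φ' := by
  apply Subtype.ext
  refine eq_of_tr_mul_pull_eq T p q hP D (2 * (dim Q.obj.left : ℤ) - D) (by omega) _ _ φ.2 φ'.2 ?_
  intro x y
  refine homog_induction T X (C := fun x => T.tr Q ((φ : T.H Q) * (T.pull p x * T.pull q y)) =
    T.tr Q ((φ' : T.H Q) * (T.pull p x * T.pull q y))) (by simp) ?_ ?_ x
  · intro a b ha hb
    rw [map_add, add_mul, mul_add, mul_add, map_add, map_add, ha, hb]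
  · intro i x hx
    refine homog_induction T Y (C := fun y => T.tr Q ((φ : T.H Q) * (T.pull p x * T.pull q y)) =
      T.tr Q ((φ' : T.H Q) * (T.pull p x * T.pull q y))) (by simp) ?_ ?_ y
    · intro a b ha hb
      rw [map_add, mul_add, mul_add, mul_add, map_add, map_add, ha, hb]
    · intro j y hy
      have hpx : T.pull p x ∈ T.gr Q i := T.pull_mem p i x hx
      have hqy : T.pull q y ∈ T.gr Q j := T.pull_mem q j y hy
      by_cases hj : j = 2 * (dim Q.obj.left : ℤ) - (i + D)
      · subst hj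
        rw [← mul_assoc, ← mul_assoc, T.gradedComm Q D i _ _ φ.2 hpx,
          T.gradedComm Q D i _ _ φ'.2 hpx, smul_mul_assoc, smul_mul_assoc, map_smul, map_smul,
          ← corr_spec T p q D φ i ⟨x, hx⟩ y hy, ← corr_spec T p q D φ' i ⟨x, hx⟩ y hy, h i]
      · have h1 : (φ : T.H Q) * (T.pull p x * T.pull q y) ∈ T.gr Q (D + (i + j)) :=
          SetLike.mul_mem_graded φ.2 (SetLike.mul_mem_graded hpx hqy)
        have h2 : (φ' : T.H Q) * (T.pull p x * T.pull q y) ∈ T.gr Q (D + (i + j)) :=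
          SetLike.mul_mem_graded φ'.2 (SetLike.mul_mem_graded hpx hqy)
        rw [T.tr_vanish Q _ _ h1 (by omega), T.tr_vanish Q _ _ h2 (by omega)]

include hP in
/-- Every family of linear maps of the right degrees is the action of a class on the product. -/
theorem corr_surjective (D : ℤ) (hdim : dim Q.obj.left = dim X.obj.left + dim Y.obj.left)
    (g : (i : ℤ) → T.gr X i →ₗ[K]
      T.gr Y (i + D + 2 * (dim Y.obj.left : ℤ) - 2 * (dim Q.obj.left : ℤ))) :
    ∃ φ : T.gr Q D, ∀ i : ℤ, corr T p q D φ i = g i := by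
  classical
  have hd : (dim Q.obj.left : ℤ) = (dim X.obj.left : ℤ) + (dim Y.obj.left : ℤ) := by
    exact_mod_cast hdim
  let ι : ℕ → Type := fun r => Fin (Module.finrank K ↥(T.gr X (r : ℤ)))
  let e : (r : ℕ) → Module.Basis (ι r) K ↥(T.gr X (r : ℤ)) := fun r =>
    Module.finBasis K ↥(T.gr X (r : ℤ))
  have hf : ∀ r : ℕ, ∃ f : ι r → ↥(T.gr X (2 * (dim X.obj.left : ℤ) - r)),
      ∀ (z : ↥(T.gr X (r : ℤ))) (l : ι r),
        T.tr X ((z : T.H X) * (f l : T.H X)) = (e r).repr z l :=
    fun r => exists_right_dual_family T X (r : ℤ) (e r)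
  choose f hef using hf
  let φ₀ : T.H Q := ∑ r ∈ Finset.range (2 * dim X.obj.left + 1), ∑ α : ι r,
    T.pull p (f r α : T.H X) * T.pull q ((g (r : ℤ) (e r α) : _) : T.H Y)
  have hφ₀ : φ₀ ∈ T.gr Q D := by
    refine Submodule.sum_mem _ fun r _ => Submodule.sum_mem _ fun α _ => ?_
    refine Groth.Agent.H77.mem_gr_of_eq T Q (SetLike.mul_mem_graded
      (T.pull_mem p _ _ (f r α).2) (T.pull_mem q _ _ (g (r : ℤ) (e r α)).2)) ?_
    omega
  refine ⟨⟨φ₀, hφ₀⟩, fun i => ?_⟩
  ext x
  by_cases hi : 0 ≤ i ∧ i ≤ 2 * (dim X.obj.left : ℤ)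
  · obtain ⟨r₀, rfl⟩ : ∃ r₀ : ℕ, i = (r₀ : ℤ) := ⟨i.toNat, by omega⟩
    have hr₀ : r₀ ∈ Finset.range (2 * dim X.obj.left + 1) := by
      rw [Finset.mem_range]; omega
    refine Groth.Agent.H77.eq_of_tr_mul_eq T Y _
      (2 * (dim Q.obj.left : ℤ) - ((r₀ : ℤ) + D)) (by omega) _ _ (Subtype.property _)
      (Subtype.property _) fun y hy => ?_
    rw [corr_spec T p q D ⟨φ₀, hφ₀⟩ (r₀ : ℤ) x y hy]
    have key : ∀ (r : ℕ) (α : ι r),
        T.tr Q (T.pull p (x : T.H X) * (T.pull p (f r α : T.H X) *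
          T.pull q ((g (r : ℤ) (e r α) : _) : T.H Y)) * T.pull q y) =
        T.tr X ((x : T.H X) * (f r α : T.H X)) *
          T.tr Y (((g (r : ℤ) (e r α) : _) : T.H Y) * y) := by
      intro r α
      rw [← mul_assoc, ← map_mul, mul_assoc, ← map_mul, tr_pull_mul_pull T p q hP]
    change T.tr Q (T.pull p (x : T.H X) * φ₀ * T.pull q y) = _
    rw [Finset.mul_sum, Finset.sum_mul, map_sum, Finset.sum_eq_single r₀]
    · rw [Finset.mul_sum, Finset.sum_mul, map_sum]
      simp only [key, hef]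
      have hx := congrArg (fun z : ↥(T.gr X (r₀ : ℤ)) => ((g (r₀ : ℤ) z : _) : T.H Y))
        ((e r₀).sum_repr x)
      simp only [map_sum, map_smul, Submodule.coe_sum, Submodule.coe_smul] at hx
      rw [← hx, Finset.sum_mul, map_sum]
      refine Finset.sum_congr rfl fun α _ => ?_
      rw [smul_mul_assoc, map_smul, smul_eq_mul]
    · intro r _ hr
      rw [Finset.mul_sum, Finset.sum_mul, map_sum]
      refine Finset.sum_eq_zero fun α _ => ?_
      rw [key]
      have hmem : (x : T.H X) * (f r α : T.H X) ∈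
          T.gr X ((r₀ : ℤ) + (2 * (dim X.obj.left : ℤ) - r)) :=
        SetLike.mul_mem_graded x.2 (f r α).2
      rw [T.tr_vanish X _ _ hmem (by omega), zero_mul]
    · intro h
      exact absurd hr₀ h
  · have hx : (x : T.H X) = 0 := eq_zero_of_mem_gr T X i (by omega) _ x.2
    have hx' : x = 0 := Subtype.ext hx
    rw [hx', map_zero, map_zero]

end Corr

end Groth.Agent.H79.WeilCorr
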