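import Mathlib
import Groth.Prelude.Def_WeilCoh
import Groth.Agent.H79.WeilCorr

/-!
# Correspondence actions, II: graded Künneth, actions of product classes (helper79)
-/

set_option autoImplicit false
set_option linter.style.haveILetI false
set_option linter.unusedSectionVars false
set_option linter.unusedVariables false

universe u v w

open CategoryTheory AlgebraicGeometry WeilCoh

namespace Groth.Agent.H79.WeilCorr

open Groth.Agent.H96.WeilDim Groth.Agent.H96.WeilKunneth Groth.Agent.H96.WeilLefschetz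

variable {k : Type u} [Field k] {P : ObjectProperty (Over (Spec (CommRingCat.of k)))}
variable {K : Type v} [Field K] (T : TheoryOn.{u, v, w} k P K)

section Graded

variable {X Y Q : P.FullSubcategory} (p : Q ⟶ X) (q : Q ⟶ Y)

/-- The span of products of pulled back homogeneous classes of total degree `D`. -/
def prodSpan (D : ℤ) : Submodule K (T.H Q) :=
  Submodule.span K {z | ∃ (s t : ℤ) (a : T.H X) (b : T.H Y), a ∈ T.gr X s ∧ b ∈ T.gr Y t ∧
    s + t = D ∧ z = T.pull p a * T.pull q b}

theorem prodSpan_le (D : ℤ) : prodSpan T p q D ≤ T.gr Q D := by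
  refine Submodule.span_le.mpr ?_
  rintro z ⟨s, t, a, b, ha, hb, hst, rfl⟩
  exact Groth.Agent.H77.mem_gr_of_eq T Q
    (SetLike.mul_mem_graded (T.pull_mem p s a ha) (T.pull_mem q t b hb)) hst

variable (hP : IsProd p q)

include hP in
theorem mem_iSup_prodSpan (z : T.H Q) : z ∈ ⨆ D : ℤ, prodSpan T p q D := by
  refine kunneth_induction T p q hP (C := fun z => z ∈ ⨆ D : ℤ, prodSpan T p q D)
    (Submodule.zero_mem _) (fun a b ha hb => Submodule.add_mem _ ha hb) ?_ z
  intro x y
  refine homog_induction T X (C := fun x => T.pull p x * T.pull q y ∈ ⨆ D : ℤ, prodSpan T p q D)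
    (by simp) ?_ ?_ x
  · intro a b ha hb
    rw [map_add, add_mul]
    exact Submodule.add_mem _ ha hb
  · intro s x hx
    refine homog_induction T Y
      (C := fun y => T.pull p x * T.pull q y ∈ ⨆ D : ℤ, prodSpan T p q D) (by simp) ?_ ?_ y
    · intro a b ha hb
      rw [map_add, mul_add]
      exact Submodule.add_mem _ ha hb
    · intro t y hy
      refine Submodule.mem_iSup_of_mem (s + t) ?_
      exact Submodule.subset_span ⟨s, t, x, y, hx, hy, rfl, rfl⟩

include hP in
/-- Graded Künneth: a class of degree `D` on a product is a combination of products of pulled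
back homogeneous classes of total degree `D`. -/
theorem gr_le_prodSpan (D : ℤ) : T.gr Q D ≤ prodSpan T p q D := by
  classical
  intro z hz
  have h1 := mem_iSup_prodSpan T p q hP z
  rw [iSup_split_single _ D, Submodule.mem_sup] at h1
  obtain ⟨z₁, hz₁, w, hw, rfl⟩ := h1
  have hw' : w ∈ ⨆ (i : ℤ) (_ : i ≠ D), T.gr Q i := by
    refine (iSup_mono fun i => iSup_mono fun _ => prodSpan_le T p q i) hw
  have hwD : w ∈ T.gr Q D := by
    have := Submodule.sub_mem _ hz (prodSpan_le T p q D hz₁)
    rwa [add_sub_cancel_left] at this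
  have hind := (T.decomp Q).submodule_iSupIndep
  have hdisj := hind D
  rw [Submodule.disjoint_def] at hdisj
  have hw0 : w = 0 := hdisj w hwD hw'
  rw [hw0, add_zero]
  exact hz₁

end Graded

section Linear

variable {X Y Q : P.FullSubcategory} (p : Q ⟶ X) (q : Q ⟶ Y)

theorem corr_apply_coe (D : ℤ) (φ : T.gr Q D) (i : ℤ) (x : T.gr X i) :
    corr T p q D φ i x = T.push q (i + D) ⟨T.pull p (x : T.H X) * (φ : T.H Q),
      SetLike.mul_mem_graded (T.pull_mem p i x x.2) φ.2⟩ := rfl

theorem corr_add (D : ℤ) (φ φ' : T.gr Q D) (i : ℤ) :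
    corr T p q D (φ + φ') i = corr T p q D φ i + corr T p q D φ' i := by
  ext x
  rw [LinearMap.add_apply, corr_apply_coe, corr_apply_coe, corr_apply_coe, ← map_add]
  congr 2
  apply Subtype.ext
  change T.pull p (x : T.H X) * ((φ : T.H Q) + (φ' : T.H Q)) = _
  rw [mul_add]
  rfl

theorem corr_smul (D : ℤ) (c : K) (φ : T.gr Q D) (i : ℤ) :
    corr T p q D (c • φ) i = c • corr T p q D φ i := by
  ext x
  rw [LinearMap.smul_apply, corr_apply_coe, corr_apply_coe, ← map_smul]
  congr 2
  apply Subtype.ext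
  change T.pull p (x : T.H X) * (c • (φ : T.H Q)) = _
  rw [mul_smul_comm]
  rfl

theorem corr_zero (D : ℤ) (i : ℤ) : corr T p q D (0 : T.gr Q D) i = 0 := by
  have := corr_smul T p q D (0 : K) (0 : T.gr Q D) i
  rwa [zero_smul, zero_smul] at this

variable (hP : IsProd p q)

include hP in
/-- The action of a product class `p^* a · q^* b`: `x ↦ tr (x a) • b`. -/
theorem corr_pull_mul_pull (D : ℤ) (a : T.H X) (b : T.H Y) (s t : ℤ) (ha : a ∈ T.gr X s)
    (hb : b ∈ T.gr Y t) (hst : s + t = D) (h : T.pull p a * T.pull q b ∈ T.gr Q D)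
    (i : ℤ) (x : T.gr X i) :
    (corr T p q D ⟨T.pull p a * T.pull q b, h⟩ i x : T.H Y) = T.tr X ((x : T.H X) * a) • b := by
  have hd : (dim Q.obj.left : ℤ) = (dim X.obj.left : ℤ) + (dim Y.obj.left : ℤ) := by
    exact_mod_cast dim_prod T p q hP
  have hmem : T.tr X ((x : T.H X) * a) • b ∈
      T.gr Y (i + D + 2 * (dim Y.obj.left : ℤ) - 2 * (dim Q.obj.left : ℤ)) := by
    by_cases his : i + s = 2 * (dim X.obj.left : ℤ)
    · exact Submodule.smul_mem _ _ (Groth.Agent.H77.mem_gr_of_eq T Y hb (by omega))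
    · rw [T.tr_vanish X _ _ (SetLike.mul_mem_graded x.2 ha) his, zero_smul]
      exact Submodule.zero_mem _
  refine Groth.Agent.H77.eq_of_tr_mul_eq T Y _ (2 * (dim Q.obj.left : ℤ) - (i + D)) (by omega)
    _ _ (Subtype.property _) hmem fun y hy => ?_
  rw [corr_spec T p q D _ i x y hy]
  change T.tr Q (T.pull p (x : T.H X) * (T.pull p a * T.pull q b) * T.pull q y) = _
  rw [← mul_assoc, ← map_mul, mul_assoc, ← map_mul, tr_pull_mul_pull T p q hP, smul_mul_assoc,
    map_smul, smul_eq_mul]

end Linear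

end Groth.Agent.H79.WeilCorr
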