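import Mathlib
import Groth.Prelude.Def_WeilCoh
import Groth.Agent.H79.WeilCorr2

/-!
# Correspondence actions, III: the trace formula for a composite of correspondences (helper79)

`tr_mul_pull_swap`: `Tr_P (φ · σ^* ψ) = Σ_i (-1)^i tr (ψ ∘ φ | H^i X)`.
-/

set_option autoImplicit false
set_option linter.style.haveILetI false
set_option linter.unusedSectionVars false
set_option linter.unusedVariables false

universe u v w

open CategoryTheory AlgebraicGeometry WeilCoh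

namespace Groth.Agent.H79.WeilCorr

open Groth.Agent.H96.WeilDim Groth.Agent.H96.WeilKunneth Groth.Agent.H96.WeilLefschetz

theorem trace_rank_one {K V : Type*} [Field K] [AddCommGroup V] [Module K V] [Module.Finite K V]
    (l : V →ₗ[K] K) (v : V) (M : V →ₗ[K] V) (h : ∀ x, M x = l x • v) :
    LinearMap.trace K V M = l v := by
  have : M = dualTensorHom K V V (l ⊗ₜ[K] v) := by
    ext x
    rw [h, dualTensorHom_apply]
  rw [this, LinearMap.trace_eq_contract_apply, contractLeft_apply]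

variable {k : Type u} [Field k] {P : ObjectProperty (Over (Spec (CommRingCat.of k)))}
variable {K : Type v} [Field K] (T : TheoryOn.{u, v, w} k P K)

theorem eq_zero_of_mem_gr_of_ne (X : P.FullSubcategory) (i j : ℤ) (hij : i ≠ j) (z : T.H X)
    (hi : z ∈ T.gr X i) (hj : z ∈ T.gr X j) : z = 0 := by
  classical
  have hind := (T.decomp X).submodule_iSupIndep
  have hdisj := hind i
  rw [Submodule.disjoint_def] at hdisj
  refine hdisj z hi ?_
  exact Submodule.mem_iSup_of_mem j (Submodule.mem_iSup_of_mem hij.symm hj)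

section Comp

variable {X Y Q Q' : P.FullSubcategory} (p : Q ⟶ X) (q : Q ⟶ Y) (p' : Q' ⟶ Y) (q' : Q' ⟶ X)

/-- The composite `ψ ∘ φ` of two correspondence actions as an endomorphism of `H^i X`. -/
noncomputable def compMap (D D' : ℤ)
    (hdim : ∀ i : ℤ, ((i + D + 2 * (dim Y.obj.left : ℤ) - 2 * (dim Q.obj.left : ℤ)) + D' +
      2 * (dim X.obj.left : ℤ) - 2 * (dim Q'.obj.left : ℤ)) = i)
    (φ : T.gr Q D) (ψ : T.gr Q' D') (i : ℤ) : T.gr X i →ₗ[K] T.gr X i :=
  (LinearEquiv.ofEq (T.gr X ((i + D + 2 * (dim Y.obj.left : ℤ) - 2 * (dim Q.obj.left : ℤ)) + D' +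
      2 * (dim X.obj.left : ℤ) - 2 * (dim Q'.obj.left : ℤ))) (T.gr X i)
      (congrArg (T.gr X) (hdim i))).toLinearMap ∘ₗ
    (corr T p' q' D' ψ (i + D + 2 * (dim Y.obj.left : ℤ) - 2 * (dim Q.obj.left : ℤ))) ∘ₗ
    (corr T p q D φ i)

variable (D D' : ℤ)
    (hdim : ∀ i : ℤ, ((i + D + 2 * (dim Y.obj.left : ℤ) - 2 * (dim Q.obj.left : ℤ)) + D' +
      2 * (dim X.obj.left : ℤ) - 2 * (dim Q'.obj.left : ℤ)) = i)

theorem compMap_apply_coe (φ : T.gr Q D) (ψ : T.gr Q' D') (i : ℤ) (x : T.gr X i) :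
    (compMap T p q p' q' D D' hdim φ ψ i x : T.H X) =
      (corr T p' q' D' ψ _ (corr T p q D φ i x) : T.H X) := rfl

theorem compMap_add_left (φ φ' : T.gr Q D) (ψ : T.gr Q' D') (i : ℤ) :
    compMap T p q p' q' D D' hdim (φ + φ') ψ i =
      compMap T p q p' q' D D' hdim φ ψ i + compMap T p q p' q' D D' hdim φ' ψ i := by
  unfold compMap
  rw [corr_add, LinearMap.comp_add, LinearMap.comp_add]

theorem compMap_smul_left (c : K) (φ : T.gr Q D) (ψ : T.gr Q' D') (i : ℤ) :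
    compMap T p q p' q' D D' hdim (c • φ) ψ i = c • compMap T p q p' q' D D' hdim φ ψ i := by
  unfold compMap
  rw [corr_smul, LinearMap.comp_smul, LinearMap.comp_smul]

theorem compMap_add_right (φ : T.gr Q D) (ψ ψ' : T.gr Q' D') (i : ℤ) :
    compMap T p q p' q' D D' hdim φ (ψ + ψ') i =
      compMap T p q p' q' D D' hdim φ ψ i + compMap T p q p' q' D D' hdim φ ψ' i := by
  unfold compMap
  rw [corr_add, LinearMap.add_comp, LinearMap.comp_add]

theorem compMap_smul_right (c : K) (φ : T.gr Q D) (ψ : T.gr Q' D') (i : ℤ) :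
    compMap T p q p' q' D D' hdim φ (c • ψ) i = c • compMap T p q p' q' D D' hdim φ ψ i := by
  unfold compMap
  rw [corr_smul, LinearMap.smul_comp, LinearMap.comp_smul]

variable (hP : IsProd p q) (hP' : IsProd p' q')

include hP hP' in
/-- The composite of the actions of two product classes. -/
theorem compMap_gen (a : T.H X) (b : T.H Y) (s t : ℤ) (ha : a ∈ T.gr X s) (hb : b ∈ T.gr Y t)
    (hst : s + t = D) (h : T.pull p a * T.pull q b ∈ T.gr Q D)
    (b' : T.H Y) (a' : T.H X) (s' t' : ℤ) (hb' : b' ∈ T.gr Y s') (ha' : a' ∈ T.gr X t')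
    (hst' : s' + t' = D') (h' : T.pull p' b' * T.pull q' a' ∈ T.gr Q' D')
    (i : ℤ) (x : T.gr X i) :
    (compMap T p q p' q' D D' hdim ⟨_, h⟩ ⟨_, h'⟩ i x : T.H X) =
      (T.tr X ((x : T.H X) * a) * T.tr Y (b * b')) • a' := by
  rw [compMap_apply_coe, corr_pull_mul_pull T p' q' hP' D' b' a' s' t' hb' ha' hst' h',
    corr_pull_mul_pull T p q hP D a b s t ha hb hst h, smul_mul_assoc, map_smul, smul_eq_mul]

include hP hP' in
theorem sum_trace_gen (a : T.H X) (b : T.H Y) (s t : ℤ) (ha : a ∈ T.gr X s) (hb : b ∈ T.gr Y t)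
    (hst : s + t = D) (h : T.pull p a * T.pull q b ∈ T.gr Q D)
    (b' : T.H Y) (a' : T.H X) (s' t' : ℤ) (hb' : b' ∈ T.gr Y s') (ha' : a' ∈ T.gr X t')
    (hst' : s' + t' = D') (h' : T.pull p' b' * T.pull q' a' ∈ T.gr Q' D') :
    ∑ i ∈ Finset.range (2 * dim X.obj.left + 1), (-1 : K) ^ i *
        LinearMap.trace K ↥(T.gr X (i : ℤ))
          (compMap T p q p' q' D D' hdim ⟨_, h⟩ ⟨_, h'⟩ (i : ℤ)) =
      (-1 : K) ^ t'.natAbs * (T.tr X (a' * a) * T.tr Y (b * b')) := by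
  by_cases ht' : 0 ≤ t' ∧ t' ≤ 2 * (dim X.obj.left : ℤ)
  · obtain ⟨r₀, rfl⟩ : ∃ r₀ : ℕ, t' = (r₀ : ℤ) := ⟨t'.toNat, by omega⟩
    have hr₀ : r₀ ∈ Finset.range (2 * dim X.obj.left + 1) := by
      rw [Finset.mem_range]; omega
    rw [Finset.sum_eq_single r₀]
    · rw [Int.natAbs_natCast]
      congr 1
      let l : ↥(T.gr X (r₀ : ℤ)) →ₗ[K] K :=
        (T.tr Y (b * b')) • ((T.tr X) ∘ₗ (LinearMap.mulRight K a) ∘ₗ (T.gr X (r₀ : ℤ)).subtype)
      have hl : ∀ x : ↥(T.gr X (r₀ : ℤ)), l x = T.tr X ((x : T.H X) * a) * T.tr Y (b * b') := by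
        intro x
        change T.tr Y (b * b') • T.tr X ((x : T.H X) * a) = _
        rw [smul_eq_mul, mul_comm]
      rw [trace_rank_one l ⟨a', ha'⟩ _ (fun x => ?_), hl]
      apply Subtype.ext
      rw [compMap_gen T p q p' q' D D' hdim hP hP' a b s t ha hb hst h b' a' s' _ hb' ha' hst' h',
        hl]
      rfl
    · intro i _ hi
      have h0 : compMap T p q p' q' D D' hdim ⟨_, h⟩ ⟨_, h'⟩ (i : ℤ) = 0 := by
        ext x
        rw [LinearMap.zero_apply, ZeroMemClass.coe_zero]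
        refine eq_zero_of_mem_gr_of_ne T X (i : ℤ) (r₀ : ℤ) (by exact_mod_cast hi) _
          (Subtype.property _) ?_
        rw [compMap_gen T p q p' q' D D' hdim hP hP' a b s t ha hb hst h b' a' s' _ hb' ha' hst' h']
        exact Submodule.smul_mem _ _ ha'
      rw [h0, map_zero, mul_zero]
    · intro hne
      exact absurd hr₀ hne
  · have ha0 : a' = 0 := eq_zero_of_mem_gr T X t' (by omega) a' ha'
    subst ha0
    have hz : T.tr X (0 * a) = 0 := by rw [zero_mul, map_zero]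
    rw [hz, zero_mul, mul_zero]
    refine Finset.sum_eq_zero fun i _ => ?_
    have h0 : compMap T p q p' q' D D' hdim ⟨_, h⟩ ⟨_, h'⟩ (i : ℤ) = 0 := by
      ext x
      rw [LinearMap.zero_apply, ZeroMemClass.coe_zero,
        compMap_gen T p q p' q' D D' hdim hP hP' a b s t ha hb hst h b' 0 s' _ hb' ha' hst' h',
        smul_zero]
    rw [h0, map_zero, mul_zero]

variable (σ : Q ⟶ Q') (hσ₁ : σ ≫ p' = q) (hσ₂ : σ ≫ q' = p)

include hP hσ₁ hσ₂ in
theorem tr_gen (a : T.H X) (b : T.H Y) (s t : ℤ) (ha : a ∈ T.gr X s) (hb : b ∈ T.gr Y t)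
    (b' : T.H Y) (a' : T.H X) (s' t' : ℤ) (hb' : b' ∈ T.gr Y s') (ha' : a' ∈ T.gr X t') :
    T.tr Q (T.pull p a * T.pull q b * T.pull σ (T.pull p' b' * T.pull q' a')) =
      (-1 : K) ^ t'.natAbs * (T.tr X (a' * a) * T.tr Y (b * b')) := by
  have h1 : T.pull σ (T.pull p' b' * T.pull q' a') = T.pull q b' * T.pull p a' := by
    rw [map_mul, ← AlgHom.comp_apply, ← AlgHom.comp_apply, ← T.pull_comp, ← T.pull_comp, hσ₁, hσ₂]
  have hqb : T.pull q (b * b') ∈ T.gr Q (t + s') :=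
    T.pull_mem q _ _ (SetLike.mul_mem_graded hb hb')
  have hpa' : T.pull p a' ∈ T.gr Q t' := T.pull_mem p _ _ ha'
  have h2 : T.pull p a * T.pull q b * (T.pull q b' * T.pull p a') =
      ((-1 : K) ^ ((t + s').natAbs * t'.natAbs) * (-1 : K) ^ (s.natAbs * t'.natAbs)) •
        (T.pull p (a' * a) * T.pull q (b * b')) := by
    rw [mul_assoc, ← mul_assoc (T.pull q b), ← map_mul, T.gradedComm Q _ _ _ _ hqb hpa',
      mul_smul_comm, ← mul_assoc, ← map_mul, T.gradedComm X s t' a a' ha ha', map_smul,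
      smul_mul_assoc, smul_smul]
  rw [h1, h2, map_smul, smul_eq_mul, tr_pull_mul_pull T p q hP]
  by_cases hY : t + s' = 2 * (dim Y.obj.left : ℤ)
  · by_cases hX : t' + s = 2 * (dim X.obj.left : ℤ)
    · by_cases ht' : 0 ≤ t' ∧ t' ≤ 2 * (dim X.obj.left : ℤ)
      · congr 1
        obtain ⟨r₀, rfl⟩ : ∃ r₀ : ℕ, t' = (r₀ : ℤ) := ⟨t'.toNat, by omega⟩
        have e1 : (t + s').natAbs = 2 * dim Y.obj.left := by omega
        have e2 : s.natAbs = 2 * dim X.obj.left - r₀ := by omega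
        rw [e1, e2, Int.natAbs_natCast, mul_assoc, pow_mul, neg_one_sq, one_pow, one_mul,
          mul_comm]
        exact neg_one_pow_mul_sub r₀ _ (by omega)
      · have ha0 : a' = 0 := eq_zero_of_mem_gr T X t' (by omega) a' ha'
        rw [ha0, zero_mul, map_zero, zero_mul, mul_zero, mul_zero]
    · rw [T.tr_vanish X _ _ (SetLike.mul_mem_graded ha' ha) hX, zero_mul, mul_zero, mul_zero]
  · rw [T.tr_vanish Y _ _ (SetLike.mul_mem_graded hb hb') hY, mul_zero, mul_zero, mul_zero]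

include hP hP' hσ₁ hσ₂ in
/-- The trace formula for a composite of correspondences:
`Tr_Q (φ · σ^* ψ) = Σ_i (-1)^i tr (ψ ∘ φ | H^i X)`. -/
theorem tr_mul_pull_swap (φ : T.gr Q D) (ψ : T.gr Q' D') :
    T.tr Q ((φ : T.H Q) * T.pull σ (ψ : T.H Q')) =
      ∑ i ∈ Finset.range (2 * dim X.obj.left + 1), (-1 : K) ^ i *
        LinearMap.trace K ↥(T.gr X (i : ℤ)) (compMap T p q p' q' D D' hdim φ ψ (i : ℤ)) := by
  obtain ⟨φ, hφ⟩ := φ
  have hφ' := gr_le_prodSpan T p q hP D hφ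
  revert ψ
  induction hφ' using Submodule.span_induction with
  | mem z hz =>
    obtain ⟨s, t, a, b, ha, hb, hst, rfl⟩ := hz
    intro ψ
    obtain ⟨ψ, hψ⟩ := ψ
    have hψ' := gr_le_prodSpan T p' q' hP' D' hψ
    induction hψ' using Submodule.span_induction with
    | mem z' hz' =>
      obtain ⟨s', t', b', a', hb', ha', hst', rfl⟩ := hz'
      rw [sum_trace_gen T p q p' q' D D' hdim hP hP' a b s t ha hb hst hφ b' a' s' t' hb' ha' hst'
        hψ]
      exact tr_gen T p q p' q' hP σ hσ₁ hσ₂ a b s t ha hb b' a' s' t' hb' ha'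
    | zero =>
      have h0 : (⟨0, hψ⟩ : T.gr Q' D') = 0 := rfl
      have hc : ∀ i : ℤ, compMap T p q p' q' D D' hdim ⟨_, hφ⟩ (0 : T.gr Q' D') i = 0 := by
        intro i
        have := compMap_smul_right T p q p' q' D D' hdim (0 : K) ⟨_, hφ⟩ (0 : T.gr Q' D') i
        rwa [zero_smul, zero_smul] at this
      rw [h0]
      simp only [hc, map_zero, mul_zero, Finset.sum_const_zero, ZeroMemClass.coe_zero]
    | add z₁ z₂ hz₁ hz₂ ih₁ ih₂ =>
      have hm₁ := prodSpan_le T p' q' D' hz₁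
      have hm₂ := prodSpan_le T p' q' D' hz₂
      have h0 : (⟨z₁ + z₂, hψ⟩ : T.gr Q' D') = ⟨z₁, hm₁⟩ + ⟨z₂, hm₂⟩ := rfl
      rw [h0]
      simp only [compMap_add_right, map_add, mul_add, Finset.sum_add_distrib]
      rw [← ih₁ hm₁, ← ih₂ hm₂]
      change T.tr Q (_ * T.pull σ (z₁ + z₂)) = T.tr Q (_ * T.pull σ z₁) + T.tr Q (_ * T.pull σ z₂)
      rw [map_add, mul_add, map_add]
    | smul c z hz ih =>
      have hm := prodSpan_le T p' q' D' hz
      have h0 : (⟨c • z, hψ⟩ : T.gr Q' D') = c • ⟨z, hm⟩ := rfl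
      rw [h0]
      simp only [compMap_smul_right, map_smul, smul_eq_mul]
      rw [Finset.sum_congr rfl (fun i _ => mul_left_comm ((-1 : K) ^ i) c _), ← Finset.mul_sum,
        ← ih hm]
      change T.tr Q (_ * T.pull σ (c • z)) = _
      rw [map_smul, mul_smul_comm, map_smul, smul_eq_mul]
  | zero =>
    intro ψ
    have h0 : (⟨0, hφ⟩ : T.gr Q D) = 0 := rfl
    have hc : ∀ i : ℤ, compMap T p q p' q' D D' hdim (0 : T.gr Q D) ψ i = 0 := by
      intro i
      have := compMap_smul_left T p q p' q' D D' hdim (0 : K) (0 : T.gr Q D) ψ i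
      rwa [zero_smul, zero_smul] at this
    rw [h0]
    simp only [hc, map_zero, mul_zero, Finset.sum_const_zero, ZeroMemClass.coe_zero, zero_mul]
  | add z₁ z₂ hz₁ hz₂ ih₁ ih₂ =>
    intro ψ
    have hm₁ := prodSpan_le T p q D hz₁
    have hm₂ := prodSpan_le T p q D hz₂
    have h0 : (⟨z₁ + z₂, hφ⟩ : T.gr Q D) = ⟨z₁, hm₁⟩ + ⟨z₂, hm₂⟩ := rfl
    rw [h0]
    simp only [compMap_add_left, map_add, mul_add, Finset.sum_add_distrib]
    rw [← ih₁ hm₁ ψ, ← ih₂ hm₂ ψ]
    change T.tr Q ((z₁ + z₂) * _) = _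
    rw [add_mul, map_add]
  | smul c z hz ih =>
    intro ψ
    have hm := prodSpan_le T p q D hz
    have h0 : (⟨c • z, hφ⟩ : T.gr Q D) = c • ⟨z, hm⟩ := rfl
    rw [h0]
    simp only [compMap_smul_left, map_smul, smul_eq_mul]
    rw [Finset.sum_congr rfl (fun i _ => mul_left_comm ((-1 : K) ^ i) c _), ← Finset.mul_sum,
      ← ih hm ψ]
    change T.tr Q ((c • z) * _) = _
    rw [smul_mul_assoc, map_smul, smul_eq_mul]

end Comp

end Groth.Agent.H79.WeilCorr
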