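import Mathlib
import Groth.Prelude.Def_WeilCoh
import Groth.Agent.H79.WeilCorr3

/-!
# Correspondence actions, IV: self-correspondences of degree zero (helper79)
-/

set_option autoImplicit false
set_option linter.style.haveILetI false
set_option linter.unusedSectionVars false
set_option linter.unusedVariables false

universe u v w

open CategoryTheory AlgebraicGeometry WeilCoh

namespace Groth.Agent.H79.WeilCorr

variable {k : Type u} [Field k] {P : ObjectProperty (Over (Spec (CommRingCat.of k)))}
variable {K : Type v} [Field K] (T : TheoryOn.{u, v, w} k P K)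

section Self

variable {X Y Q : P.FullSubcategory} (p : Q ⟶ X) (q : Q ⟶ Y)

theorem corr_congr (D : ℤ) (φ : T.gr Q D) (i i' : ℤ) (h : i = i') (y : T.gr X i) (y' : T.gr X i')
    (hy : (y : T.H X) = (y' : T.H X)) :
    (corr T p q D φ i y : T.H Y) = (corr T p q D φ i' y' : T.H Y) := by
  subst h
  have : y = y' := Subtype.ext hy
  rw [this]

end Self

section Act

variable {X Q : P.FullSubcategory} (p q : Q ⟶ X) (D : ℤ)
  (hdim0 : ∀ j : ℤ, j + D + 2 * (dim X.obj.left : ℤ) - 2 * (dim Q.obj.left : ℤ) = j)

/-- The action of a self-correspondence of degree zero as an endomorphism of `H^j X`. -/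
noncomputable def act (w : T.gr Q D) (j : ℤ) : T.gr X j →ₗ[K] T.gr X j :=
  (LinearEquiv.ofEq (T.gr X (j + D + 2 * (dim X.obj.left : ℤ) - 2 * (dim Q.obj.left : ℤ)))
    (T.gr X j) (congrArg (T.gr X) (hdim0 j))).toLinearMap ∘ₗ corr T p q D w j

theorem compMap_eq_act_comp
    (hdim : ∀ i : ℤ, ((i + D + 2 * (dim X.obj.left : ℤ) - 2 * (dim Q.obj.left : ℤ)) + D +
      2 * (dim X.obj.left : ℤ) - 2 * (dim Q.obj.left : ℤ)) = i)
    (u v : T.gr Q D) (i : ℤ) :
    compMap T p q p q D D hdim u v i = act T p q D hdim0 v i ∘ₗ act T p q D hdim0 u i := by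
  ext x
  rw [compMap_apply_coe]
  change _ = (corr T p q D v i (act T p q D hdim0 u i x) : T.H X)
  exact corr_congr T p q D v _ i (hdim0 i) _ _ rfl

end Act

end Groth.Agent.H79.WeilCorr
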