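import Mathlib
import Groth.Prelude.Def_WeilCoh
import Groth.Agent.H96.WeilLefschetz

/-!
# Pull-back of cycle classes along an isomorphism (helper79)

`pull_cl_of_isIso`: for `σ : Q ⟶ Q'` with `sm σ` an isomorphism, `σ^* cl(σ w) = cl(w)`.
-/

set_option autoImplicit false
set_option linter.style.haveILetI false
set_option linter.unusedSectionVars false
set_option linter.unusedVariables false

universe u v w

open CategoryTheory AlgebraicGeometry WeilCoh

namespace Groth.Agent.H79.WeilIsoPull

open Groth.Agent.H96.WeilDim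

theorem ker_specMap_of_eq {Y : Scheme.{u}} (x ξ : Y) (h : ξ ⤳ x) (hx : x = ξ) :
    RingHom.ker (Cyc.specMap x ξ h) = IsLocalRing.maximalIdeal (Y.presheaf.stalk x) := by
  subst hx
  unfold Cyc.specMap
  rw [TopCat.Presheaf.stalkSpecializes_refl, Category.id_comp]
  ext a
  rw [RingHom.mem_ker]
  exact IsLocalRing.residue_eq_zero_iff a

theorem preimMult_of_isIso {X Y : Scheme.{u}} (f : X ⟶ Y) [IsIso f] (w : X)
    (h : f w ∈ closure ({f w} : Set Y)) : preimMult f (f w) w h = 1 := by
  unfold preimMult
  rw [ker_specMap_of_eq (f w) (f w) _ rfl]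
  have hmap : Ideal.map (f.stalkMap w).hom (IsLocalRing.maximalIdeal (Y.presheaf.stalk (f w))) =
      IsLocalRing.maximalIdeal (X.presheaf.stalk w) := by
    have hbij : Function.Bijective (f.stalkMap w).hom :=
      ConcreteCategory.bijective_of_isIso (f.stalkMap w)
    let e : Y.presheaf.stalk (f w) ≃+* X.presheaf.stalk w := RingEquiv.ofBijective _ hbij
    change Ideal.map (e : Y.presheaf.stalk (f w) →+* X.presheaf.stalk w) _ = _
    exact IsLocalRing.map_ringEquiv_maximalIdeal e
  rw [hmap]
  have : IsSimpleModule (X.presheaf.stalk w)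
      (X.presheaf.stalk w ⧸ IsLocalRing.maximalIdeal (X.presheaf.stalk w)) :=
    isSimpleModule_iff_quot_maximal.mpr ⟨_, inferInstance, ⟨LinearEquiv.refl _ _⟩⟩
  rw [Module.length_eq_one_iff.mpr this]
  rfl

section Pull

variable {k : Type u} [Field k] {P : ObjectProperty (Over (Spec (CommRingCat.of k)))}
variable {K : Type v} [Field K] (T : TheoryOn.{u, v, w} k P K)

theorem isCompPt_closure_singleton_iff {X : Scheme.{u}} (w₀ w : X) :
    IsCompPt (closure ({w₀} : Set X)) w ↔ w = w₀ := by
  constructor
  · intro hw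
    exact (hw.2 w₀ (subset_closure rfl) (specializes_iff_mem_closure.mpr hw.1)).symm
  · rintro rfl
    refine ⟨subset_closure rfl, fun w' hw' h => ?_⟩
    exact (h.antisymm (specializes_iff_mem_closure.mpr hw')).eq

/-- Pull-back of a cycle class along an isomorphism. -/
theorem pull_cl_of_isIso {Q Q' : P.FullSubcategory} (σ : Q ⟶ Q') [IsIso (sm σ)] (w₀ : Q.obj.left) :
    T.pull σ (T.cl Q' (sm σ w₀)) = T.cl Q w₀ := by
  let e : Q.obj.left ≃ₜ Q'.obj.left := (sm σ).homeomorph
  have he : ∀ x, e x = sm σ x := fun x => rfl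
  have hpre : (sm σ) ⁻¹' closure ({sm σ w₀} : Set Q'.obj.left) = closure ({w₀} : Set Q.obj.left) := by
    have h1 : closure ({sm σ w₀} : Set Q'.obj.left) = e '' closure ({w₀} : Set Q.obj.left) := by
      rw [e.image_closure, Set.image_singleton]
      rfl
    rw [h1]
    exact e.injective.preimage_image _
  have hdim : dim Q.obj.left = dim Q'.obj.left := natDim_eq_of_homeomorph e
  have hpd : pdim Q'.obj.left (sm σ w₀) = pdim Q.obj.left w₀ :=
    pdim_eq_of_isClosedEmbedding (sm σ) e.isClosedEmbedding w₀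
  have h := T.cl_pull σ (sm σ w₀) ?_ (Or.inl ⟨⊤, Set.subset_univ _, inferInstance⟩)
  · rw [h]
    have hu : Unique {w : Q.obj.left //
        IsCompPt ((sm σ) ⁻¹' closure ({sm σ w₀} : Set Q'.obj.left)) w} :=
      { default := ⟨w₀, by rw [hpre]; exact (isCompPt_closure_singleton_iff w₀ w₀).mpr rfl⟩
        uniq := fun w => by
          obtain ⟨w, hw⟩ := w
          apply Subtype.ext
          rw [hpre] at hw
          exact (isCompPt_closure_singleton_iff w₀ w).mp hw }
    rw [finsum_unique]
    generalize (default : {w : Q.obj.left //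
        IsCompPt ((sm σ) ⁻¹' closure ({sm σ w₀} : Set Q'.obj.left)) w}) = d
    obtain ⟨w, hw⟩ := d
    have hw' : w = w₀ := by
      rw [hpre] at hw
      exact (isCompPt_closure_singleton_iff w₀ w).mp hw
    subst hw'
    rw [preimMult_of_isIso, Nat.cast_one, one_smul]
  · intro w hw
    rw [hpre] at hw
    have hw' : w = w₀ := (isCompPt_closure_singleton_iff w₀ w).mp hw
    rw [hw', hpd, hdim]
    ring

end Pull

end Groth.Agent.H79.WeilIsoPull
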